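import Cfsg.Agent.UGT.Res.Base
import Cfsg.Agent.Lib.CoprimeHyperplane

/-!
# Cores in the residual world

* `comm_of_B`: the B-property of `H`, relative form: `[J, O(C_H(u))] ≤ O(H)` for the 2-components `J` of `C_H(u)`.
* `lemmaC`: (A) `[J, O(C(V))] ≤ Δ(V)`, `J` a 2-component of `C(V)`, `V = ⟨u, e⟩` a four-group.
* `comm_eq_one`, `pow_eq_one`: (B) `O(C(x)) ∩ C(a)` is abelian of exponent dividing 15 if `Δ(⟨x, a⟩) = 1`.
* `core_abelian`: `O(C(x))` is abelian of exponent dividing 15 if `x ∈ E` elementary abelian, `|E| ≥ 16` and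
  `Δ(⟨x, e⟩) = 1` for all `e ∈ E ∖ ⟨x⟩`.
-/

set_option autoImplicit false

open Cfsg Subgroup
open Cfsg.Agent.SignalizersComponents Cfsg.Agent.Lib
open Cfsg.Agent.SignalizersComponents.IntrinsicBasic
open Cfsg.Agent.SignalizersComponents.IntrinsicIntr
open Cfsg.Agent.SignalizersComponents.PLayerAut
open Cfsg.Agent.Intrinsic.Basic Cfsg.Agent.Intrinsic.Cen Cfsg.Agent.Intrinsic.Diag
open Cfsg.Agent.McLLyComp.Act
open Cfsg.Agent.UGT.Triple Cfsg.Agent.UGT.LemG Cfsg.Agent.UGT.PumpGen Cfsg.Agent.UGT.TriBase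
open Cfsg.Agent.UGT.Res.Base
open scoped commutatorElement

namespace Cfsg.Agent.UGT.Res.Abel

variable {G : Type*} [Group G] [Finite G]

/-! ### the B-property -/

omit [Finite G] in
/-- `C_H(u)` inside `H` and inside `G` -/
noncomputable def cenEquiv {H : Subgroup G} {u : G} (huH : u ∈ H) :
    ↥(centralizer ({(⟨u, huH⟩ : ↥H)} : Set ↥H)) ≃* ↥(H ⊓ centralizer ({u} : Set G)) :=
  { toFun := fun h => ⟨((h : ↥H) : G), (h : ↥H).2, mem_c (by
      have := comm_c (x := (⟨u, huH⟩ : ↥H)) h.2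
      exact congrArg Subtype.val this)⟩
    invFun := fun h => ⟨⟨(h : G), h.2.1⟩, mem_c (x := (⟨u, huH⟩ : ↥H)) (Subtype.ext (comm_c h.2.2))⟩
    left_inv := fun _ => rfl
    right_inv := fun _ => rfl
    map_mul' := fun _ _ => rfl }

omit [Finite G] in
/-- The B-property of `H`, relative form. -/
theorem comm_of_B {H J : Subgroup G} {u r : G} (hB : HasBProperty ↥H) (huH : u ∈ H)
    (hu : orderOf u = 2) (hJ : IsComp (H ⊓ centralizer ({u} : Set G)) J)
    (hr : r ∈ core (H ⊓ centralizer ({u} : Set G))) {j : G} (hj : j ∈ J) : ⁅j, r⁆ ∈ core H := by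
  obtain ⟨e, he⟩ : ∃ e : ↥(centralizer ({(⟨u, huH⟩ : ↥H)} : Set ↥H)) ≃*
      ↥(H ⊓ centralizer ({u} : Set G)), ∀ h, ((e h : ↥(H ⊓ centralizer ({u} : Set G))) : G) = ((h : ↥H) : G) :=
    ⟨cenEquiv huH, fun _ => rfl⟩
  have h1 := hB ⟨u, huH⟩ (by rw [Subgroup.orderOf_mk]; exact hu)
  have hjH := hJ.le hj
  have hrH := core_le _ hr
  have h2 : e.symm ⟨j, hjH⟩ ∈ pLayer 2 ↥(centralizer ({(⟨u, huH⟩ : ↥H)} : Set ↥H)) := by
    have h3 := isPComponent_map_equiv 2 e.symm hJ.2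
    exact le_sSup (show _ ∈ {K | IsPComponent 2 K} from h3) ⟨⟨j, hjH⟩, hj, rfl⟩
  have h3 : e.symm ⟨r, hrH⟩ ∈ oddCore ↥(centralizer ({(⟨u, huH⟩ : ↥H)} : Set ↥H)) := by
    have h4 := Cores.map_equiv_pPrimeCore e.symm 2
    rw [show oddCore ↥(centralizer ({(⟨u, huH⟩ : ↥H)} : Set ↥H)) = _ from h4.symm]
    exact ⟨⟨r, hrH⟩, (mem_core_iff hrH).mp hr, rfl⟩
  have h4 : (⁅e.symm ⟨j, hjH⟩, e.symm ⟨r, hrH⟩⁆ : ↥(centralizer ({(⟨u, huH⟩ : ↥H)} : Set ↥H))) ∈
      ⁅pLayer 2 ↥(centralizer ({(⟨u, huH⟩ : ↥H)} : Set ↥H)),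
        oddCore ↥(centralizer ({(⟨u, huH⟩ : ↥H)} : Set ↥H))⁆ := commutator_mem_commutator h2 h3
  have h5 := h1 ⟨_, h4, rfl⟩
  have h6 : ((((⁅e.symm ⟨j, hjH⟩, e.symm ⟨r, hrH⟩⁆ :
      ↥(centralizer ({(⟨u, huH⟩ : ↥H)} : Set ↥H))) : ↥H)) : G) = ⁅j, r⁆ := by
    have e1 : ((e.symm ⟨j, hjH⟩ : ↥H) : G) = j := by rw [← he, e.apply_symm_apply]
    have e2 : ((e.symm ⟨r, hrH⟩ : ↥H) : G) = r := by rw [← he, e.apply_symm_apply]
    have e3 : ((((⁅e.symm ⟨j, hjH⟩, e.symm ⟨r, hrH⟩⁆ :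
        ↥(centralizer ({(⟨u, huH⟩ : ↥H)} : Set ↥H))) : ↥H)) : G) =
        ⁅((e.symm ⟨j, hjH⟩ : ↥H) : G), ((e.symm ⟨r, hrH⟩ : ↥H) : G)⁆ := rfl
    rw [e3, e1, e2]
  rw [← h6]
  exact ⟨_, h5, rfl⟩

/-- **(A), LEMMA C** of #8410 -/
theorem lemmaC (hB : ∀ v : G, orderOf v = 2 → HasBProperty ↥(centralizer ({v} : Set G))) {u e r : G}
    {J : Subgroup G} (hu : orderOf u = 2) (he : orderOf e = 2) (heu : e * u = u * e) (hne : u ≠ e)
    (hJ : IsComp (centralizer ({u} : Set G) ⊓ centralizer ({e} : Set G)) J)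
    (hr : r ∈ core (centralizer ({u} : Set G) ⊓ centralizer ({e} : Set G))) {j : G} (hj : j ∈ J) :
    ⁅j, r⁆ ∈ core (centralizer ({u} : Set G)) ∧ ⁅j, r⁆ ∈ core (centralizer ({e} : Set G)) ∧
      ⁅j, r⁆ ∈ core (centralizer ({u * e} : Set G)) := by
  have hu2 := sq_of_order hu
  have he2 := sq_of_order he
  have hue := order_mul hu2 he2 heu.symm hne
  refine ⟨comm_of_B (hB u hu) (mem_c heu) he hJ hr hj, ?_, ?_⟩
  · rw [inf_comm] at hJ hr
    exact comm_of_B (hB e he) (mem_c heu.symm) hu hJ hr hj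
  · have h1 : centralizer ({u} : Set G) ⊓ centralizer ({e} : Set G) =
        centralizer ({u * e} : Set G) ⊓ centralizer ({e} : Set G) := by
      ext y
      rw [mem_inf, mem_inf]
      refine and_congr_left fun hy => ?_
      have hy' := comm_c hy
      constructor
      · intro h
        have h' := comm_c h
        exact mem_c (Commute.mul_right h' hy')
      · intro h
        have h' : Commute y (u * e) := comm_c h
        have h2 : Commute y (u * e * e) := h'.mul_right hy'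
        rw [mul_assoc, he2, mul_one] at h2
        exact mem_c h2
    rw [h1] at hJ hr
    have heue : e * (u * e) = u * e * e := by
      rw [← mul_assoc, heu]
    exact comm_of_B (hB _ hue) (mem_c heue) he hJ hr hj

/-! ### (B) -/

/-- The facts on `O(C_L(x))`: it acts on `L / O(L)` as an abelian group of exponent dividing 15. -/
structure RAb (G : Type*) [Group G] : Prop where
  comm : ∀ {x a d d' : G} {L : Subgroup G}, IsTriple x a L → d ∈ core (centralizer ({x} : Set G)) →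
    d ∈ centralizer ({a} : Set G) → d' ∈ core (centralizer ({x} : Set G)) →
    d' ∈ centralizer ({a} : Set G) → Fixes ⁅d, d'⁆ L
  exp : ∀ {x a d : G} {L : Subgroup G}, IsTriple x a L → d ∈ core (centralizer ({x} : Set G)) →
    d ∈ centralizer ({a} : Set G) → Fixes (d ^ 15) L

/-- `Δ(⟨x, a⟩) = 1` -/
def DTriv (x a : G) : Prop := ∀ c ∈ core (centralizer ({x} : Set G)),
  c ∈ core (centralizer ({a} : Set G)) → c ∈ core (centralizer ({x * a} : Set G)) → c = 1

/-- an element of `O(C(x)) ∩ C(a)` fixing all `K` with `(x, a, K)`, `(x, x a, K)` a triple is trivial -/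
theorem eq_one_of_fixes {x a c : G} (hx : orderOf x = 2) (ha : orderOf a = 2) (hax : a * x = x * a)
    (hne : x ≠ a) (hD : DTriv x a) (hc : c ∈ core (centralizer ({x} : Set G)))
    (hca : c ∈ centralizer ({a} : Set G)) (h1 : ∀ K, IsTriple x a K → Fixes c K)
    (h2 : ∀ K, IsTriple x (x * a) K → Fixes c K) : c = 1 := by
  have hx2 := sq_of_order hx
  have ha2 := sq_of_order ha
  have hcx : Commute c x := comm_c (core_le _ hc)
  apply hD c hc
  · by_contra hn
    obtain ⟨J, T, hf⟩ := exists_triple hx ha hax hc hca hn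
    exact hf (h1 J T)
  · by_contra hn
    have hca' : Commute c a := comm_c hca
    have cax : Commute a x := hax
    obtain ⟨J, T, hf⟩ := exists_triple hx (order_mul hx2 ha2 hax.symm hne)
      ((Commute.refl x).mul_left cax) hc (mem_c (hcx.mul_right hca')) hn
    exact hf (h2 J T)

theorem comm_eq_one (A : RAb G) {x a d d' : G} (hx : orderOf x = 2) (ha : orderOf a = 2)
    (hax : a * x = x * a) (hne : x ≠ a) (hD : DTriv x a)
    (hd : d ∈ core (centralizer ({x} : Set G))) (hda : d ∈ centralizer ({a} : Set G))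
    (hd' : d' ∈ core (centralizer ({x} : Set G))) (hda' : d' ∈ centralizer ({a} : Set G)) :
    d * d' = d' * d := by
  rw [← commutatorElement_eq_one_iff_mul_comm]
  have hxa : ∀ {c : G}, c ∈ core (centralizer ({x} : Set G)) → c ∈ centralizer ({a} : Set G) →
      c ∈ centralizer ({x * a} : Set G) := by
    intro c hc hca
    have h1 : Commute c x := comm_c (core_le _ hc)
    have h2 : Commute c a := comm_c hca
    exact mem_c (h1.mul_right h2)
  refine eq_one_of_fixes hx ha hax hne hD ?_ ?_ (fun K T => A.comm T hd hda hd' hda')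
    (fun K T => A.comm T hd (hxa hd hda) hd' (hxa hd' hda'))
  · rw [commutatorElement_def]
    exact mul_mem (mul_mem (mul_mem hd hd') (inv_mem hd)) (inv_mem hd')
  · rw [commutatorElement_def]
    exact mul_mem (mul_mem (mul_mem hda hda') (inv_mem hda)) (inv_mem hda')

theorem pow_eq_one (A : RAb G) {x a d : G} (hx : orderOf x = 2) (ha : orderOf a = 2)
    (hax : a * x = x * a) (hne : x ≠ a) (hD : DTriv x a)
    (hd : d ∈ core (centralizer ({x} : Set G))) (hda : d ∈ centralizer ({a} : Set G)) :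
    d ^ 15 = 1 := by
  have h1 : Commute d x := comm_c (core_le _ hd)
  have h2 : Commute d a := comm_c hda
  exact eq_one_of_fixes hx ha hax hne hD (pow_mem hd _) (pow_mem hda _)
    (fun K T => A.exp T hd hda) (fun K T => A.exp T hd (mem_c (h1.mul_right h2)))

/-- `O(C(x))` is abelian of exponent dividing 15. -/
theorem core_abelian (A : RAb G) {x : G} {E : Subgroup G} (hE : IsElementaryAbelian 2 E)
    (hxE : x ∈ E) (hx : orderOf x = 2) (hcard : 16 ≤ Nat.card ↥E)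
    (hD : ∀ e ∈ E, e ≠ 1 → e ≠ x → DTriv x e) :
    (∀ d ∈ core (centralizer ({x} : Set G)), ∀ d' ∈ core (centralizer ({x} : Set G)),
      d * d' = d' * d) ∧ ∀ d ∈ core (centralizer ({x} : Set G)), d ^ 15 = 1 := by
  have hp : Fact (Nat.Prime 2) := ⟨Nat.prime_two⟩
  obtain ⟨Q, hQ⟩ : ∃ Q, Q = core (centralizer ({x} : Set G)) := ⟨_, rfl⟩
  rw [← hQ]
  have hE2 : ∀ e ∈ E, e * e = 1 := fun e he => by rw [← pow_two]; exact hE.2 e he
  have hEc : ∀ e ∈ E, ∀ f ∈ E, e * f = f * e := fun e he f hf =>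
    congrArg Subtype.val (hE.1.is_comm.comm (⟨e, he⟩ : ↥E) ⟨f, hf⟩)
  have hEx : E ≤ centralizer ({x} : Set G) := fun e he => mem_c (hEc e he x hxE)
  have hEn : E ≤ normalizer (Q : Set G) := by
    rw [hQ]
    exact hEx.trans (le_normalizer_core _)
  have hE1 : E ≠ ⊥ := by
    rintro rfl
    rw [card_bot] at hcard
    omega
  have hQ2 : ¬ 2 ∣ Nat.card ↥Q := by
    have := odd_card_core (centralizer ({x} : Set G))
    rw [← hQ] at this
    rwa [← even_iff_two_dvd, Nat.not_even_iff_odd]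
  have hgen := Lib.CoprimeHyperplane.iSup_centralizer_hyperplane hE hE1 hQ2 hEn
  -- two hyperplanes have a common element `e ∉ ⟨x⟩`
  have hcardB : ∀ B : Subgroup G, B ≤ E → B.relIndex E = 2 → 2 * Nat.card ↥B = Nat.card ↥E := by
    intro B hB hi
    have := relIndex_mul_relIndex ⊥ B E bot_le hB
    rw [relIndex_bot_left, relIndex_bot_left, hi] at this
    omega
  have key : ∀ B₁ B₂ : Subgroup G, B₁ ≤ E → B₁.relIndex E = 2 → B₂ ≤ E → B₂.relIndex E = 2 →
      ∃ e ∈ B₁ ⊓ B₂, e ≠ 1 ∧ e ≠ x := by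
    intro B₁ B₂ h1 h1' h2 h2'
    have h3 : (B₁ ⊓ B₂).relIndex E ≤ 4 := by
      calc (B₁ ⊓ B₂).relIndex E ≤ B₁.relIndex E * B₂.relIndex E := relIndex_inf_le
        _ = 4 := by rw [h1', h2']
    have h4 := relIndex_mul_relIndex ⊥ (B₁ ⊓ B₂) E bot_le (inf_le_left.trans h1)
    rw [relIndex_bot_left, relIndex_bot_left] at h4
    have h5 : 4 ≤ Nat.card ↥(B₁ ⊓ B₂) := by
      by_contra hlt
      push Not at hlt
      have : Nat.card ↥(B₁ ⊓ B₂) * (B₁ ⊓ B₂).relIndex E ≤ 3 * 4 := Nat.mul_le_mul (by omega) h3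
      omega
    by_contra hcon
    push Not at hcon
    have h6 : ((B₁ ⊓ B₂ : Subgroup G) : Set G) ⊆ {1, x} := by
      intro e he
      by_cases h : e = 1
      · left; exact h
      · right; exact hcon e he h
    have h7 := Set.ncard_le_ncard h6 (Set.toFinite _)
    have h8 : ({1, x} : Set G).ncard ≤ 2 := Set.ncard_insert_le _ _ |>.trans (by simp)
    have h9 : ((B₁ ⊓ B₂ : Subgroup G) : Set G).ncard = Nat.card ↥(B₁ ⊓ B₂) := rfl
    omega
  have hord : ∀ e ∈ E, e ≠ 1 → orderOf e = 2 := fun e he h1 =>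
    orderOf_eq_prime (by rw [pow_two]; exact hE2 e he) h1
  have hcomm : Q ≤ centralizer (Q : Set G) := by
    conv_lhs => rw [← hgen]
    refine iSup_le fun B₁ => ?_
    intro d₁ hd₁
    rw [mem_centralizer_iff]
    have h1 : Q ≤ centralizer ({d₁} : Set G) := by
      conv_lhs => rw [← hgen]
      refine iSup_le fun B₂ => ?_
      intro d₂ hd₂
      obtain ⟨e, he, he1, hex⟩ := key B₁.1 B₂.1 B₁.2.1 B₁.2.2 B₂.2.1 B₂.2.2
      have heE : e ∈ E := B₁.2.1 he.1
      have hd₁Q := hd₁.1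
      have hd₂Q := hd₂.1
      rw [hQ] at hd₁Q hd₂Q
      have e1 : d₁ ∈ centralizer ({e} : Set G) := mem_c (mem_centralizer_iff.mp hd₁.2 e he.1).symm
      have e2 : d₂ ∈ centralizer ({e} : Set G) := mem_c (mem_centralizer_iff.mp hd₂.2 e he.2).symm
      exact mem_c (comm_eq_one A hx (hord e heE he1) (hEc e heE x hxE) hex.symm (hD e heE he1 hex)
        hd₂Q e2 hd₁Q e1)
    intro d hd
    exact comm_c (h1 hd)
  refine ⟨fun d hd d' hd' => (mem_centralizer_iff.mp (hcomm hd) d' hd').symm, ?_⟩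
  -- the exponent
  obtain ⟨X, hX⟩ : ∃ X : Subgroup G, ∀ d, d ∈ X ↔ d ∈ Q ∧ d ^ 15 = 1 := by
    refine ⟨{ carrier := {d | d ∈ Q ∧ d ^ 15 = 1}
              mul_mem' := ?_
              one_mem' := ⟨one_mem _, one_pow _⟩
              inv_mem' := fun h => ⟨inv_mem h.1, by rw [inv_pow, h.2, inv_one]⟩ }, fun d => Iff.rfl⟩
    rintro d d' ⟨h1, h2⟩ ⟨h3, h4⟩
    refine ⟨mul_mem h1 h3, ?_⟩
    have h5 : Commute d d' := (mem_centralizer_iff.mp (hcomm h1) d' h3).symm
    rw [h5.mul_pow, h2, h4, one_mul]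
  have hQX : Q ≤ X := by
    conv_lhs => rw [← hgen]
    refine iSup_le fun B => ?_
    intro d hd
    obtain ⟨e, he, he1, hex⟩ := key B.1 B.1 B.2.1 B.2.2 B.2.1 B.2.2
    have heE : e ∈ E := B.2.1 he.1
    have hdQ := hd.1
    rw [hQ] at hdQ
    exact (hX d).mpr ⟨hd.1, pow_eq_one A hx (hord e heE he1) (hEc e heE x hxE) hex.symm
      (hD e heE he1 hex) hdQ (mem_c (mem_centralizer_iff.mp hd.2 e he.1).symm)⟩
  exact fun d hd => ((hX d).mp (hQX hd)).2

end Cfsg.Agent.UGT.Res.Abel
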