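import Cfsg.Agent.UGT.Res.KMax
import Cfsg.Agent.UGT.Tri

/-!
# (5) and (6) of #8764: the case `k = 1`

`y ∈ O(C(x))`, at most one 2-component of `C(v)` is moved by `y`, for all involutions `v` of `C(x, y)`.

* `Fx y v`: the elements of `C(v, y)` fixing all members of `KK y v`.
* `syl_xy`: (5) `R ⟨x⟩ ∈ Syl₂(C(x, y))`, `R ≤ F(v) ∩ C(x)` a 2-group of maximal order.
* `exists_syl_y`: (6) there are `z ∈ Ω₁(Z(R))` and an `x`-invariant 2-group `Q ≥ R` in `F(z)` with
  `Q ⟨x⟩ ∈ Syl₂(C(y))`; all involutions of `Q` are good.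
-/

set_option autoImplicit false

open Cfsg Subgroup
open Cfsg.Agent.SignalizersComponents Cfsg.Agent.Lib
open Cfsg.Agent.SignalizersComponents.IntrinsicBasic
open Cfsg.Agent.SignalizersComponents.IntrinsicIntr
open Cfsg.Agent.SignalizersComponents.PLayerAut
open Cfsg.Agent.Intrinsic.Basic Cfsg.Agent.Intrinsic.Cen Cfsg.Agent.Intrinsic.Diag
open Cfsg.Agent.McLLyComp.Act
open Cfsg.Agent.UGT.Triple Cfsg.Agent.UGT.LemG Cfsg.Agent.UGT.PumpGen Cfsg.Agent.UGT.TriBase
open Cfsg.Agent.UGT.Res.Base Cfsg.Agent.UGT.Res.KMax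
open scoped commutatorElement

namespace Cfsg.Agent.UGT.Res.KOne

variable {G : Type*} [Group G]

/-- The elements of `C(v, y)` fixing all members of `KK y v`. -/
def Fx (y v : G) : Subgroup G where
  carrier := {g | g * v = v * g ∧ g * y = y * g ∧ ∀ K ∈ KK y v, Fixes g K}
  mul_mem' := by
    rintro g h ⟨h1, h2, h3⟩ ⟨h1', h2', h3'⟩
    have a1 : Commute g v := h1
    have a2 : Commute h v := h1'
    have b1 : Commute g y := h2
    have b2 : Commute h y := h2'
    exact ⟨(a1.mul_left a2).eq, (b1.mul_left b2).eq, fun K hK => fixes_mul (h3 K hK) (h3' K hK)⟩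
  one_mem' := ⟨by group, by group, fun K _ => fixes_one K⟩
  inv_mem' := by
    rintro g ⟨h1, h2, h3⟩
    have a1 : Commute g v := h1
    have b1 : Commute g y := h2
    exact ⟨a1.inv_left.eq, b1.inv_left.eq, fun K hK => fixes_inv (h3 K hK)⟩

theorem mem_Fx {y v g : G} : g ∈ Fx y v ↔ g * v = v * g ∧ g * y = y * g ∧ ∀ K ∈ KK y v, Fixes g K :=
  Iff.rfl

/-- `g ∈ C(v, y)` normalizes `Fx y v` -/
theorem conj_mem_Fx {y v g f : G} (hgv : g * v = v * g) (hgy : g * y = y * g) (hf : f ∈ Fx y v) :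
    g * f * g⁻¹ ∈ Fx y v := by
  obtain ⟨h1, h2, h3⟩ := hf
  have a1 : Commute g v := hgv
  have a2 : Commute f v := h1
  have b1 : Commute g y := hgy
  have b2 : Commute f y := h2
  refine ⟨((a1.mul_left a2).mul_left a1.inv_left).eq, ((b1.mul_left b2).mul_left b1.inv_left).eq,
    fun K hK => ?_⟩
  have h4 : IntrinsicBasic.cj g⁻¹ K ∈ KK y v := KK.cj_mem hK a1.inv_left.eq b1.inv_left.eq
  have h5 := (h3 _ h4).cj g
  rwa [cj_cj_inv] at h5

/-- The 2-elements of `C_{Aut(L/O(L))}(y)` act as `1` or `x`. -/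
structure RCent (G : Type*) [Group G] : Prop where
  cent : ∀ {x a y r : G} {L : Subgroup G}, Inn y L → IsTriple x a L →
    y ∈ core (centralizer ({x} : Set G)) → y ∈ centralizer ({a} : Set G) → ¬ Fixes y L → (∃ n : ℕ, r ^ 2 ^ n = 1) →
    r ∈ normalizer (L : Set G) → r * a = a * r → r * y = y * r → Fixes r L ∨ Fixes (r * x⁻¹) L

/-- The facts needed for `k = 1`. -/
structure Hyp (G : Type*) [Group G] (x y : G) : Prop where
  W : RWorld G
  R : RTriv G
  C : Ctx x y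
  one : ∀ u, Inv x y u → (KK y u).ncard ≤ 1

variable [Finite G]

section one

variable {x y : G}

/-- the unique member of `KK y v` -/
theorem Hyp.unique (H : Hyp G x y) {v : G} (hv : Inv x y v) {K K' : Subgroup G} (hK : K ∈ KK y v)
    (hK' : K' ∈ KK y v) : K = K' := by
  have h1 := H.one v hv
  rw [Set.ncard_le_one (Set.toFinite _)] at h1
  exact h1 K hK K' hK'

theorem Hyp.ncard_eq (H : Hyp G x y) {v : G} (hv : Inv x y v) {K : Subgroup G} (hK : K ∈ KK y v) :
    (KK y v).ncard = 1 := by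
  have h1 : 0 < (KK y v).ncard := (Set.ncard_pos (Set.toFinite _)).mpr ⟨K, hK⟩
  have h2 := H.one v hv
  omega

/-- `g ∈ C(v, y)` normalizes the member of `KK y v`. -/
theorem Hyp.mem_normalizer (H : Hyp G x y) {v g : G} (hv : Inv x y v) {K : Subgroup G}
    (hK : K ∈ KK y v) (hgv : g * v = v * g) (hgy : g * y = y * g) : g ∈ normalizer (K : Set G) :=
  mem_normalizer_iff_cj.mpr (H.unique hv (KK.cj_mem hK hgv hgy) hK)

/-- an involution `w` fixing the member of `KK y v` is good and `F(v) ∩ C(w) ≤ F(w)` -/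
theorem Hyp.step (H : Hyp G x y) {v w : G} (hv : Inv x y v) (hw : Inv x y w) {K : Subgroup G}
    (hK : K ∈ KK y v) (hwF : w ∈ Fx y v) :
    (∃ N, N ∈ KK y w) ∧ ∀ r ∈ Fx y v, r * w = w * r → r ∈ Fx y w := by
  have hn : (KK y w).ncard ≤ (KK y v).ncard := by
    rw [H.ncard_eq hv hK]
    exact H.one w hw
  obtain ⟨φ, hφ, -⟩ := exists_bij H.R H.C hv hw hwF.1 hwF.2.2 hn
  refine ⟨⟨φ K, hφ.mapsTo hK⟩, fun r hr hrw => ⟨hrw, hr.2.1, ?_⟩⟩
  exact fixes_of_bij H.R H.C hv hw hwF.1 hwF.2.2 hn hrw hr.2.2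

/-- `x ∉ F(v)` -/
theorem Hyp.x_not_mem (H : Hyp G x y) {v : G} (hv : Inv x y v) {K : Subgroup G} (hK : K ∈ KK y v) :
    x ∉ Fx y v := fun h => (KK.triple H.C hv hK).not_fixes (h.2.2 K hK)

/-- `x r` is bad, `r ∈ R` an involution, `R ≤ F(v) ∩ C(x)` with a further involution `w ∈ C_R(r)` -/
theorem Hyp.bad (H : Hyp G x y) {v r w : G} (hv : Inv x y v) {K : Subgroup G} (hK : K ∈ KK y v)
    (hr : r ∈ Fx y v) (hrx : r * x = x * r) (hr2 : orderOf r = 2) (hw : w ∈ Fx y v)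
    (hwx : w * x = x * w) (hw2 : orderOf w = 2) (hrw : r * w = w * r) (hne : w ≠ r) :
    y ∈ core (centralizer ({x * r} : Set G)) := by
  refine bad_of_two H.W H.R H.C hv (fun u hu => ?_) ⟨hr2, hrx, hr.2.1⟩ ⟨hw2, hwx, hw.2.1⟩ hr.1 hw.1 hrw
    hne hr.2.2 hw.2.2 ?_
  · rw [H.ncard_eq hv hK]
    exact H.one u hu
  · rintro rfl
    exact H.x_not_mem hv hK hr

omit [Finite G] in
/-- good involutions are preserved by `C(y)` -/
theorem good_conj {y e n : G} (hny : n * y = y * n) (h : y ∉ core (centralizer ({e} : Set G))) :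
    y ∉ core (centralizer ({n * e * n⁻¹} : Set G)) := by
  intro h1
  apply h
  rw [← cj_centralizer, core_cj, mem_cj, mul_assoc, ← hny, inv_mul_cancel_left] at h1
  exact h1

/-- `Ω₁(Z(R))` -/
def om (R : Subgroup G) : Subgroup G where
  carrier := {z | z ∈ R ∧ z * z = 1 ∧ ∀ r ∈ R, r * z = z * r}
  mul_mem' := by
    rintro a b ⟨h1, h2, h3⟩ ⟨h1', h2', h3'⟩
    refine ⟨mul_mem h1 h1', ?_, fun r hr => ?_⟩
    · calc a * b * (a * b) = a * (b * a) * b := by group
        _ = a * (a * b) * b := by rw [h3 b h1']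
        _ = (a * a) * (b * b) := by group
        _ = 1 := by rw [h2, h2', one_mul]
    · have c1 : Commute r a := h3 r hr
      have c2 : Commute r b := h3' r hr
      exact (c1.mul_right c2).eq
  one_mem' := ⟨one_mem _, by group, fun r _ => by group⟩
  inv_mem' := by
    rintro a ⟨h1, h2, h3⟩
    refine ⟨inv_mem h1, ?_, fun r hr => ?_⟩
    · rw [inv_eq_of_mul_eq_one_left h2]; exact h2
    · have c1 : Commute r a := h3 r hr
      exact c1.inv_right.eq

omit [Finite G] in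
theorem mem_om {R : Subgroup G} {z : G} : z ∈ om R ↔ z ∈ R ∧ z * z = 1 ∧ ∀ r ∈ R, r * z = z * r :=
  Iff.rfl

omit [Finite G] in
theorem om_le (R : Subgroup G) : om R ≤ R := fun _ h => h.1

theorem om_ne_bot {R : Subgroup G} (hR : IsPGroup 2 ↥R) (hne : R ≠ ⊥) : om R ≠ ⊥ := by
  obtain ⟨e, heR, he, hc⟩ := exists_central hR le_rfl le_normalizer hne
  intro h
  have h1 : e ∈ om R := ⟨heR, sq_of_order he, hc⟩
  rw [h, mem_bot] at h1
  exact ne_one_of_order he h1

omit [Finite G] in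
/-- `R ⟨x⟩ = R ∪ x R` -/
theorem mem_sup_x {R : Subgroup G} {x g : G} (hx : x * x = 1) (hxR : x ∈ normalizer (R : Set G))
    (hg : g ∈ R ⊔ zpowers x) : g ∈ R ∨ x * g ∈ R := by
  have hle : zpowers x ≤ normalizer (R : Set G) := zpowers_le.mpr hxR
  have h1 : g ∈ ((zpowers x ⊔ R : Subgroup G) : Set G) := by rwa [sup_comm] at hg
  rw [Subgroup.coe_mul_of_left_le_normalizer_right _ _ hle] at h1
  obtain ⟨a, ha, r, hr, hgr⟩ := h1
  obtain ⟨k, rfl⟩ := mem_zpowers_iff.mp ha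
  have hgr' : x ^ k * r = g := hgr
  rcases Int.even_or_odd' k with ⟨m, rfl | rfl⟩
  · left
    rw [zpow_mul, zpow_two, hx, one_zpow, one_mul] at hgr'
    exact hgr' ▸ hr
  · right
    rw [zpow_add, zpow_mul, zpow_two, hx, one_zpow, one_mul, zpow_one] at hgr'
    rw [← hgr', ← mul_assoc, hx, one_mul]
    exact hr

/-- the hypotheses on `R` -/
structure Max (x y v : G) (R : Subgroup G) : Prop where
  inv : Inv x y v
  ne : (KK y v).Nonempty
  two : IsPGroup 2 ↥R
  le : ∀ r ∈ R, r ∈ Fx y v ∧ r * x = x * r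
  max : ∀ (u : G) (R' : Subgroup G), Inv x y u → (KK y u).Nonempty → IsPGroup 2 ↥R' →
    (∀ r ∈ R', r ∈ Fx y u ∧ r * x = x * r) → Nat.card ↥R' ≤ Nat.card ↥R
  rank : ∃ g ∈ R, ∃ w ∈ R, orderOf g = 2 ∧ orderOf w = 2 ∧ g * w = w * g ∧ g ≠ w

theorem exists_max {x y : G} {v : G} {R : Subgroup G} (hv : Inv x y v) (hne : (KK y v).Nonempty)
    (h2 : IsPGroup 2 ↥R) (hle : ∀ r ∈ R, r ∈ Fx y v ∧ r * x = x * r) :
    ∃ (u : G) (R' : Subgroup G), Inv x y u ∧ (KK y u).Nonempty ∧ IsPGroup 2 ↥R' ∧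
      (∀ r ∈ R', r ∈ Fx y u ∧ r * x = x * r) ∧ Nat.card ↥R ≤ Nat.card ↥R' ∧
      ∀ (u' : G) (R'' : Subgroup G), Inv x y u' → (KK y u').Nonempty → IsPGroup 2 ↥R'' →
        (∀ r ∈ R'', r ∈ Fx y u' ∧ r * x = x * r) → Nat.card ↥R'' ≤ Nat.card ↥R' := by
  obtain ⟨⟨u, R'⟩, h1, h3⟩ := Set.exists_max_image
    {p : G × Subgroup G | Inv x y p.1 ∧ (KK y p.1).Nonempty ∧ IsPGroup 2 ↥p.2 ∧
      ∀ r ∈ p.2, r ∈ Fx y p.1 ∧ r * x = x * r} (fun p => Nat.card ↥p.2) (Set.toFinite _)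
    ⟨⟨v, R⟩, hv, hne, h2, hle⟩
  exact ⟨u, R', h1.1, h1.2.1, h1.2.2.1, h1.2.2.2, h3 ⟨v, R⟩ ⟨hv, hne, h2, hle⟩,
    fun u' R'' a b c d => h3 ⟨u', R''⟩ ⟨a, b, c, d⟩⟩

section max

variable {v : G} {R : Subgroup G}

omit [Finite G] in
theorem Max.x_mem_normalizer (M : Max x y v R) : x ∈ normalizer (R : Set G) := by
  rw [mem_normalizer_iff_cj]
  ext r
  rw [mem_cj]
  constructor
  · intro h
    have h1 := (M.le _ h).2
    have h2 : r = x⁻¹ * r * x := by
      calc r = x * (x⁻¹ * r * x) * x⁻¹ := by group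
        _ = (x⁻¹ * r * x) * x * x⁻¹ := by rw [h1]
        _ = _ := by group
    rw [h2]; exact h
  · intro h
    rw [mul_assoc, (M.le r h).2, inv_mul_cancel_left]
    exact h

omit [Finite G] in
/-- a further involution commuting with `r ∈ om R` -/
theorem Max.exists_other (M : Max x y v R) {r : G} (hr : r ∈ om R) :
    ∃ w ∈ R, orderOf w = 2 ∧ r * w = w * r ∧ w ≠ r := by
  obtain ⟨g, hg, w, hw, hg2, hw2, hgw, hne⟩ := M.rank
  by_cases h : g = r
  · exact ⟨w, hw, hw2, (hr.2.2 w hw).symm, fun h' => hne (h.trans h'.symm)⟩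
  · exact ⟨g, hg, hg2, (hr.2.2 g hg).symm, h⟩

/-- `x r` is bad for `r ∈ Ω₁(Z(R))`. -/
theorem Max.bad (H : Hyp G x y) (M : Max x y v R) {r : G} (hr : r ∈ om R) :
    y ∈ core (centralizer ({x * r} : Set G)) := by
  by_cases h1 : r = 1
  · rw [h1, mul_one]; exact H.C.mem
  · obtain ⟨K, hK⟩ := M.ne
    obtain ⟨w, hw, hw2, hrw, hne⟩ := M.exists_other hr
    exact H.bad M.inv hK (M.le r hr.1).1 (M.le r hr.1).2
      (orderOf_eq_prime (by rw [pow_two]; exact hr.2.1) h1) (M.le w hw).1 (M.le w hw).2 hw2 hrw hne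

/-- the involutions of `R` commuting with `x`, `y` are good, and `R ≤ F(c)` for `c ∈ Ω₁(Z(R))` -/
theorem Max.good (H : Hyp G x y) (M : Max x y v R) {c : G} (hc : c ∈ om R) (h1 : c ≠ 1) :
    Inv x y c ∧ (∃ N, N ∈ KK y c) ∧ c ∈ Fx y v ∧ ∀ r ∈ R, r ∈ Fx y c := by
  obtain ⟨K, hK⟩ := M.ne
  have hcR := M.le c hc.1
  have hci : Inv x y c := ⟨orderOf_eq_prime (by rw [pow_two]; exact hc.2.1) h1, hcR.2, hcR.1.2.1⟩
  obtain ⟨h2, h3⟩ := H.step M.inv hci hK hcR.1
  exact ⟨hci, h2, hcR.1, fun r hr => h3 r (M.le r hr).1 (hc.2.2 r hr)⟩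

omit [Finite G] in
theorem Max.ne_bot (M : Max x y v R) : R ≠ ⊥ := by
  rintro rfl
  obtain ⟨g, hg, -, -, hg2, -⟩ := M.rank
  exact ne_one_of_order hg2 (mem_bot.mp hg)

/-- a good involution of `Z(R ⟨x⟩)` lies in `Ω₁(Z(R))` -/
theorem Max.mem_om_of_good (H : Hyp G x y) (M : Max x y v R) {e : G} (he : e ∈ R ⊔ zpowers x)
    (he2 : e * e = 1) (hex : e * x = x * e) (hcen : ∀ r ∈ R, r * e = e * r)
    (hgood : y ∉ core (centralizer ({e} : Set G))) : e ∈ om R := by
  have hx2 := sq_of_order H.C.ox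
  rcases mem_sup_x hx2 M.x_mem_normalizer he with h | h
  · exact ⟨h, he2, hcen⟩
  · exfalso
    apply hgood
    have cxe : Commute x e := hex.symm
    have h1 : x * e ∈ om R := by
      refine ⟨h, ?_, fun r hr => ?_⟩
      · calc x * e * (x * e) = x * (e * x) * e := by group
          _ = x * (x * e) * e := by rw [hex]
          _ = (x * x) * (e * e) := by group
          _ = 1 := by rw [hx2, he2, one_mul]
      · have c1 : Commute r x := (M.le r hr).2
        have c2 : Commute r e := hcen r hr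
        exact (c1.mul_right c2).eq
    have h2 := M.bad H h1
    rwa [← mul_assoc, hx2, one_mul] at h2

theorem Max.v_mem (M : Max x y v R) : v ∈ R := by
  have hv := M.inv
  have hv2 := sq_of_order hv.ov
  have hvF : v ∈ Fx y v := ⟨rfl, hv.cy, fun K hK => fixes_self' hK.1.le⟩
  have hvR : v ∈ normalizer (R : Set G) := by
    rw [mem_normalizer_iff_cj]
    ext r
    rw [mem_cj]
    constructor
    · intro h
      have h1 : v⁻¹ * r * v * v = v * (v⁻¹ * r * v) := (M.le _ h).1.1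
      have h2 : r = v⁻¹ * r * v := by
        calc r = v * (v⁻¹ * r * v) * v⁻¹ := by group
          _ = (v⁻¹ * r * v) * v * v⁻¹ := by rw [h1]
          _ = _ := by group
      rw [h2]; exact h
    · intro h
      have h1 : r * v = v * r := (M.le r h).1.1
      rw [mul_assoc, h1, inv_mul_cancel_left]
      exact h
  have h1 := Tri.isPGroup_sup_zpowers M.two hvR (n := 1) (by rw [pow_one, pow_two, hv2])
  have h2 : Nat.card ↥(R ⊔ zpowers v) ≤ Nat.card ↥R := by
    refine M.max v _ hv M.ne h1 fun r hr => ?_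
    have h3 : R ⊔ zpowers v ≤ Fx y v ⊓ centralizer ({x} : Set G) := by
      refine sup_le (fun r hr => ⟨(M.le r hr).1, mem_c (M.le r hr).2⟩) ?_
      rw [zpowers_le]
      exact ⟨hvF, mem_c hv.cx⟩
    exact ⟨(h3 hr).1, comm_c (h3 hr).2⟩
  have h3 := Subgroup.eq_of_le_of_card_ge (le_sup_left : R ≤ R ⊔ zpowers v) h2
  rw [h3]
  exact mem_sup_right (mem_zpowers v)

/-- **(5)** `R ⟨x⟩` is a Sylow 2-subgroup of `C(x, y)`. -/
theorem syl_xy (H : Hyp G x y) (Ce : RCent G) (M : Max x y v R) :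
    IsSyl (centralizer ({x} : Set G) ⊓ centralizer ({y} : Set G)) (R ⊔ zpowers x) := by
  have hx2 := sq_of_order H.C.ox
  have hxy := H.C.comm
  have hxR := M.x_mem_normalizer
  have hS2 : IsPGroup 2 ↥(R ⊔ zpowers x) :=
    Tri.isPGroup_sup_zpowers M.two hxR (n := 1) (by rw [pow_one, pow_two, hx2])
  have hSle : R ⊔ zpowers x ≤ centralizer ({x} : Set G) ⊓ centralizer ({y} : Set G) := by
    refine sup_le (fun r hr => ⟨mem_c (M.le r hr).2, mem_c (M.le r hr).1.2.1⟩) ?_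
    rw [zpowers_le]
    exact ⟨mem_c rfl, mem_c hxy.symm⟩
  refine ⟨hS2, hSle, fun S' hS'2 hS'le hSS' => ?_⟩
  by_contra hne
  obtain ⟨n, hnS', hnS, hn, hn2⟩ := Tri.exists_normalizing hS'2 hSS' (Ne.symm hne)
  have hnx : n * x = x * n := comm_c (hS'le hnS').1
  have hny : n * y = y * n := comm_c (hS'le hnS').2
  -- `n` normalizes `Ω₁(Z(R))`
  have key : ∀ z ∈ om R, n * z * n⁻¹ ∈ om R := by
    intro z hz
    by_cases hz1 : z = 1
    · rw [hz1, mul_one, mul_inv_cancel]; exact one_mem _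
    obtain ⟨hzi, ⟨N, hN⟩, -, -⟩ := M.good H hz hz1
    have hgood : y ∉ core (centralizer ({z} : Set G)) := (KK.nonempty_iff H.C hzi).mp ⟨N, hN⟩
    have hcomm : ∀ s ∈ R ⊔ zpowers x, s * (n * z * n⁻¹) = n * z * n⁻¹ * s := by
      intro s hs
      have hs' : n⁻¹ * s * n ∈ R ⊔ zpowers x := by
        have := (mem_normalizer_iff.mp (inv_mem hnS) s).mp hs
        rwa [inv_inv] at this
      have hz' : n⁻¹ * s * n * z = z * (n⁻¹ * s * n) := by
        have h1 : R ⊔ zpowers x ≤ centralizer ({z} : Set G) := by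
          refine sup_le (fun r hr => mem_c (hz.2.2 r hr)) ?_
          rw [zpowers_le]
          exact mem_c hzi.cx.symm
        exact comm_c (h1 hs')
      calc s * (n * z * n⁻¹) = n * ((n⁻¹ * s * n) * z) * n⁻¹ := by group
        _ = n * (z * (n⁻¹ * s * n)) * n⁻¹ := by rw [hz']
        _ = _ := by group
    refine M.mem_om_of_good H ?_ ?_ (hcomm x (mem_sup_right (mem_zpowers x))).symm
      (fun r hr => hcomm r (mem_sup_left hr)) (good_conj hny hgood)
    · exact (mem_normalizer_iff.mp hnS z).mp (mem_sup_left hz.1)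
    · calc n * z * n⁻¹ * (n * z * n⁻¹) = n * (z * z) * n⁻¹ := by group
        _ = 1 := by rw [hz.2.1]; group
  -- a fixed point
  have hZn : (R ⊔ zpowers x) ⊔ zpowers n ≤ normalizer (om R : Set G) := by
    refine sup_le ?_ ?_
    · have h1 : ∀ z ∈ om R, ∀ s ∈ R ⊔ zpowers x, s * z = z * s := by
        intro z hz s hs
        have h1 : R ⊔ zpowers x ≤ centralizer ({z} : Set G) := by
          refine sup_le (fun r hr => mem_c (hz.2.2 r hr)) ?_
          rw [zpowers_le]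
          exact mem_c (M.le z hz.1).2.symm
        exact comm_c (h1 hs)
      intro s hs
      rw [mem_normalizer_iff]
      intro z
      constructor
      · intro hz
        rw [h1 z hz s hs, mul_inv_cancel_right]
        exact hz
      · intro hz
        have h2 := h1 _ hz s hs
        have h3 : z = s * z * s⁻¹ := by
          calc z = s⁻¹ * (s * z * s⁻¹ * s) := by group
            _ = s⁻¹ * (s * (s * z * s⁻¹)) := by rw [h2]
            _ = _ := by group
        rw [h3]; exact hz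
    · rw [zpowers_le, mem_normalizer_iff_cj]
      exact Subgroup.eq_of_le_of_card_ge (by
        rintro z hz
        rw [mem_cj] at hz
        have := key _ hz
        have h2 : n * (n⁻¹ * z * n) * n⁻¹ = z := by group
        rwa [h2] at this) (by rw [card_cj])
  obtain ⟨c, hc, hc2, hcc⟩ := exists_central hn2
    ((om_le R).trans (le_sup_left.trans le_sup_left)) hZn (om_ne_bot M.two M.ne_bot)
  have hc1 := ne_one_of_order hc2
  obtain ⟨hci, ⟨N, hN⟩, -, hRc⟩ := M.good H hc hc1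
  have hnc : n * c = c * n := hcc n (mem_sup_right (mem_zpowers n))
  have hnN : n ∈ normalizer (N : Set G) := H.mem_normalizer hci hN hnc hny
  have hT := KK.triple H.C hci hN
  have hn2' : ∃ k : ℕ, n ^ 2 ^ k = 1 := by
    obtain ⟨k, hk⟩ := hS'2 ⟨n, hnS'⟩
    exact ⟨k, congrArg Subtype.val hk⟩
  -- the larger group
  have hfin : ∀ n' ∈ (R ⊔ zpowers x) ⊔ zpowers n, n' ∉ R ⊔ zpowers x → n' ∈ Fx y c →
      n' * x = x * n' → False := by
    intro n' hn' hn'S hn'F hn'x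
    obtain ⟨R', hR'⟩ : ∃ R', R' = ((R ⊔ zpowers x) ⊔ zpowers n) ⊓
        (Fx y c ⊓ centralizer ({x} : Set G)) := ⟨_, rfl⟩
    have h1 : Nat.card ↥R' ≤ Nat.card ↥R := M.max c R' hci ⟨N, hN⟩
      (hn2.to_le (hR' ▸ inf_le_left)) fun r hr => by
        rw [hR'] at hr
        exact ⟨hr.2.1, comm_c hr.2.2⟩
    have h2 : R ≤ R' := by
      rw [hR']
      exact le_inf (le_sup_left.trans le_sup_left) fun r hr => ⟨hRc r hr, mem_c (M.le r hr).2⟩
    have h3 := Subgroup.eq_of_le_of_card_ge h2 h1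
    apply hn'S
    apply mem_sup_left
    rw [h3, hR']
    exact ⟨hn', hn'F, mem_c hn'x⟩
  have huniq : ∀ g : G, Fixes g N → ∀ K ∈ KK y c, Fixes g K := by
    intro g hg K hK
    rwa [H.unique hci hK hN]
  rcases Ce.cent (H.C.tame hT H.C.mem (mem_c hci.cy.symm)) hT H.C.mem (mem_c hci.cy.symm) hN.2 hn2' hnN hnc hny with h | h
  · exact hfin n (mem_sup_right (mem_zpowers n)) hn ⟨hnc, hny, huniq n h⟩ hnx
  · have cnc : Commute n c := hnc
    have cxc : Commute x c := hci.cx.symm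
    have cny : Commute n y := hny
    have cxy : Commute x y := hxy.symm
    have cnx : Commute n x := hnx
    refine hfin (n * x⁻¹) (mul_mem (mem_sup_right (mem_zpowers n))
      (inv_mem (mem_sup_left (mem_sup_right (mem_zpowers x))))) (fun h1 => hn ?_)
      ⟨(cnc.mul_left cxc.inv_left).eq, (cny.mul_left cxy.inv_left).eq, huniq _ h⟩
      (cnx.mul_left (Commute.refl x).inv_left).eq
    have h2 := mul_mem h1 (mem_sup_right (mem_zpowers x) : x ∈ R ⊔ zpowers x)
    rwa [inv_mul_cancel_right] at h2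

/-- **(6)** `Q ⟨x⟩ ∈ Syl₂(C(y))` for an `x`-invariant 2-group `Q ≥ R` in `F(z)`, `z ∈ Ω₁(Z(R))`; the involutions of
`Q` are good. -/
theorem exists_syl_y (H : Hyp G x y) (Ce : RCent G) (M : Max x y v R) :
    ∃ (z : G) (Q : Subgroup G), z ∈ om R ∧ z ≠ 1 ∧ R ≤ Q ∧ Q ≤ Fx y z ∧
      x ∈ normalizer (Q : Set G) ∧ x ∉ Q ∧ IsSyl (centralizer ({y} : Set G)) (Q ⊔ zpowers x) ∧
      ∀ q ∈ Q, orderOf q = 2 → y ∉ core (centralizer ({q} : Set G)) := by
  have hx2 := sq_of_order H.C.ox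
  have hxy := H.C.comm
  have hxR := M.x_mem_normalizer
  have hsyl := syl_xy H Ce M
  -- the choice of `z`, `Q`
  obtain ⟨z₀, hz₀⟩ : ∃ z₀ ∈ om R, z₀ ≠ 1 := by
    by_contra hcon
    push Not at hcon
    exact om_ne_bot M.two M.ne_bot ((eq_bot_iff_forall _).mpr hcon)
  obtain ⟨-, -, -, hRz₀⟩ := M.good H hz₀.1 hz₀.2
  obtain ⟨⟨z, Q⟩, ⟨hz, hz1, hQ2, hRQ, hQF, hxQ⟩, hmax⟩ := Set.exists_max_image
    {p : G × Subgroup G | p.1 ∈ om R ∧ p.1 ≠ 1 ∧ IsPGroup 2 ↥p.2 ∧ R ≤ p.2 ∧ p.2 ≤ Fx y p.1 ∧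
      x ∈ normalizer (p.2 : Set G)} (fun p => Nat.card ↥p.2) (Set.toFinite _)
    ⟨⟨z₀, R⟩, hz₀.1, hz₀.2, M.two, le_rfl, hRz₀, hxR⟩
  change z ∈ om R at hz
  change z ≠ 1 at hz1
  change IsPGroup 2 ↥Q at hQ2
  change R ≤ Q at hRQ
  change Q ≤ Fx y z at hQF
  change x ∈ normalizer (Q : Set G) at hxQ
  obtain ⟨hzi, ⟨N, hN⟩, -, -⟩ := M.good H hz hz1
  have hS2 : IsPGroup 2 ↥(Q ⊔ zpowers x) :=
    Tri.isPGroup_sup_zpowers hQ2 hxQ (n := 1) (by rw [pow_one, pow_two, hx2])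
  have hxnQ : x ∉ Q := fun h => H.x_not_mem hzi hN (hQF h)
  have hSle : Q ⊔ zpowers x ≤ centralizer ({y} : Set G) := by
    refine sup_le (fun r hr => mem_c (hQF hr).2.1) ?_
    rw [zpowers_le]
    exact mem_c hxy.symm
  refine ⟨z, Q, hz, hz1, hRQ, hQF, hxQ, hxnQ, ⟨hS2, hSle, fun S' hS'2 hS'le hSS' => ?_⟩, ?_⟩
  swap
  · -- the involutions of `Q` are good
    intro q hq hq2 hbad
    have hqF := hQF hq
    have hT := KK.triple H.C hzi hN
    obtain ⟨h1, h3⟩ := isComp_cen hT.comp (mem_c hqF.1) (sq_of_order hq2) (hqF.2.2 N hN)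
    have hyz : y ∈ centralizer ({z} : Set G) := mem_c hzi.cy.symm
    have hyN := hT.mem_normalizer_of_core H.C.mem hyz
    have hyM : y ∈ normalizer (cen N q : Set G) := mem_normalizer_cen hyN hqF.2.1.symm
    have h4 : y ∈ core (centralizer ({z} : Set G) ⊓ centralizer ({q} : Set G)) :=
      inf_le_core hbad hyz
    exact hN.2 ((fixes_iff_of_sup h3 hyM hyN).mp (h1.fixes_of_core h4))
  by_contra hne
  obtain ⟨n, hnS', hnS, hn, hn2⟩ := Tri.exists_normalizing hS'2 hSS' (Ne.symm hne)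
  have hny : n * y = y * n := comm_c (hS'le hnS')
  -- `Z₁ = Ω₁(Z(R)) ∩ C(Q)`
  obtain ⟨Z, hZ⟩ : ∃ Z, Z = om R ⊓ centralizer (Q : Set G) := ⟨_, rfl⟩
  have hZc : ∀ e ∈ Z, ∀ s ∈ Q ⊔ zpowers x, s * e = e * s := by
    intro e he s hs
    rw [hZ] at he
    have h1 : Q ⊔ zpowers x ≤ centralizer ({e} : Set G) := by
      refine sup_le (fun r hr => mem_c (mem_centralizer_iff.mp he.2 r hr)) ?_
      rw [zpowers_le]
      exact mem_c (M.le e he.1.1).2.symm
    exact comm_c (h1 hs)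
  have hzZ : z ∈ Z := by
    rw [hZ]
    exact mem_inf.mpr ⟨hz, mem_centralizer_iff.mpr fun q hq => (hQF hq).1⟩
  have key : ∀ e ∈ Z, n * e * n⁻¹ ∈ Z := by
    intro e he
    by_cases he1 : e = 1
    · rw [he1, mul_one, mul_inv_cancel]; exact one_mem _
    have heo : e ∈ om R := by rw [hZ] at he; exact he.1
    obtain ⟨hei, ⟨N', hN'⟩, -, -⟩ := M.good H heo he1
    have hgood : y ∉ core (centralizer ({e} : Set G)) := (KK.nonempty_iff H.C hei).mp ⟨N', hN'⟩
    have hcomm : ∀ s ∈ Q ⊔ zpowers x, s * (n * e * n⁻¹) = n * e * n⁻¹ * s := by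
      intro s hs
      have hs' : n⁻¹ * s * n ∈ Q ⊔ zpowers x := by
        have := (mem_normalizer_iff.mp (inv_mem hnS) s).mp hs
        rwa [inv_inv] at this
      have hz' := hZc e he _ hs'
      calc s * (n * e * n⁻¹) = n * ((n⁻¹ * s * n) * e) * n⁻¹ := by group
        _ = n * (e * (n⁻¹ * s * n)) * n⁻¹ := by rw [hz']
        _ = _ := by group
    have he2 : n * e * n⁻¹ * (n * e * n⁻¹) = 1 := by
      calc n * e * n⁻¹ * (n * e * n⁻¹) = n * (e * e) * n⁻¹ := by group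
        _ = 1 := by rw [heo.2.1]; group
    have hex := (hcomm x (mem_sup_right (mem_zpowers x))).symm
    have hRe : ∀ r ∈ R, r * (n * e * n⁻¹) = n * e * n⁻¹ * r := fun r hr =>
      hcomm r (mem_sup_left (hRQ hr))
    have hey : (n * e * n⁻¹) * y = y * (n * e * n⁻¹) := by
      have c1 : Commute n y := hny
      have c2 : Commute e y := hei.cy
      exact ((c1.mul_left c2).mul_left c1.inv_left).eq
    -- it lies in `R ⟨x⟩`
    have hmem : n * e * n⁻¹ ∈ R ⊔ zpowers x := by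
      obtain ⟨t, ht⟩ : ∃ t, t = n * e * n⁻¹ := ⟨_, rfl⟩
      rw [← ht] at he2 hex hRe hey ⊢
      have htS : t ∈ normalizer ((R ⊔ zpowers x : Subgroup G) : Set G) := by
        have h1 : R ⊔ zpowers x ≤ centralizer ({t} : Set G) := by
          refine sup_le (fun r hr => mem_c (hRe r hr)) ?_
          rw [zpowers_le]
          exact mem_c hex.symm
        exact (fixes_self' h1).1
      have h1 := Tri.isPGroup_sup_zpowers hsyl.two htS (n := 1) (by rw [pow_one, pow_two, he2])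
      have h2 := hsyl.max _ h1 (sup_le hsyl.le (by
        rw [zpowers_le]
        exact ⟨mem_c hex, mem_c hey⟩)) le_sup_left
      rw [← h2]
      exact mem_sup_right (mem_zpowers t)
    have hom := M.mem_om_of_good H hmem he2 hex hRe (good_conj hny hgood)
    rw [hZ]
    exact mem_inf.mpr ⟨hom, mem_centralizer_iff.mpr fun q hq => hcomm q (mem_sup_left hq)⟩
  have hZn : (Q ⊔ zpowers x) ⊔ zpowers n ≤ normalizer (Z : Set G) := by
    refine sup_le ?_ ?_
    · intro s hs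
      rw [mem_normalizer_iff]
      intro e
      constructor
      · intro he
        rw [hZc e he s hs, mul_inv_cancel_right]
        exact he
      · intro he
        have h2 := hZc _ he s hs
        have h3 : e = s * e * s⁻¹ := by
          calc e = s⁻¹ * (s * e * s⁻¹ * s) := by group
            _ = s⁻¹ * (s * (s * e * s⁻¹)) := by rw [h2]
            _ = _ := by group
        rw [h3]; exact he
    · rw [zpowers_le, mem_normalizer_iff_cj]
      exact Subgroup.eq_of_le_of_card_ge (by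
        rintro e he
        rw [mem_cj] at he
        have := key _ he
        have h2 : n * (n⁻¹ * e * n) * n⁻¹ = e := by group
        rwa [h2] at this) (by rw [card_cj])
  have hZR : Z ≤ R := by
    rw [hZ]
    exact inf_le_left.trans (om_le R)
  obtain ⟨c, hc, hc2, hcc⟩ := exists_central hn2
    (hZR.trans (hRQ.trans (le_sup_left.trans le_sup_left))) hZn (by
      intro h
      rw [h, mem_bot] at hzZ
      exact hz1 hzZ)
  have hc1 := ne_one_of_order hc2
  have hco : c ∈ om R := by rw [hZ] at hc; exact hc.1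
  obtain ⟨hci, ⟨N', hN'⟩, -, -⟩ := M.good H hco hc1
  have hcz : c ∈ Fx y z := hQF (hRQ (hZR hc))
  have hQc : ∀ q ∈ Q, q ∈ Fx y c := fun q hq =>
    (H.step hzi hci hN hcz).2 q (hQF hq) (hZc c hc q (mem_sup_left hq))
  have hnc : n * c = c * n := hcc n (mem_sup_right (mem_zpowers n))
  have hnN : n ∈ normalizer (N' : Set G) := H.mem_normalizer hci hN' hnc hny
  have hT := KK.triple H.C hci hN'
  have hn2' : ∃ k : ℕ, n ^ 2 ^ k = 1 := by
    obtain ⟨k, hk⟩ := hS'2 ⟨n, hnS'⟩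
    exact ⟨k, congrArg Subtype.val hk⟩
  have hfin : ∀ n' ∈ (Q ⊔ zpowers x) ⊔ zpowers n, n' ∉ Q ⊔ zpowers x → n' ∈ Fx y c → False := by
    intro n' hn' hn'S hn'F
    obtain ⟨Q', hQ'⟩ : ∃ Q', Q' = ((Q ⊔ zpowers x) ⊔ zpowers n) ⊓ Fx y c := ⟨_, rfl⟩
    have h2 : Q ≤ Q' := by
      rw [hQ']
      exact le_inf (le_sup_left.trans le_sup_left) hQc
    have hxQ' : x ∈ normalizer (Q' : Set G) := by
      have hxm : x ∈ (Q ⊔ zpowers x) ⊔ zpowers n := mem_sup_left (mem_sup_right (mem_zpowers x))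
      have h3 : ∀ g ∈ Q', x * g * x⁻¹ ∈ Q' := by
        intro g hg
        rw [hQ'] at hg ⊢
        exact mem_inf.mpr ⟨mul_mem (mul_mem hxm hg.1) (inv_mem hxm),
          conj_mem_Fx hci.cx.symm hxy.symm hg.2⟩
      rw [mem_normalizer_iff_cj]
      refine Subgroup.eq_of_le_of_card_ge (fun g hg => ?_) (by rw [card_cj])
      rw [mem_cj] at hg
      have h4 := h3 _ hg
      have h5 : x * (x⁻¹ * g * x) * x⁻¹ = g := by group
      rwa [h5] at h4
    have h1 : Nat.card ↥Q' ≤ Nat.card ↥Q := hmax ⟨c, Q'⟩ ⟨hco, hc1, hn2.to_le (hQ' ▸ inf_le_left),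
      hRQ.trans h2, hQ' ▸ inf_le_right, hxQ'⟩
    have h3 := Subgroup.eq_of_le_of_card_ge h2 h1
    apply hn'S
    apply mem_sup_left
    rw [h3, hQ']
    exact ⟨hn', hn'F⟩
  have huniq : ∀ g : G, Fixes g N' → ∀ K ∈ KK y c, Fixes g K := by
    intro g hg K hK
    rwa [H.unique hci hK hN']
  rcases Ce.cent (H.C.tame hT H.C.mem (mem_c hci.cy.symm)) hT H.C.mem (mem_c hci.cy.symm) hN'.2 hn2' hnN hnc hny with h | h
  · exact hfin n (mem_sup_right (mem_zpowers n)) hn ⟨hnc, hny, huniq n h⟩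
  · have cnc : Commute n c := hnc
    have cxc : Commute x c := hci.cx.symm
    have cny : Commute n y := hny
    have cxy : Commute x y := hxy.symm
    refine hfin (n * x⁻¹) (mul_mem (mem_sup_right (mem_zpowers n))
      (inv_mem (mem_sup_left (mem_sup_right (mem_zpowers x))))) (fun h1 => hn ?_)
      ⟨(cnc.mul_left cxc.inv_left).eq, (cny.mul_left cxy.inv_left).eq, huniq _ h⟩
    have h2 := mul_mem h1 (mem_sup_right (mem_zpowers x) : x ∈ Q ⊔ zpowers x)
    rwa [inv_mul_cancel_right] at h2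

end max

end one

end Cfsg.Agent.UGT.Res.KOne
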