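import Cfsg.Agent.UGT.Res.L2Fact
import Cfsg.Agent.UGT.Res.KOne
import Cfsg.Agent.UGT.Res.Abel
import Cfsg.Agent.UGT.Nodes

/-!
# Supply of the facts of the residual world

`Pgl G`: every triple `(x, a, L)` has `L / O(L) ≅ PSL(2,F)`, `|F| ≥ 5` odd, and `x` is not inner on it.

* `o1_act`: `x` is of PGL type on `L / O(L)`.
* `Pgl.rworld : RWorld G`, `Pgl.rcent : RCent G`, `Pgl.rtriv : RTriv G` (all `q`).
* `Pgl.tame_of_small`: every `y` is tame if `|F| < 27` for all triples.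
* `exists_y`: an element `y ∈ L ∩ O(C(x))` moving `L`.
-/

set_option autoImplicit false

open Cfsg Subgroup
open Cfsg.Agent.SignalizersComponents Cfsg.Agent.Lib
open Cfsg.Agent.SignalizersComponents.IntrinsicBasic
open Cfsg.Agent.SignalizersComponents.IntrinsicIntr
open Cfsg.Agent.SignalizersComponents.PLayerAut
open Cfsg.Agent.Intrinsic.Basic Cfsg.Agent.Intrinsic.Cen Cfsg.Agent.Intrinsic.Diag
open Cfsg.Agent.McLLyComp.Act
open Cfsg.Agent.UGT.Triple Cfsg.Agent.UGT.LemG Cfsg.Agent.UGT.PumpGen Cfsg.Agent.UGT.TriBase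
open Cfsg.Agent.UGT.Res.Base Cfsg.Agent.UGT.Res.KMax Cfsg.Agent.UGT.Res.KOne
open Cfsg.Agent.UGT.Iface Cfsg.Agent.UGT.Nodes
open scoped commutatorElement

namespace Cfsg.Agent.UGT.Res.KFacts

universe u

variable {G : Type u} [Group G]

/-- The hypothesis of `Nodes.NodeR`. -/
def Pgl (G : Type u) [Group G] : Prop := Types G (fun x L => IsL2 (Bar L) ∧ ¬ IsInner x L)

theorem exists_rep {K : Type u} [Group K] (h : IsL2 K) :
    ∃ (F : Type) (_ : Field F) (_ : Finite F), 5 ≤ Nat.card F ∧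
      Nonempty (Cfsg.Agent.GH.L2Aut.Rep F K) := by
  obtain ⟨F, i1, i2, h1, h2, ⟨e⟩⟩ := h
  refine ⟨F, i1, inferInstance, ?_, ⟨Cfsg.Agent.GH.L2Aut.Rep.ofEquiv
    (Cfsg.Agent.GH.L2Aut.two_ne_zero_of_odd h1) e⟩⟩
  rwa [Nat.card_eq_fintype_card]

variable [Finite G]

section act

variable {x a : G} {L : Subgroup G}

theorem act_sq (T : IsTriple x a L) : act L ⟨x, T.x_mem⟩ * act L ⟨x, T.x_mem⟩ = 1 := by
  rw [← map_mul]
  have : (⟨x, T.x_mem⟩ : ↥(normalizer (L : Set G))) * ⟨x, T.x_mem⟩ = 1 :=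
    Subtype.ext (sq_of_order T.invx)
  rw [this, map_one]

omit [Finite G] in
/-- commuting elements commute in `Aut(L / O(L))` -/
theorem act_comm {u v : G} (hu : u ∈ normalizer (L : Set G)) (hv : v ∈ normalizer (L : Set G))
    (h : u * v = v * u) : act L ⟨u, hu⟩ * act L ⟨v, hv⟩ = act L ⟨v, hv⟩ * act L ⟨u, hu⟩ := by
  rw [← map_mul, ← map_mul]
  congr 1
  exact Subtype.ext h

/-- fixed points of `x` on `L / O(L)` lift to `C_L(x)` -/
theorem exists_lift (T : IsTriple x a L) {k : ↥L ⧸ oddCore ↥L} (hk : act L ⟨x, T.x_mem⟩ k = k) :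
    ∃ (c : G) (hc : c ∈ L), c * x = x * c ∧ QuotientGroup.mk ⟨c, hc⟩ = k := by
  obtain ⟨⟨c, hc⟩, rfl⟩ := QuotientGroup.mk_surjective k
  rw [act_mk T.x_mem hc] at hk
  have h1 := (mk_eq_iff hc (conj_mem T.x_mem hc)).mp hk.symm
  obtain ⟨o, ho, hco⟩ := Intrinsic.Lifting.exists_commute (n := 1) (odd_card_core L)
    (by rw [pow_one, pow_two]; exact sq_of_order T.invx) (normalizer_le_normalizer_core L T.x_mem) h1
  have hoL := core_le L ho
  refine ⟨c * o, mul_mem hc hoL, hco.symm, ?_⟩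
  rw [mk_eq_iff (mul_mem hc hoL) hc]
  have : (c * o)⁻¹ * c = o⁻¹ := by group
  rw [this]
  exact inv_mem ho

/-- `x` is of PGL type on `L / O(L)` -/
theorem o1_act (T : IsTriple x a L) (hI : ¬ IsInner x L) {F : Type} [Field F] [Finite F]
    (R : Cfsg.Agent.GH.L2Aut.Rep F (↥L ⧸ oddCore ↥L)) : R.o1 (act L ⟨x, T.x_mem⟩) = -1 := by
  obtain ⟨N, hN⟩ : ∃ N, N = core (centralizer ({x} : Set G)) ⊓ centralizer ({a} : Set G) := ⟨_, rfl⟩
  have hNL : N ≤ normalizer (L : Set G) := by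
    intro d hd
    rw [hN] at hd
    exact T.mem_normalizer_of_core hd.1 hd.2
  have hNodd : Odd (Nat.card N) := by
    rw [hN]
    exact Odd.of_dvd_nat (odd_card_core _) (card_dvd_of_le inf_le_left)
  obtain ⟨D, hD⟩ : ∃ D, D = (N.subgroupOf (normalizer (L : Set G))).map (act L) := ⟨_, rfl⟩
  have hmem : ∀ δ, δ ∈ D ↔ ∃ (d : G) (hd : d ∈ N), act L ⟨d, hNL hd⟩ = δ := by
    intro δ
    rw [hD]
    constructor
    · rintro ⟨⟨d, hd⟩, hdN, rfl⟩
      exact ⟨d, hdN, rfl⟩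
    · rintro ⟨d, hd, rfl⟩
      exact ⟨⟨d, hNL hd⟩, hd, rfl⟩
  refine L2Fact.o1_of_unbal R (act_sq T) ?_ (D := D) ?_ ?_ ?_ ?_
  · rintro ⟨r, hr⟩
    obtain ⟨⟨r, hrL⟩, rfl⟩ := QuotientGroup.mk_surjective r
    apply hI
    refine ⟨r, hrL, ?_⟩
    rw [← act_eq_iff T.x_mem (le_normalizer hrL), act_of_mem hrL]
    exact hr.symm
  · rw [hD]
    refine Odd.of_dvd_nat hNodd ((card_map_dvd _ _).trans ?_)
    rw [Nat.card_congr (subgroupOfEquivOfLe hNL).toEquiv]
  · intro δ hδ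
    obtain ⟨d, hd, rfl⟩ := (hmem δ).mp hδ
    refine act_comm _ _ ?_
    rw [hN] at hd
    exact comm_c (core_le _ hd.1)
  · intro k hk δ hδ
    obtain ⟨d, hd, rfl⟩ := (hmem δ).mp hδ
    obtain ⟨c, hc, hcx, rfl⟩ := exists_lift T hk
    have hcN : c * d * c⁻¹ ∈ N := by
      rw [hN] at hd ⊢
      refine ⟨conj_core (mem_c hcx) hd.1, ?_⟩
      have h1 : c ∈ centralizer ({a} : Set G) := T.comp.le hc
      exact (centralizer ({a} : Set G)).mul_mem ((centralizer ({a} : Set G)).mul_mem h1 hd.2)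
        ((centralizer ({a} : Set G)).inv_mem h1)
    rw [hmem]
    refine ⟨_, hcN, ?_⟩
    rw [← act_of_mem hc, ← act_mul, ← act_inv, ← act_mul]
  · intro hbot
    obtain ⟨d, hd, hda, hf⟩ := T.bad
    apply hf
    have hdN : d ∈ N := by rw [hN]; exact ⟨hd, hda⟩
    have h1 : act L ⟨d, hNL hdN⟩ ∈ D := (hmem _).mpr ⟨d, hdN, rfl⟩
    rw [hbot, mem_bot] at h1
    exact (act_eq_one_iff _).mp h1

end act

/-! ### the residual world -/

section world

variable (H : Pgl G)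

include H

theorem Pgl.exists_rep {x a : G} {L : Subgroup G} (T : IsTriple x a L) :
    ∃ (F : Type) (_ : Field F) (_ : Finite F), 5 ≤ Nat.card F ∧
      ∃ R : Cfsg.Agent.GH.L2Aut.Rep F (↥L ⧸ oddCore ↥L), R.o1 (act L ⟨x, T.x_mem⟩) = -1 := by
  obtain ⟨h1, h2⟩ := H x a L T
  obtain ⟨F, i1, i2, h3, ⟨R⟩⟩ := KFacts.exists_rep h1
  exact ⟨F, i1, i2, h3, R, o1_act T h2 R⟩

omit H [Finite G] in
/-- the image of a perfect subgroup `M ≤ L` in `L / O(L)` -/
theorem image_perfect {L M : Subgroup G} (hML : M ≤ L) (hM : ⁅M, M⁆ = M) :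
    ⁅(M.subgroupOf L).map (QuotientGroup.mk' (oddCore ↥L)),
      (M.subgroupOf L).map (QuotientGroup.mk' (oddCore ↥L))⁆ =
      (M.subgroupOf L).map (QuotientGroup.mk' (oddCore ↥L)) := by
  rw [← map_commutator]
  congr 1
  have h1 : ⁅M.subgroupOf L, M.subgroupOf L⁆.map L.subtype = (M.subgroupOf L).map L.subtype := by
    rw [map_commutator, subgroupOf_map_subtype, inf_of_le_left hML, hM]
  exact map_injective (subtype_injective _) h1

omit H [Finite G] in
theorem le_core_of_image {L M : Subgroup G} (hML : M ≤ L)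
    (h : (M.subgroupOf L).map (QuotientGroup.mk' (oddCore ↥L)) = ⊥) : M ≤ core L := by
  intro m hm
  have h1 : (QuotientGroup.mk ⟨m, hML hm⟩ : ↥L ⧸ oddCore ↥L) ∈
      (M.subgroupOf L).map (QuotientGroup.mk' (oddCore ↥L)) := ⟨⟨m, hML hm⟩, hm, rfl⟩
  rw [h, mem_bot] at h1
  exact (mk_eq_one_iff _).mp h1

/-- `y ∈ O(C(x)) ∩ C(a)` tame: the element of `L / O(L)` by which it acts -/
theorem Pgl.exists_b {x a y : G} {L : Subgroup G} (T : IsTriple x a L) (hty : Inn y L)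
    (hy : y ∈ core (centralizer ({x} : Set G))) (hya : y ∈ centralizer ({a} : Set G))
    (hf : ¬ Fixes y L) : ∃ b : ↥L ⧸ oddCore ↥L, b ≠ 1 ∧ Odd (orderOf b) ∧
      act L ⟨x, T.x_mem⟩ b = b ∧ act L ⟨y, T.mem_normalizer_of_core hy hya⟩ = MulAut.conj b := by
  obtain ⟨F, _, _, -, R, ho⟩ := H.exists_rep T
  obtain ⟨r, hr, hrf⟩ := hty
  have hyL := T.mem_normalizer_of_core hy hya
  have h1 : act L ⟨y, hyL⟩ = MulAut.conj (QuotientGroup.mk ⟨r, hr⟩ : ↥L ⧸ oddCore ↥L) := by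
    rw [← act_of_mem hr]
    exact (act_eq_iff hyL (le_normalizer hr)).mpr hrf
  obtain ⟨b, hb⟩ : ∃ b, b = (QuotientGroup.mk ⟨r, hr⟩ : ↥L ⧸ oddCore ↥L) := ⟨_, rfl⟩
  rw [← hb] at h1
  refine ⟨b, ?_, ?_, ?_, h1⟩
  · rintro rfl
    apply hf
    rw [← act_eq_one_iff hyL, h1, map_one]
  · have h2 : orderOf (MulAut.conj b) = orderOf b := orderOf_injective _ R.conj_injective b
    rw [← h2, ← h1]
    have h3 : orderOf (act L ⟨y, hyL⟩) ∣ orderOf (⟨y, hyL⟩ : ↥(normalizer (L : Set G))) :=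
      orderOf_map_dvd _ _
    rw [Subgroup.orderOf_mk] at h3
    refine Odd.of_dvd_nat ?_ h3
    have h4 := orderOf_dvd_natCard (⟨y, hy⟩ : ↥(core (centralizer ({x} : Set G))))
    rw [Subgroup.orderOf_mk] at h4
    exact Odd.of_dvd_nat (odd_card_core _) h4
  · have h2 := act_comm hyL T.x_mem (comm_c (core_le _ hy))
    rw [h1] at h2
    have h3 := Cfsg.Agent.GH.L2Aut.Rep.conj_comm_iff.mp h2
    exact R.conj_injective h3

/-- **`RCent`** -/
theorem Pgl.rcent : RCent G where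
  cent := by
    intro x a y r L hty T hy hya hf hr hrL hra hry
    obtain ⟨F, _, _, -, R, ho⟩ := H.exists_rep T
    obtain ⟨b, hb1, hbo, hbx, hyb⟩ := H.exists_b T hty hy hya hf
    have hyL := T.mem_normalizer_of_core hy hya
    obtain ⟨n, hn⟩ := hr
    have h2 : ∃ n : ℕ, act L ⟨r, hrL⟩ ^ 2 ^ n = 1 := by
      refine ⟨n, ?_⟩
      rw [← map_pow]
      have : (⟨r, hrL⟩ : ↥(normalizer (L : Set G))) ^ 2 ^ n = 1 := Subtype.ext hn
      rw [this, map_one]
    have h3 : act L ⟨r, hrL⟩ b = b := by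
      have h4 := act_comm hyL hrL hry.symm
      rw [hyb] at h4
      exact R.conj_injective (Cfsg.Agent.GH.L2Aut.Rep.conj_comm_iff.mp h4)
    rcases L2Fact.eq_of_fix R (act_sq T) ho hb1 hbo hbx h2 h3 with h4 | h4
    · exact Or.inl ((act_eq_one_iff hrL).mp h4)
    · exact Or.inr ((act_eq_iff hrL T.x_mem).mp h4)

/-- **`RWorld`** -/
theorem Pgl.rworld : RWorld G where
  solv := by
    intro x a L M T hML hfix hM
    obtain ⟨F, _, _, -, R, ho⟩ := H.exists_rep T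
    apply le_core_of_image hML
    refine Cfsg.Agent.OddHalf.D6.PglType.no_perfect R (act_sq T) ho ?_ (image_perfect hML hM).ge
    rintro _ ⟨⟨m, hmL⟩, hm, rfl⟩
    change act L ⟨x, T.x_mem⟩ (QuotientGroup.mk ⟨m, hmL⟩) = QuotientGroup.mk ⟨m, hmL⟩
    rw [act_mk T.x_mem hmL, mk_eq_iff]
    have h1 := inv_mem (hfix m hm)
    have h2 : ⁅x, m⁆⁻¹ = m * (x * m * x⁻¹)⁻¹ := by
      rw [commutatorElement_def]; group
    rw [h2] at h1
    have h3 := conj_core (L.inv_mem (conj_mem T.x_mem hmL)) h1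
    convert h3 using 1
    group
  cent := by
    intro x a y w L hty T hy hya hf hw hwL hwa hwx hwy
    rcases H.rcent.cent hty T hy hya hf ⟨1, by rw [pow_one, ← hw, pow_orderOf_eq_one]⟩ hwL hwa hwy
      with h | h
    · left
      have hw2 := sq_of_order hw
      obtain ⟨h1, h3⟩ := isComp_cen T.comp (mem_c hwa) hw2 h
      have hyL := T.mem_normalizer_of_core hy hya
      refine ⟨cen L w, cen_le L w, h1, fun h4 => hf ?_⟩
      exact (fixes_iff_of_sup h3 h4.1 hyL).mp h4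
    · exact Or.inr h

/-- **`RTriv`** -/
theorem Pgl.rtriv : RTriv G where
  triv := by
    intro x a c L N T hc hca hcx hcL S haN hle
    obtain ⟨F, _, _, -, R, ho⟩ := H.exists_rep S
    have hc2 := sq_of_order hc
    have ha2 := sq_of_order T.inva
    obtain ⟨h1, h3⟩ := isComp_cen T.comp (mem_c hca) hc2 hcL
    have haa : act N ⟨a, haN⟩ * act N ⟨a, haN⟩ = 1 := by
      rw [← map_mul]
      have : (⟨a, haN⟩ : ↥(normalizer (N : Set G))) * ⟨a, haN⟩ = 1 := Subtype.ext ha2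
      rw [this, map_one]
    have hfa : Fixes a N := by
      by_contra hne
      have hne' : act N ⟨a, haN⟩ ≠ 1 := fun h => hne ((act_eq_one_iff haN).mp h)
      have h4 := L2Fact.no_perfect_of_comm R ho haa hne' (act_comm S.x_mem haN T.comm.symm)
        (M := ((cen L c).subgroupOf N).map (QuotientGroup.mk' (oddCore ↥N))) (by
          rintro _ ⟨⟨m, hmN⟩, hm, rfl⟩
          change act N ⟨a, haN⟩ (QuotientGroup.mk ⟨m, hmN⟩) = QuotientGroup.mk ⟨m, hmN⟩
          rw [act_mk haN hmN]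
          congr 1
          apply Subtype.ext
          have h5 : m * a = a * m := comm_c (T.comp.le (cen_le L c hm))
          change a * m * a⁻¹ = m
          rw [← h5, mul_inv_cancel_right]) (image_perfect hle h1.perfect)
      exact h1.not_odd (odd_card_core N) (le_core_of_image hle h4)
    -- `a` fixes `N`
    obtain ⟨h5, h6⟩ := isComp_cen S.comp (mem_c hca.symm) ha2 hfa
    have h7 : cen L c ≤ cen N a := by
      rw [cen, cen, PComponents.pElem, PComponents.pElem, closure_le]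
      rintro m ⟨hm, n, hn⟩
      have h8 : m ∈ cen L c := PComponents.mem_pElem hm hn
      exact PComponents.mem_pElem ⟨hle h8, mem_c (comm_c (T.comp.le hm.1))⟩ hn
    rw [inf_comm] at h5
    have h8 := h1.unique h1 h5 le_rfl h7
    rw [h8]
    exact h6

/-- every triple is moved by an element of `L ∩ O(C(x))` -/
theorem Pgl.exists_y {x a : G} {L : Subgroup G} (T : IsTriple x a L) :
    ∃ y ∈ core (centralizer ({x} : Set G)), y ∈ L ∧ ¬ Fixes y L := by
  obtain ⟨F, _, _, -, R, ho⟩ := H.exists_rep T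
  obtain ⟨d, hd, hda, hf⟩ := T.bad
  have hdL := T.mem_normalizer_of_core hd hda
  have hodd : Odd (orderOf (act L ⟨d, hdL⟩)) := by
    have h3 : orderOf (act L ⟨d, hdL⟩) ∣ orderOf (⟨d, hdL⟩ : ↥(normalizer (L : Set G))) :=
      orderOf_map_dvd _ _
    rw [Subgroup.orderOf_mk] at h3
    refine Odd.of_dvd_nat ?_ h3
    have h4 := orderOf_dvd_natCard (⟨d, hd⟩ : ↥(core (centralizer ({x} : Set G))))
    rw [Subgroup.orderOf_mk] at h4
    exact Odd.of_dvd_nat (odd_card_core _) h4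
  obtain ⟨k, hk, hdk⟩ := L2Fact.exists_moved R (act_sq T) ho hodd
    (fun h => hf ((act_eq_one_iff hdL).mp h)) (act_comm hdL T.x_mem (comm_c (core_le _ hd)))
  obtain ⟨c, hc, hcx, rfl⟩ := exists_lift T hk
  -- `y = d c d⁻¹ c⁻¹`
  have hdc : d * c * d⁻¹ ∈ L := conj_mem hdL hc
  refine ⟨d * c * d⁻¹ * c⁻¹, ?_, mul_mem hdc (inv_mem hc), fun h => hdk ?_⟩
  · have e : d * c * d⁻¹ * c⁻¹ = d * (c * d⁻¹ * c⁻¹) := by group
    rw [e]
    exact mul_mem hd (conj_core (mem_c hcx) (inv_mem hd))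
  · have hyL : d * c * d⁻¹ * c⁻¹ ∈ L := mul_mem hdc (inv_mem hc)
    have h1 := (act_eq_one_iff (le_normalizer hyL)).mpr h
    rw [act_of_mem hyL] at h1
    have h2 : (QuotientGroup.mk ⟨d * c * d⁻¹ * c⁻¹, hyL⟩ : ↥L ⧸ oddCore ↥L) = 1 :=
      R.conj_injective (by rw [h1, map_one])
    have h3 := (mk_eq_one_iff hyL).mp h2
    rw [act_mk hdL hc, mk_eq_iff]
    have h4 := conj_core (L.inv_mem hdc) (inv_mem h3)
    convert h4 using 1
    group

omit [Finite G] H in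
/-- all triples have type `PSL(2,F)`, `|F| < 27` -/
def Small (G : Type u) [Group G] : Prop := ∀ {x a : G} {L : Subgroup G}, IsTriple x a L →
  ∃ (F : Type) (_ : Field F) (_ : Finite F), Nat.card F < 27 ∧
    Nonempty (Cfsg.Agent.GH.L2Aut.Rep F (↥L ⧸ oddCore ↥L))

omit H in
/-- every element is tame if all `|F| < 27` -/
theorem Small.tame (S : Small G) (y : G) : Tame y := by
  intro x a L T hy hya
  obtain ⟨F, _, _, hF, ⟨R⟩⟩ := S T
  have hyL := T.mem_normalizer_of_core hy hya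
  have hodd : Odd (orderOf (act L ⟨y, hyL⟩)) := by
    have h3 : orderOf (act L ⟨y, hyL⟩) ∣ orderOf (⟨y, hyL⟩ : ↥(normalizer (L : Set G))) :=
      orderOf_map_dvd _ _
    rw [Subgroup.orderOf_mk] at h3
    refine Odd.of_dvd_nat ?_ h3
    have h4 := orderOf_dvd_natCard (⟨y, hy⟩ : ↥(core (centralizer ({x} : Set G))))
    rw [Subgroup.orderOf_mk] at h4
    exact Odd.of_dvd_nat (odd_card_core _) h4
  obtain ⟨r, hr⟩ := L2Fact.inn_of_odd R hF hodd
  obtain ⟨⟨r, hrL⟩, rfl⟩ := QuotientGroup.mk_surjective r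
  refine ⟨r, hrL, ?_⟩
  rw [← act_eq_iff hyL (le_normalizer hrL), act_of_mem hrL]
  exact hr.symm

end world

end Cfsg.Agent.UGT.Res.KFacts
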