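import Cfsg.Agent.OddHalf.D6.PglType
import Cfsg.Agent.OddHalf.D6.SubFix
import Cfsg.Agent.OddCyclic.PGLTorus
import Cfsg.Agent.GH.L2AutF

/-!
# Automorphisms of `PSL(2,F)`: the facts of the last world

`R : Rep F L`, `α` an involution of PGL type (`R.o1 α = -1`), `y ∈ L`, `α y = y`, `y² ≠ 1`.

* `comm_pgl`: elements of `PGL` fixing `y` commute.
* `two_unique`: a 2-element of `Aut L` fixing `y` is `1` or `α`.
* `no_odd_normal`: `PSL(2,F)` has no nontrivial normal subgroup of odd order (`|F| ≥ 3`).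
* `field_core`: involutions of field type do not unbalance `L`.
* `o1_neg`: an outer involution that unbalances `L` is of PGL type.
* `exists_inner`: the unbalancing group contains inner automorphisms.
* `odd_inner`, `pow_fifteen`: `|F| ≤ 9`.
-/

set_option autoImplicit false

namespace Cfsg.Agent.UGT.Res.PGLFacts

open Cfsg.Agent.GH.L2Aut Cfsg.Agent.GH.L2Aut.Rep Cfsg.Agent.Lib.SL2Mat Cfsg.Agent.OddHalf.D6
open Subgroup

variable {F : Type*} [Field F] [Finite F] {L : Type*} [Group L] (R : Cfsg.Agent.GH.L2Aut.Rep F L)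

/-- Elements of `PGL` fixing `y`, `y² ≠ 1`, commute. -/
theorem comm_pgl {α β : MulAut L} {y : L} (hα : α ∈ R.PGL) (hβ : β ∈ R.PGL) (hy : y * y ≠ 1)
    (h1 : α y = y) (h2 : β y = y) : α * β = β * α := by
  obtain ⟨g, rfl⟩ := R.mem_PGL.1 hα
  obtain ⟨h, rfl⟩ := R.mem_PGL.1 hβ
  obtain ⟨s, rfl⟩ := R.surj y
  have hs1 : R.gl (Matrix.SpecialLinearGroup.toGL s) ≠ 1 := by
    intro h3
    rw [← R.conj_π] at h3
    apply hy
    have h4 : R.π s = 1 := R.conj_injective (by rw [h3, map_one])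
    rw [h4, one_mul]
  have hs := R.not_scalar_of_ne hs1
  have key : ∀ g : GL (Fin 2) F, R.gl g (R.π s) = R.π s →
      (Matrix.SpecialLinearGroup.toGL s).1 * g.1 = g.1 * (Matrix.SpecialLinearGroup.toGL s).1 := by
    intro g hg
    have h4 : R.gl (Matrix.SpecialLinearGroup.toGL s) * R.gl g =
        R.gl g * R.gl (Matrix.SpecialLinearGroup.toGL s) := by
      rw [← R.conj_π, conj_comm_iff, hg]
    rcases R.comm_cases h4 with h | h
    · exact h
    · exfalso
      have h5 := R.anticomm_inv h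
      rw [← R.conj_π, ← map_mul] at h5
      exact hy (R.conj_injective (by rw [h5, map_one]))
  obtain ⟨a, b, hab⟩ := exists_ab hs (key g h1)
  rw [← map_mul, ← map_mul]
  congr 1
  apply Units.ext
  rw [Units.val_mul, Units.val_mul, hab, Matrix.add_mul, Matrix.mul_add, Matrix.smul_mul,
    Matrix.smul_mul, Matrix.mul_smul, Matrix.mul_smul, Matrix.one_mul, Matrix.mul_one, key h h2]

theorem one_of_two {A : Type*} [Group A] {B : Subgroup A} (hB : ∀ x ∈ B, x * x = 1 → x = 1) {t : A}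
    (ht : t ∈ B) : ∀ n : ℕ, t ^ 2 ^ n = 1 → t = 1 := by
  intro n
  induction n with
  | zero => intro h; rwa [pow_zero, pow_one] at h
  | succ n ih =>
    intro h
    apply ih
    apply hB _ (B.pow_mem ht _)
    rw [← pow_add, ← two_mul, ← pow_succ']
    exact h

theorem units_neg {a : ℤˣ} (h : a ≠ 1) : a = -1 := (Int.units_eq_one_or a).resolve_left h

section two

variable {α : MulAut L} (hα : α * α = 1) (ho : R.o1 α = -1) {y : L} (hy : y * y ≠ 1) (hαy : α y = y)

include hα ho hy hαy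

theorem two_inn {t : L} (h2 : ∃ n, t ^ 2 ^ n = 1) (hαt : α t = t) (hty : t * y = y * t) : t = 1 := by
  obtain ⟨B, -, -, hB1, h3, -, -, -, -⟩ := PglType.fix_data R hα ho
  have hyB : y ∈ B := by
    rcases h3 y hαy with h | ⟨h, -⟩
    · exact h
    · exact absurd h hy
  obtain ⟨n, hn⟩ := h2
  rcases h3 t hαt with h | ⟨-, h⟩
  · exact one_of_two hB1 h n hn
  · exfalso
    have h4 := h y hyB
    rw [hty, mul_inv_cancel_right] at h4
    apply hy
    nth_rw 1 [h4]
    exact inv_mul_cancel y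

theorem two_pgl {β : MulAut L} (hβ : β ∈ R.PGL) (h2 : ∃ n, β ^ 2 ^ n = 1) (hβy : β y = y) :
    β = 1 ∨ β = α := by
  obtain ⟨hαP, -⟩ := PglType.pgl_of R hα ho
  have hc := comm_pgl R hαP hβ hy hαy hβy
  have key : ∀ γ : MulAut L, γ ∈ Inn L → (∃ n, γ ^ 2 ^ n = 1) → γ y = y → α * γ = γ * α → γ = 1 := by
    rintro _ ⟨t, rfl⟩ ⟨n, hn⟩ h3 h4
    have h5 : α t = t := by
      apply R.conj_injective
      rw [← conj_comm_iff]
      exact h4.symm
    have h6 : t * y = y * t := by
      rw [MulAut.conj_apply, mul_inv_eq_iff_eq_mul] at h3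
      exact h3
    rw [two_inn R hα ho hy hαy ⟨n, R.conj_injective (by rw [map_pow, hn, map_one])⟩ h5 h6, map_one]
  obtain ⟨n, hn⟩ := h2
  by_cases h3 : R.o1 β = 1
  · left
    exact key β (R.mem_inn_iff.2 ⟨R.mem_PGL_iff_fld.1 hβ, h3⟩) ⟨n, hn⟩ hβy hc
  · right
    have h4 : β * α = 1 := by
      refine key _ (R.mem_inn_iff.2 ⟨?_, ?_⟩) ⟨n + 1, ?_⟩ ?_ ?_
      · rw [map_mul, R.mem_PGL_iff_fld.1 hβ, R.mem_PGL_iff_fld.1 hαP, one_mul]
      · rw [map_mul, units_neg h3, ho]
        decide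
      · rw [(show Commute β α from hc.symm).mul_pow, pow_succ, pow_mul, hn, one_pow, one_mul, mul_comm,
          pow_mul, pow_two, hα, one_pow]
      · rw [MulAut.mul_apply, hαy, hβy]
      · rw [← mul_assoc, hc, mul_assoc]
    calc β = β * (α * α) := by rw [hα, mul_one]
      _ = α := by rw [← mul_assoc, h4, one_mul]

/-- A 2-element of `Aut L` fixing `y` is `1` or `α`. -/
theorem two_unique {β : MulAut L} (h2 : ∃ n, β ^ 2 ^ n = 1) (hβy : β y = y) : β = 1 ∨ β = α := by
  by_cases hf : R.fld β = 1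
  · exact two_pgl R hα ho hy hαy (R.mem_PGL_iff_fld.2 hf) h2 hβy
  · exfalso
    obtain ⟨n, hn⟩ := h2
    -- a power whose field part is an involution
    obtain ⟨k, hk1, hk2⟩ : ∃ k, R.fld (β ^ 2 ^ k) ≠ 1 ∧ R.fld (β ^ 2 ^ k * β ^ 2 ^ k) = 1 := by
      have h3 : ∃ m, R.fld (β ^ 2 ^ m) = 1 := ⟨n, by rw [hn, map_one]⟩
      classical
      obtain ⟨m, hm⟩ : ∃ m, Nat.find h3 = m := ⟨_, rfl⟩
      have h4 := Nat.find_spec h3
      rw [hm] at h4
      cases m with
      | zero => rw [pow_zero, pow_one] at h4; exact absurd h4 hf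
      | succ m =>
        refine ⟨m, Nat.find_min h3 (by omega), ?_⟩
        rw [← pow_add, ← two_mul, ← pow_succ']
        exact h4
    obtain ⟨γ, hγ⟩ : ∃ γ, γ = β ^ 2 ^ k := ⟨_, rfl⟩
    rw [← hγ] at hk1 hk2
    have hγ2 : γ ^ 2 ^ n = 1 := by rw [hγ, ← pow_mul, mul_comm, pow_mul, hn, one_pow]
    have hfix : ∀ m : ℕ, (β ^ m) y = y := by
      intro m
      induction m with
      | zero => rfl
      | succ m ih => rw [pow_succ, MulAut.mul_apply, hβy, ih]
    have hγy : γ y = y := by rw [hγ]; exact hfix _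
    have h5 := two_pgl R hα ho hy hαy (R.mem_PGL_iff_fld.2 hk2)
      ⟨n, by rw [← pow_two, ← pow_mul, mul_comm, pow_mul, hγ2, one_pow]⟩
      (by rw [MulAut.mul_apply, hγy, hγy])
    obtain ⟨hαP, hαI⟩ := PglType.pgl_of R hα ho
    rcases h5 with h5 | h5
    · -- `γ` is an involution
      have h6 := two_pgl R hα ho hy hαy (β := γ * α * γ⁻¹) (by
        rw [R.mem_PGL_iff_fld, map_mul, map_mul, R.mem_PGL_iff_fld.1 hαP, mul_one, map_inv,
          mul_inv_cancel])
        ⟨1, by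
          rw [pow_one, pow_two]
          calc γ * α * γ⁻¹ * (γ * α * γ⁻¹) = γ * (α * α) * γ⁻¹ := by group
            _ = 1 := by rw [hα, mul_one, mul_inv_cancel]⟩
        (by
          have h7 : γ⁻¹ y = y := by
            conv_lhs => rw [← hγy]
            exact MulAut.inv_apply_self L γ y
          rw [MulAut.mul_apply, MulAut.mul_apply, h7, hαy, hγy])
      rcases h6 with h6 | h6
      · apply PglType.ne_one R ho
        calc α = γ⁻¹ * (γ * α * γ⁻¹) * γ := by group
          _ = 1 := by rw [h6, mul_one, inv_mul_cancel]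
      · have h7 := R.o1_of_comm h5 hk1 (γ := α) (by
          rw [mul_inv_eq_iff_eq_mul] at h6
          exact h6.symm)
        rw [ho] at h7
        exact absurd h7 (by decide)
    · have h6 : R.o1 α = R.o1 γ * R.o1 γ := by rw [← map_mul, h5]
      rcases Int.units_eq_one_or (R.o1 γ) with h7 | h7 <;> rw [h7, ho] at h6 <;>
        exact absurd h6 (by decide)

end two

/-! ### no odd normal subgroups, involutions of field type -/

theorem odd_subgroup {A : Type*} [Group A] [Finite A] {N : Subgroup A} (h : Odd (Nat.card N)) {a : A}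
    (ha : a ∈ N) : Odd (orderOf a) := by
  have h1 := orderOf_dvd_natCard (⟨a, ha⟩ : N)
  rw [orderOf_mk] at h1
  exact Odd.of_dvd_nat h h1

include R in
theorem no_odd_normal {N : Subgroup L} (hN : N.Normal) (hodd : Odd (Nat.card N)) : N = ⊥ := by
  have := R.finite
  obtain ⟨a, b, hab⟩ := R.exists_four
  have ha2 : orderOf a = 2 := orderOf_eq_prime (by rw [pow_two]; exact hab.aa) hab.a1
  have hF := OddCyclic.PGLTorus.odd_card R
  have h3 : 3 ≤ Nat.card F := by
    have h1 : 1 < Nat.card F := Finite.one_lt_card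
    omega
  rcases h3.eq_or_lt with h3 | h3
  · -- `|L| = 12`
    have h4 := R.card_mul_two
    rw [← h3] at h4
    have h5 : Nat.card L = 12 := by omega
    have h6 : Nat.card N ∣ 12 := h5 ▸ Subgroup.card_subgroup_dvd_card N
    have h7 : Nat.card N = 1 ∨ Nat.card N = 3 := by
      have h8 : Nat.card N ≤ 12 := Nat.le_of_dvd (by norm_num) h6
      obtain ⟨n, hn⟩ : ∃ n, n = Nat.card N := ⟨_, rfl⟩
      rw [← hn] at h6 h8 hodd ⊢
      rw [Nat.odd_iff] at hodd
      clear hn h4 h5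
      interval_cases n <;> omega
    rcases h7 with h7 | h7
    · exact Subgroup.eq_bot_of_card_eq N h7
    · exfalso
      have h8 : Nat.card (L ⧸ N) = 2 ^ 2 := by
        have h9 := Subgroup.card_eq_card_quotient_mul_card_subgroup N
        rw [h5, h7] at h9
        omega
      obtain ⟨-, y, -, -, -, -, -, -, -, hya, -⟩ := R.exists_frame hab
      have h2 : Fact (Nat.Prime 2) := ⟨Nat.prime_two⟩
      have h9 : ∀ u v : L ⧸ N, u * v = v * u := fun u v =>
        (IsPGroup.commGroupOfCardEqPrimeSq (p := 2) h8).mul_comm u v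
      have h10 : b * a⁻¹ ∈ N := by
        rw [← QuotientGroup.eq_one_iff, QuotientGroup.mk_mul, QuotientGroup.mk_inv, ← hya,
          QuotientGroup.mk_mul, QuotientGroup.mk_mul, QuotientGroup.mk_inv, h9 (y : L ⧸ N)]
        group
      have h11 : b * a⁻¹ = a * b := by
        rw [inv_eq_of_mul_eq_one_left hab.aa, hab.comm]
      rw [h11] at h10
      have h12 := odd_subgroup hodd h10
      have h13 : orderOf (a * b) = 2 := by
        refine orderOf_eq_prime ?_ ?_
        · rw [pow_two]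
          calc a * b * (a * b) = a * (b * a) * b := by group
            _ = a * (a * b) * b := by rw [hab.comm]
            _ = (a * a) * (b * b) := by group
            _ = 1 := by rw [hab.aa, hab.bb, one_mul]
        · intro h
          apply hab.ne
          calc a = a * (b * b) := by rw [hab.bb, mul_one]
            _ = (a * b) * b := by group
            _ = b := by rw [h, one_mul]
      rw [h13] at h12
      exact absurd h12 (by decide)
  · have := SubFix.isSimple R h3
    rcases hN.eq_bot_or_eq_top with h | h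
    · exact h
    · exfalso
      rw [h] at hodd
      have h4 := odd_subgroup hodd (mem_top a)
      rw [ha2] at h4
      exact absurd h4 (by decide)

/-- an element of odd order is a power of its square -/
theorem mem_of_sq_mem {H : Type*} [Group H] {A : Subgroup H} {y : H} (h : y * y ∈ A)
    (ho : Odd (orderOf y)) : y ∈ A := by
  obtain ⟨k, hk⟩ := ho
  have h1 : (y * y) ^ (k + 1) = y := by
    rw [← sq, ← pow_mul, show 2 * (k + 1) = orderOf y + 1 by omega, pow_succ, pow_orderOf_eq_one,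
      one_mul]
  rw [← h1]
  exact A.pow_mem h _

/-- Involutions of field type do not unbalance `L`. -/
theorem field_core {φ : MulAut L} (h : φ * φ = 1) (hf : R.fld φ ≠ 1) {D : Subgroup (MulAut L)}
    (hD : Odd (Nat.card D)) (hDφ : ∀ δ ∈ D, δ * φ = φ * δ)
    (hDn : ∀ k : L, φ k = k → ∀ δ ∈ D, MulAut.conj k * δ * (MulAut.conj k)⁻¹ ∈ D) : D = ⊥ := by
  have := R.finite
  have := R.finite_aut
  obtain ⟨σ, hσ⟩ : ∃ σ, σ = R.fld φ := ⟨_, rfl⟩
  rw [← hσ] at hf
  have hσ2 : σ * σ = 1 := by rw [hσ, ← map_mul, h, map_one]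
  have hord : orderOf σ = 2 := by
    rw [orderOf_eq_prime_iff]
    exact ⟨by rw [sq]; exact hσ2, hf⟩
  obtain ⟨R', -, -, hR'⟩ := R.exists_rep φ (by rw [← hσ, hord, sq, h])
  rw [← hσ] at hR'
  obtain ⟨K, hK, hcard⟩ := Cfsg.Agent.GH.L2Aut.exists_fixed_field σ
  have heven : Even (orderOf σ) := by rw [hord]; decide
  obtain ⟨w, hw, hwn, hwx⟩ := R'.exists_outer heven hK hcard
  have hfix : ∀ m ∈ R'.sub K, φ m = m := by
    intro m hm
    rw [hR']
    exact R'.sub_le_fix hK hm
  -- the inner part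
  obtain ⟨D₁, hD₁⟩ : ∃ D₁ : Subgroup L, D₁ = D.comap (MulAut.conj : L →* MulAut L) := ⟨_, rfl⟩
  have hm₁ : ∀ l, l ∈ D₁ ↔ MulAut.conj l ∈ D := fun l => by rw [hD₁]; exact Iff.rfl
  have hodd₁ : Odd (Nat.card D₁) := by
    rw [hD₁]
    exact Odd.of_dvd_nat hD (Subgroup.card_comap_dvd_of_injective D _ R.conj_injective)
  have hfix₁ : ∀ l ∈ D₁, φ l = l := by
    intro l hl
    apply R.conj_injective
    rw [← conj_comm_iff]
    exact hDφ _ ((hm₁ l).1 hl)
  have hle₁ : D₁ ≤ R'.sub K := by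
    intro x hx
    have hsq : ∀ x ∈ D₁, x * x ∈ R'.sub K := by
      intro x hx
      have h1 : x ∈ Cfsg.Agent.GH.L2Aut.fixSub (R'.fa σ) := by
        rw [Cfsg.Agent.GH.L2Aut.mem_fixSub, ← hR']; exact hfix₁ x hx
      have h2 : x * x ∈ Cfsg.Agent.GH.L2Aut.fixSub (R'.fa σ) := mul_mem h1 h1
      by_contra h3
      by_cases h4 : x ∈ R'.sub K
      · exact h3 (mul_mem h4 h4)
      · have h5 := hwx x h1 h4
        have h6 := hwx _ h2 h3
        apply h4
        have h7 : (w * x)⁻¹ * (w * (x * x)) = x := by group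
        rw [← h7]
        exact mul_mem (inv_mem h5) h6
    exact mem_of_sq_mem (hsq x hx) (odd_subgroup hodd₁ hx)
  have hbot : D₁ = ⊥ := by
    have h1 : (D₁.subgroupOf (R'.sub K)).Normal := by
      refine ⟨fun n hn g => ?_⟩
      rw [mem_subgroupOf] at hn ⊢
      rw [hm₁] at hn ⊢
      have h2 := hDn g (hfix g g.2) _ hn
      rw [← map_inv, ← map_mul, ← map_mul] at h2
      exact h2
    have h2 := no_odd_normal (R'.subRep K) h1 (by
      rw [Nat.card_congr (subgroupOfEquivOfLe hle₁).toEquiv]; exact hodd₁)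
    rw [eq_bot_iff]
    intro x hx
    have h3 : (⟨x, hle₁ hx⟩ : R'.sub K) ∈ D₁.subgroupOf (R'.sub K) := by
      rw [mem_subgroupOf]; exact hx
    rw [h2, mem_bot] at h3
    exact congrArg Subtype.val h3
  rw [eq_bot_iff]
  intro δ hδ
  refine SubFix.eq_one_of_sub R' hσ2 hf hK (odd_subgroup hD hδ) fun y hy => ?_
  have h1 : MulAut.conj (δ y * y⁻¹) ∈ D := by
    have h2 := hDn y (hfix y hy) δ⁻¹ (inv_mem hδ)
    have h3 : MulAut.conj (δ y * y⁻¹) = δ * (MulAut.conj y * δ⁻¹ * (MulAut.conj y)⁻¹) := by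
      rw [map_mul, ← conj_conj δ y, map_inv]
      group
    rw [h3]
    exact mul_mem hδ h2
  rw [← hm₁, hbot, mem_bot, mul_inv_eq_one] at h1
  exact h1

/-- `δ(k) k⁻¹` lies in the inner part of `D` -/
theorem comm_mem {D : Subgroup (MulAut L)} {k : L}
    (hDn : ∀ δ ∈ D, MulAut.conj k * δ * (MulAut.conj k)⁻¹ ∈ D) {δ : MulAut L} (hδ : δ ∈ D) :
    MulAut.conj (δ k * k⁻¹) ∈ D := by
  have h2 := hDn δ⁻¹ (inv_mem hδ)
  have h3 : MulAut.conj (δ k * k⁻¹) = δ * (MulAut.conj k * δ⁻¹ * (MulAut.conj k)⁻¹) := by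
    rw [map_mul, ← conj_conj δ k, map_inv]
    group
  rw [h3]
  exact mul_mem hδ h2

/-- An outer involution unbalancing `L` is of PGL type. -/
theorem o1_neg {τ : MulAut L} (h : τ * τ = 1) (hI : τ ∉ Inn L) {D : Subgroup (MulAut L)}
    (hD : Odd (Nat.card D)) (hD1 : D ≠ ⊥) (hDτ : ∀ δ ∈ D, δ * τ = τ * δ)
    (hDn : ∀ k : L, τ k = k → ∀ δ ∈ D, MulAut.conj k * δ * (MulAut.conj k)⁻¹ ∈ D) :
    R.o1 τ = -1 := by
  apply units_neg
  intro h1
  by_cases hf : R.fld τ = 1
  · exact hI (R.mem_inn_iff.2 ⟨hf, h1⟩)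
  · exact hD1 (field_core R h hf hD hDτ hDn)

/-- The unbalancing group contains inner automorphisms. -/
theorem exists_inner {τ : MulAut L} (h : τ * τ = 1) (h1 : τ ∈ R.PGL) (hne : τ ≠ 1)
    {D : Subgroup (MulAut L)} (hD : Odd (Nat.card D)) (hD1 : D ≠ ⊥)
    (hDτ : ∀ δ ∈ D, δ * τ = τ * δ)
    (hDn : ∀ k : L, τ k = k → ∀ δ ∈ D, MulAut.conj k * δ * (MulAut.conj k)⁻¹ ∈ D) :
    ∃ y : L, MulAut.conj y ∈ D ∧ τ y = y ∧ y ≠ 1 ∧ Odd (orderOf y) := by
  have := R.finite
  have := R.finite_aut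
  by_contra hcon
  apply hD1
  rw [eq_bot_iff]
  intro δ hδ
  refine R.eq_one_of_fix h1 hne h (odd_subgroup hD hδ) (hDτ δ hδ) fun k hk => ?_
  have h2 := comm_mem (hDn k hk) hδ
  by_contra h3
  apply hcon
  have h5 : τ (δ k * k⁻¹) = δ k * k⁻¹ := by
    apply R.conj_injective
    rw [← conj_comm_iff]
    exact hDτ _ h2
  refine ⟨_, h2, h5, fun h4 => h3 (mul_inv_eq_one.1 h4), ?_⟩
  have h6 := odd_subgroup hD h2
  rwa [orderOf_injective _ R.conj_injective] at h6

include R in
/-- For `|F| ≤ 9` automorphisms of odd order are inner. -/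
theorem odd_inner (hq : Nat.card F ≤ 9) {δ : MulAut L} (hδ : Odd (orderOf δ)) :
    ∃ y : L, δ = MulAut.conj y := by
  have hF := OddCyclic.PGLTorus.odd_card R
  have h1 : R.fld δ = 1 := by
    obtain ⟨K, hK, hcard⟩ := Cfsg.Agent.GH.L2Aut.exists_fixed_field (R.fld δ)
    have h2 : Odd (orderOf (R.fld δ)) := Odd.of_dvd_nat hδ (orderOf_map_dvd _ _)
    obtain ⟨m, hm⟩ := h2
    rcases Nat.eq_zero_or_pos m with rfl | hm0
    · exact orderOf_eq_one_iff.1 (by omega)
    · exfalso
      have h3 : 2 ≤ Nat.card K := Finite.one_lt_card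
      have h4 : Nat.card K % 2 = 1 := by
        by_contra h5
        have h6 : 2 ∣ Nat.card K := by omega
        have h7 : 2 ∣ Nat.card F := by
          rw [hcard]
          exact dvd_pow h6 (by omega)
        omega
      have h5 : 3 ≤ Nat.card K := by omega
      have h6 : 3 ^ 3 ≤ Nat.card K ^ orderOf (R.fld δ) :=
        (Nat.pow_le_pow_left h5 3).trans (Nat.pow_le_pow_right (by omega) (by omega))
      rw [← hcard] at h6
      omega
  have h2 : R.o1 δ = 1 := by
    by_contra h3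
    have h4 : orderOf (R.o1 δ) = 2 := by
      rw [units_neg h3]
      refine orderOf_eq_prime (by decide) (by decide)
    have h5 : orderOf (R.o1 δ) ∣ orderOf δ := orderOf_map_dvd _ _
    rw [h4] at h5
    exact (Nat.not_even_iff_odd.2 hδ) (even_iff_two_dvd.2 h5)
  obtain ⟨y, hy⟩ := R.mem_inn_iff.2 ⟨h1, h2⟩
  exact ⟨y, hy.symm⟩

/-- For `|F| ∈ {5, 7, 9}` elements of odd order fixed by an involution of PGL type have order dividing 15. -/
theorem pow_fifteen (hq : Nat.card F ≤ 9) (h5 : 5 ≤ Nat.card F) {τ : MulAut L} (h : τ * τ = 1)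
    (ho : R.o1 τ = -1) {y : L} (hτ : τ y = y) (hy : Odd (orderOf y)) : y ^ 15 = 1 := by
  obtain ⟨h1, h2⟩ := PglType.pgl_of R h ho
  obtain ⟨g, rfl⟩ := R.mem_PGL.1 h1
  have htr := R.tr_of_inv (PglType.ne_one R ho) h
  have hc := OddCyclic.PGLTorus.card_Cp_not_inn R htr h2
  have hF := OddCyclic.PGLTorus.odd_card R
  rcases OddCyclic.PGLTorus.mem_Cp_or_sq R hτ with h3 | h3
  · have h4 : orderOf y ∣ Nat.card (OddCyclic.PGLTorus.Cp R g) := by
      have := orderOf_dvd_natCard (⟨y, h3⟩ : OddCyclic.PGLTorus.Cp R g)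
      rwa [orderOf_mk] at this
    apply orderOf_dvd_iff_pow_eq_one.1
    refine h4.trans ?_
    obtain ⟨q, hq'⟩ : ∃ q, q = Nat.card F := ⟨_, rfl⟩
    rw [← hq'] at hc hq h5 hF
    unfold OddCyclic.PGLTorus.mu at hc
    have h6 : q = 5 ∨ q = 7 ∨ q = 9 := by omega
    rcases h6 with rfl | rfl | rfl
    · norm_num at hc
      rw [show Nat.card (OddCyclic.PGLTorus.Cp R g) = 3 by omega]
      norm_num
    · norm_num at hc
      rw [show Nat.card (OddCyclic.PGLTorus.Cp R g) = 3 by omega]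
      norm_num
    · norm_num at hc
      rw [show Nat.card (OddCyclic.PGLTorus.Cp R g) = 5 by omega]
      norm_num
  · rw [PglType.eq_one_of_odd_sq h3 hy, one_pow]

end Cfsg.Agent.UGT.Res.PGLFacts
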