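import Cfsg.Agent.UGT.Parity
import Cfsg.Agent.UGT.TriBase
import Cfsg.Agent.SporRec.ClosingZStar

/-!
# Theorem H, second half: an involution fixing one point, with a sign

`H` finite, `K ≤ H₀ ≤ H`, `|H₀ : K| ≤ 2`, `x ∈ H₀ - K` an involution. If `C_H(x)`, `C_H(xt) ≤ H₀` for the involutions `t` of
`C_K(x)`, some fusion conditions hold and `C_K(x)` contains a four-group, then `H₀ = H`.
-/

set_option autoImplicit false

open Cfsg Subgroup MulAction
open Cfsg.Agent.SignalizersComponents.IntrinsicBasic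
open Cfsg.Agent.UGT.Parity Cfsg.Agent.UGT.TriBase Cfsg.Agent.UGT.Triple

namespace Cfsg.Agent.UGT.Res.OnePoint

variable {H : Type*} [Group H]

/-- `t` is an involution of `C_K(x)` -/
structure Inv (K : Subgroup H) (x t : H) : Prop where
  mem : t ∈ K
  sq : t * t = 1
  ne : t ≠ 1
  comm : t * x = x * t

/-- The hypotheses. -/
structure Setup (H₀ K : Subgroup H) (x : H) : Prop where
  le : K ≤ H₀
  idx : ∀ a ∈ H₀, ∀ b ∈ H₀, a ∉ K → b ∉ K → a * b ∈ K
  xH : x ∈ H₀
  xK : x ∉ K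
  xx : x * x = 1
  cx : ∀ h, h * x = x * h → h ∈ H₀
  cxt : ∀ t, Inv K x t → ∀ h, h * (x * t) = x * t * h → h ∈ H₀
  F : ∀ t t' h, Inv K x t → Inv K x t' → h * t' * h⁻¹ ∈ K →
    (h * t' * h⁻¹) * t = t * (h * t' * h⁻¹) → h ∈ H₀
  nx : ∀ h, h * x * h⁻¹ ∉ K
  nxt : ∀ t, Inv K x t → ∀ h, h * (x * t) * h⁻¹ ∉ K
  nxtw : ∀ t w, Inv K x t → Inv K (x * t) w → ∀ h, h * (x * t * w) * h⁻¹ ∉ K
  four : ∃ r₁ r₂, Inv K x r₁ ∧ Inv K x r₂ ∧ r₁ ≠ r₂ ∧ r₁ * r₂ = r₂ * r₁

/-- a commuting set of elements of order at most 2 generates a group of exponent 2 -/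
theorem sq_of_closure {s : Set H} (h2 : ∀ a ∈ s, a * a = 1) (hc : ∀ a ∈ s, ∀ b ∈ s, a * b = b * a) :
    ∀ g ∈ closure s, g * g = 1 := by
  have h1 : closure s ≤ centralizer s := by
    rw [closure_le]
    intro a ha
    rw [SetLike.mem_coe, mem_centralizer_iff]
    intro b hb
    exact hc b hb a ha
  have h3 : closure s ≤ centralizer (centralizer s : Set H) := closure_le_centralizer_centralizer s
  have hcomm : ∀ g ∈ closure s, ∀ h ∈ closure s, g * h = h * g := by
    intro g hg h hh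
    exact (mem_centralizer_iff.mp (h3 hh) g (h1 hg))
  intro g hg
  induction hg using closure_induction with
  | mem a ha => exact h2 a ha
  | one => exact one_mul 1
  | mul a b ha hb iha ihb =>
    calc a * b * (a * b) = a * (b * a) * b := by group
      _ = a * (a * b) * b := by rw [hcomm b hb a ha]
      _ = (a * a) * (b * b) := by group
      _ = 1 := by rw [iha, ihb, one_mul]
  | inv a ha iha =>
    rw [← mul_inv_rev, iha, inv_one]

namespace Setup

variable {H₀ K : Subgroup H} {x : H}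

theorem conj_mem (h : Setup H₀ K x) {c k : H} (hc : c ∈ H₀) (hk : k ∈ K) : c * k * c⁻¹ ∈ K := by
  by_cases hcK : c ∈ K
  · exact mul_mem (mul_mem hcK hk) (inv_mem hcK)
  · refine h.idx _ (mul_mem hc (h.le hk)) _ (inv_mem hc) ?_ ?_
    · intro h1
      exact hcK ((mul_mem_cancel_right hk).mp h1)
    · rwa [inv_mem_iff]

/-- `x` fixes only one point -/
theorem fix (h : Setup H₀ K x) [Finite H] {g : H} (hg : g * x * g⁻¹ ∈ H₀) : g ∈ H₀ := by
  obtain ⟨x', hx'⟩ : ∃ x', x' = g * x * g⁻¹ := ⟨_, rfl⟩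
  have hxK' : x' ∉ K := hx' ▸ h.nx g
  rw [← hx'] at hg
  have hxx' : x' * x' = 1 := by
    rw [hx']
    calc g * x * g⁻¹ * (g * x * g⁻¹) = g * (x * x) * g⁻¹ := by group
      _ = 1 := by rw [h.xx]; group
  have hk : x * x' ∈ K := h.idx _ h.xH _ hg h.xK hxK'
  by_cases hodd : Odd (orderOf (x * x'))
  · obtain ⟨m, -, h1, -⟩ := SporRec.ClosingZStar.odd_case h.xx hxx' hodd
    have hc : (x * x') ^ m ∈ K := pow_mem hk m
    obtain ⟨c, hc'⟩ : ∃ c, c = (x * x') ^ m := ⟨_, rfl⟩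
    rw [← hc'] at h1 hc
    have h2 : c⁻¹ * g ∈ H₀ := by
      apply h.cx
      rw [hx'] at h1
      calc c⁻¹ * g * x = c⁻¹ * (g * x * g⁻¹) * g := by group
        _ = c⁻¹ * (c * x * c⁻¹) * g := by rw [h1]
        _ = x * (c⁻¹ * g) := by group
    have h3 := mul_mem (h.le hc) h2
    rwa [mul_inv_cancel_left] at h3
  · obtain ⟨m, h1, h2, h3, -⟩ := SporRec.ClosingZStar.even_case h.xx hxx' hodd
    obtain ⟨e, he⟩ : ∃ e, e = (x * x') ^ m := ⟨_, rfl⟩
    have heK : e ∈ K := he ▸ pow_mem hk m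
    rw [← he] at h1 h2 h3
    have hex' : e * x' = x' * e := by
      have h4 : e * (x * x') = x * x' * e := by
        rw [he, ← pow_succ, ← pow_succ']
      calc e * x' = e * (x * x * x') := by rw [h.xx, one_mul]
        _ = (e * x) * (x * x') := by group
        _ = x * (e * (x * x')) := by rw [← h3]; group
        _ = x * x * x' * e := by rw [h4]; group
        _ = x' * e := by rw [h.xx, one_mul]
    have hIe : Inv K x e := ⟨heK, h2, h1, h3.symm⟩
    obtain ⟨e', he'⟩ : ∃ e', e' = g⁻¹ * e * g := ⟨_, rfl⟩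
    have he'g : g * e' * g⁻¹ = e := by rw [he']; group
    have he'x : e' * x = x * e' := by
      have h5 : e * (g * x * g⁻¹) = g * x * g⁻¹ * e := by rw [← hx']; exact hex'
      calc e' * x = g⁻¹ * (e * (g * x * g⁻¹)) * g := by rw [he']; group
        _ = g⁻¹ * (g * x * g⁻¹ * e) * g := by rw [h5]
        _ = x * e' := by rw [he']; group
    have he'2 : e' * e' = 1 := by
      rw [he']
      calc g⁻¹ * e * g * (g⁻¹ * e * g) = g⁻¹ * (e * e) * g := by group
        _ = 1 := by rw [h2]; group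
    have he'1 : e' ≠ 1 := by
      intro h5
      apply h1
      rw [← he'g, h5]; group
    have he'H : e' ∈ H₀ := h.cx _ he'x
    by_cases he'K : e' ∈ K
    · refine h.F e e' g hIe ⟨he'K, he'2, he'1, he'x⟩ ?_ ?_
      · rw [he'g]; exact heK
      · rw [he'g]
    · have hwK : x * e' ∈ K := h.idx _ h.xH _ he'H h.xK he'K
      by_cases hw1 : x * e' = 1
      · have h6 : e' = x := by
          have := mul_eq_one_iff_inv_eq.mp hw1
          rw [← this]
          exact inv_eq_of_mul_eq_one_left h.xx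
        exfalso
        apply h.nx g
        rw [← h6, he'g]; exact heK
      · exfalso
        refine h.nxt (x * e') ⟨hwK, ?_, hw1, ?_⟩ g ?_
        · calc x * e' * (x * e') = x * (e' * x) * e' := by group
            _ = (x * x) * (e' * e') := by rw [he'x]; group
            _ = 1 := by rw [h.xx, he'2, one_mul]
        · calc x * e' * x = x * (e' * x) := by group
            _ = x * (x * e') := by rw [he'x]
        · have : x * (x * e') = e' := by rw [← mul_assoc, h.xx, one_mul]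
          rw [this, he'g]; exact heK

/-- the sign -/
theorem exists_sign (h : Setup H₀ K x) [Finite H] : ∃ f : H →* ℤˣ, f x = -1 := by
  have hpar : IsParity (G := H) (Ω := H ⧸ H₀) (fun ω g => (ω.out)⁻¹ * g * ω.out ∈ K) := by
    have hmem : ∀ (ω : H ⧸ H₀) (g : H), g • ω = ω → (ω.out)⁻¹ * g * ω.out ∈ H₀ := by
      intro ω g hg
      have h1 : (QuotientGroup.mk (g * ω.out) : H ⧸ H₀) = QuotientGroup.mk ω.out := by
        have h2 : (QuotientGroup.mk (g * ω.out) : H ⧸ H₀) = g • (QuotientGroup.mk ω.out : H ⧸ H₀) := rfl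
        rw [h2, QuotientGroup.out_eq', hg]
      have h3 := QuotientGroup.eq.mp h1.symm
      rwa [← mul_assoc] at h3
    constructor
    · intro ω g k hg hk
      have h1 := hmem ω g hg
      have h2 := hmem ω k hk
      have h3 : (ω.out)⁻¹ * (g * k) * ω.out = ((ω.out)⁻¹ * g * ω.out) * ((ω.out)⁻¹ * k * ω.out) := by
        group
      change (ω.out)⁻¹ * (g * k) * ω.out ∈ K ↔ ((ω.out)⁻¹ * g * ω.out ∈ K ↔ (ω.out)⁻¹ * k * ω.out ∈ K)
      rw [h3]
      by_cases hgK : (ω.out)⁻¹ * g * ω.out ∈ K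
      · rw [mul_mem_cancel_left hgK]
        exact ⟨fun h => ⟨fun _ => h, fun _ => hgK⟩, fun h => h.mp hgK⟩
      · by_cases hkK : (ω.out)⁻¹ * k * ω.out ∈ K
        · rw [mul_mem_cancel_right hkK]
          exact ⟨fun h => absurd h hgK, fun h => h.mpr hkK⟩
        · exact ⟨fun _ => ⟨fun h => absurd h hgK, fun h => absurd h hkK⟩,
            fun _ => h.idx _ h1 _ h2 hgK hkK⟩
    · intro ω g k hk
      have h1 : (QuotientGroup.mk (g * ω.out) : H ⧸ H₀) = QuotientGroup.mk (g • ω).out := by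
        rw [QuotientGroup.out_eq']
        have h2 : (QuotientGroup.mk (g * ω.out) : H ⧸ H₀) = g • (QuotientGroup.mk ω.out : H ⧸ H₀) := rfl
        rw [h2, QuotientGroup.out_eq']
      have h3 : (g * ω.out)⁻¹ * (g • ω).out ∈ H₀ := QuotientGroup.eq.mp h1
      obtain ⟨c, hc⟩ : ∃ c, c = (g * ω.out)⁻¹ * (g • ω).out := ⟨_, rfl⟩
      rw [← hc] at h3
      have h4 : (g • ω).out = g * ω.out * c := by rw [hc]; group
      change (g • ω).out⁻¹ * (g * k * g⁻¹) * (g • ω).out ∈ K ↔ (ω.out)⁻¹ * k * ω.out ∈ K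
      rw [h4]
      have h5 : (g * ω.out * c)⁻¹ * (g * k * g⁻¹) * (g * ω.out * c) =
          c⁻¹ * ((ω.out)⁻¹ * k * ω.out) * c⁻¹⁻¹ := by group
      rw [h5]
      constructor
      · intro h6
        have h7 := h.conj_mem h3 h6
        convert h7 using 1
        group
      · intro h6
        exact h.conj_mem (inv_mem h3) h6
  have hfin : Finite (H ⧸ H₀) := inferInstance
  obtain ⟨f, hf⟩ := exists_hom hpar
  refine ⟨f, ?_⟩
  rw [hf x h.xx]
  have hcard : Nat.card {ω : H ⧸ H₀ // x • ω = ω ∧ ¬ (ω.out)⁻¹ * x * ω.out ∈ K} = 1 := by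
    rw [Nat.card_eq_one_iff_unique]
    have key : ∀ ω : H ⧸ H₀, x • ω = ω → ω = QuotientGroup.mk 1 := by
      intro ω hω
      have h1 : (QuotientGroup.mk (x * ω.out) : H ⧸ H₀) = QuotientGroup.mk ω.out := by
        have h2 : (QuotientGroup.mk (x * ω.out) : H ⧸ H₀) = x • (QuotientGroup.mk ω.out : H ⧸ H₀) := rfl
        rw [h2, QuotientGroup.out_eq', hω]
      have h3 := QuotientGroup.eq.mp h1.symm
      have h4 : (ω.out)⁻¹ * x * (ω.out)⁻¹⁻¹ ∈ H₀ := by
        rw [inv_inv, mul_assoc]; exact h3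
      have h5 := h.fix h4
      rw [← QuotientGroup.out_eq' ω]
      exact QuotientGroup.eq.mpr (by rw [mul_one]; exact h5)
    refine ⟨⟨fun a b => Subtype.ext ((key a.1 a.2.1).trans (key b.1 b.2.1).symm)⟩,
      ⟨⟨QuotientGroup.mk 1, ?_, ?_⟩⟩⟩
    · have h2 : x • (QuotientGroup.mk 1 : H ⧸ H₀) = QuotientGroup.mk (x * 1) := rfl
      rw [h2, mul_one]
      exact (QuotientGroup.eq.mpr (by rw [inv_one, one_mul]; exact h.xH)).symm
    · have h6 := h.nx ((QuotientGroup.mk 1 : H ⧸ H₀).out)⁻¹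
      rwa [inv_inv] at h6
  rw [hcard, pow_one]

/-- **(4)** involutions of sign `1` lie in `H₀` -/
theorem mem_of_sign (h : Setup H₀ K x) [Finite H] {f : H →* ℤˣ} (hf : f x = -1) {d : H}
    (hd : d * d = 1) (hfd : f d = 1) : d ∈ H₀ := by
  by_cases hodd : Odd (orderOf (x * d))
  · exfalso
    obtain ⟨m, -, h1, -⟩ := SporRec.ClosingZStar.odd_case h.xx hd hodd
    have h2 := congrArg f h1
    rw [map_mul, map_mul, map_inv, mul_comm (f _) (f x), mul_inv_cancel_right, hf, hfd] at h2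
    exact absurd h2 (by decide)
  · obtain ⟨m, h1, h2, h3, -⟩ := SporRec.ClosingZStar.even_case h.xx hd hodd
    obtain ⟨e, he⟩ : ∃ e, e = (x * d) ^ m := ⟨_, rfl⟩
    rw [← he] at h1 h2 h3
    have hed : e * d = d * e := by
      have h4 : e * (x * d) = x * d * e := by
        rw [he, ← pow_succ, ← pow_succ']
      calc e * d = e * (x * x * d) := by rw [h.xx, one_mul]
        _ = (e * x) * (x * d) := by group
        _ = x * (e * (x * d)) := by rw [← h3]; group
        _ = x * x * d * e := by rw [h4]; group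
        _ = d * e := by rw [h.xx, one_mul]
    have heH : e ∈ H₀ := h.cx e h3.symm
    by_cases heK : e ∈ K
    · have hIe : Inv K x e := ⟨heK, h2, h1, h3.symm⟩
      have h5 : d * e * d⁻¹ = e := by rw [← hed]; group
      exact h.F e e d hIe hIe (by rw [h5]; exact heK) (by rw [h5])
    · have hwK : x * e ∈ K := h.idx _ h.xH _ heH h.xK heK
      have hxe : x * (x * e) = e := by rw [← mul_assoc, h.xx, one_mul]
      by_cases hw1 : x * e = 1
      · have h6 : e = x := by rw [← hxe, hw1, mul_one]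
        exact h.cx d (by rw [← h6]; exact hed.symm)
      · refine h.cxt (x * e) ⟨hwK, ?_, hw1, ?_⟩ d ?_
        · calc x * e * (x * e) = x * (e * x) * e := by group
            _ = (x * x) * (e * e) := by rw [← h3]; group
            _ = 1 := by rw [h.xx, h2, one_mul]
        · calc x * e * x = x * (e * x) := by group
            _ = x * (x * e) := by rw [h3]
        · rw [hxe]; exact hed.symm

theorem Inv_mul {x r₁ r₂ : H} (h₁ : Inv K x r₁) (h₂ : Inv K x r₂) (hne : r₁ ≠ r₂)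
    (hc : r₁ * r₂ = r₂ * r₁) : Inv K x (r₁ * r₂) := by
  refine ⟨mul_mem h₁.mem h₂.mem, ?_, ?_, ?_⟩
  · calc r₁ * r₂ * (r₁ * r₂) = r₁ * (r₂ * r₁) * r₂ := by group
      _ = (r₁ * r₁) * (r₂ * r₂) := by rw [← hc]; group
      _ = 1 := by rw [h₁.sq, h₂.sq, one_mul]
  · intro h
    apply hne
    rw [mul_eq_one_iff_eq_inv.mp h]
    exact inv_eq_of_mul_eq_one_left h₂.sq
  · calc r₁ * r₂ * x = r₁ * (r₂ * x) := by group
      _ = r₁ * x * r₂ := by rw [h₂.comm]; group
      _ = x * (r₁ * r₂) := by rw [h₁.comm]; group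

/-- **Theorem H**, second half. -/
theorem eq_top (h : Setup H₀ K x) [Finite H] : ∀ g : H, g ∈ H₀ := by
  obtain ⟨f, hf⟩ := h.exists_sign
  obtain ⟨r₁, r₂, hr₁, hr₂, hne, hrr⟩ := h.four
  have hr₃ := Inv_mul hr₁ hr₂ hne hrr
  -- the normal subgroup generated by the involutions of sign 1
  obtain ⟨W, hW⟩ : ∃ W : Subgroup H, W = closure {d : H | d * d = 1 ∧ f d = 1} := ⟨_, rfl⟩
  have hWH : W ≤ H₀ := by
    rw [hW, closure_le]
    rintro d ⟨hd, hfd⟩
    exact h.mem_of_sign hf hd hfd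
  have hmemW : ∀ d : H, d * d = 1 → f d = 1 → d ∈ W := by
    intro d h1 h2
    rw [hW]
    exact subset_closure ⟨h1, h2⟩
  have hWn : ∀ g : H, ∀ d ∈ W, g * d * g⁻¹ ∈ W := by
    intro g d hd
    rw [hW] at hd
    induction hd using closure_induction with
    | mem a ha =>
      refine hmemW _ ?_ ?_
      · calc g * a * g⁻¹ * (g * a * g⁻¹) = g * (a * a) * g⁻¹ := by group
          _ = 1 := by rw [ha.1]; group
      · rw [map_mul, map_mul, map_inv, mul_comm (f g) (f a), mul_inv_cancel_right]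
        exact ha.2
    | one => rw [mul_one, mul_inv_cancel]; exact one_mem _
    | mul a b _ _ iha ihb =>
      have : g * (a * b) * g⁻¹ = (g * a * g⁻¹) * (g * b * g⁻¹) := by group
      rw [this]; exact mul_mem iha ihb
    | inv a _ iha =>
      have : g * a⁻¹ * g⁻¹ = (g * a * g⁻¹)⁻¹ := by group
      rw [this]; exact inv_mem iha
  have hnorm : ∀ (A : Subgroup H) (B : Subgroup H), (∀ g ∈ A, ∀ d ∈ B, g * d * g⁻¹ ∈ B) →
      A ≤ normalizer (B : Set H) := by
    intro A B hAB g hg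
    rw [mem_normalizer_iff]
    intro d
    refine ⟨hAB g hg d, fun h1 => ?_⟩
    have h2 := hAB g⁻¹ (inv_mem hg) _ h1
    have h3 : g⁻¹ * (g * d * g⁻¹) * g⁻¹⁻¹ = d := by group
    rwa [h3] at h2
  have hWN : ⊤ ≤ normalizer (W : Set H) := hnorm ⊤ W fun g _ d hd => hWn g d hd
  -- a Sylow 2-subgroup of `H₀`
  obtain ⟨E, hE⟩ : ∃ E : Subgroup H, E = closure {x, r₁, r₂} := ⟨_, rfl⟩
  have hEsq : ∀ g ∈ E, g * g = 1 := by
    rw [hE]
    apply sq_of_closure
    · rintro a (rfl | rfl | rfl)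
      exacts [h.xx, hr₁.sq, hr₂.sq]
    · rintro a (rfl | rfl | rfl) b (rfl | rfl | rfl)
      exacts [rfl, hr₁.comm.symm, hr₂.comm.symm, hr₁.comm, rfl, hrr, hr₂.comm, hrr.symm, rfl]
  have hE2 : IsPGroup 2 ↥E := by
    intro g
    refine ⟨1, Subtype.ext ?_⟩
    rw [pow_one, pow_two]
    exact hEsq g.1 g.2
  have hxE : x ∈ E := hE ▸ subset_closure (by simp)
  have hr₁E : r₁ ∈ E := hE ▸ subset_closure (by simp)
  have hr₂E : r₂ ∈ E := hE ▸ subset_closure (by simp)
  have hEH : E ≤ H₀ := by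
    rw [hE, closure_le]
    rintro a (rfl | rfl | rfl)
    exacts [h.xH, h.le hr₁.mem, h.le hr₂.mem]
  obtain ⟨S, hS, hES⟩ := exists_isSyl hE2 hEH
  have hP := hS.inf hWH (le_top.trans hWN)
  obtain ⟨P, hPdef⟩ : ∃ P, P = S ⊓ W := ⟨_, rfl⟩
  rw [← hPdef] at hP
  have hmemP : ∀ d ∈ S, d * d = 1 → f d = 1 → d ∈ P := by
    intro d h1 h2 h3
    rw [hPdef]
    exact ⟨h1, hmemW d h2 h3⟩
  have hPS : P ≤ S := hPdef ▸ inf_le_left
  -- Frattini argument
  suffices hN : ∀ n : H, n ∈ normalizer (P : Set H) → n ∈ H₀ by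
    intro g
    obtain ⟨w, hw, h1⟩ := hP.conj (isPGroup_cj (g := g) hP.two) (by
      intro d hd
      rw [mem_cj] at hd
      have h2 := hWn g _ (hP.le hd)
      have h3 : g * (g⁻¹ * d * g) * g⁻¹ = d := by group
      rwa [h3] at h2)
    have h2 : cj g P = cj w P :=
      Subgroup.eq_of_le_of_card_ge h1 (by rw [card_cj, card_cj])
    have h3 : w⁻¹ * g ∈ normalizer (P : Set H) := by
      rw [mem_normalizer_iff_cj, cj_mul, h2, ← cj_mul, inv_mul_cancel, cj_one]
    have h4 := mul_mem (hWH hw) (hN _ h3)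
    rwa [mul_inv_cancel_left] at h4
  intro n hn
  -- a central involution
  have hsome : ∃ r, Inv K x r ∧ r ∈ E ∧ f r = 1 := by
    rcases Int.units_eq_one_or (f r₁) with h1 | h1
    · exact ⟨r₁, hr₁, hr₁E, h1⟩
    rcases Int.units_eq_one_or (f r₂) with h2 | h2
    · exact ⟨r₂, hr₂, hr₂E, h2⟩
    · exact ⟨r₁ * r₂, hr₃, mul_mem hr₁E hr₂E, by rw [map_mul, h1, h2]; decide⟩
  have hPK : S ≤ normalizer ((P ⊓ K : Subgroup H) : Set H) := by
    apply hnorm
    intro g hg d hd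
    refine ⟨?_, h.conj_mem (hS.le hg) hd.2⟩
    have h1 := hd.1
    rw [hPdef] at h1 ⊢
    exact mem_inf.mpr ⟨S.mul_mem (S.mul_mem hg (mem_inf.mp h1).1) (S.inv_mem hg), hWn g d (mem_inf.mp h1).2⟩
  obtain ⟨z, hz, hz2, hzS⟩ := exists_central hS.two (inf_le_left.trans hPS) hPK (by
    obtain ⟨r, h1, h2, h3⟩ := hsome
    intro hbot
    apply h1.ne
    have h4 : r ∈ P ⊓ K := ⟨hmemP r (hES h2) h1.sq h3, h1.mem⟩
    rw [hbot] at h4
    exact mem_bot.mp h4)
  have hIz : Inv K x z := ⟨hz.2, sq_of_order hz2, ne_one_of_order hz2, (hzS x (hES hxE)).symm⟩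
  obtain ⟨u, hu⟩ : ∃ u, u = n * z * n⁻¹ := ⟨_, rfl⟩
  have huP : u ∈ P := by
    rw [hu]
    exact (mem_normalizer_iff.mp hn z).mp hz.1
  have huc : ∀ d ∈ P, u * d = d * u := by
    intro d hd
    have h1 : n⁻¹ * d * n ∈ P := by
      have h2 := (mem_normalizer_iff.mp ((normalizer (P : Set H) : Subgroup H).inv_mem hn) d).mp hd
      rwa [inv_inv] at h2
    have h3 := hzS _ (hPS h1)
    rw [hu]
    calc n * z * n⁻¹ * d = n * (z * (n⁻¹ * d * n)) * n⁻¹ := by group
      _ = n * ((n⁻¹ * d * n) * z) * n⁻¹ := by rw [h3]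
      _ = _ := by group
  have hu2 : u * u = 1 := by
    rw [hu]
    calc n * z * n⁻¹ * (n * z * n⁻¹) = n * (z * z) * n⁻¹ := by group
      _ = 1 := by rw [hIz.sq]; group
  by_cases huK : u ∈ K
  · exact h.F z z n hIz hIz (hu ▸ huK) (by rw [← hu]; exact hzS u (hPS huP))
  -- `u ∉ K`
  have hplus : ∀ r, Inv K x r → r ∈ E → f r = 1 := by
    intro r hr hrE
    rcases Int.units_eq_one_or (f r) with h1 | h1
    · exact h1
    exfalso
    have h2 : x * r * (x * r) = 1 := by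
      calc x * r * (x * r) = x * (r * x) * r := by group
        _ = (x * x) * (r * r) := by rw [hr.comm]; group
        _ = 1 := by rw [h.xx, hr.sq, one_mul]
    have h3 : x * r ∈ P := hmemP _ (hES (mul_mem hxE hrE)) h2 (by rw [map_mul, hf, h1]; decide)
    have h4 := huc _ h3
    have h5 : x * r ∉ K := fun h6 => h.xK ((mul_mem_cancel_right hr.mem).mp h6)
    have h6 : x * r * u ∈ K := h.idx _ (hEH (mul_mem hxE hrE)) _ (hWH (hP.le huP)) h5 huK
    have h7 : x * r * (x * r * u) = u := by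
      rw [← mul_assoc, h2, one_mul]
    have h8 : n⁻¹ * u * n⁻¹⁻¹ = z := by rw [hu]; group
    by_cases h9 : x * r * u = 1
    · apply h.nxt r hr n⁻¹
      have h10 : x * r = u := by
        rw [← h7, h9, mul_one]
      rw [h10, h8]
      exact hz.2
    · refine h.nxtw r (x * r * u) hr ⟨h6, ?_, h9, ?_⟩ n⁻¹ ?_
      · calc x * r * u * (x * r * u) = x * r * (u * (x * r)) * u := by group
          _ = (x * r * (x * r)) * (u * u) := by rw [h4]; group
          _ = 1 := by rw [h2, hu2, one_mul]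
      · calc x * r * u * (x * r) = x * r * (u * (x * r)) := by group
          _ = x * r * (x * r * u) := by rw [h4]
      · rw [h7, h8]
        exact hz.2
  -- the four-group lies in `P`
  have hconj : ∀ r, Inv K x r → r ∈ E → n⁻¹ * r * n ∈ H₀ ∧ (n⁻¹ * r * n) * z = z * (n⁻¹ * r * n) := by
    intro r hr hrE
    have h1 : r ∈ P := hmemP r (hES hrE) hr.sq (hplus r hr hrE)
    have h2 := huc r h1
    have h3 : (n⁻¹ * r * n) * z = z * (n⁻¹ * r * n) := by
      rw [hu] at h2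
      calc (n⁻¹ * r * n) * z = n⁻¹ * (r * (n * z * n⁻¹)) * n := by group
        _ = n⁻¹ * (n * z * n⁻¹ * r) * n := by rw [h2]
        _ = _ := by group
    refine ⟨?_, h3⟩
    have h4 : (n⁻¹ * r * n) * z * (n⁻¹ * r * n)⁻¹ = z := by rw [h3]; group
    exact h.F z z _ hIz hIz (by rw [h4]; exact hz.2) (by rw [h4])
  have hend : ∀ r, Inv K x r → r ∈ E → n⁻¹ * r * n ∈ K → n ∈ H₀ := by
    intro r hr hrE h1
    have h2 := h.F z r n⁻¹ hIz hr (by rw [inv_inv]; exact h1) (by
      rw [inv_inv]; exact (hconj r hr hrE).2)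
    exact (inv_mem_iff).mp h2
  by_cases h1 : n⁻¹ * r₁ * n ∈ K
  · exact hend r₁ hr₁ hr₁E h1
  by_cases h2 : n⁻¹ * r₂ * n ∈ K
  · exact hend r₂ hr₂ hr₂E h2
  refine hend (r₁ * r₂) hr₃ (mul_mem hr₁E hr₂E) ?_
  have h3 := h.idx _ (hconj r₁ hr₁ hr₁E).1 _ (hconj r₂ hr₂ hr₂E).1 h1 h2
  have h4 : n⁻¹ * (r₁ * r₂) * n = n⁻¹ * r₁ * n * (n⁻¹ * r₂ * n) := by group
  rw [h4]; exact h3

end Setup

end Cfsg.Agent.UGT.Res.OnePoint
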