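import Cfsg.Agent.UGT.Res.BBS

/-!
# Tools for systems of bad pairs

* `comm_of_perfect`: perfect subgroups of `C(x) ∩ N(L)` centralize `L`.
* `BBS.xs`: `x s` is bad with component `L`, `s` an involution of `C_L(x)`.
* `gen2`: the elements of odd order of `C_L(x)` and `C_L(x s)` generate `L`.
* `BBS.cases`: an involution commuting with `x` acts on `L` as `1`, `s` or is bad with component `L`.
* `BBS.CB`: commuting bad involutions have the same component.
-/

set_option autoImplicit false

open Cfsg Subgroup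
open Cfsg.Agent.SignalizersComponents Cfsg.Agent.Lib
open Cfsg.Agent.SignalizersComponents.IntrinsicBasic
open Cfsg.Agent.Intrinsic.Basic
open Cfsg.Agent.OddHalf.D6
open Cfsg.Agent.UGT.Triple
open Cfsg.Agent.UGT.Res.EFacts Cfsg.Agent.UGT.Res.BBS
open Cfsg.Agent.UGT.ThE.Base (IsT IsS)
open scoped commutatorElement

namespace Cfsg.Agent.UGT.Res.BBTools

universe u

variable {G : Type u} [Group G] {L : Subgroup G} {x : G}

section rep

variable {F : Type*} [Field F] [Finite F] {R : Cfsg.Agent.GH.L2Aut.Rep F L}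

/-- perfect subgroups of `C(x) ∩ N(L)` centralize `L` -/
theorem comm_of_perfect (C : Cf R x) {M : Subgroup G} (hM : ⁅M, M⁆ = M)
    (hx : ∀ m ∈ M, m * x = x * m) (hN : M ≤ normalizer (L : Set G)) :
    M ≤ centralizer (L : Set G) := by
  obtain ⟨P, hP⟩ : ∃ P, P = (M.subgroupOf (normalizer (L : Set G))).map L.normalizerMonoidHom :=
    ⟨_, rfl⟩
  have hmem : ∀ δ, δ ∈ P ↔ ∃ (m : G) (hm : m ∈ M), act L m (hN hm) = δ := by
    intro δ
    rw [hP]
    constructor
    · rintro ⟨⟨d, hd⟩, hdN, rfl⟩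
      exact ⟨d, hdN, rfl⟩
    · rintro ⟨d, hd, rfl⟩
      exact ⟨⟨d, hN hd⟩, hd, rfl⟩
  have hPP : ⁅P, P⁆ = P := by
    rw [hP, ← map_commutator]
    congr 1
    have h1 : ⁅M.subgroupOf (normalizer (L : Set G)), M.subgroupOf (normalizer (L : Set G))⁆.map
        (normalizer (L : Set G)).subtype =
        (M.subgroupOf (normalizer (L : Set G))).map (normalizer (L : Set G)).subtype := by
      rw [map_commutator, subgroupOf_map_subtype, inf_of_le_left hN, hM]
    exact map_injective (normalizer (L : Set G)).subtype_injective h1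
  have hfld : ∀ δ ∈ P, R.fld δ = 1 := by
    intro δ hδ
    rw [← hPP] at hδ
    have h1 : ⁅P, P⁆ ≤ R.fld.ker := by
      rw [commutator_le]
      intro a _ b _
      rw [MonoidHom.mem_ker, map_commutatorElement, commutatorElement_eq_one_iff_mul_comm]
      exact ringAut_comm _ _
    exact h1 hδ
  have ho1 : ∀ δ ∈ P, R.o1 δ = 1 := by
    intro δ hδ
    rw [← hPP] at hδ
    have h1 : ⁅P, P⁆ ≤ R.o1.ker := by
      rw [commutator_le]
      intro a _ b _
      rw [MonoidHom.mem_ker, map_commutatorElement, commutatorElement_eq_one_iff_mul_comm]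
      exact mul_comm _ _
    exact h1 hδ
  obtain ⟨M', hM'⟩ : ∃ M' : Subgroup L, M' = P.comap (MulAut.conj : L →* MulAut L) := ⟨_, rfl⟩
  have hmap : M'.map (MulAut.conj : L →* MulAut L) = P := by
    rw [hM', map_comap_eq, inf_eq_right]
    intro δ hδ
    exact R.mem_inn_iff.2 ⟨hfld δ hδ, ho1 δ hδ⟩
  have hp : M' ≤ ⁅M', M'⁆ := by
    have h1 : M'.map (MulAut.conj : L →* MulAut L) ≤ ⁅M', M'⁆.map (MulAut.conj : L →* MulAut L) := by
      rw [map_commutator, hmap, hPP]
    exact (map_le_map_iff_of_injective R.conj_injective).mp h1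
  have hbot : M' = ⊥ := by
    refine PglType.no_perfect R C.sq (C.o1 C.xN) (fun m hm => ?_) hp
    have h1 : MulAut.conj m ∈ P := by
      rw [hM', mem_comap] at hm
      exact hm
    obtain ⟨n, hn, h2⟩ := (hmem _).mp h1
    have h3 := EFacts.act_comm' (hN hn) C.xN (hx n hn)
    rw [h2] at h3
    exact R.conj_injective (Cfsg.Agent.GH.L2Aut.Rep.conj_comm_iff.mp h3)
  intro m hm
  have h1 : act L m (hN hm) ∈ P := (hmem _).mpr ⟨m, hm, rfl⟩
  rw [← hmap, hbot, Subgroup.map_bot, mem_bot] at h1
  exact (act_one_iff' _).mp h1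

include R in
theorem perfect_of_rep (h5 : 4 < Nat.card F) : ⁅L, L⁆ = L := by
  have hle : ⁅L, L⁆ ≤ L := by
    rw [commutator_le]
    intro a ha b hb
    exact mul_mem (mul_mem (mul_mem ha hb) (inv_mem ha)) (inv_mem hb)
  rcases EFacts.simp R (by omega) ⁅L, L⁆ hle (by
    intro l hl n hn
    have h1 : l * n * l⁻¹ = (l * n * l⁻¹ * n⁻¹) * n := by group
    rw [h1]
    exact mul_mem (commutator_mem_commutator hl (hle hn)) hn) with h | h
  · exfalso
    refine EFacts.not_comm R fun a b => Subtype.ext ?_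
    have h1 : ⁅(a : G), (b : G)⁆ ∈ ⁅L, L⁆ := commutator_mem_commutator a.2 b.2
    rw [h, mem_bot, commutatorElement_eq_one_iff_mul_comm] at h1
    exact h1
  · exact h

/-- **T5**: the elements of odd order of `C_L(x)` and `C_L(x s)` generate `L` -/
theorem gen2 (C : Cf R x) (h5 : 4 < Nat.card F) {s : G} (hs : IsS L x s) {N : Subgroup G}
    (h1 : ∀ y ∈ L, y * x = x * y → Odd (orderOf y) → y ∈ N)
    (h2 : ∀ y ∈ L, y * (x * s) = x * s * y → Odd (orderOf y) → y ∈ N) : L ≤ N := by
  have hs' := (act_fix C.xN hs.mem).mpr hs.comm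
  have hss : (⟨s, hs.mem⟩ : L) * ⟨s, hs.mem⟩ = 1 := Subtype.ext hs.sq
  have hs1 : (⟨s, hs.mem⟩ : L) ≠ 1 := fun h => hs.ne (congrArg Subtype.val h)
  have h3 := Gen.gen R h5 C.sq (C.o1 C.xN) hs' hss hs1 (N.subgroupOf L) (by
      rintro ⟨t, ht⟩ h3 h4
      rw [Subgroup.orderOf_mk] at h4
      exact h1 t ht ((act_fix C.xN ht).mp h3) h4) (by
      rintro ⟨t, ht⟩ h3 h4
      rw [Subgroup.orderOf_mk] at h4
      have h5 : x * t * x⁻¹ = s⁻¹ * t * s := congrArg Subtype.val h3
      refine h2 t ht ?_ h4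
      have c1 : s * x = x * s := hs.comm
      have h6 : s * (x * t * x⁻¹) * s⁻¹ = t := by rw [h5]; group
      calc t * (x * s) = s * (x * t * x⁻¹) * s⁻¹ * (x * s) := by rw [h6]
        _ = s * (x * t * x⁻¹) * s⁻¹ * (s * x) := by rw [c1]
        _ = s * x * t := by group
        _ = x * s * t := by rw [c1])
  exact subgroupOf_eq_top.mp h3

end rep

variable [Finite G] {BB : G → Subgroup G → Prop} (S : BBS BB)

include S

theorem BBS.xN (h : BB x L) : x ∈ normalizer (L : Set G) := S.hx h rfl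

/-- `x s` is bad with component `L` -/
theorem BBS.xs (h : BB x L) {s : G} (hs : IsS L x s) : BB (x * s) L := by
  obtain ⟨F, _, _, h5, ⟨R⟩⟩ := S.rep h
  obtain ⟨l, hl, h1⟩ := FldCens.conjS (S.cf h R) s hs
  have h2 := S.conj l⁻¹ h
  rw [mem_normalizer_iff_cj.mp (le_normalizer (inv_mem hl))] at h2
  have h3 : l⁻¹ * x * l⁻¹⁻¹ = x * s := by
    have h4 : x * s = l⁻¹ * (l * (x * s) * l⁻¹) * l := by group
    rw [h4, h1]; group
  rwa [h3] at h2

/-- an involution commuting with `x` acts on `L` as `1` or `s` or is bad with component `L` -/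
theorem BBS.cases (h : BB x L) {e : G} (he : e * x = x * e) (hee : e * e = 1) :
    e ∈ centralizer (L : Set G) ∨ BB e L ∨ ∃ s, IsS L x s ∧ e * s = s * e ∧
      e * s ∈ centralizer (L : Set G) := by
  obtain ⟨F, _, _, h5, ⟨R⟩⟩ := S.rep h
  have C := S.cf h R
  have heN := S.hx h he
  have hx2 : x * x = 1 := sq_of_order (S.ox h)
  have hcomm : ∀ {s k : G}, s ∈ L → k ∈ centralizer (L : Set G) → Commute s k := fun hs hk =>
    mem_centralizer_iff.mp hk _ hs
  rcases C.cenx e heN hee (by
    rw [he, mul_inv_cancel_right, mul_inv_cancel]; exact one_mem _) with h1 | h1 | ⟨s, hs, h1 | h1⟩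
  · exact Or.inl h1
  · right; left
    have hk : e = x * (e * x) := by
      rw [he, ← mul_assoc, hx2, one_mul]
    by_cases hk1 : e * x = 1
    · have : e = x := by rw [hk, hk1, mul_one]
      rw [this]; exact h
    · rw [hk]
      refine S.mul h ⟨h1, ?_, ?_, hk1⟩
      · rw [mul_assoc, hx2, mul_one, ← mul_assoc, ← he, mul_assoc, hx2, mul_one]
      · calc e * x * (e * x) = e * (x * e) * x := by group
          _ = (e * e) * (x * x) := by rw [← he]; group
          _ = 1 := by rw [hee, hx2, one_mul]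
  · right; right
    refine ⟨s, hs, ?_, h1⟩
    have h2 : s * (e * s) = e * s * s := (hcomm hs.mem h1).eq
    have h3 : s * e * s = e * s * s := by rw [mul_assoc, h2]
    exact (mul_right_cancel h3).symm
  · right; left
    have h2 : s * (e * x * s) = e * x * s * s := (hcomm hs.mem h1).eq
    have h3 : s * (e * x) = e * x * s := by
      have : s * (e * x) * s = e * x * s * s := by rw [mul_assoc, h2]
      exact mul_right_cancel this
    have h4 : Commute s e := by
      have c1 : Commute s (e * x) := h3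
      have c2 : Commute s x := hs.comm
      have c3 := c1.mul_right c2
      have e1 : e * x * x = e := by rw [mul_assoc, hx2, mul_one]
      rwa [e1] at c3
    have cex : Commute e x := he
    have csx : Commute s x := hs.comm
    have hk : e = x * s * (e * x * s) := by
      have e1 : x * s * (e * x * s) = e * (x * s * (x * s)) := by
        calc x * s * (e * x * s) = x * (s * e) * (x * s) := by group
          _ = x * (e * s) * (x * s) := by rw [h4.eq]
          _ = (x * e) * (s * (x * s)) := by group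
          _ = e * (x * s * (x * s)) := by rw [← he]; group
      have e2 : x * s * (x * s) = 1 := by
        calc x * s * (x * s) = x * (s * x) * s := by group
          _ = (x * x) * (s * s) := by rw [csx.eq]; group
          _ = 1 := by rw [hx2, hs.sq, one_mul]
      rw [e1, e2, mul_one]
    have hxs := BBS.xs S h hs
    by_cases hk1 : e * x * s = 1
    · have : e = x * s := by rw [hk, hk1, mul_one]
      rw [this]; exact hxs
    · rw [hk]
      refine S.mul hxs ⟨h1, ?_, ?_, hk1⟩
      · have c1 : Commute (e * x * s) (x * s) :=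
          ((cex.mul_left (Commute.refl x)).mul_left csx).mul_right
            ((h4.symm.mul_left csx.symm).mul_left (Commute.refl s))
        exact c1.eq
      · calc e * x * s * (e * x * s) = e * x * (s * (e * x)) * s := by group
          _ = e * x * (e * x * s) * s := by rw [h3]
          _ = e * (x * e) * x * (s * s) := by group
          _ = (e * e) * (x * x) * (s * s) := by rw [← he]; group
          _ = 1 := by rw [hee, hx2, hs.sq, one_mul, one_mul]

theorem BBS.perfect (h : BB x L) : ⁅L, L⁆ = L := by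
  obtain ⟨F, _, _, h5, ⟨R⟩⟩ := S.rep h
  exact perfect_of_rep (R := R) (by omega)

/-- perfect subgroups of `C(x)` centralize `L` -/
theorem BBS.comm_of_perfect (h : BB x L) {M : Subgroup G} (hM : ⁅M, M⁆ = M)
    (hx : ∀ m ∈ M, m * x = x * m) : M ≤ centralizer (L : Set G) := by
  obtain ⟨F, _, _, h5, ⟨R⟩⟩ := S.rep h
  exact BBTools.comm_of_perfect (S.cf h R) hM hx (fun m hm => S.hx h (hx m hm))

theorem BBS.sq (h : BB x L) : x * x = 1 := sq_of_order (S.ox h)

/-- `l ∈ L ∩ C(L)` is trivial -/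
theorem BBS.disj (h : BB x L) {l : G} (hl : l ∈ L) (hk : l ∈ centralizer (L : Set G)) : l = 1 := by
  obtain ⟨F, _, _, h5, ⟨R⟩⟩ := S.rep h
  exact EFacts.eq_one_of_mem_centralizer R hl hk

omit S [Finite G] in
theorem isT_of_sq {t : G} (ht : t ∈ centralizer (L : Set G)) (hc : t * x = x * t) (h2 : t * t = 1)
    (h1 : t ≠ 1) : IsT L x t := ⟨ht, hc, h2, h1⟩

/-- CASE 1 of `CB` -/
theorem BBS.CB1 {L' : Subgroup G} {x' : G} (h : BB x L) (h' : BB x' L') (hc : x * x' = x' * x)
    (hx : x ∈ centralizer (L' : Set G)) : L = L' := by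
  -- both trivial
  have key : ∀ {z : G}, BB z L' → x * z = z * x → z ∈ centralizer (L : Set G) → L = L' := by
    intro z hz hxz hzL
    have hz1 : z ≠ 1 := ne_one_of_order (S.ox hz)
    have hx1 : x ≠ 1 := ne_one_of_order (S.ox h)
    have h1 := S.mul h (isT_of_sq hzL hxz.symm (BBS.sq S hz) hz1)
    have h2 := S.mul hz (isT_of_sq hx hxz (BBS.sq S h) hx1)
    rw [← hxz] at h2
    exact S.uniq h1 h2
  have hL' : L' ≤ centralizer (L : Set G) :=
    BBS.comm_of_perfect S h (BBS.perfect S h') fun m hm => mem_centralizer_iff.mp hx m hm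
  rcases BBS.cases S h hc.symm (BBS.sq S h') with h1 | h1 | ⟨s, hs, hsc, h1⟩
  · exact key h' hc h1
  · exact S.uniq h1 h'
  · have hsL' : s ∈ centralizer (L' : Set G) := by
      rw [mem_centralizer_iff]
      intro l hl
      exact (mem_centralizer_iff.mp (hL' hl) s hs.mem).symm
    have h2 := S.mul h' (isT_of_sq hsL' hsc.symm hs.sq hs.ne)
    refine key h2 ?_ h1
    have c1 : Commute x x' := hc
    exact (c1.mul_right (show Commute s x from hs.comm).symm).eq

/-- **LEMMA CB**: commuting bad involutions have the same component -/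
theorem BBS.CB {L' : Subgroup G} {x' : G} (h : BB x L) (h' : BB x' L') (hc : x * x' = x' * x) :
    L = L' := by
  have cxx : Commute x x' := hc
  by_cases hx : x ∈ centralizer (L' : Set G)
  · exact BBS.CB1 S h h' hc hx
  by_cases hx' : x' ∈ centralizer (L : Set G)
  · exact (BBS.CB1 S h' h hc.symm hx').symm
  rcases BBS.cases S h hc.symm (BBS.sq S h') with h1 | h1 | ⟨s, hs, hsc, h1⟩
  · exact absurd h1 hx'
  · exact S.uniq h1 h'
  rcases BBS.cases S h' hc (BBS.sq S h) with h1' | h1' | ⟨s', hs', hsc', h1'⟩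
  · exact absurd h1' hx
  · exact S.uniq h h1'
  have h2 := BBS.xs S h' hs'
  have c1 : Commute x (x' * s') := cxx.mul_right hsc'
  rcases BBS.cases S h c1.symm.eq (BBS.sq S h2) with h3 | h3 | ⟨s'', hs'', hsc'', h3⟩
  · exact (BBS.CB1 S h2 h c1.symm.eq h3).symm
  · exact S.uniq h3 h2
  -- `s'` centralizes `L`
  obtain ⟨c, hcdef⟩ : ∃ c, c = s⁻¹ * s' * s'' := ⟨_, rfl⟩
  have hcL : c ∈ centralizer (L : Set G) := by
    have e : c = (x' * s)⁻¹ * (x' * s' * s'') := by rw [hcdef]; group
    rw [e]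
    exact mul_mem (inv_mem h1) h3
  have cl : ∀ {l : G}, l ∈ L → Commute c l := fun hl => (mem_centralizer_iff.mp hcL _ hl).symm
  have hs'c : s' = c * (s * s''⁻¹) := by
    have e : c * (s * s''⁻¹) = (c * s) * s''⁻¹ := by group
    rw [e, (cl hs.mem).eq, hcdef]; group
  have hm : s * s''⁻¹ ∈ L := mul_mem hs.mem (inv_mem hs''.mem)
  have h4 : (s * s''⁻¹) * (s * s''⁻¹) = 1 := by
    apply BBS.disj S h (mul_mem hm hm)
    have h5 : c * c * ((s * s''⁻¹) * (s * s''⁻¹)) = 1 := by
      calc c * c * ((s * s''⁻¹) * (s * s''⁻¹)) = c * (c * (s * s''⁻¹)) * (s * s''⁻¹) := by group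
        _ = c * ((s * s''⁻¹) * c) * (s * s''⁻¹) := by rw [(cl hm).eq]
        _ = (c * (s * s''⁻¹)) * (c * (s * s''⁻¹)) := by group
        _ = 1 := by rw [← hs'c, hs'.sq]
    have h6 : (s * s''⁻¹) * (s * s''⁻¹) = (c * c)⁻¹ := (inv_eq_of_mul_eq_one_right h5).symm
    rw [h6]
    exact inv_mem (mul_mem hcL hcL)
  have h5 : s = s'' := by
    obtain ⟨F, _, _, -, ⟨R⟩⟩ := S.rep h
    refine (S.cf h R).comm s s'' hs hs'' ?_
    have e1 : s''⁻¹ = s'' := inv_eq_of_mul_eq_one_left hs''.sq
    rw [e1] at h4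
    have h6 := eq_inv_of_mul_eq_one_left h4
    rw [mul_inv_rev, e1, inv_eq_of_mul_eq_one_left hs.sq] at h6
    exact h6
  have h6 : s' ∈ centralizer (L : Set G) := by
    rw [hs'c, ← h5, mul_inv_cancel, mul_one]
    exact hcL
  have h7 := S.mul h (isT_of_sq h6 hsc'.symm hs'.sq hs'.ne)
  refine BBS.CB1 S h7 h' ?_ h1'
  exact (cxx.mul_left (show Commute s' x' from hs'.comm)).eq

/-- a bad involution commuting with `x` is bad with component `L` -/
theorem BBS.eq_of_comm {L' : Subgroup G} {x' : G} (h : BB x L) (h' : BB x' L') (hc : x * x' = x' * x) :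
    BB x' L := by
  rw [BBS.CB S h h' hc]; exact h'

end Cfsg.Agent.UGT.Res.BBTools
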