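import Cfsg.Agent.UGT.Res.Base
import Cfsg.Agent.UGT.TriMax

/-!
# c-maximality

`Y` a subgroup of `G`, `TT t K` a class of pairs: `t ∈ Y` an involution, `K` a 2-component of `C(t)`, closed under
conjugation by `Y`, such that every pump-up of `K` to `C(c)`, `c ∈ Y ∩ C(t)` an involution fixing `K`, is trivial or
diagonal and lies in the class (`PC Y TT`).

`U t = {K | TT t K}`, `F t` the kernel of `C_Y(t)` on `U t` and on all `K / O(K)`.

* `card_le` (C1): `|U t| + #{K ∈ U t : the pump-up is diagonal} ≤ |U y|` for involutions `y ∈ F t`.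
* `IsMax.pump` (C2): if `|U a|` is maximal then for every involution `y ∈ F a` all pump-ups are trivial, they are all
  of `U y`, `|U y|` is maximal and `a ∈ F y`.
* `IsMax.F_inf`: `F a ∩ C(y) = F y ∩ C(a)`.
* `IsMax.stab`: the stabilizer `H` in `Y` of the class of `a`; `C_Y(e) ≤ H` for the involutions `e ∈ F a`,
  `F a ∩ (F a) ^ g` has odd order for `g ∈ Y ∖ H`.
* `Config.inf_eq_bot` (C3): `R ∩ R ^ g = 1`, `R = T ∩ F a`, `(|R|, |T|)` lexicographically maximal.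
* `lemmaW` (C4): LEMMA W for `F a`.
* `pc_fam`, `pc_fam_y`: the class of the triples `(x, t, K)` of a family, `Y = C(x)`; the same with a fixed
  `y ∈ O(C(x))` moving all `K`, `Y = C(x) ∩ C(y)`.
-/

set_option autoImplicit false

open Cfsg Subgroup
open Cfsg.Agent.SignalizersComponents Cfsg.Agent.Lib
open Cfsg.Agent.SignalizersComponents.IntrinsicBasic
open Cfsg.Agent.Intrinsic.Basic Cfsg.Agent.Intrinsic.Cen Cfsg.Agent.Intrinsic.Diag
open Cfsg.Agent.McLLyComp.Act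
open Cfsg.Agent.UGT.Triple Cfsg.Agent.UGT.PumpGen Cfsg.Agent.UGT.TriBase Cfsg.Agent.UGT.Tri
open Cfsg.Agent.UGT.Res.Base (RWorld Triv Tame)
open scoped commutatorElement

namespace Cfsg.Agent.UGT.Res.CMax

variable {G : Type*} [Group G]

/-- A class of pairs `(t, K)` all of whose pump-ups are trivial or diagonal. -/
structure PC (Y : Subgroup G) (TT : G → Subgroup G → Prop) : Prop where
  mem : ∀ {t : G} {K : Subgroup G}, TT t K → t ∈ Y
  inv : ∀ {t : G} {K : Subgroup G}, TT t K → orderOf t = 2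
  comp : ∀ {t : G} {K : Subgroup G}, TT t K → IsComp (centralizer ({t} : Set G)) K
  conj : ∀ {t g : G} {K : Subgroup G}, g ∈ Y → TT t K → TT (g * t * g⁻¹) (cj g K)
  pump : ∀ {t c : G} {K : Subgroup G}, TT t K → orderOf c = 2 → c ∈ Y → c * t = t * c → Fixes c K →
    ∃ N, TT c N ∧ ((t ∈ normalizer (N : Set G) ∧ cen K c ≤ N ∧ cen K c ⊔ core N = N) ∨
      (cj t N ≠ N ∧ cen K c = diag (centralizer ({c} : Set G)) N t))

/-- `U t` -/
def U (TT : G → Subgroup G → Prop) (t : G) : Set (Subgroup G) := {K | TT t K}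

/-- `c t = |U t|` -/
noncomputable def c (TT : G → Subgroup G → Prop) (t : G) : ℕ := (U TT t).ncard

theorem mem_U {TT : G → Subgroup G → Prop} {t : G} {K : Subgroup G} : K ∈ U TT t ↔ TT t K := Iff.rfl

/-- `F t` -/
def F (Y : Subgroup G) (TT : G → Subgroup G → Prop) (t : G) : Subgroup G where
  carrier := {g | g ∈ Y ∧ g * t = t * g ∧ ∀ K, TT t K → Fixes g K}
  mul_mem' := by
    rintro g h ⟨h1, h2, h3⟩ ⟨h1', h2', h3'⟩
    refine ⟨mul_mem h1 h1', ?_, fun K hK => fixes_mul (h3 K hK) (h3' K hK)⟩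
    rw [mul_assoc, h2', ← mul_assoc, h2, mul_assoc]
  one_mem' := ⟨one_mem _, by rw [one_mul, mul_one], fun K _ => fixes_one K⟩
  inv_mem' := by
    rintro g ⟨h1, h2, h3⟩
    refine ⟨inv_mem h1, ?_, fun K hK => fixes_inv (h3 K hK)⟩
    rw [inv_mul_eq_iff_eq_mul, ← mul_assoc, h2, mul_inv_cancel_right]

theorem mem_F {Y : Subgroup G} {TT : G → Subgroup G → Prop} {t g : G} :
    g ∈ F Y TT t ↔ g ∈ Y ∧ g * t = t * g ∧ ∀ K, TT t K → Fixes g K := Iff.rfl

theorem diag_le_centralizer (X K : Subgroup G) (v : G) :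
    diag X K v ≤ centralizer ({v} : Set G) := by
  refine (closure_le _).mpr ?_
  rintro m ⟨-, h, -⟩
  exact mem_c h

theorem diag_cj {c t : G} (hct : t * c = c * t) (N : Subgroup G) :
    diag (centralizer ({c} : Set G)) (cj t N) t = diag (centralizer ({c} : Set G)) N t := by
  have h1 := cj_diag t (centralizer ({c} : Set G)) N t
  have h2 : cj t (centralizer ({c} : Set G)) = centralizer ({c} : Set G) :=
    cj_eq_self_of_mem (mem_c hct)
  have h3 : t * t * t⁻¹ = t := by group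
  rw [h2, h3] at h1
  rw [← h1]
  ext m
  rw [mem_cj]
  constructor
  · intro h
    have h4 := comm_c (diag_le_centralizer _ _ _ h)
    have h5 : t⁻¹ * m * t = m := by
      have h6 : m * t = t * (t⁻¹ * m * t) := by group
      have h7 : t * (t⁻¹ * m * t) = (t⁻¹ * m * t) * t := h4.symm
      rw [h7] at h6
      exact (mul_right_cancel h6).symm
    rwa [h5] at h
  · intro h
    have h4 := comm_c (diag_le_centralizer _ _ _ h)
    have h5 : t⁻¹ * m * t = m := by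
      rw [mul_assoc, h4, inv_mul_cancel_left]
    rwa [h5]

section

variable {Y : Subgroup G} {TT : G → Subgroup G → Prop}

theorem PC.cj_self (P : PC Y TT) {t g : G} {K : Subgroup G} (hg : g ∈ Y) (hgt : g * t = t * g)
    (hK : TT t K) : TT t (cj g K) := by
  have h := P.conj hg hK
  have h1 : g * t * g⁻¹ = t := by rw [hgt, mul_inv_cancel_right]
  rwa [h1] at h

/-- `C_Y(t)` permutes `U t` -/
theorem PC.cj_iff (P : PC Y TT) {t g : G} {K : Subgroup G} (hg : g ∈ Y) (hgt : g * t = t * g) :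
    TT t (cj g K) ↔ TT t K := by
  refine ⟨fun h => ?_, P.cj_self hg hgt⟩
  have h1 := P.cj_self (inv_mem hg) (by
    rw [inv_mul_eq_iff_eq_mul, ← mul_assoc, hgt, mul_inv_cancel_right]) h
  rwa [cj_inv_cj] at h1

theorem PC.conj_iff (P : PC Y TT) {t g : G} {K : Subgroup G} (hg : g ∈ Y) :
    TT (g * t * g⁻¹) (cj g K) ↔ TT t K := by
  refine ⟨fun h => ?_, P.conj hg⟩
  have h1 := P.conj (inv_mem hg) h
  rw [cj_inv_cj] at h1
  convert h1 using 1
  group

theorem PC.U_conj (P : PC Y TT) {t g : G} (hg : g ∈ Y) :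
    U TT (g * t * g⁻¹) = cj g '' U TT t := by
  ext K
  rw [mem_U]
  constructor
  · intro h
    refine ⟨cj g⁻¹ K, ?_, cj_cj_inv g K⟩
    rw [mem_U, ← P.conj_iff hg, cj_cj_inv]
    exact h
  · rintro ⟨K, h, rfl⟩
    exact P.conj hg h

theorem PC.c_conj (P : PC Y TT) {t g : G} (hg : g ∈ Y) : c TT (g * t * g⁻¹) = c TT t := by
  rw [c, P.U_conj hg, Set.ncard_image_of_injective _ (cj_injective g)]
  rfl

theorem PC.F_conj (P : PC Y TT) {t g : G} (hg : g ∈ Y) :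
    F Y TT (g * t * g⁻¹) = cj g (F Y TT t) := by
  have key : ∀ {t g h : G}, g ∈ Y → h ∈ F Y TT t → g * h * g⁻¹ ∈ F Y TT (g * t * g⁻¹) := by
    rintro t g h hg ⟨h1, h2, h3⟩
    refine ⟨mul_mem (mul_mem hg h1) (inv_mem hg), ?_, fun K hK => ?_⟩
    · calc g * h * g⁻¹ * (g * t * g⁻¹) = g * (h * t) * g⁻¹ := by group
        _ = g * (t * h) * g⁻¹ := by rw [h2]
        _ = _ := by group
    · have h4 : TT t (cj g⁻¹ K) := by
        rw [← P.conj_iff hg, cj_cj_inv]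
        exact hK
      have h5 := (h3 _ h4).cj g
      rwa [cj_cj_inv] at h5
  ext h
  rw [mem_cj]
  constructor
  · intro hh
    have h1 := key (inv_mem hg) hh
    have e1 : g⁻¹ * h * g⁻¹⁻¹ = g⁻¹ * h * g := by group
    have e2 : g⁻¹ * (g * t * g⁻¹) * g⁻¹⁻¹ = t := by group
    rwa [e1, e2] at h1
  · intro hh
    have h1 := key hg hh
    have e1 : g * (g⁻¹ * h * g) * g⁻¹ = h := by group
    rwa [e1] at h1

theorem PC.F_normal (P : PC Y TT) {t g : G} (hg : g ∈ Y) (hgt : g * t = t * g) :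
    g ∈ normalizer (F Y TT t : Set G) := by
  rw [mem_normalizer_iff_cj, ← P.F_conj hg]
  congr 1
  rw [hgt, mul_inv_cancel_right]

theorem F_le (Y : Subgroup G) (TT : G → Subgroup G → Prop) (t : G) : F Y TT t ≤ Y := fun _ h => h.1

theorem PC.self_mem_F (P : PC Y TT) {t : G} (h : (U TT t).Nonempty) : t ∈ F Y TT t := by
  obtain ⟨K, hK⟩ := h
  exact ⟨P.mem hK, rfl, fun K' hK' => fixes_self' (P.comp hK').le⟩

variable [Finite G]

/-- Two different 2-components in `U t` have different pump-ups. -/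
theorem PC.sep (P : PC Y TT) {t y : G} {K K' N N' : Subgroup G} (hK : TT t K) (hK' : TT t K')
    (hy : orderOf y = 2) (hyt : y * t = t * y) (hyK : Fixes y K) (hyK' : Fixes y K')
    (hN : TT y N)
    (h : (t ∈ normalizer (N : Set G) ∧ cen K y ≤ N ∧ cen K y ⊔ core N = N) ∨
      (cj t N ≠ N ∧ cen K y = diag (centralizer ({y} : Set G)) N t))
    (h' : (t ∈ normalizer (N' : Set G) ∧ cen K' y ≤ N' ∧ cen K' y ⊔ core N' = N') ∨
      (cj t N' ≠ N' ∧ cen K' y = diag (centralizer ({y} : Set G)) N' t))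
    (heq : N' = N ∨ N' = cj t N) : K = K' := by
  have hy2 := sq_of_order hy
  have ht2 := sq_of_order (P.inv hK)
  obtain ⟨hM, -⟩ := isComp_cen (P.comp hK) (mem_c hyt) hy2 hyK
  obtain ⟨hM', -⟩ := isComp_cen (P.comp hK') (mem_c hyt) hy2 hyK'
  have key : cen K y = cen K' y → K = K' := fun h1 =>
    hM.unique (P.comp hK) (P.comp hK') (cen_le K y) (h1 ▸ cen_le K' y)
  have htt : ∀ N : Subgroup G, cj t (cj t N) = N := by
    intro N
    rw [← cj_mul, ht2, cj_one]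
  rcases h with ⟨ht, hle, hsup⟩ | ⟨hne, hd⟩
  · have hNN : N' = N := by
      rcases heq with h1 | h1
      · exact h1
      · rw [h1, mem_normalizer_iff_cj.mp ht]
    subst hNN
    rcases h' with ⟨-, hle', hsup'⟩ | ⟨hne', -⟩
    · apply key
      by_contra hne
      have hCN := P.comp hN
      apply hCN.not_fixes
      intro n hn
      obtain ⟨m, hm, hmn⟩ := exists_mul_of_sup hsup' hn
      have h1 : Fixes m (cen K y) := hM.fixes_of_mem hM' hne hm
      have h2 : Fixes m N' := (fixes_iff_of_sup hsup h1.1 (le_normalizer (hle' hm))).mp h1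
      have h3 : Fixes (m⁻¹ * n) N' := hCN.fixes_of_core (hCN.core_le_core hmn)
      have h4 := fixes_mul h2 h3
      rwa [mul_inv_cancel_left] at h4
    · exact absurd (mem_normalizer_iff_cj.mp ht) hne'
  · have hne' : cj t N' ≠ N' := by
      rcases heq with h1 | h1
      · rwa [h1]
      · rw [h1, htt]
        exact hne.symm
    rcases h' with ⟨ht', -⟩ | ⟨-, hd'⟩
    · exact absurd (mem_normalizer_iff_cj.mp ht') hne'
    · apply key
      rw [hd, hd']
      rcases heq with h1 | h1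
      · rw [h1]
      · rw [h1, diag_cj hyt.symm]

omit [Finite G] in
/-- The pump-up map. -/
theorem PC.exists_map (P : PC Y TT) {t y : G} (hyF : y ∈ F Y TT t) (hy : orderOf y = 2) :
    ∃ φ : Subgroup G → Subgroup G, ∀ K, TT t K → TT y (φ K) ∧
      ((t ∈ normalizer (φ K : Set G) ∧ cen K y ≤ φ K ∧ cen K y ⊔ core (φ K) = φ K) ∨
        (cj t (φ K) ≠ φ K ∧ cen K y = diag (centralizer ({y} : Set G)) (φ K) t)) := by
  choose! φ hφ using fun (K : Subgroup G) (hK : TT t K) =>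
    P.pump hK hy hyF.1 hyF.2.1 (hyF.2.2 K hK)
  exact ⟨φ, hφ⟩

/-- **(C1)** -/
theorem PC.card_le (P : PC Y TT) {t y : G} (hyF : y ∈ F Y TT t) (hy : orderOf y = 2)
    {φ : Subgroup G → Subgroup G} (hφ : ∀ K, TT t K → TT y (φ K) ∧
      ((t ∈ normalizer (φ K : Set G) ∧ cen K y ≤ φ K ∧ cen K y ⊔ core (φ K) = φ K) ∨
        (cj t (φ K) ≠ φ K ∧ cen K y = diag (centralizer ({y} : Set G)) (φ K) t))) :
    c TT t + {K | TT t K ∧ cj t (φ K) ≠ φ K}.ncard ≤ c TT y := by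
  have hty : t * y = y * t := hyF.2.1.symm
  have hinj : ∀ K, TT t K → ∀ K', TT t K' → (φ K' = φ K ∨ φ K' = cj t (φ K)) → K = K' :=
    fun K hK K' hK' h => P.sep hK hK' hy hyF.2.1 (hyF.2.2 K hK) (hyF.2.2 K' hK') (hφ K hK).1
      (hφ K hK).2 (hφ K' hK').2 h
  have h1 : (φ '' U TT t).ncard = c TT t := Set.InjOn.ncard_image fun K hK K' hK' h =>
    hinj K hK K' hK' (Or.inl h.symm)
  have h2 : ((fun K => cj t (φ K)) '' {K | TT t K ∧ cj t (φ K) ≠ φ K}).ncard =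
      {K | TT t K ∧ cj t (φ K) ≠ φ K}.ncard := Set.InjOn.ncard_image fun K hK K' hK' h =>
    hinj K hK.1 K' hK'.1 (Or.inl (cj_injective t h).symm)
  have h3 : Disjoint (φ '' U TT t) ((fun K => cj t (φ K)) '' {K | TT t K ∧ cj t (φ K) ≠ φ K}) := by
    rw [Set.disjoint_left]
    rintro _ ⟨K', hK', rfl⟩ ⟨K, ⟨hK, hne⟩, h⟩
    have h4 := hinj K hK K' hK' (Or.inr h.symm)
    subst h4
    exact hne h
  rw [← h1, ← h2, ← Set.ncard_union_eq h3 (Set.toFinite _) (Set.toFinite _)]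
  refine Set.ncard_le_ncard ?_ (Set.toFinite _)
  rintro _ (⟨K, hK, rfl⟩ | ⟨K, ⟨hK, -⟩, rfl⟩)
  · exact (hφ K hK).1
  · exact P.cj_self (P.mem hK) hty (hφ K hK).1

/-- `|U a|` is maximal. -/
structure IsMax (TT : G → Subgroup G → Prop) (a : G) : Prop where
  ne : (U TT a).Nonempty
  max : ∀ t, c TT t ≤ c TT a

theorem exists_isMax {t : G} {K : Subgroup G} (h : TT t K) : ∃ a, IsMax TT a := by
  obtain ⟨a, ha⟩ := Finite.exists_max (c TT)
  refine ⟨a, ?_, ha⟩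
  have h1 : 0 < c TT t := (Set.ncard_pos (Set.toFinite _)).mpr ⟨K, h⟩
  exact (Set.ncard_pos (Set.toFinite _)).mp (h1.trans_le (ha t))

omit [Finite G] in
theorem IsMax.conj (P : PC Y TT) {a g : G} (h : IsMax TT a) (hg : g ∈ Y) :
    IsMax TT (g * a * g⁻¹) := by
  refine ⟨?_, fun t => ?_⟩
  · rw [P.U_conj hg]
    exact h.ne.image _
  · rw [P.c_conj hg]
    exact h.max t

/-- `N ∈ U y` is the trivial pump-up of `K ∈ U a` -/
structure Over (TT : G → Subgroup G → Prop) (a y : G) (K N : Subgroup G) : Prop where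
  left : TT a K
  right : TT y N
  mem : a ∈ normalizer (N : Set G)
  le : cen K y ≤ N
  sup : cen K y ⊔ core N = N

/-- **(C2)** -/
theorem IsMax.pump (P : PC Y TT) {a y : G} (h : IsMax TT a) (hyF : y ∈ F Y TT a)
    (hy : orderOf y = 2) : (∀ K, TT a K → ∃ N, Over TT a y K N) ∧
      (∀ N, TT y N → ∃ K, Over TT a y K N) ∧ IsMax TT y ∧ a ∈ F Y TT y := by
  obtain ⟨φ, hφ⟩ := P.exists_map hyF hy
  have h1 := P.card_le hyF hy hφ
  have h2 := h.max y
  have h3 : {K | TT a K ∧ cj a (φ K) ≠ φ K}.ncard = 0 := by omega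
  rw [Set.ncard_eq_zero (Set.toFinite _)] at h3
  have h4 : ∀ K, TT a K → cj a (φ K) = φ K := by
    intro K hK
    by_contra hne
    have : K ∈ ({K | TT a K ∧ cj a (φ K) ≠ φ K} : Set (Subgroup G)) := ⟨hK, hne⟩
    rw [h3] at this
    exact this
  have h5 : ∀ K, TT a K → Over TT a y K (φ K) := by
    intro K hK
    obtain ⟨h6, h7⟩ := hφ K hK
    rcases h7 with ⟨h8, h9, h10⟩ | ⟨h8, -⟩
    · exact ⟨hK, h6, h8, h9, h10⟩
    · exact absurd (h4 K hK) h8
  have hcard : c TT a = c TT y := by omega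
  have hsurj : φ '' U TT a = U TT y := by
    refine Set.eq_of_subset_of_ncard_le ?_ ?_ (Set.toFinite _)
    · rintro _ ⟨K, hK, rfl⟩
      exact (hφ K hK).1
    · rw [Set.InjOn.ncard_image]
      · exact hcard.ge
      · intro K hK K' hK' he
        exact P.sep hK hK' hy hyF.2.1 (hyF.2.2 K hK) (hyF.2.2 K' hK') (hφ K hK).1
          (hφ K hK).2 (hφ K' hK').2 (Or.inl he.symm)
  have h6 : ∀ N, TT y N → ∃ K, Over TT a y K N := by
    intro N hN
    have h7 : N ∈ φ '' U TT a := by rw [hsurj]; exact hN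
    obtain ⟨K, hK, rfl⟩ := h7
    exact ⟨K, h5 K hK⟩
  refine ⟨fun K hK => ⟨_, h5 K hK⟩, h6, ⟨?_, fun t => hcard ▸ h.max t⟩, ?_⟩
  · obtain ⟨K, hK⟩ := h.ne
    exact ⟨_, (hφ K hK).1⟩
  · obtain ⟨K, hK⟩ := h.ne
    refine ⟨P.mem hK, hyF.2.1.symm, fun N hN => ?_⟩
    obtain ⟨K', hK'⟩ := h6 N hN
    have hKa := (P.comp hK'.left).le
    have h7 : Fixes a (cen K' y) := fixes_self' ((cen_le K' y).trans hKa)
    exact (fixes_iff_of_sup hK'.sup h7.1 hK'.mem).mp h7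

omit [Finite G] in
theorem Over.fixes_iff (P : PC Y TT) [Finite G] {a y g : G} {K N : Subgroup G}
    (h : Over TT a y K N) (hya : y * a = a * y) (hy : orderOf y = 2) (hyK : Fixes y K)
    (hgK : g ∈ normalizer (K : Set G)) (hgN : g ∈ normalizer (N : Set G)) (hgy : g * y = y * g) :
    Fixes g K ↔ Fixes g N := by
  obtain ⟨-, h1⟩ := isComp_cen (P.comp h.left) (mem_c hya) (sq_of_order hy) hyK
  have h2 := mem_normalizer_cen hgK hgy
  rw [← fixes_iff_of_sup h1 h2 hgK, fixes_iff_of_sup h.sup h2 hgN]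

/-- `g ∈ C_Y(a) ∩ C(y)` normalizing `K` normalizes its pump-up -/
theorem Over.mem_normalizer (P : PC Y TT) {a y g : G} {K N : Subgroup G}
    (h : Over TT a y K N) (hya : y * a = a * y) (hy : orderOf y = 2) (hyK : Fixes y K)
    (hgK : g ∈ normalizer (K : Set G)) (hgy : g * y = y * g) : g ∈ normalizer (N : Set G) := by
  obtain ⟨h1, -⟩ := isComp_cen (P.comp h.left) (mem_c hya) (sq_of_order hy) hyK
  have h2 := mem_normalizer_cen hgK hgy
  have hcN := isComp_cj_of_mem (P.comp h.right) (mem_c hgy)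
  rw [mem_normalizer_iff_cj]
  refine h1.unique hcN (P.comp h.right) ?_ h.le
  rw [← mem_normalizer_iff_cj.mp h2]
  exact cj_mono h.le

/-- `F a ∩ C(y) ≤ F y` -/
theorem IsMax.mem_F (P : PC Y TT) {a y g : G} (h : IsMax TT a) (hyF : y ∈ F Y TT a)
    (hy : orderOf y = 2) (hg : g ∈ F Y TT a) (hgy : g * y = y * g) : g ∈ F Y TT y := by
  obtain ⟨-, h2, -, -⟩ := h.pump P hyF hy
  refine ⟨hg.1, hgy, fun N hN => ?_⟩
  obtain ⟨K, hK⟩ := h2 N hN
  have h3 := hg.2.2 K hK.left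
  have h4 := hK.mem_normalizer P hyF.2.1 hy (hyF.2.2 K hK.left) h3.1 hgy
  exact (hK.fixes_iff P hyF.2.1 hy (hyF.2.2 K hK.left) h3.1 h4 hgy).mp h3

/-- `F a ∩ C(y) = F y ∩ C(a)` -/
theorem IsMax.F_inf (P : PC Y TT) {a y : G} (h : IsMax TT a) (hyF : y ∈ F Y TT a)
    (hy : orderOf y = 2) : F Y TT a ⊓ centralizer ({y} : Set G) =
      F Y TT y ⊓ centralizer ({a} : Set G) := by
  obtain ⟨-, -, h3, h4⟩ := h.pump P hyF hy
  have ha : orderOf a = 2 := by
    obtain ⟨K, hK⟩ := h.ne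
    exact P.inv hK
  apply le_antisymm
  · rintro g ⟨hg, hgy⟩
    exact ⟨h.mem_F P hyF hy hg (comm_c hgy), mem_c hg.2.1⟩
  · rintro g ⟨hg, hga⟩
    exact ⟨h3.mem_F P h4 ha hg (comm_c hga), mem_c hg.2.1⟩

/-! ### the class of `a` -/

/-- `u ∈ F t` an involution -/
def Adj (Y : Subgroup G) (TT : G → Subgroup G → Prop) (t u : G) : Prop :=
  u ∈ F Y TT t ∧ orderOf u = 2

/-- the class of `a` -/
def Rel (Y : Subgroup G) (TT : G → Subgroup G → Prop) : G → G → Prop :=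
  Relation.ReflTransGen (Adj Y TT)

theorem IsMax.adj (P : PC Y TT) {a u : G} (h : IsMax TT a) (hu : Adj Y TT a u) :
    IsMax TT u ∧ Adj Y TT u a := by
  obtain ⟨-, -, h3, h4⟩ := h.pump P hu.1 hu.2
  obtain ⟨K, hK⟩ := h.ne
  exact ⟨h3, h4, P.inv hK⟩

theorem IsMax.rel (P : PC Y TT) {a u : G} (h : IsMax TT a) (hu : Rel Y TT a u) :
    IsMax TT u ∧ Rel Y TT u a := by
  induction hu with
  | refl => exact ⟨h, Relation.ReflTransGen.refl⟩
  | tail _ hvw ih =>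
    obtain ⟨h1, h2⟩ := ih.1.adj P hvw
    exact ⟨h1, (Relation.ReflTransGen.single h2).trans ih.2⟩

omit [Finite G] in
theorem Adj.conj (P : PC Y TT) {t u g : G} (h : Adj Y TT t u) (hg : g ∈ Y) :
    Adj Y TT (g * t * g⁻¹) (g * u * g⁻¹) := by
  refine ⟨?_, ?_⟩
  · rw [P.F_conj hg]
    exact conj_mem_cj h.1
  · rw [← h.2]
    exact (MulAut.conj g).orderOf_eq u

omit [Finite G] in
theorem Rel.conj (P : PC Y TT) {t u g : G} (h : Rel Y TT t u) (hg : g ∈ Y) :
    Rel Y TT (g * t * g⁻¹) (g * u * g⁻¹) := by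
  induction h with
  | refl => exact Relation.ReflTransGen.refl
  | tail _ hvw ih => exact ih.tail (hvw.conj P hg)

/-- the stabilizer in `Y` of the class of `a` -/
def stab (P : PC Y TT) {a : G} (h : IsMax TT a) : Subgroup G where
  carrier := {g | g ∈ Y ∧ Rel Y TT a (g * a * g⁻¹)}
  mul_mem' := by
    rintro g k ⟨h1, h2⟩ ⟨h3, h4⟩
    refine ⟨mul_mem h1 h3, ?_⟩
    have h5 := h4.conj P h1
    have h6 : g * (k * a * k⁻¹) * g⁻¹ = g * k * a * (g * k)⁻¹ := by group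
    rw [h6] at h5
    exact Relation.ReflTransGen.trans h2 h5
  one_mem' := ⟨one_mem _, by
    have : (1 : G) * a * 1⁻¹ = a := by group
    rw [this]
    exact Relation.ReflTransGen.refl⟩
  inv_mem' := by
    rintro g ⟨h1, h2⟩
    refine ⟨inv_mem h1, ?_⟩
    have h3 := (h.rel P h2).2
    have h4 := h3.conj P (inv_mem h1)
    have h5 : g⁻¹ * (g * a * g⁻¹) * g⁻¹⁻¹ = a := by group
    rwa [h5] at h4

theorem mem_stab (P : PC Y TT) {a : G} (h : IsMax TT a) {g : G} :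
    g ∈ stab P h ↔ g ∈ Y ∧ Rel Y TT a (g * a * g⁻¹) := Iff.rfl

/-- `g ∈ Y` is in the stabilizer if it maps some element of the class into the class -/
theorem mem_stab_of_rel (P : PC Y TT) {a : G} (h : IsMax TT a) {g e : G} (hg : g ∈ Y)
    (h1 : Rel Y TT a e) (h2 : Rel Y TT a (g * e * g⁻¹)) : g ∈ stab P h := by
  refine ⟨hg, ?_⟩
  have h3 := ((h.conj P hg).rel P (h1.conj P hg)).2
  exact Relation.ReflTransGen.trans h2 h3

/-- `C_Y(e) ≤ H` for all `e` in the class -/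
theorem centralizer_le_stab (P : PC Y TT) {a : G} (h : IsMax TT a) {e : G} (h1 : Rel Y TT a e) :
    Y ⊓ centralizer ({e} : Set G) ≤ stab P h := by
  rintro g ⟨hg, hge⟩
  refine mem_stab_of_rel P h hg h1 ?_
  rw [comm_c hge, mul_inv_cancel_right]
  exact h1

/-- `g ∈ H` if an involution `e ∈ F a` has a conjugate `e ^ g` in `F a` -/
theorem mem_stab_of_conj (P : PC Y TT) {a : G} (h : IsMax TT a) {g e : G} (hg : g ∈ Y)
    (he : orderOf e = 2) (h1 : e ∈ F Y TT a) (h2 : g * e * g⁻¹ ∈ F Y TT a) : g ∈ stab P h :=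
  mem_stab_of_rel P h hg (Relation.ReflTransGen.single ⟨h1, he⟩)
    (Relation.ReflTransGen.single ⟨h2, by rw [← he]; exact (MulAut.conj g).orderOf_eq e⟩)

/-- `F a ∩ (F a) ^ g` has odd order for `g ∈ Y ∖ H` -/
theorem odd_inf (P : PC Y TT) {a : G} (h : IsMax TT a) {g : G} (hg : g ∈ Y)
    (hgH : g ∉ stab P h) : Odd (Nat.card ↥(F Y TT a ⊓ cj g (F Y TT a))) := by
  by_contra hcon
  rw [Nat.not_odd_iff_even, even_iff_two_dvd] at hcon
  have h2 : Fact (Nat.Prime 2) := ⟨Nat.prime_two⟩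
  obtain ⟨e, he⟩ := exists_prime_orderOf_dvd_card' 2 hcon
  have he' : orderOf (e : G) = 2 := by rw [Subgroup.orderOf_coe]; exact he
  have h3 := e.2
  rw [mem_inf, mem_cj] at h3
  apply hgH
  refine mem_stab_of_conj P h hg (e := g⁻¹ * (e : G) * g) ?_ h3.2 ?_
  · rw [← he']
    have := (MulAut.conj g⁻¹).orderOf_eq (e : G)
    rw [MulAut.conj_apply, inv_inv] at this
    exact this
  · have h4 : g * (g⁻¹ * (e : G) * g) * g⁻¹ = e := by group
    rw [h4]
    exact h3.1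

/-! ### (C3) -/

/-- `(|T ∩ F a|, |T|)` is lexicographically maximal, `T` a 2-subgroup of `C_Y(a)`, `|U a|` maximal. -/
structure Config (Y : Subgroup G) (TT : G → Subgroup G → Prop) (a : G) (T : Subgroup G) : Prop where
  isMax : IsMax TT a
  two : IsPGroup 2 ↥T
  le : T ≤ Y ⊓ centralizer ({a} : Set G)
  max : ∀ (a' : G) (T' : Subgroup G), IsMax TT a' → IsPGroup 2 ↥T' →
    T' ≤ Y ⊓ centralizer ({a'} : Set G) →
    Nat.card ↥(T' ⊓ F Y TT a') ≤ Nat.card ↥(T ⊓ F Y TT a) ∧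
      (Nat.card ↥(T' ⊓ F Y TT a') = Nat.card ↥(T ⊓ F Y TT a) → Nat.card ↥T' ≤ Nat.card ↥T)

theorem exists_config {t : G} {K : Subgroup G} (h : TT t K) :
    ∃ a T, Config Y TT a T := by
  obtain ⟨a₀, ha₀⟩ := exists_isMax h
  obtain ⟨⟨a, T⟩, h1, h2⟩ := Set.exists_max_image
    {p : G × Subgroup G | IsMax TT p.1 ∧ IsPGroup 2 ↥p.2 ∧ p.2 ≤ Y ⊓ centralizer ({p.1} : Set G)}
    (fun p => toLex (Nat.card ↥(p.2 ⊓ F Y TT p.1), Nat.card ↥p.2)) (Set.toFinite _)
    ⟨⟨a₀, ⊥⟩, ha₀, IsPGroup.of_bot, bot_le⟩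
  refine ⟨a, T, h1.1, h1.2.1, h1.2.2, fun a' T' h3 h4 h5 => ?_⟩
  have h6 := h2 ⟨a', T'⟩ ⟨h3, h4, h5⟩
  rw [Prod.Lex.toLex_le_toLex] at h6
  simp only at h6
  rcases h6 with h6 | ⟨h6, h7⟩
  · exact ⟨h6.le, fun h8 => absurd h8 h6.ne⟩
  · exact ⟨h6.le, fun _ => h7⟩

omit [Finite G] in
theorem IsMax.inv (P : PC Y TT) {a : G} (h : IsMax TT a) : orderOf a = 2 := by
  obtain ⟨K, hK⟩ := h.ne
  exact P.inv hK

omit [Finite G] in
theorem IsMax.mem_Y (P : PC Y TT) {a : G} (h : IsMax TT a) : a ∈ Y := by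
  obtain ⟨K, hK⟩ := h.ne
  exact P.mem hK

section config

variable {a : G} {T : Subgroup G}

theorem Config.eq_of_le (C : Config Y TT a T) {a' : G} {T' : Subgroup G} (h : IsMax TT a')
    (h2 : IsPGroup 2 ↥T') (hle : T' ≤ Y ⊓ centralizer ({a'} : Set G)) (hT : T ≤ T')
    (hF : T ⊓ F Y TT a ≤ F Y TT a') : T' = T := by
  obtain ⟨h3, h4⟩ := C.max a' T' h h2 hle
  have h5 : T ⊓ F Y TT a ≤ T' ⊓ F Y TT a' := le_inf (inf_le_left.trans hT) hF
  have h6 := Nat.le_of_dvd Nat.card_pos (card_dvd_of_le h5)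
  exact (Subgroup.eq_of_le_of_card_ge hT (h4 (le_antisymm h3 h6))).symm

/-- `T` is a maximal 2-subgroup of `C_Y(a)` -/
theorem Config.isSyl (C : Config Y TT a T) : IsSyl (Y ⊓ centralizer ({a} : Set G)) T :=
  ⟨C.two, C.le, fun _ h1 h2 h3 => C.eq_of_le C.isMax h1 h2 h3 inf_le_right⟩

omit [Finite G] in
theorem F_le_cen (Y : Subgroup G) (TT : G → Subgroup G → Prop) (a : G) :
    F Y TT a ≤ Y ⊓ centralizer ({a} : Set G) := fun _ h => ⟨h.1, mem_c h.2.1⟩

omit [Finite G] in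
theorem PC.le_normalizer_F (P : PC Y TT) (a : G) :
    Y ⊓ centralizer ({a} : Set G) ≤ normalizer (F Y TT a : Set G) :=
  fun _ h => P.F_normal h.1 (comm_c h.2)

/-- `R = T ∩ F a` is a maximal 2-subgroup of `F a` -/
theorem Config.isSyl_R (P : PC Y TT) (C : Config Y TT a T) : IsSyl (F Y TT a) (T ⊓ F Y TT a) :=
  C.isSyl.inf (F_le_cen Y TT a) (P.le_normalizer_F a)

theorem Config.a_mem (P : PC Y TT) (C : Config Y TT a T) : a ∈ T := by
  have ha := C.isMax.inv P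
  have ha2 := sq_of_order ha
  have hcomm : ∀ s ∈ T, s * a = a * s := fun s hs => comm_c (C.le hs).2
  have haT : a ∈ normalizer (T : Set G) := by
    rw [mem_normalizer_iff]
    intro s
    constructor
    · intro h
      rw [← hcomm s h, mul_inv_cancel_right]
      exact h
    · intro h
      have h1 := hcomm _ h
      have h2 : s = a * s * a⁻¹ := by
        have h3 : a * s * a⁻¹ * a = a * s := by group
        rw [h3] at h1
        exact mul_left_cancel h1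
      rw [h2]
      exact h
  have h1 : IsPGroup 2 ↥(T ⊔ zpowers a) :=
    Tri.isPGroup_sup_zpowers C.two haT (n := 1) (by rw [pow_one, pow_two, ha2])
  have h2 : T ⊔ zpowers a ≤ Y ⊓ centralizer ({a} : Set G) := by
    refine sup_le C.le ?_
    rw [zpowers_le]
    exact ⟨C.isMax.mem_Y P, mem_c rfl⟩
  rw [← C.eq_of_le C.isMax h1 h2 le_sup_left inf_le_right]
  exact mem_sup_right (mem_zpowers a)

theorem Config.a_mem_R (P : PC Y TT) (C : Config Y TT a T) : a ∈ T ⊓ F Y TT a :=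
  ⟨C.a_mem P, P.self_mem_F C.isMax.ne⟩

omit [Finite G] in
theorem Config.le_normalizer_R (P : PC Y TT) (C : Config Y TT a T) :
    T ≤ normalizer ((T ⊓ F Y TT a : Subgroup G) : Set G) := by
  intro s hs
  have h1 := P.le_normalizer_F a (C.le hs)
  rw [mem_normalizer_iff_cj] at h1 ⊢
  rw [cj_inf, h1, cj_eq_self_of_mem hs]

/-- an involution `e ∈ Z(T) ∩ R`: `|U e|` is maximal and `R ≤ F e` -/
theorem Config.central (P : PC Y TT) (C : Config Y TT a T) {e : G} (he : e ∈ T ⊓ F Y TT a)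
    (he2 : orderOf e = 2) (hcen : ∀ s ∈ T, s * e = e * s) :
    IsMax TT e ∧ T ⊓ F Y TT a ≤ F Y TT e := by
  obtain ⟨-, -, h1, -⟩ := C.isMax.pump P he.2 he2
  exact ⟨h1, fun r hr => C.isMax.mem_F P he.2 he2 hr.2 (hcen r hr.1)⟩

/-- an involution `e ∈ Z(T) ∩ R`: `(e, T)` is again maximal, with the same `R`. -/
theorem Config.of_central (P : PC Y TT) (C : Config Y TT a T) {e : G} (he : e ∈ T ⊓ F Y TT a)
    (he2 : orderOf e = 2) (hcen : ∀ s ∈ T, s * e = e * s) :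
    Config Y TT e T ∧ T ⊓ F Y TT e = T ⊓ F Y TT a := by
  obtain ⟨h1, h2⟩ := C.central P he he2 hcen
  have h3 : T ≤ Y ⊓ centralizer ({e} : Set G) := fun s hs => ⟨(C.le hs).1, mem_c (hcen s hs)⟩
  obtain ⟨h4, -⟩ := C.max e T h1 C.two h3
  have h5 : T ⊓ F Y TT a ≤ T ⊓ F Y TT e := le_inf inf_le_left h2
  have h6 := (Subgroup.eq_of_le_of_card_ge h5 h4).symm
  refine ⟨⟨h1, C.two, h3, ?_⟩, h6⟩
  rw [h6]
  exact C.max

/-- `R ^ g ≠ R` for `g ∈ N_Y(T) ∖ T`, `⟨T, g⟩` a 2-group -/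
theorem Config.conj_ne (P : PC Y TT) (C : Config Y TT a T) {g : G} (hgY : g ∈ Y) (hg : g ∉ T)
    (h2 : IsPGroup 2 ↥(T ⊔ zpowers g)) : cj g (T ⊓ F Y TT a) ≠ T ⊓ F Y TT a := by
  intro heq
  have haR := C.a_mem_R P
  have hR : T ⊓ F Y TT a ≠ ⊥ := by
    intro h
    rw [h, mem_bot] at haR
    exact ne_one_of_order (C.isMax.inv P) haR
  obtain ⟨e, heR, he, hcen⟩ := exists_central h2 (inf_le_left.trans le_sup_left) (by
    refine sup_le (C.le_normalizer_R P) ?_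
    rw [zpowers_le]
    exact mem_normalizer_iff_cj.mpr heq) hR
  obtain ⟨h3, h4⟩ := C.central P heR he fun s hs => hcen s (mem_sup_left hs)
  have h5 : T ⊔ zpowers g ≤ Y ⊓ centralizer ({e} : Set G) := by
    intro s hs
    refine ⟨?_, mem_c (hcen s hs)⟩
    have h6 : T ⊔ zpowers g ≤ Y := sup_le (C.le.trans inf_le_left) (zpowers_le.mpr hgY)
    exact h6 hs
  apply hg
  rw [← C.eq_of_le h3 h2 h5 le_sup_left h4]
  exact mem_sup_right (mem_zpowers g)

/-- **(C3)** `R ∩ R ^ g = 1` for `g ∈ N_Y(T) ∖ T`, `⟨T, g⟩` a 2-group -/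
theorem Config.inf_eq_bot (P : PC Y TT) (C : Config Y TT a T) {g : G} (hgY : g ∈ Y)
    (hgT : g ∈ normalizer (T : Set G)) (hg : g ∉ T) (h2 : IsPGroup 2 ↥(T ⊔ zpowers g)) :
    (T ⊓ F Y TT a) ⊓ cj g (T ⊓ F Y TT a) = ⊥ := by
  by_contra hne
  have hTg : cj g T = T := mem_normalizer_iff_cj.mp hgT
  have hRg : cj g (T ⊓ F Y TT a) = T ⊓ F Y TT (g * a * g⁻¹) := by
    rw [cj_inf, hTg, P.F_conj hgY]
  obtain ⟨e, ⟨heR, heRg⟩, he, hcen⟩ := exists_central C.two (inf_le_left.trans inf_le_left)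
    (fun s hs => by
      have h3 := C.le_normalizer_R P hs
      have h4 : g⁻¹ * s * g ∈ T := by
        rw [← mem_cj, hTg]
        exact hs
      have h5 := C.le_normalizer_R P h4
      rw [mem_normalizer_iff_cj] at h3 h5 ⊢
      have h6 := congrArg (cj g) h5
      rw [← cj_mul] at h6
      have h7 : g * (g⁻¹ * s * g) = s * g := by group
      rw [h7, cj_mul] at h6
      rw [cj_inf, h3, h6]) hne
  obtain ⟨h3, h4⟩ := C.of_central P heR he hcen
  have h5 : cj g (T ⊓ F Y TT a) ≤ T ⊓ F Y TT e := by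
    rw [hRg] at heRg ⊢
    intro r hr
    exact ⟨hr.1, (C.isMax.conj P hgY).mem_F P heRg.2 he hr.2 (hcen r hr.1)⟩
  rw [h4] at h5
  exact C.conj_ne P hgY hg h2 (Subgroup.eq_of_le_of_card_ge h5 (card_cj g _).ge)

/-- The dichotomy (T1'), (T2'). -/
theorem Config.dich (P : PC Y TT) (C : Config Y TT a T) {S : Subgroup G} (hS : IsPGroup 2 ↥S)
    (hSY : S ≤ Y) (hTS : T ≤ S) : T = S ∨ ∃ g ∈ S, g ∈ normalizer (T : Set G) ∧ g ∉ T ∧
      IsPGroup 2 ↥(T ⊔ zpowers g) ∧ (T ⊓ F Y TT a) ⊓ cj g (T ⊓ F Y TT a) = ⊥ := by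
  by_cases h : T = S
  · exact Or.inl h
  obtain ⟨g, hgS, hgT, hg, h2⟩ := exists_normalizing hS hTS h
  exact Or.inr ⟨g, hgS, hgT, hg, h2, C.inf_eq_bot P (hSY hgS) hgT hg h2⟩

/-- `N_Y(R) ≤ H` -/
theorem Config.normalizer_le_stab (P : PC Y TT) (C : Config Y TT a T) {g : G} (hg : g ∈ Y)
    (h : g ∈ normalizer ((T ⊓ F Y TT a : Subgroup G) : Set G)) : g ∈ stab P C.isMax := by
  have h1 := C.a_mem_R P
  exact mem_stab_of_conj P C.isMax hg (C.isMax.inv P) h1.2 ((mem_normalizer_iff.mp h a).mp h1).2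

end config

end

/-! ### LEMMA W -/

section lemmaW

variable [Finite G] {Y : Subgroup G} {TT : G → Subgroup G → Prop}

/-- **(C4)** LEMMA W holds for every `L ∈ U a`, `|U a|` maximal, `w₁, w₂ ∈ F a`. -/
theorem lemmaW (W : RWorld G) (P : PC Y TT) {x a y w₁ w₂ f : G} {L : Subgroup G}
    (hty : Tame y) (hTT : ∀ {t : G} {K : Subgroup G}, TT t K → IsTriple x t K) (h : IsMax TT a)
    (hL : TT a L)
    (hy : y ∈ core (centralizer ({x} : Set G))) (h₁ : w₁ ∈ F Y TT a) (o₁ : orderOf w₁ = 2)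
    (h₂ : w₂ ∈ F Y TT a) (o₂ : orderOf w₂ = 2) (o₃ : orderOf (w₁ * w₂) = 2)
    (hy₁ : y ∈ cen L w₁) (hy₂ : y ∈ cen L w₂) (hy₃ : y ∈ cen L (w₁ * w₂)) (hfx : f * x = x * f)
    (hfy : f * y = y * f) (hf₁ : f * w₁ = w₁ * f) (hf₂ : f * w₂ = w₂ * f) (hfL : Fixes f L)
    (he : orderOf (x * f) = 2) : y ∈ core (centralizer ({x * f} : Set G)) := by
  have h₃ : w₁ * w₂ ∈ F Y TT a := mul_mem h₁ h₂
  have key : ∀ {w : G}, w ∈ F Y TT a → orderOf w = 2 → ∃ N, Triv x L w N := by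
    intro w hw ho
    obtain ⟨h1, -, -, -⟩ := h.pump P hw ho
    obtain ⟨N, hN⟩ := h1 L hL
    exact ⟨N, hTT hN.right, hN.le, hN.sup⟩
  obtain ⟨N₁, t₁⟩ := key h₁ o₁
  obtain ⟨N₂, t₂⟩ := key h₂ o₂
  obtain ⟨N₃, t₃⟩ := key h₃ o₃
  exact Base.lemmaW W hty (hTT hL) hy h₁.2.1 h₂.2.1 (h₁.2.2 L hL) (h₂.2.2 L hL) t₁ t₂ t₃ hy₁ hy₂
    hy₃ hfx hfy hf₁ hf₂ hfL he

end lemmaW

/-! ### instances -/

section inst

variable [Finite G]

/-- The triples `(x, t, K)` of a family. -/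
theorem pc_fam {Y : G → Subgroup G} {𝒯 : G → G → Subgroup G → Prop} (Fm : Fam Y 𝒯) (x : G) :
    PC (centralizer ({x} : Set G)) (𝒯 x) where
  mem h := mem_c (Fm.triple h).comm
  inv h := (Fm.triple h).inva
  comp h := (Fm.triple h).comp
  conj := by
    intro t g K hg h
    have h1 := Fm.conj g h
    rwa [comm_c hg, mul_inv_cancel_right] at h1
  pump := by
    intro t c K h hc hcx hct hcK
    obtain ⟨N, hN, hor⟩ := (Fm.triple h).pump hc hct (comm_c hcx) hcK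
    obtain ⟨h1, h2⟩ := Fm.pump h hc hct (comm_c hcx) hcK hN hor
    refine ⟨N, h1, ?_⟩
    rcases hor with ⟨h3, h4⟩ | h3
    · exact Or.inl ⟨h3, h4, h2 h3⟩
    · exact Or.inr h3

/-- The triples `(x, t, K)` of a family with `K` moved by a given `y ∈ O(C(x)) ∩ C(t)`. -/
theorem pc_fam_y {Y : G → Subgroup G} {𝒯 : G → G → Subgroup G → Prop} (Fm : Fam Y 𝒯) {x y : G}
    (hy : y ∈ core (centralizer ({x} : Set G))) :
    PC (centralizer ({x} : Set G) ⊓ centralizer ({y} : Set G))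
      (fun t K => 𝒯 x t K ∧ y * t = t * y ∧ ¬ Fixes y K) where
  mem h := ⟨mem_c (Fm.triple h.1).comm, mem_c h.2.1.symm⟩
  inv h := (Fm.triple h.1).inva
  comp h := (Fm.triple h.1).comp
  conj := by
    rintro t g K ⟨hg, hgy⟩ ⟨h, h2, h3⟩
    have h1 := Fm.conj g h
    rw [comm_c hg, mul_inv_cancel_right] at h1
    have hgy' := comm_c hgy
    have e1 : g * y * g⁻¹ = y := by rw [hgy', mul_inv_cancel_right]
    have e2 : g⁻¹ * y * g⁻¹⁻¹ = y := by
      rw [inv_inv, mul_assoc, ← hgy', inv_mul_cancel_left]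
    refine ⟨h1, ?_, fun hf => h3 ?_⟩
    · calc y * (g * t * g⁻¹) = (g * y * g⁻¹) * (g * t * g⁻¹) := by rw [e1]
        _ = g * (y * t) * g⁻¹ := by group
        _ = g * (t * y) * g⁻¹ := by rw [h2]
        _ = (g * t * g⁻¹) * (g * y * g⁻¹) := by group
        _ = _ := by rw [e1]
    · have h4 := hf.cj g⁻¹
      rwa [cj_inv_cj, e2] at h4
  pump := by
    rintro t c K ⟨h, h2, h3⟩ hc ⟨hcx, hcy⟩ hct hcK
    have hT := Fm.triple h
    have ht2 := sq_of_order hT.inva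
    have hc2 := sq_of_order hc
    obtain ⟨hM, hMsup⟩ := isComp_cen hT.comp (mem_c hct) hc2 hcK
    have hyt : y ∈ centralizer ({t} : Set G) := mem_c h2
    have hyc : y ∈ centralizer ({c} : Set G) := mem_c (comm_c hcy).symm
    have hyK := hT.mem_normalizer_of_core hy hyt
    have hyM := mem_normalizer_cen hyK (comm_c hyc)
    have hf : ¬ Fixes y (cen K c) := fun h4 => h3 ((fixes_iff_of_sup hMsup hyM hyK).mp h4)
    have hM' := hM
    rw [inf_comm] at hM'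
    obtain ⟨N, hN, hfN, hor⟩ := PumpGen.pump hT.invx hc ht2 hct (comm_c hcx) hM' hy hyt hyc hf
    obtain ⟨h4, h5⟩ := Fm.pump h hc hct (comm_c hcx) hcK hN hor
    refine ⟨N, ⟨h4, comm_c hyc, hfN⟩, ?_⟩
    rcases hor with ⟨h6, h7⟩ | h6
    · exact Or.inl ⟨h6, h7, h5 h6⟩
    · exact Or.inr h6

end inst

end Cfsg.Agent.UGT.Res.CMax
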