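import Cfsg.Agent.UGT.Res.Base

/-!
# The choice with `|KK_v|` maximal

`y ∈ O(C(x))`, `KK y v` = the set of the 2-components of `C(v)` moved by `y`, for the involutions `v` of `C(x, y)`.

* `KK.nonempty_iff`: `KK y v` is nonempty iff `y ∉ O(C(v))`.
* `kill'`: if `e` acts as `x` on all members of `KK y w` then `y` fixes all 2-components of `C(w, e)`.
* `exists_bij`: if `w` fixes all members of `KK y v` and `|KK y w| ≤ |KK y v|`, then all pump-ups are trivial and
  define a bijection `KK y v → KK y w`.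
* `bad_of_two`: `x g` is bad for `g ∈ R`, `R` a 2-group fixing all members of `KK y v`, `v` with `|KK y v|` maximal,
  if there is an involution `w ≠ g` in `C_R(g)`.
-/

set_option autoImplicit false

open Cfsg Subgroup
open Cfsg.Agent.SignalizersComponents Cfsg.Agent.Lib
open Cfsg.Agent.SignalizersComponents.IntrinsicBasic
open Cfsg.Agent.SignalizersComponents.IntrinsicIntr
open Cfsg.Agent.SignalizersComponents.PLayerAut
open Cfsg.Agent.Intrinsic.Basic Cfsg.Agent.Intrinsic.Cen Cfsg.Agent.Intrinsic.Diag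
open Cfsg.Agent.McLLyComp.Act
open Cfsg.Agent.UGT.Triple Cfsg.Agent.UGT.LemG Cfsg.Agent.UGT.PumpGen Cfsg.Agent.UGT.TriBase
open Cfsg.Agent.UGT.Res.Base
open scoped commutatorElement

namespace Cfsg.Agent.UGT.Res.KMax

variable {G : Type*} [Group G]

/-- The 2-components of `C(v)` moved by `y`. -/
def KK (y v : G) : Set (Subgroup G) := {K | IsComp (centralizer ({v} : Set G)) K ∧ ¬ Fixes y K}

theorem mem_KK {y v : G} {K : Subgroup G} :
    K ∈ KK y v ↔ IsComp (centralizer ({v} : Set G)) K ∧ ¬ Fixes y K := Iff.rfl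

/-- `y ∈ O(C(x))`, `x` an involution, `y` acts as an inner automorphism on all triples -/
structure Ctx (x y : G) : Prop where
  ox : orderOf x = 2
  mem : y ∈ core (centralizer ({x} : Set G))
  tame : Tame y

theorem Ctx.comm {x y : G} (C : Ctx x y) : y * x = x * y := comm_c (core_le _ C.mem)

/-- `v` is an involution of `C(x, y)` -/
structure Inv (x y v : G) : Prop where
  ov : orderOf v = 2
  cx : v * x = x * v
  cy : v * y = y * v

theorem Inv.mul {x y v w : G} (hv : Inv x y v) (hw : Inv x y w) (hvw : v * w = w * v) (hne : v ≠ w) :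
    Inv x y (v * w) := by
  have a1 : Commute v x := hv.cx
  have a2 : Commute w x := hw.cx
  have b1 : Commute v y := hv.cy
  have b2 : Commute w y := hw.cy
  exact ⟨order_mul (sq_of_order hv.ov) (sq_of_order hw.ov) hvw hne, (a1.mul_left a2).eq,
    (b1.mul_left b2).eq⟩

theorem Inv.self {x y : G} (C : Ctx x y) : Inv x y x := ⟨C.ox, rfl, C.comm.symm⟩

theorem KK.triple {x y v : G} {K : Subgroup G} (C : Ctx x y) (hv : Inv x y v) (hK : K ∈ KK y v) :
    IsTriple x v K := ⟨C.ox, hv.ov, hv.cx, hK.1, y, C.mem, mem_c hv.cy.symm, hK.2⟩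

variable [Finite G]

omit [Finite G] in
theorem KK.cj {y v g : G} {K : Subgroup G} (hK : K ∈ KK y v) :
    IntrinsicBasic.cj g K ∈ KK (g * y * g⁻¹) (g * v * g⁻¹) := by
  refine ⟨?_, fun h => hK.2 ?_⟩
  · rw [← cj_centralizer]
    exact hK.1.cj g
  · have h1 := h.cj g⁻¹
    rw [cj_inv_cj] at h1
    convert h1 using 1
    group

omit [Finite G] in
/-- `g ∈ C(v, y)` permutes `KK y v` -/
theorem KK.cj_mem {y v g : G} {K : Subgroup G} (hK : K ∈ KK y v) (hgv : g * v = v * g)
    (hgy : g * y = y * g) : IntrinsicBasic.cj g K ∈ KK y v := by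
  have h := KK.cj (g := g) hK
  rwa [hgy, mul_inv_cancel_right, hgv, mul_inv_cancel_right] at h

theorem KK.nonempty_iff {x y v : G} (C : Ctx x y) (hv : Inv x y v) :
    (KK y v).Nonempty ↔ y ∉ core (centralizer ({v} : Set G)) := by
  constructor
  · rintro ⟨K, hK⟩ h
    exact hK.2 (hK.1.fixes_of_core h)
  · intro h
    obtain ⟨J, T, hf⟩ := exists_triple C.ox hv.ov hv.cx C.mem (mem_c hv.cy.symm) h
    exact ⟨J, T.comp, hf⟩

/-- If `e` acts as `x` on all members of `KK y w`, then `y` fixes the 2-components of `C(w, e)`. -/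
theorem kill' (W : RWorld G) {x y w e : G} {M : Subgroup G} (C : Ctx x y) (hw : Inv x y w)
    (he : Inv x y e) (hew : e * w = w * e) (hact : ∀ N ∈ KK y w, Fixes (e * x⁻¹) N)
    (hM : IsComp (centralizer ({w} : Set G) ⊓ centralizer ({e} : Set G)) M) : Fixes y M := by
  by_contra hf
  have he2 := sq_of_order he.ov
  obtain ⟨N, hN, -, hor⟩ := McLLyComp.PumpT.exists_pump (mem_c hew) he2 hM
  have hfN : ¬ Fixes y N := fun h => hf (fixes_of_pump he2 hew.symm hM hN (mem_c hw.cy.symm)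
    (mem_c he.cy.symm) h (by
      rcases hor with ⟨-, h⟩ | h
      · exact Or.inl h
      · exact Or.inr h))
  have hNK : N ∈ KK y w := ⟨hN, hfN⟩
  have T := KK.triple C hw hNK
  have heN : e ∈ normalizer (N : Set G) := by
    have h1 := mul_mem (hact N hNK).1 T.x_mem
    rwa [inv_mul_cancel_right] at h1
  rcases hor with ⟨-, hMN⟩ | ⟨hne, -⟩
  · have h1 : M ≤ core N := by
      refine W.solv T hMN (fun m hm => ?_) hM.perfect
      have h2 := (act_eq_iff heN T.x_mem).mpr (hact N hNK)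
      have h3 := DFunLike.congr_fun h2 (QuotientGroup.mk ⟨m, hMN hm⟩)
      rw [act_mk heN (hMN hm), act_mk T.x_mem (hMN hm)] at h3
      have h4 := (mk_eq_iff _ _).mp h3
      have h5 : e * m * e⁻¹ = m := by
        rw [← comm_c (hM.le hm).2, mul_inv_cancel_right]
      rw [h5] at h4
      have h6 := conj_mem_core (le_normalizer (hMN hm)) h4
      convert h6 using 1
      rw [commutatorElement_def]
      group
    exact hM.not_odd (odd_card_core N) h1
  · exact hne (mem_normalizer_iff_cj.mp heN)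

/-- If `y` fixes the 2-components of `C(e, w)`, then `w` acts as `x` on all members of `KK y e`. -/
theorem act_of_kill (W : RWorld G) {x y w e : G} {J : Subgroup G} (C : Ctx x y) (hw : Inv x y w)
    (he : Inv x y e) (hew : e * w = w * e) (hJ : J ∈ KK y e)
    (hkill : ∀ M, IsComp (centralizer ({e} : Set G) ⊓ centralizer ({w} : Set G)) M → Fixes y M) :
    Fixes (w * x⁻¹) J := by
  have T := KK.triple C he hJ
  have hw2 := sq_of_order hw.ov
  have hye : y ∈ centralizer ({e} : Set G) := mem_c he.cy.symm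
  by_cases hwJ : w ∈ normalizer (J : Set G)
  · rcases W.cent (C.tame T C.mem hye) T C.mem hye hJ.2 hw.ov hwJ hew.symm hw.cx hw.cy with ⟨M, -, hM, hfM⟩ | h
    · exact absurd (hkill M hM) hfM
    · exact h
  · exfalso
    have hne : IntrinsicBasic.cj w J ≠ J := fun h => hwJ (mem_normalizer_iff_cj.mpr h)
    have hwH : w ∈ centralizer ({e} : Set G) := mem_c hew.symm
    obtain ⟨h1, -, -, h4, -⟩ := exists_diag T.comp hwH hw2 hne
    have hyJ := T.mem_normalizer_of_core C.mem hye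
    apply hJ.2
    refine fixes_of_comm_diag T.comp hwH hw2 hne hye hyJ ?_ fun m hm => ?_
    · rw [mem_normalizer_iff_cj, ← cj_mul, ← hw.cy, cj_mul, mem_normalizer_iff_cj.mp hyJ]
    · have h6 := (hkill _ h1).2 m hm
      rw [h4] at h6
      exact h6.2

/-- Three commuting involutions `w₁`, `w₂`, `w₁ w₂` of `C(x, y, e)`, all members of `KK y w_i` acted on by `e` as
`x`: then `KK y e = ∅`, i.e. `y ∈ O(C(e))`. -/
theorem bad_of_act (W : RWorld G) {x y w₁ w₂ e : G} (C : Ctx x y) (h₁ : Inv x y w₁)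
    (h₂ : Inv x y w₂) (h₁₂ : w₁ * w₂ = w₂ * w₁) (hne : w₁ ≠ w₂) (he : Inv x y e)
    (he₁ : e * w₁ = w₁ * e) (he₂ : e * w₂ = w₂ * e)
    (a₁ : ∀ N ∈ KK y w₁, Fixes (e * x⁻¹) N) (a₂ : ∀ N ∈ KK y w₂, Fixes (e * x⁻¹) N)
    (a₃ : ∀ N ∈ KK y (w₁ * w₂), Fixes (e * x⁻¹) N) : y ∈ core (centralizer ({e} : Set G)) := by
  by_contra hn
  obtain ⟨J, hJ⟩ := (KK.nonempty_iff C he).mpr hn
  have h₃ := h₁.mul h₂ h₁₂ hne
  have c₁ : Commute e w₁ := he₁
  have c₂ : Commute e w₂ := he₂
  have he₃ : e * (w₁ * w₂) = w₁ * w₂ * e := (c₁.mul_right c₂).eq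
  have key : ∀ w, Inv x y w → e * w = w * e → (∀ N ∈ KK y w, Fixes (e * x⁻¹) N) →
      Fixes (w * x⁻¹) J := by
    intro w hw hew ha
    refine act_of_kill W C hw he hew hJ fun M hM => ?_
    rw [inf_comm] at hM
    exact kill' W C hw he hew ha hM
  have b₁ := key w₁ h₁ he₁ a₁
  have b₂ := key w₂ h₂ he₂ a₂
  have b₃ := key _ h₃ he₃ a₃
  apply (KK.triple C he hJ).not_fixes
  have c := fixes_mul b₁ (fixes_inv b₂)
  have c' : w₁ * x⁻¹ * (w₂ * x⁻¹)⁻¹ = w₁ * w₂ := by
    rw [mul_inv_rev, inv_inv, inv_eq_of_mul_eq_one_left (sq_of_order h₂.ov)]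
    group
  rw [c'] at c
  have d := fixes_mul (fixes_inv b₃) c
  have d' : (w₁ * w₂ * x⁻¹)⁻¹ * (w₁ * w₂) = x := by group
  rwa [d'] at d

/-! ### the pump-up bijection -/

/-- Nondiagonal (P)-pump-ups are trivial. -/
structure RTriv (G : Type*) [Group G] : Prop where
  triv : ∀ {x a c : G} {L N : Subgroup G}, IsTriple x a L → orderOf c = 2 → c * a = a * c →
    c * x = x * c → Fixes c L → IsTriple x c N → a ∈ normalizer (N : Set G) → cen L c ≤ N →
    cen L c ⊔ core N = N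

/-- `N` is a pump-up of `K` -/
def Pump (v w : G) (K N : Subgroup G) : Prop :=
  (v ∈ normalizer (N : Set G) ∧ cen K w ≤ N ∧ cen K w ⊔ core N = N) ∨
    (cj v N ≠ N ∧ cen K w = diag (centralizer ({w} : Set G)) N v)

theorem exists_pump' (R : RTriv G) {x y v w : G} {K : Subgroup G} (C : Ctx x y) (hv : Inv x y v)
    (hw : Inv x y w) (hwv : w * v = v * w) (hK : K ∈ KK y v) (hf : Fixes w K) :
    ∃ N ∈ KK y w, Pump v w K N := by
  have T := KK.triple C hv hK
  have hv2 := sq_of_order hv.ov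
  have hw2 := sq_of_order hw.ov
  obtain ⟨h1, h3⟩ := isComp_cen T.comp (mem_c hwv) hw2 hf
  have hyv : y ∈ centralizer ({v} : Set G) := mem_c hv.cy.symm
  have hyK := T.mem_normalizer_of_core C.mem hyv
  have hyM : y ∈ normalizer (cen K w : Set G) := mem_normalizer_cen hyK hw.cy.symm
  have hfM : ¬ Fixes y (cen K w) := fun h => hK.2 ((fixes_iff_of_sup h3 hyM hyK).mp h)
  have h1' := h1
  rw [inf_comm] at h1'
  obtain ⟨N, hN, -, hor⟩ := McLLyComp.PumpT.exists_pump (mem_c hwv.symm) hv2 h1'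
  have hfN : ¬ Fixes y N := fun h => hfM (fixes_of_pump hv2 hwv h1' hN (mem_c hw.cy.symm)
    (mem_c hv.cy.symm) h (by
      rcases hor with ⟨-, h⟩ | h
      · exact Or.inl h
      · exact Or.inr h))
  have hNK : N ∈ KK y w := ⟨hN, hfN⟩
  refine ⟨N, hNK, ?_⟩
  rcases hor with ⟨hvN, hMN⟩ | h
  · exact Or.inl ⟨hvN, hMN, R.triv T hw.ov hwv hw.cx hf (KK.triple C hw hNK) hvN hMN⟩
  · exact Or.inr h

omit [Finite G] in
/-- the diagonal does not depend on the choice of the factor -/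
theorem diag_cj {X K : Subgroup G} {v : G} (hvX : v ∈ X) : diag X (cj v K) v = cj v (diag X K v) := by
  rw [cj_diag, cj_eq_self_of_mem hvX, mul_inv_cancel_right]

theorem diag_cj' {X K : Subgroup G} {v : G} (hK : IsComp X K) (hvX : v ∈ X) (hv : v * v = 1)
    (hne : cj v K ≠ K) : diag X (cj v K) v = diag X K v := by
  rw [diag_cj hvX]
  obtain ⟨h1, -⟩ := exists_diag hK hvX hv hne
  rw [← mem_normalizer_iff_cj]
  exact (fixes_self' (h1.le.trans inf_le_right)).1

/-- different members of `KK y v` have disjoint pump-ups -/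
theorem Pump.disjoint {x y v w : G} {K K' N : Subgroup G} (C : Ctx x y) (hv : Inv x y v)
    (hw : Inv x y w) (hwv : w * v = v * w) (hK : K ∈ KK y v) (hK' : K' ∈ KK y v)
    (hf : Fixes w K) (hf' : Fixes w K') (hN : N ∈ KK y w) (h : Pump v w K N)
    (h' : Pump v w K' N ∨ Pump v w K' (cj v N)) : K = K' := by
  by_contra hne
  have hv2 := sq_of_order hv.ov
  have hw2 := sq_of_order hw.ov
  have hvw : v ∈ centralizer ({w} : Set G) := mem_c hwv.symm
  have T := KK.triple C hv hK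
  have T' := KK.triple C hv hK'
  have hNK := KK.triple C hw hN
  obtain ⟨h1, h3⟩ := isComp_cen T.comp (mem_c hwv) hw2 hf
  obtain ⟨h1', h3'⟩ := isComp_cen T'.comp (mem_c hwv) hw2 hf'
  have hMne : cen K w ≠ cen K' w := fun h =>
    hne (h1.unique T.comp T'.comp (cen_le K w) (h ▸ cen_le K' w))
  have hcomm := h1.comm_le_core h1' hMne
  rcases h with ⟨hvN, hMN, hsup⟩ | ⟨hdN, hdM⟩
  · have hcj : cj v N = N := mem_normalizer_iff_cj.mp hvN
    rw [hcj, or_self] at h'
    rcases h' with ⟨-, hMN', hsup'⟩ | ⟨h, -⟩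
    · -- `N / O(N)` would be abelian
      have h5 : ∀ m ∈ N, ∀ n ∈ N, ⁅m, n⁆ ∈ core N := by
        intro m hm n hn
        obtain ⟨m₁, hm₁, hc₁⟩ := exists_mul_of_sup hsup hm
        obtain ⟨n₁, hn₁, hd₁⟩ := exists_mul_of_sup hsup' hn
        have h6 : ⁅m₁, n₁⁆ ∈ core N := by
          have h7 := hcomm (commutator_mem_commutator hm₁ hn₁)
          exact core_le_of_sup hsup h7.1
        obtain ⟨π, hπ⟩ : ∃ π, π = QuotientGroup.mk' (oddCore ↥N) := ⟨_, rfl⟩
        have e1 : π ⟨m, hm⟩ = π ⟨m₁, hMN hm₁⟩ := by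
          rw [hπ]
          exact ((mk_eq_iff (hMN hm₁) hm).mpr hc₁).symm
        have e2 : π ⟨n, hn⟩ = π ⟨n₁, hMN' hn₁⟩ := by
          rw [hπ]
          exact ((mk_eq_iff (hMN' hn₁) hn).mpr hd₁).symm
        have e3 : π ⁅(⟨m, hm⟩ : ↥N), ⟨n, hn⟩⁆ = 1 := by
          rw [map_commutatorElement, e1, e2, ← map_commutatorElement, hπ]
          exact (QuotientGroup.eq_one_iff _).mpr
            ((mem_core_iff (⁅(⟨m₁, hMN hm₁⟩ : ↥N), ⟨n₁, hMN' hn₁⟩⁆ : ↥N).2).mp h6)
        rw [hπ] at e3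
        exact (mem_core_iff (⁅(⟨m, hm⟩ : ↥N), ⟨n, hn⟩⁆ : ↥N).2).mpr
          ((QuotientGroup.eq_one_iff _).mp e3)
      have h6 : ⁅N, N⁆ ≤ core N := commutator_le.mpr h5
      rw [hN.1.perfect] at h6
      exact hN.1.not_odd (odd_card_core N) h6
    · exact h hcj
  · rcases h' with (⟨hvN, -⟩ | ⟨-, hdM'⟩) | (⟨hvN, -⟩ | ⟨-, hdM'⟩)
    · exact hdN (mem_normalizer_iff_cj.mp hvN)
    · exact hMne (hdM.trans hdM'.symm)
    · apply hdN
      have h5 := mem_normalizer_iff_cj.mp hvN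
      exact cj_injective v h5
    · rw [diag_cj' hN.1 hvw hv2 hdN] at hdM'
      exact hMne (hdM.trans hdM'.symm)

/-- **(2)** of #8764. -/
theorem exists_bij (R : RTriv G) {x y v w : G} (C : Ctx x y) (hv : Inv x y v) (hw : Inv x y w)
    (hwv : w * v = v * w) (hf : ∀ K ∈ KK y v, Fixes w K)
    (hmax : (KK y w).ncard ≤ (KK y v).ncard) :
    ∃ φ : Subgroup G → Subgroup G, Set.BijOn φ (KK y v) (KK y w) ∧
      ∀ K ∈ KK y v, v ∈ normalizer (φ K : Set G) ∧ cen K w ≤ φ K ∧ cen K w ⊔ core (φ K) = φ K := by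
  classical
  have hex : ∀ K : Subgroup G, ∃ N : Subgroup G, K ∈ KK y v → N ∈ KK y w ∧ Pump v w K N := by
    intro K
    by_cases hK : K ∈ KK y v
    · obtain ⟨N, h1, h2⟩ := exists_pump' R C hv hw hwv hK (hf K hK)
      exact ⟨N, fun _ => ⟨h1, h2⟩⟩
    · exact ⟨⊥, fun h => absurd h hK⟩
  choose φ hφ using hex
  have hmaps : Set.MapsTo φ (KK y v) (KK y w) := fun K hK => (hφ K hK).1
  have hinj : Set.InjOn φ (KK y v) := by
    intro K hK K' hK' h
    exact Pump.disjoint C hv hw hwv hK hK' (hf K hK) (hf K' hK') (hφ K hK).1 (hφ K hK).2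
      (Or.inl (h ▸ (hφ K' hK').2))
  have himg : φ '' (KK y v) = KK y w :=
    Set.eq_of_subset_of_ncard_le (Set.image_subset_iff.mpr hmaps)
      (by rw [Set.InjOn.ncard_image hinj]; exact hmax) (Set.toFinite _)
  refine ⟨φ, ⟨hmaps, hinj, himg.ge⟩, fun K hK => ?_⟩
  rcases (hφ K hK).2 with h | ⟨hne, hd⟩
  · exact h
  · -- a diagonal pump-up gives two members of `KK y w`
    exfalso
    have hN := (hφ K hK).1
    have hN' : cj v (φ K) ∈ KK y w := KK.cj_mem hN hwv.symm hv.cy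
    rw [← himg] at hN'
    obtain ⟨K', hK', hKK⟩ := hN'
    have h1 := Pump.disjoint C hv hw hwv hK hK' (hf K hK) (hf K' hK') hN (Or.inr ⟨hne, hd⟩)
      (Or.inr (hKK ▸ (hφ K' hK').2))
    rw [← h1] at hKK
    exact hne hKK.symm

/-- An element `r ∈ C(v, w)` fixing the members of `KK y v` fixes the members of `KK y w`. -/
theorem fixes_of_bij (R : RTriv G) {x y v w r : G} (C : Ctx x y) (hv : Inv x y v) (hw : Inv x y w)
    (hwv : w * v = v * w) (hf : ∀ K ∈ KK y v, Fixes w K)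
    (hmax : (KK y w).ncard ≤ (KK y v).ncard) (hrw : r * w = w * r)
    (hr : ∀ K ∈ KK y v, Fixes r K) : ∀ N ∈ KK y w, Fixes r N := by
  intro N hN
  obtain ⟨φ, hbij, hφ⟩ := exists_bij R C hv hw hwv hf hmax
  obtain ⟨K, hK, rfl⟩ := hbij.surjOn hN
  obtain ⟨-, h1, h2⟩ := hφ K hK
  exact Triv.fixes (KK.triple C hv hK) ⟨KK.triple C hw hN, h1, h2⟩ hwv (hf K hK) hrw (hr K hK)

/-- **(3)** of #8764: `v` with `|KK y v|` maximal, `g ≠ w` commuting involutions of `C(x, y, v)` fixing the members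
of `KK y v`. Then `x g` is bad. -/
theorem bad_of_two (W : RWorld G) (R : RTriv G) {x y v g w : G} (C : Ctx x y) (hv : Inv x y v)
    (hmax : ∀ u, Inv x y u → (KK y u).ncard ≤ (KK y v).ncard)
    (hg : Inv x y g) (hw : Inv x y w) (hgv : g * v = v * g) (hwv : w * v = v * w)
    (hgw : g * w = w * g) (hne : w ≠ g) (hfg : ∀ K ∈ KK y v, Fixes g K)
    (hfw : ∀ K ∈ KK y v, Fixes w K) (hxg : x ≠ g) :
    y ∈ core (centralizer ({x * g} : Set G)) := by
  have hx : Inv x y x := Inv.self C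
  have he : Inv x y (x * g) := hx.mul hg hg.cx.symm hxg
  have cgx : Commute g x := hg.cx
  have cwx : Commute w x := hw.cx
  have cgw : Commute g w := hgw
  have cwv : Commute w v := hwv
  have cgv : Commute g v := hgv
  have hxgx : x * g * x⁻¹ = g := by rw [← hg.cx, mul_inv_cancel_right]
  have hwg := hw.mul hg hgw.symm hne
  have hfwg : ∀ K ∈ KK y v, Fixes (w * g) K := fun K hK => fixes_mul (hfw K hK) (hfg K hK)
  refine bad_of_act W C hw hg hgw.symm hne he ?_ ?_ ?_ ?_ ?_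
  · exact (cwx.symm.mul_left cgw).eq
  · exact (cgx.symm.mul_left (Commute.refl g)).eq
  · intro N hN
    rw [hxgx]
    exact fixes_of_bij R C hv hw hwv hfw (hmax w hw) hgw hfg N hN
  · intro N hN
    rw [hxgx]
    exact fixes_of_bij R C hv hg hgv hfg (hmax g hg) rfl hfg N hN
  · intro N hN
    rw [hxgx]
    exact fixes_of_bij R C hv hwg (cwv.mul_left cgv).eq hfwg (hmax _ hwg)
      (cgw.mul_right (Commute.refl g)).eq hfg N hN

end Cfsg.Agent.UGT.Res.KMax
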