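import Cfsg.Agent.UGT.Res.Abel
import Cfsg.Agent.UGT.Res.KMax
import Cfsg.Agent.UGT.Res.CMax

/-!
# The centralizers of the elements of `F a` if all `Δ(V)` are trivial

* `exists_two`: the 2-elements of `L` are modulo `O(L)` 2-elements of `L ∩ C(F)`, `F` a 2-group fixing `L`.
* `comp_le` (C'): `L` a 2-component of `C(u)` fixed by `F ∋ u` elementary abelian of order at least 8, `Δ(⟨u, e⟩) = 1`
  for all `e ∈ F ∖ ⟨u⟩`. Then `L` centralizes `F` and `O(C(u))`.
* `U_eq` (C''): `|U a|` maximal, `a ∈ F ≤ F a` elementary abelian of order at least 8, all `Δ(V) = 1`, `V ≤ F`: then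
  `U f = U a` for all `f ∈ F#`.
* `core_facts` (E'): the same for the triples `(x, f, K)`. Then `O(C(x))` centralizes `F`, normalizes the members of
  `U a` and acts faithfully on them.
* `isMax_mul` (E''): if `|U_x a|` is maximal for all pairs `(x, a)` then `U_{xf} a = U_x a` for all `f ∈ F`.
-/

set_option autoImplicit false

open Cfsg Subgroup
open Cfsg.Agent.SignalizersComponents Cfsg.Agent.Lib
open Cfsg.Agent.SignalizersComponents.IntrinsicBasic
open Cfsg.Agent.Intrinsic.Basic Cfsg.Agent.Intrinsic.Cen Cfsg.Agent.Intrinsic.Diag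
open Cfsg.Agent.McLLyComp.Act
open Cfsg.Agent.UGT.Triple Cfsg.Agent.UGT.PumpGen Cfsg.Agent.UGT.TriBase
open Cfsg.Agent.UGT.Res.Base Cfsg.Agent.UGT.Res.Abel
open Cfsg.Agent.UGT.Res.KMax (RTriv)
open Cfsg.Agent.UGT.Res.CMax
open scoped commutatorElement

namespace Cfsg.Agent.UGT.Res.CoreFree

variable {G : Type*} [Group G]

/-! ### elementary abelian groups of order at least 8 -/

theorem four_le_card {F B : Subgroup G} (h8 : 8 ≤ Nat.card ↥F) (hB : B ≤ F)
    (hi : B.relIndex F = 2) : 4 ≤ Nat.card ↥B := by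
  have := relIndex_mul_relIndex ⊥ B F bot_le hB
  rw [relIndex_bot_left, relIndex_bot_left, hi] at this
  omega

theorem exists_ne [Finite G] {B : Subgroup G} (h : 4 ≤ Nat.card ↥B) (u : G) :
    ∃ e ∈ B, e ≠ 1 ∧ e ≠ u := by
  by_contra hcon
  push Not at hcon
  have h6 : ((B : Subgroup G) : Set G) ⊆ {1, u} := by
    intro e he
    by_cases h : e = 1
    · left; exact h
    · right; exact hcon e he h
  have h7 := Set.ncard_le_ncard h6 (Set.toFinite _)
  have h8 : ({1, u} : Set G).ncard ≤ 2 := Set.ncard_insert_le _ _ |>.trans (by simp)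
  have h9 : ((B : Subgroup G) : Set G).ncard = Nat.card ↥B := rfl
  omega

theorem le_of_hyperplanes [Finite G] {F Q N : Subgroup G} (hE : IsElementaryAbelian 2 F)
    (h8 : 8 ≤ Nat.card ↥F) (hQ : Odd (Nat.card ↥Q)) (hn : F ≤ normalizer (Q : Set G))
    (h : ∀ B : Subgroup G, B ≤ F → 4 ≤ Nat.card ↥B → Q ⊓ centralizer (B : Set G) ≤ N) : Q ≤ N := by
  have hp : Fact (Nat.Prime 2) := ⟨Nat.prime_two⟩
  have hE1 : F ≠ ⊥ := by
    rintro rfl
    rw [card_bot] at h8
    omega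
  have hQ2 : ¬ 2 ∣ Nat.card ↥Q := by
    rwa [← even_iff_two_dvd, Nat.not_even_iff_odd]
  rw [← Lib.CoprimeHyperplane.iSup_centralizer_hyperplane hE hE1 hQ2 hn]
  exact iSup_le fun B => h B.1 B.2.1 (four_le_card h8 B.2.1 B.2.2)

theorem comm_of_el {F : Subgroup G} (hE : IsElementaryAbelian 2 F) {e f : G} (he : e ∈ F)
    (hf : f ∈ F) : e * f = f * e :=
  congrArg Subtype.val (hE.1.is_comm.comm (⟨e, he⟩ : ↥F) ⟨f, hf⟩)

theorem sq_of_el {F : Subgroup G} (hE : IsElementaryAbelian 2 F) {e : G} (he : e ∈ F) :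
    e * e = 1 := by
  rw [← pow_two]
  exact hE.2 e he

theorem order_of_el {F : Subgroup G} (hE : IsElementaryAbelian 2 F) {e : G} (he : e ∈ F)
    (h1 : e ≠ 1) : orderOf e = 2 :=
  orderOf_eq_prime (by rw [pow_two]; exact sq_of_el hE he) h1

theorem isPGroup_of_el {F : Subgroup G} (hE : IsElementaryAbelian 2 F) : IsPGroup 2 ↥F :=
  fun f => ⟨1, Subtype.ext (by
    rw [pow_one]
    exact hE.2 f f.2)⟩

variable [Finite G]

/-! ### 2-elements of `L` and `L ∩ C(F)` -/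

/-- The 2-elements of `L` are modulo `O(L)` 2-elements of `L ∩ C(F)`, `F` a 2-group fixing `L`. -/
theorem exists_two {F L : Subgroup G} (hF : IsPGroup 2 ↥F) (hfix : ∀ f ∈ F, Fixes f L) {l : G}
    (hl : l ∈ L) {n : ℕ} (hn : l ^ 2 ^ n = 1) :
    ∃ j ∈ L, (∀ f ∈ F, f * j = j * f) ∧ (∃ k : ℕ, j ^ 2 ^ k = 1) ∧ j⁻¹ * l ∈ core L := by
  have hp : Fact (Nat.Prime 2) := ⟨Nat.prime_two⟩
  have hodd := odd_card_core L
  have h2 : ¬ 2 ∣ Nat.card ↥(core L) := by
    rwa [← even_iff_two_dvd, Nat.not_even_iff_odd]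
  obtain ⟨d, hd, hfd⟩ := CoprimeBasic.exists_fixed_in_coset F hF (core L) h2
    (fun a ha d hd => conj_mem_core (hfix a ha).1 hd) l
    (fun a ha => (fixes_iff_conj.mp (hfix a ha)).2 l hl)
  obtain ⟨g, hg⟩ : ∃ g, g = l * d := ⟨_, rfl⟩
  rw [← hg] at hfd
  have hgL : g ∈ L := hg ▸ mul_mem hl (core_le _ hd)
  have hnorm : ((core L).subgroupOf L).Normal := normal_subgroupOf_of_le_normalizer (le_normalizer_core L)
  obtain ⟨s, r, hr, hsr⟩ := Nat.exists_eq_two_pow_mul_odd (orderOf_pos g).ne'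
  have hcop : Nat.Coprime r (2 ^ n) := Nat.Coprime.pow_right n (Nat.coprime_two_right.mpr hr)
  obtain ⟨t, ht⟩ : ∃ t : ℕ, (r * t) % 2 ^ n = 1 % 2 ^ n := by
    obtain ⟨t, ht⟩ := Nat.exists_mul_mod_eq_of_coprime 1 hcop (by positivity)
    exact ⟨t, ht.2⟩
  refine ⟨g ^ (r * t), pow_mem hgL _, fun f hf => ?_, ⟨s, ?_⟩, ?_⟩
  · have h3 : Commute f g := hfd f hf
    exact (h3.pow_right (r * t)).eq
  · rw [← pow_mul]
    have h3 : r * t * 2 ^ s = (2 ^ s * r) * t := by ring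
    rw [h3, ← hsr, pow_mul, pow_orderOf_eq_one, one_pow]
  · obtain ⟨π, hπ⟩ : ∃ π, π = QuotientGroup.mk' ((core L).subgroupOf L) := ⟨_, rfl⟩
    have h3 : π ⟨g, hgL⟩ = π ⟨l, hl⟩ := by
      rw [hπ]
      refine ((QuotientGroup.eq).mpr ?_).symm
      rw [mem_subgroupOf]
      change l⁻¹ * g ∈ core L
      rw [hg, inv_mul_cancel_left]
      exact hd
    have h4 : (⟨l, hl⟩ : ↥L) ^ (r * t) = ⟨l, hl⟩ := by
      have h5 : (⟨l, hl⟩ : ↥L) ^ 2 ^ n = 1 := Subtype.ext hn
      rw [← Nat.mod_add_div (r * t) (2 ^ n), ht, pow_add, pow_mul _ (2 ^ n), h5, one_pow, mul_one]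
      rcases Nat.eq_zero_or_pos n with rfl | hn0
      · rw [pow_zero, pow_one] at h5
        rw [h5, one_pow]
      · rw [Nat.mod_eq_of_lt (Nat.one_lt_two_pow hn0.ne'), pow_one]
    have h5 : π (⟨g, hgL⟩ ^ (r * t)) = π ⟨l, hl⟩ := by
      rw [map_pow, h3, ← map_pow, h4]
    rw [hπ] at h5
    have h6 := (QuotientGroup.eq).mp h5
    rw [mem_subgroupOf] at h6
    exact h6

/-! ### (C') -/

/-- **(C')** -/
theorem comp_le (hB : ∀ v : G, orderOf v = 2 → HasBProperty ↥(centralizer ({v} : Set G)))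
    {F L : Subgroup G} {u : G} (hE : IsElementaryAbelian 2 F) (h8 : 8 ≤ Nat.card ↥F) (huF : u ∈ F)
    (hu : orderOf u = 2) (hD : ∀ e ∈ F, e ≠ 1 → e ≠ u → DTriv u e)
    (hL : IsComp (centralizer ({u} : Set G)) L) (hfix : ∀ f ∈ F, Fixes f L) :
    L ≤ centralizer (F : Set G) ∧ L ≤ centralizer (core (centralizer ({u} : Set G)) : Set G) := by
  rw [← le_inf_iff]
  refine hL.le_of_two fun l hl n hn => ?_
  obtain ⟨j, hj, hjF, ⟨k, hk⟩, hjl⟩ := exists_two (isPGroup_of_el hE) hfix hl hn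
  have hFu : F ≤ centralizer ({u} : Set G) := fun f hf => mem_c (comm_of_el hE hf huF)
  have h1 : core (centralizer ({u} : Set G)) ≤ centralizer ({j} : Set G) := by
    refine le_of_hyperplanes hE h8 (odd_card_core _) (hFu.trans (le_normalizer_core _)) ?_
    rintro B hBF h4 r ⟨hr, hrB⟩
    obtain ⟨e, heB, he1, heu⟩ := exists_ne h4 u
    have heF := hBF heB
    have he := order_of_el hE heF he1
    have hre : r ∈ centralizer ({e} : Set G) := mem_c (mem_centralizer_iff.mp hrB e heB).symm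
    have hcen := (isComp_cen hL (hFu heF) (sq_of_el hE heF) (hfix e heF)).1
    have hjc : j ∈ cen L e := mem_cen hj (hjF e heF).symm hk
    have hr' := inf_le_core' hr hre
    rw [inf_comm] at hr'
    obtain ⟨c1, c2, c3⟩ := lemmaC hB hu he (comm_of_el hE heF huF) heu.symm hcen hr' hjc
    have h2 := hD e heF he1 heu _ c1 c2 c3
    exact mem_c (commutatorElement_eq_one_iff_mul_comm.mp h2).symm
  have hjl' : j⁻¹ * l = 1 := by
    have hc : j⁻¹ * l ∈ core (centralizer ({u} : Set G)) := hL.core_le_core hjl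
    have hcj : Commute j (j⁻¹ * l) := (comm_c (h1 hc)).symm
    refine eq_one_of_mem_core hjl (n := max n k) ?_
    have h2 : l = j * (j⁻¹ * l) := by group
    have h3 : l ^ 2 ^ max n k = 1 := by
      rw [show max n k = n + (max n k - n) by omega, pow_add, pow_mul, hn, one_pow]
    have h4 : j ^ 2 ^ max n k = 1 := by
      rw [show max n k = k + (max n k - k) by omega, pow_add, pow_mul, hk, one_pow]
    rw [h2, hcj.mul_pow, h4, one_mul] at h3
    exact h3
  have hlj : l = j := by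
    rw [inv_mul_eq_one] at hjl'
    exact hjl'.symm
  rw [hlj]
  refine ⟨mem_centralizer_iff.mpr fun f hf => hjF f hf, mem_centralizer_iff.mpr fun r hr => ?_⟩
  exact comm_c (h1 hr)

/-! ### (C'') -/

section U

variable {Y : Subgroup G} {TT : G → Subgroup G → Prop}

/-- the members of `U e`, `e ∈ F`, centralize `F` and `O(C(e))` -/
theorem U_le (hB : ∀ v : G, orderOf v = 2 → HasBProperty ↥(centralizer ({v} : Set G)))
    (P : PC Y TT) {F : Subgroup G} {e : G} (hE : IsElementaryAbelian 2 F) (h8 : 8 ≤ Nat.card ↥F)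
    (heF : e ∈ F) (hD : ∀ f ∈ F, f ≠ 1 → f ≠ e → DTriv e f) (hle : F ≤ CMax.F Y TT e)
    {K : Subgroup G} (hK : TT e K) :
    K ≤ centralizer (F : Set G) ∧ K ≤ centralizer (core (centralizer ({e} : Set G)) : Set G) :=
  comp_le hB hE h8 heF (P.inv hK) hD (P.comp hK) fun _ hf => (hle hf).2.2 K hK

omit [Finite G] in
theorem cen_eq {H K : Subgroup G} [Finite G] {e : G} (hK : IsComp H K)
    (hle : K ≤ centralizer ({e} : Set G)) : cen K e = K := by
  refine le_antisymm (cen_le K e) (hK.le_of_two fun k hk n hn => mem_cen hk (comm_c (hle hk)) hn)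

/-- **(C'')** `U f = U a` for all `f ∈ F#` -/
theorem U_eq (hB : ∀ v : G, orderOf v = 2 → HasBProperty ↥(centralizer ({v} : Set G)))
    (P : PC Y TT) {F : Subgroup G} {a : G} (hE : IsElementaryAbelian 2 F) (h8 : 8 ≤ Nat.card ↥F)
    (haF : a ∈ F) (hD : ∀ e ∈ F, e ≠ 1 → ∀ f ∈ F, f ≠ 1 → f ≠ e → DTriv e f)
    (h : IsMax TT a) (hle : F ≤ CMax.F Y TT a) {f : G} (hfF : f ∈ F) (hf1 : f ≠ 1)
    {K : Subgroup G} : TT f K ↔ TT a K := by
  have haF1 : a ≠ 1 := ne_one_of_order (h.inv P)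
  have hf := order_of_el hE hfF hf1
  obtain ⟨p1, p2, p3, p4⟩ := h.pump P (hle hfF) hf
  have hle' : F ≤ CMax.F Y TT f := fun g hg =>
    h.mem_F P (hle hfF) hf (hle hg) (comm_of_el hE hg hfF)
  -- the pump-up of `K ∈ U a` is `K`
  have key : ∀ {K N : Subgroup G}, Over TT a f K N → K = N := by
    intro K N hO
    obtain ⟨c1, -⟩ := U_le hB P hE h8 haF (hD a haF haF1) hle hO.left
    obtain ⟨d1, d2⟩ := U_le hB P hE h8 hfF (hD f hfF hf1) hle' hO.right
    have hKf : K ≤ centralizer ({f} : Set G) := fun k hk =>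
      mem_c (mem_centralizer_iff.mp (c1 hk) f hfF).symm
    have hNa : N ≤ centralizer ({a} : Set G) := fun k hk =>
      mem_c (mem_centralizer_iff.mp (d1 hk) a haF).symm
    have hKN : K ≤ N := by
      have := hO.le
      rwa [cen_eq (P.comp hO.left) hKf] at this
    -- the pump-up of `N` is a member of `U a`
    obtain ⟨q1, -⟩ := p3.pump P p4 (P.inv hO.left)
    obtain ⟨K', hO'⟩ := q1 N hO.right
    have hNK' : N ≤ K' := by
      have := hO'.le
      rwa [cen_eq (P.comp hO.right) hNa] at this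
    have h1 := (P.comp hO.left).eq_of_le (P.comp hO'.right) (hKN.trans hNK')
    rw [← h1] at hNK'
    exact le_antisymm hKN hNK'
  constructor
  · intro hK
    obtain ⟨K', hO⟩ := p2 K hK
    rw [← key hO]
    exact hO.left
  · intro hK
    obtain ⟨N, hO⟩ := p1 K hK
    rw [key hO]
    exact hO.right

end U

/-! ### (E') -/

/-- `O(C(x))` centralizes `F`, normalizes the members of `𝒰` and acts faithfully on them -/
structure Facts (x : G) (F : Subgroup G) (𝒰 : Set (Subgroup G)) : Prop where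
  cent : core (centralizer ({x} : Set G)) ≤ centralizer (F : Set G)
  norm : ∀ K ∈ 𝒰, core (centralizer ({x} : Set G)) ≤ normalizer (K : Set G)
  faith : ∀ d ∈ core (centralizer ({x} : Set G)), (∀ K ∈ 𝒰, Fixes d K) → d = 1

/-- **(E')** -/
theorem core_facts {x : G} {F : Subgroup G} {𝒰 : Set (Subgroup G)} (hx : orderOf x = 2)
    (hE : IsElementaryAbelian 2 F) (h8 : 8 ≤ Nat.card ↥F) (hFx : F ≤ centralizer ({x} : Set G))
    (hD : ∀ e ∈ F, e ≠ 1 → ∀ f ∈ F, f ≠ 1 → f ≠ e → DTriv e f)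
    (hU : ∀ f ∈ F, f ≠ 1 → ∀ K, IsTriple x f K ↔ K ∈ 𝒰) (hfix : ∀ f ∈ F, ∀ K ∈ 𝒰, Fixes f K) :
    Facts x F 𝒰 := by
  obtain ⟨D, hDef⟩ : ∃ D, D = core (centralizer ({x} : Set G)) := ⟨_, rfl⟩
  have hDodd : Odd (Nat.card ↥D) := hDef ▸ odd_card_core _
  have hDn : F ≤ normalizer (D : Set G) := by
    rw [hDef]
    exact hFx.trans (le_normalizer_core _)
  -- `D` normalizes the members of `𝒰`
  have hnorm : ∀ K ∈ 𝒰, D ≤ normalizer (K : Set G) := by
    intro K hK
    refine le_of_hyperplanes hE h8 hDodd hDn ?_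
    rintro B hBF h4 d ⟨hd, hdB⟩
    obtain ⟨e, heB, he1, -⟩ := exists_ne h4 1
    rw [hDef] at hd
    exact ((hU e (hBF heB) he1 K).mpr hK).mem_normalizer_of_core hd
      (mem_c (mem_centralizer_iff.mp hdB e heB).symm)
  -- no element `≠ 1` of `C_D(B)` fixes all members of `𝒰`
  have hfaith : ∀ B : Subgroup G, B ≤ F → 4 ≤ Nat.card ↥B → ∀ d ∈ D, d ∈ centralizer (B : Set G) →
      (∀ K ∈ 𝒰, Fixes d K) → d = 1 := by
    intro B hBF h4 d hd hdB hf
    obtain ⟨e, heB, he1, -⟩ := exists_ne h4 1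
    obtain ⟨f, hfB, hf1, hfe⟩ := exists_ne h4 e
    have heF := hBF heB
    have hfF := hBF hfB
    rw [hDef] at hd
    have hmem : ∀ g ∈ B, g ≠ 1 → d ∈ core (centralizer ({g} : Set G)) := by
      intro g hg hg1
      by_contra hn
      obtain ⟨J, T, hfJ⟩ := exists_triple hx (order_of_el hE (hBF hg) hg1)
        (comm_c (hFx (hBF hg))) hd (mem_c (mem_centralizer_iff.mp hdB g hg).symm) hn
      exact hfJ (hf J ((hU g (hBF hg) hg1 J).mp T))
    refine hD e heF he1 f hfF hf1 hfe d (hmem e heB he1) (hmem f hfB hf1)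
      (hmem (e * f) (mul_mem heB hfB) fun h => hfe ?_)
    have h1 := eq_inv_of_mul_eq_one_right h
    rw [h1]
    exact inv_eq_of_mul_eq_one_left (sq_of_el hE heF)
  -- the kernel of `D` on `𝒰`
  obtain ⟨C, hC⟩ : ∃ C : Subgroup G, ∀ d, d ∈ C ↔ d ∈ D ∧ ∀ K ∈ 𝒰, Fixes d K :=
    ⟨{ carrier := {d | d ∈ D ∧ ∀ K ∈ 𝒰, Fixes d K}
       mul_mem' := fun h h' => ⟨mul_mem h.1 h'.1, fun K hK => fixes_mul (h.2 K hK) (h'.2 K hK)⟩
       one_mem' := ⟨one_mem _, fun K _ => fixes_one K⟩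
       inv_mem' := fun h => ⟨inv_mem h.1, fun K hK => fixes_inv (h.2 K hK)⟩ }, fun _ => Iff.rfl⟩
  have hCD : C ≤ D := fun d hd => ((hC d).mp hd).1
  have hCodd : Odd (Nat.card ↥C) := hDodd.of_dvd_nat (card_dvd_of_le hCD)
  have hCn : F ≤ normalizer (C : Set G) := by
    have hle : ∀ f ∈ F, ∀ d ∈ C, f * d * f⁻¹ ∈ C := by
      intro f hf d hd
      obtain ⟨h1, h2⟩ := (hC d).mp hd
      refine (hC _).mpr ⟨(mem_normalizer_iff.mp (hDn hf) d).mp h1, fun K hK => ?_⟩
      exact fixes_mul (fixes_mul (hfix f hf K hK) (h2 K hK)) (fixes_inv (hfix f hf K hK))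
    intro f hf
    rw [mem_normalizer_iff]
    refine fun d => ⟨hle f hf d, fun h => ?_⟩
    have h1 := hle _ (inv_mem hf) _ h
    have h2 : f⁻¹ * (f * d * f⁻¹) * f⁻¹⁻¹ = d := by group
    rwa [h2] at h1
  have hC1 : C ≤ ⊥ := by
    refine le_of_hyperplanes hE h8 hCodd hCn ?_
    rintro B hBF h4 d ⟨hd, hdB⟩
    obtain ⟨h1, h2⟩ := (hC d).mp hd
    exact mem_bot.mpr (hfaith B hBF h4 d h1 hdB h2)
  have hC1' : ∀ d ∈ D, (∀ K ∈ 𝒰, Fixes d K) → d = 1 := fun d hd h =>
    mem_bot.mp (hC1 ((hC d).mpr ⟨hd, h⟩))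
  refine ⟨?_, fun K hK => hDef ▸ hnorm K hK, fun d hd => hC1' d (hDef ▸ hd)⟩
  rw [← hDef]
  intro d hd
  rw [mem_centralizer_iff]
  intro f hf
  rw [← commutatorElement_eq_one_iff_mul_comm]
  refine hC1' _ ?_ fun K hK => ?_
  · rw [commutatorElement_def]
    exact mul_mem ((mem_normalizer_iff.mp (hDn hf) d).mp hd) (inv_mem hd)
  · have h1 := fixes_inv (hfix f hf K hK)
    have h2 := h1.cj d
    rw [mem_normalizer_iff_cj.mp (hnorm K hK hd)] at h2
    have h3 := fixes_mul (hfix f hf K hK) h2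
    convert h3 using 1
    rw [commutatorElement_def]
    group

/-! ### all triples `(x, t, K)` -/

/-- The class of all triples `(x, t, K)`. -/
theorem pc_all (R : RTriv G) (x : G) :
    PC (centralizer ({x} : Set G)) (IsTriple x) where
  mem h := mem_c h.comm
  inv h := h.inva
  comp h := h.comp
  conj := by
    intro t g K hg h
    have h1 := h.cj g
    rwa [comm_c hg, mul_inv_cancel_right] at h1
  pump := by
    intro t c K h hc hcx hct hcK
    obtain ⟨N, hN, hor⟩ := h.pump hc hct (comm_c hcx) hcK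
    refine ⟨N, hN, ?_⟩
    rcases hor with ⟨h3, h4⟩ | h3
    · exact Or.inl ⟨h3, h4, R.triv h hc hct (comm_c hcx) hcK hN h3 h4⟩
    · exact Or.inr h3

/-- the hypotheses: `a ∈ F ≤ F a` elementary abelian of order at least 8, `Δ(V) = 1` for `V ≤ F` -/
structure Hyp (x a : G) (F : Subgroup G) : Prop where
  invx : orderOf x = 2
  el : IsElementaryAbelian 2 F
  card : 8 ≤ Nat.card ↥F
  mem : a ∈ F
  le : F ≤ CMax.F (centralizer ({x} : Set G)) (IsTriple x) a
  max : IsMax (IsTriple x) a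
  triv : ∀ e ∈ F, e ≠ 1 → ∀ f ∈ F, f ≠ 1 → f ≠ e → DTriv e f

/-- (C'') + (E') -/
theorem Hyp.facts (hB : ∀ v : G, orderOf v = 2 → HasBProperty ↥(centralizer ({v} : Set G)))
    (R : RTriv G) {x a : G} {F : Subgroup G} (H : Hyp x a F) :
    (∀ f ∈ F, f ≠ 1 → ∀ K, IsTriple x f K ↔ IsTriple x a K) ∧
      (∀ K, IsTriple x a K → K ≤ centralizer (F : Set G)) ∧
      (∀ K, IsTriple x a K → K ≤ centralizer (core (centralizer ({a} : Set G)) : Set G)) ∧
      Facts x F {K | IsTriple x a K} := by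
  have P := pc_all R x
  have ha1 : a ≠ 1 := ne_one_of_order (H.max.inv P)
  have h1 : ∀ f ∈ F, f ≠ 1 → ∀ K, IsTriple x f K ↔ IsTriple x a K := fun f hf hf1 K =>
    U_eq hB P H.el H.card H.mem H.triv H.max H.le hf hf1
  refine ⟨h1, fun K hK => ?_, fun K hK => ?_, ?_⟩
  · exact (U_le hB P H.el H.card H.mem (H.triv a H.mem ha1) H.le hK).1
  · exact (U_le hB P H.el H.card H.mem (H.triv a H.mem ha1) H.le hK).2
  · exact core_facts H.invx H.el H.card (fun f hf => (H.le hf).1) H.triv h1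
      fun f hf K hK => (H.le hf).2.2 K hK

/-- an element of `K` commuting with `x`, `F` lies in `O(C(x f))` if it lies in `O(C(x))` -/
theorem Hyp.mem_core_mul (hB : ∀ v : G, orderOf v = 2 → HasBProperty ↥(centralizer ({v} : Set G)))
    (W : RWorld G) (R : RTriv G) {x a : G} {F : Subgroup G} (H : Hyp x a F) {K : Subgroup G}
    (hK : IsTriple x a K) {y : G} (hy : y ∈ K) (hyx : y ∈ core (centralizer ({x} : Set G)))
    (hty : Tame y) {f : G} (hf : f ∈ F) (hxf : x ≠ f) : y ∈ core (centralizer ({x * f} : Set G)) := by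
  by_cases hf1 : f = 1
  · rwa [hf1, mul_one]
  have P := pc_all R x
  obtain ⟨-, h2, -, h4⟩ := H.facts hB R
  have hx2 := sq_of_order H.invx
  have hyF : ∀ e ∈ F, e * y = y * e := fun e he => mem_centralizer_iff.mp (h4.cent hyx) e he
  have hxF : ∀ e ∈ F, e * x = x * e := fun e he => comm_c (H.le he).1
  have hKF := h2 K hK
  have hcen : ∀ e ∈ F, cen K e = K := fun e he => cen_eq hK.comp fun k hk =>
    mem_c (mem_centralizer_iff.mp (hKF hk) e he).symm
  have h4' : 4 ≤ Nat.card ↥F := by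
    have := H.card
    omega
  obtain ⟨w₁, hw₁, hw₁1, -⟩ := exists_ne h4' 1
  obtain ⟨w₂, hw₂, hw₂1, hne⟩ := exists_ne h4' w₁
  have o₁ := order_of_el H.el hw₁ hw₁1
  have o₂ := order_of_el H.el hw₂ hw₂1
  have hw₃ := mul_mem hw₁ hw₂
  have o₃ : orderOf (w₁ * w₂) = 2 :=
    order_mul (sq_of_el H.el hw₁) (sq_of_el H.el hw₂) (comm_of_el H.el hw₁ hw₂) hne.symm
  refine CMax.lemmaW W P hty (fun h => h) H.max hK hyx (H.le hw₁) o₁ (H.le hw₂) o₂ o₃
    (by rwa [hcen w₁ hw₁]) (by rwa [hcen w₂ hw₂]) (by rwa [hcen _ hw₃]) (hxF f hf) (hyF f hf)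
    (comm_of_el H.el hf hw₁) (comm_of_el H.el hf hw₂) ((H.le hf).2.2 K hK) ?_
  exact order_mul hx2 (sq_of_el H.el hf) (hxF f hf).symm hxf

/-- **(E'')** -/
theorem Hyp.isMax_mul
    (hB : ∀ v : G, orderOf v = 2 → HasBProperty ↥(centralizer ({v} : Set G)))
    (W : RWorld G) (R : RTriv G) {x a : G} {F : Subgroup G} (H : Hyp x a F)
    (hty : ∀ K, IsTriple x a K → ∀ y ∈ K, y ∈ core (centralizer ({x} : Set G)) → Tame y)
    (hinv : ∀ K, IsTriple x a K → ∀ d ∈ core (centralizer ({x} : Set G)),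
      d ∈ centralizer ({a} : Set G) → ¬ Fixes d K → ∃ k ∈ K, k * x = x * k ∧ ¬ Fixes ⁅d, k⁆ K)
    (hmax : ∀ x' a' : G, c (IsTriple x') a' ≤ c (IsTriple x) a) {f : G} (hf : f ∈ F)
    (hxf : x ≠ f) : Hyp (x * f) a F ∧ ∀ K, IsTriple (x * f) a K ↔ IsTriple x a K := by
  have P := pc_all R x
  have hx2 := sq_of_order H.invx
  have hxF : ∀ e ∈ F, e * x = x * e := fun e he => comm_c (H.le he).1
  obtain ⟨-, -, -, h4⟩ := H.facts hB R
  by_cases hf1 : f = 1
  · rw [hf1, mul_one]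
    exact ⟨H, fun _ => Iff.rfl⟩
  have hxf2 : orderOf (x * f) = 2 := order_mul hx2 (sq_of_el H.el hf) (hxF f hf).symm hxf
  have hle : U (IsTriple x) a ⊆ U (IsTriple (x * f)) a := by
    intro K hK
    have hK' : IsTriple x a K := hK
    obtain ⟨-, ha, -, hcomp, d, hd, hda, hfd⟩ := id hK'
    obtain ⟨k, hk, hkx, hdk⟩ := hinv K hK' d hd hda hfd
    have hdK : d ∈ normalizer (K : Set G) := h4.norm K hK hd
    have hy1 : ⁅d, k⁆ ∈ K := by
      rw [commutatorElement_def]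
      exact mul_mem ((mem_normalizer_iff.mp hdK k).mp hk) (inv_mem hk)
    have hy2 : ⁅d, k⁆ ∈ core (centralizer ({x} : Set G)) := by
      have h5 : k * d⁻¹ * k⁻¹ ∈ core (centralizer ({x} : Set G)) :=
        conj_mem_core (le_normalizer (mem_c hkx)) (inv_mem hd)
      have h6 : ⁅d, k⁆ = d * (k * d⁻¹ * k⁻¹) := by
        rw [commutatorElement_def]
        group
      rw [h6]
      exact mul_mem hd h5
    have hy3 := H.mem_core_mul hB W R hK' hy1 hy2 (hty K hK' _ hy1 hy2) hf hxf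
    have haf : a * f = f * a := comm_of_el H.el H.mem hf
    have hax : Commute a x := hxF a H.mem
    exact ⟨hxf2, ha, (hax.mul_right haf).eq, hcomp, ⁅d, k⁆, hy3, hcomp.le hy1, hdk⟩
  have heq : U (IsTriple x) a = U (IsTriple (x * f)) a :=
    Set.eq_of_subset_of_ncard_le hle (hmax (x * f) a) (Set.toFinite _)
  have hiff : ∀ K, IsTriple (x * f) a K ↔ IsTriple x a K := by
    intro K
    have := Set.ext_iff.mp heq K
    exact this.symm
  have hceq : c (IsTriple (x * f)) a = c (IsTriple x) a := by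
    unfold c
    rw [heq]
  refine ⟨⟨hxf2, H.el, H.card, H.mem, fun e he => ?_, ⟨?_, fun t => ?_⟩, H.triv⟩, hiff⟩
  · have hex : Commute e x := hxF e he
    exact ⟨mem_c (hex.mul_right (comm_of_el H.el he hf)).eq, (H.le he).2.1, fun K hK =>
      (H.le he).2.2 K ((hiff K).mp hK)⟩
  · rw [← heq]
    exact H.max.ne
  · rw [hceq]
    exact hmax (x * f) t

end Cfsg.Agent.UGT.Res.CoreFree
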