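import Cfsg.Agent.UGT.Res.WFun
import Cfsg.Agent.UGT.A9.LTwoRank
import Cfsg.Agent.UGT.L2Inner.P3What

/-!
# CLAIM B: `W_U = W` for every elementary abelian `U` of order at least 16 containing a fine involution

* `exists_four_fixed`: an elementary abelian 2-subgroup of `Inn(L)`, `L ≅ PSL(2,q)`, centralises a four-group of `L`.
* `Fine.Wd_of_norm`: CLAIM B if `U` normalises the 2-component `L` of `C(t)`.
* `Fine.Wd_of_mem`: CLAIM B.
-/

set_option autoImplicit false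
set_option linter.unusedSectionVars false

open Cfsg Subgroup
open Cfsg.Agent.SignalizersComponents Cfsg.Agent.Lib
open Cfsg.Agent.SignalizersComponents.IntrinsicBasic
open Cfsg.Agent.Intrinsic.Basic Cfsg.Agent.Intrinsic.Cen Cfsg.Agent.Intrinsic.Diag
open Cfsg.Agent.McLLyComp.Act
open Cfsg.Agent.UGT.Triple Cfsg.Agent.UGT.PumpGen Cfsg.Agent.UGT.TriBase
open Cfsg.Agent.UGT.Res.Base Cfsg.Agent.UGT.Res.Abel Cfsg.Agent.UGT.Res.CoreFree
open Cfsg.Agent.UGT.Res.WFun
open scoped commutatorElement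

namespace Cfsg.Agent.UGT.Res.WCover

section rep

open Cfsg.Agent.GH.L2Aut

variable {F : Type*} [Field F] [Finite F] {L : Type*} [Group L] (R : Cfsg.Agent.GH.L2Aut.Rep F L)

include R in
/-- every involution lies in a four-group -/
theorem exists_four_of {a : L} (haa : a * a = 1) (ha1 : a ≠ 1) : ∃ b : L, Four a b := by
  obtain ⟨c, d, h⟩ := R.exists_four
  obtain ⟨g, hg⟩ := R.inv_conj h.aa h.a1 haa ha1
  refine ⟨g * d * g⁻¹, ?_⟩
  have h1 := h.map (MulAut.conj g)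
  have h2 : MulAut.conj g c = a := hg
  rw [h2] at h1
  exact h1

include R in
theorem exists_four_fixed {A : Subgroup (MulAut L)} (hA : A ≤ Inn L) (h2 : ∀ a ∈ A, a * a = 1) :
    ∃ a b : L, Four a b ∧ ∀ α ∈ A, α a = a ∧ α b = b := by
  have hcomm : ∀ α ∈ A, ∀ β ∈ A, α * β = β * α := fun α hα β hβ => A9.LTwo.comm_of_sq' h2 hα hβ
  have key : ∀ α ∈ A, ∀ {s : L}, MulAut.conj s ∈ A → α s = s := by
    intro α hα s hs
    apply R.conj_injective
    rw [← conj_conj, hcomm α hα _ hs, mul_inv_cancel_right]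
  by_cases h : ∃ α ∈ A, α ≠ 1
  · obtain ⟨α, hα, hα1⟩ := h
    obtain ⟨s, hs, rfl⟩ := R.inn_inv (hA hα) (h2 α hα)
    have hs1 : s ≠ 1 := by rintro rfl; exact hα1 (map_one _)
    by_cases h' : ∃ β ∈ A, β ≠ 1 ∧ β ≠ MulAut.conj s
    · obtain ⟨β, hβ, hβ1, hβs⟩ := h'
      obtain ⟨t, ht, rfl⟩ := R.inn_inv (hA hβ) (h2 β hβ)
      refine ⟨s, t, ⟨hs, ht, hs1, ?_, ?_, ?_⟩, fun γ hγ => ⟨key γ hγ hα, key γ hγ hβ⟩⟩
      · rintro rfl; exact hβ1 (map_one _)
      · rintro rfl; exact hβs rfl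
      · apply R.conj_injective
        rw [map_mul, map_mul, hcomm _ hα _ hβ]
    · push Not at h'
      obtain ⟨b, hb⟩ := exists_four_of R hs hs1
      refine ⟨s, b, hb, fun γ hγ => ?_⟩
      by_cases hγ1 : γ = 1
      · rw [hγ1]; exact ⟨rfl, rfl⟩
      · rw [h' γ hγ hγ1]
        refine ⟨?_, ?_⟩
        · change s * s * s⁻¹ = s
          rw [mul_inv_cancel_right]
        · change s * b * s⁻¹ = b
          rw [hb.comm, mul_inv_cancel_right]
  · push Not at h
    obtain ⟨a, b, hab⟩ := R.exists_four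
    exact ⟨a, b, hab, fun α hα => by rw [h α hα]; exact ⟨rfl, rfl⟩⟩

end rep

section group

variable {G : Type*} [Group G] [Finite G] {W : Subgroup G} {t : G} {L : Subgroup G}
  {F : Type*} [Field F] [Finite F]

/-- the inner part of `U ≤ N(L)` -/
noncomputable def inn (L U : Subgroup G) : Subgroup G :=
  ((((MulAut.conj : (↥L ⧸ oddCore ↥L) →* _).range).comap (act L)).map (normalizer (L : Set G)).subtype) ⊓ U

omit [Finite G] in
theorem mem_inn {L U : Subgroup G} {u : G} : u ∈ inn L U ↔ u ∈ U ∧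
    ∃ h : u ∈ normalizer (L : Set G), act L ⟨u, h⟩ ∈ (MulAut.conj : (↥L ⧸ oddCore ↥L) →* _).range := by
  constructor
  · rintro ⟨⟨⟨v, hv⟩, h1, rfl⟩, h2⟩
    exact ⟨h2, hv, h1⟩
  · rintro ⟨h2, hv, h1⟩
    exact ⟨⟨⟨u, hv⟩, h1, rfl⟩, h2⟩

omit [Finite G] in
theorem card_le_inn {L U : Subgroup G} (R : Cfsg.Agent.GH.L2Aut.Rep F (↥L ⧸ oddCore ↥L)) [Finite ↥U]
    (hU : U ≤ normalizer (L : Set G)) (h2 : ∀ u ∈ U, u * u = 1) :
    Nat.card ↥U ≤ 2 * Nat.card ↥(inn L U) := by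
  by_cases h : U ≤ inn L U
  · have h3 : inn L U = U := le_antisymm inf_le_right h
    rw [h3]
    omega
  · obtain ⟨g, hg, hgI⟩ := Set.not_subset.mp h
    have hle : inn L U ≤ U := inf_le_right
    have h1 : (inn L U).relIndex U = 2 := by
      rw [relIndex, index_eq_two_iff]
      refine ⟨⟨g, hg⟩, ?_⟩
      rintro ⟨x, hx⟩
      rw [mem_subgroupOf, mem_subgroupOf]
      change Xor (x * g ∈ inn L U) (x ∈ inn L U)
      by_cases hxI : x ∈ inn L U
      · refine Or.inr ⟨hxI, fun h3 => hgI ?_⟩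
        have h4 := mul_mem (inv_mem hxI) h3
        rwa [inv_mul_cancel_left] at h4
      · refine Or.inl ⟨mem_inn.mpr ⟨mul_mem hx hg, mul_mem (hU hx) (hU hg), ?_⟩, hxI⟩
        rw [act_mul (hU hx) (hU hg)]
        refine Cfsg.Agent.UGT.SL.outer_mul_mem R ?_ ?_ ?_ (fun h3 => hxI (mem_inn.mpr ⟨hx, hU hx, h3⟩))
          (fun h3 => hgI (mem_inn.mpr ⟨hg, hU hg, h3⟩))
        · rw [← act_mul, act_congr (mul_mem (hU hx) (hU hx)) (h2 x hx)]
          exact map_one _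
        · rw [← act_mul, act_congr (mul_mem (hU hg) (hU hg)) (h2 g hg)]
          exact map_one _
        · rw [← act_mul, ← act_mul]
          exact act_congr _ (A9.LTwo.comm_of_sq' h2 hx hg)
    have h3 := relIndex_mul_relIndex ⊥ (inn L U) U bot_le hle
    rw [relIndex_bot_left, relIndex_bot_left, h1] at h3
    omega

/-- **CLAIM B (i)**: `W_U = W` if `t ∈ U ≤ N(L)`, `U` elementary abelian of order at least 16 -/
theorem Fine.Wd_of_norm (T : TwoBal G) (H : Fine W t L)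
    (R : Cfsg.Agent.GH.L2Aut.Rep F (↥L ⧸ oddCore ↥L)) {U : Subgroup G}
    (hU : IsElementaryAbelian 2 U) (h16 : 16 ≤ Nat.card ↥U) (ht : t ∈ U)
    (hn : U ≤ normalizer (L : Set G)) : Wd U = W := by
  have h2 : ∀ u ∈ U, u * u = 1 := fun u hu => sq_of_el hU hu
  obtain ⟨U₁, hU₁⟩ : ∃ U₁, U₁ = inn L U := ⟨_, rfl⟩
  have hle : U₁ ≤ U := hU₁ ▸ inf_le_right
  have h8 : 8 ≤ Nat.card ↥U₁ := by
    have := card_le_inn R hn h2
    rw [hU₁]
    omega
  have htf : Fixes t L := fixes_self' H.comp.le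
  have ht1 : t ∈ U₁ := by
    rw [hU₁, mem_inn]
    refine ⟨ht, htf.1, ?_⟩
    rw [(act_eq_one_iff htf.1).mpr htf]
    exact one_mem _
  -- a four-group of `L` commuting with `U₁`
  obtain ⟨a, b, hab, hfix⟩ := exists_four_fixed R (A := A9.LTwo.im L U₁) (by
    intro x hx
    obtain ⟨u, hu, hn', rfl⟩ := A9.LTwo.mem_im.mp hx
    rw [hU₁, mem_inn] at hu
    obtain ⟨-, h3, h4⟩ := hu
    exact h4) (A9.LTwo.im_sq fun u hu => h2 u (hle hu))
  have hUc : U ≤ centralizer ({t} : Set G) := fun u hu => mem_c (comm_of_el hU hu ht)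
  obtain ⟨V, hV, hVL, hVU, -⟩ := Cfsg.Agent.UGT.L2Inner.exists_four_lift' H.comp
    (isPGroup_of_el (el_mono hU hle)) (hle.trans hUc) hab.aa hab.bb hab.comm hab.a1 hab.b1 hab.ne.symm
    (fun r hr => ⟨hn (hle hr), hfix _ (A9.LTwo.mem_im.mpr ⟨r, hr, _, rfl⟩)⟩)
  have hV2 : ∀ v ∈ V, v * v = 1 := hV.elem
  have hE : IsElementaryAbelian 2 (U₁ ⊔ V : Subgroup G) :=
    el_sup (el_mono hU hle) (el_of_sq hV2) fun e he f hf => hVU f hf e he
  have hW := H.eq V hVL hV2 hV.card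
  have htV : zpowers t ⊔ V ≤ U₁ ⊔ V := sup_le_sup_right (by rw [zpowers_le]; exact ht1) _
  have h8t : 8 ≤ Nat.card ↥(zpowers t ⊔ V : Subgroup G) := by
    have h2 := two_mul_card_le (A := V) (E := zpowers t ⊔ V) le_sup_right (fun h =>
      ne_one_of_order H.inv (by
        have h3 : t ∈ V := by
          rw [h]
          exact mem_sup_left (mem_zpowers t)
        exact H.simp t (hVL h3) (sq_of_order H.inv) htf))
    have := hV.card
    omega
  rw [← Wd_eq T hU h16 hle h8]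
  by_cases h16' : 16 ≤ Nat.card ↥(U₁ ⊔ V : Subgroup G)
  · rw [Wd_eq T hE h16' le_sup_left h8, ← Wd_eq T hE h16' htV h8t, hW]
  · have h3 : U₁ = U₁ ⊔ V := by
      by_contra hne
      have := two_mul_card_le (A := U₁) (E := U₁ ⊔ V) le_sup_left hne
      omega
    have h4 : zpowers t ⊔ V = U₁ ⊔ V := by
      by_contra hne
      have := two_mul_card_le htV hne
      omega
    rw [h3, ← h4, hW]

end group

end Cfsg.Agent.UGT.Res.WCover
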