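import Cfsg.Agent.UGT.Res.HSys
import Cfsg.Agent.UGT.Res.BBTools
import Cfsg.Agent.UGT.Res.CoreFree
import Cfsg.Agent.UGT.Res.WCover

/-!
# Honest configurations without a core-free `X`

`HonW x L`: `x` an involution, `O(L) = 1`, `(x, t, L)` is a triple and `[O(C(t)), L] = 1` for all involutions `t` of
`C(L) ∩ C(x)`, and there is a four-group of them. World: `Pgl G`, `One G` and

* `glue`: a triple `(x, a, J)` with a second involution of `C(a) ∩ C(x)` fixing `J` gives `HonW x J`;
* `dl`: `Δ(⟨x, t⟩) = 1`;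
* `NP`: no two honest components `L ≠ P` commute and are components of the centralizers of the involutions of
  the other one.

Then `O(C(x))` acts faithfully on `L` (`faith`), hence Theorem H (`HSys`) and the system of bad pairs `bbs`.
-/

set_option autoImplicit false
set_option linter.dupNamespace false

open Cfsg Subgroup
open Cfsg.Agent.SignalizersComponents Cfsg.Agent.Lib
open Cfsg.Agent.SignalizersComponents.IntrinsicBasic
open Cfsg.Agent.Intrinsic.Basic Cfsg.Agent.Intrinsic.Cen Cfsg.Agent.Intrinsic.Diag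
open Cfsg.Agent.McLLyComp.Act
open Cfsg.Agent.UGT.Triple Cfsg.Agent.UGT.LemG Cfsg.Agent.UGT.PumpGen Cfsg.Agent.UGT.TriBase
open Cfsg.Agent.UGT.Res.KFacts (Pgl)
open Cfsg.Agent.UGT.Res.Base
open Cfsg.Agent.UGT.Res.EFacts (Cf)
open Cfsg.Agent.UGT.Res.Hon (comm_of_fixes fixes_of_comm order_isT isPGroup_of_sq isT_conj exists_P
  inn_comm exists_yk)
open Cfsg.Agent.UGT.Res.COne (odd_of_core Cf.exists_inv Cf.tor_comm)
open Cfsg.Agent.UGT.ThE.Base (IsT IsS)
open scoped commutatorElement

namespace Cfsg.Agent.UGT.Res.HonW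

universe u

variable {G : Type u} [Group G]

/-- The honest configuration. -/
structure HonW [Finite G] (x : G) (L : Subgroup G) : Prop where
  ox : orderOf x = 2
  cb : core L = ⊥
  good : ∀ {t : G}, IsT L x t → IsTriple x t L
  cen : ∀ {t : G}, IsT L x t → ∀ d ∈ core (centralizer ({t} : Set G)), d ∈ centralizer (L : Set G)
  four : ∃ t u : G, IsT L x t ∧ IsT L x u ∧ t ≠ u ∧ t * u = u * t

variable [Finite G] {L : Subgroup G} {x : G}

omit [Finite G] in
theorem isT_mul2 {t u : G} (ht : IsT L x t) (hu : IsT L x u) (hne : t ≠ u) (hc : t * u = u * t) :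
    IsT L x (t * u) := by
  refine ⟨mul_mem ht.mem hu.mem, (Commute.mul_left (show Commute t x from ht.comm) hu.comm).eq, ?_, ?_⟩
  · calc t * u * (t * u) = t * (u * t) * u := by group
      _ = t * t * (u * u) := by rw [← hc]; group
      _ = 1 := by rw [ht.sq, hu.sq, one_mul]
  · intro h
    apply hne
    have := eq_inv_of_mul_eq_one_left h
    rwa [inv_eq_of_mul_eq_one_left hu.sq] at this

theorem HonW.partner (h : HonW x L) {t : G} (ht : IsT L x t) : ∃ u, IsT L x u ∧ u ≠ t ∧
    u * t = t * u := by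
  obtain ⟨P, z, hP2, hPL, hPx, htP, hzP, hz, hzc, hcj⟩ := exists_P ht
  by_cases hzt : z = t
  · subst hzt
    obtain ⟨t₁, u₁, h1, h2, h3, h4⟩ := h.four
    have h5 : IsPGroup 2 ↥(zpowers t₁ ⊔ zpowers u₁) := by
      refine Tri.isPGroup_sup_zpowers (isPGroup_of_sq h1.sq) ?_ (n := 1) ?_
      · rw [mem_normalizer_iff_cj, IntrinsicBasic.cj, MonoidHom.map_zpowers]
        have : (MulAut.conj u₁).toMonoidHom t₁ = t₁ := by
          simp only [MulEquiv.coe_toMonoidHom, MulAut.conj_apply]
          rw [← h4, mul_inv_cancel_right]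
        rw [this]
      · rw [pow_one, pow_two, h2.sq]
    obtain ⟨g, hgL, hgx, hg⟩ := hcj (zpowers t₁ ⊔ zpowers u₁) h5
      (sup_le (zpowers_le.mpr h1.mem) (zpowers_le.mpr h2.mem)) (by
        have : zpowers t₁ ⊔ zpowers u₁ ≤ centralizer ({x} : Set G) :=
          sup_le (zpowers_le.mpr (mem_c h1.comm)) (zpowers_le.mpr (mem_c h2.comm))
        exact fun r hr => comm_c (this hr))
    have g1 := hg t₁ (mem_sup_left (mem_zpowers t₁))
    have g2 := hg u₁ (mem_sup_right (mem_zpowers u₁))
    have k1 := isT_conj (ThE.Base.K_le_M hgL) hgx h1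
    have k2 := isT_conj (ThE.Base.K_le_M hgL) hgx h2
    by_cases hne : g * t₁ * g⁻¹ = z
    · refine ⟨_, k2, ?_, hzc _ g2⟩
      rintro h6
      apply h3
      have h7 := hne.trans h6.symm
      simpa using h7
    · exact ⟨_, k1, hne, hzc _ g1⟩
  · exact ⟨z, hz, hzt, (hzc _ htP).symm⟩

theorem HonW.ne (h : HonW x L) {t : G} (ht : IsT L x t) : x ≠ t := by
  rintro rfl
  exact (h.good ht).not_fixes (fixes_of_comm ht.mem)

theorem HonW.o_mul (h : HonW x L) {t : G} (ht : IsT L x t) : orderOf (x * t) = 2 :=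
  order_mul (sq_of_order h.ox) ht.sq ht.comm.symm (h.ne ht)

omit [Finite G] in
theorem cl {l k : G} (hl : l ∈ L) (hk : k ∈ centralizer (L : Set G)) : Commute l k :=
  mem_centralizer_iff.mp hk _ hl

/-- LEMMA W for `[d, k]` -/
theorem HonW.comm_core (H : Pgl G) (O : Hon.One G) (h : HonW x L) {t : G} (ht : IsT L x t) {d k : G}
    (hd : d ∈ core (centralizer ({x} : Set G))) (hdL : d ∈ L) (hkL : k ∈ L) (hkx : k * x = x * k) :
    d * k * d⁻¹ * k⁻¹ ∈ core (centralizer ({x * t} : Set G)) := by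
  have T := h.good ht
  obtain ⟨u, hu, hne, hc⟩ := h.partner ht
  have hyL : d * k * d⁻¹ * k⁻¹ ∈ L := mul_mem (mul_mem (mul_mem hdL hkL) (inv_mem hdL)) (inv_mem hkL)
  have hyx : d * k * d⁻¹ * k⁻¹ ∈ core (centralizer ({x} : Set G)) := by
    have e : d * k * d⁻¹ * k⁻¹ = d * (k * d⁻¹ * k⁻¹) := by group
    rw [e]
    exact mul_mem hd (conj_core (mem_c hkx) (inv_mem hd))
  have h3 := isT_mul2 ht hu hne.symm hc.symm
  have hcen : ∀ {w : G}, IsT L x w → Intrinsic.Cen.cen L w = L := fun hw =>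
    CoreFree.cen_eq (h.good hw).comp fun l hl => mem_c (mem_centralizer_iff.mp hw.mem l hl)
  have htriv : ∀ {w : G}, IsT L x w → Triv x L w L := by
    intro w hw
    refine ⟨h.good hw, cen_le L w, ?_⟩
    rw [hcen hw, h.cb, sup_bot_eq]
  have cdx : Commute d x := comm_c (core_le _ hd)
  refine lemmaW_inn H.rworld ?_ T hyx (a := t) (w₁ := t) (w₂ := u) rfl hc
    (fixes_of_comm ht.mem) (fixes_of_comm hu.mem) (htriv ht) (htriv hu) (htriv h3)
    (by rwa [hcen ht]) (by rwa [hcen hu]) (by rwa [hcen h3]) ht.comm (cl hyL ht.mem).symm.eq rfl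
    hc.symm (fixes_of_comm ht.mem) (h.o_mul ht)
  intro J T'
  refine inn_comm H T' (T'.mem_normalizer_of_core hd (mem_c (cdx.mul_right (cl hdL ht.mem)))) ?_
  exact O.norm T' hkx ((show Commute k x from hkx).mul_right (cl hkL ht.mem)).eq

/-- the world -/
structure World (G : Type u) [Group G] [Finite G] : Prop where
  pgl : Pgl G
  one : Hon.One G
  glue : ∀ {x a c : G} {J : Subgroup G}, IsTriple x a J → orderOf c = 2 → c ≠ a → c * a = a * c →
    c * x = x * c → Fixes c J → HonW x J
  dl : ∀ {x t d : G} {L : Subgroup G}, HonW x L → IsT L x t → d ∈ core (centralizer ({x} : Set G)) →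
    d ∈ core (centralizer ({t} : Set G)) → d ∈ core (centralizer ({x * t} : Set G)) → d = 1

variable (W : World G)

theorem HonW.cf (H : Pgl G) (h : HonW x L) {F : Type*} [Field F] [Finite F]
    (R : Cfsg.Agent.GH.L2Aut.Rep F L) : Cf R x := by
  obtain ⟨t, u, ht, -⟩ := h.four
  exact CfOf.cf_of H (h.good ht) h.cb R

theorem HonW.exists_R (H : Pgl G) (h : HonW x L) :
    ∃ (F : Type) (_ : Field F) (_ : Finite F), 5 ≤ Nat.card F ∧
      Nonempty (Cfsg.Agent.GH.L2Aut.Rep F L) := by
  obtain ⟨t, u, ht, -⟩ := h.four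
  exact CfOf.exists_R H (h.good ht) h.cb

/-- `O(C(x)) ≤ N(L)` -/
theorem HonW.norm (h : HonW x L) {d : G} (hd : d ∈ core (centralizer ({x} : Set G))) :
    d ∈ normalizer (L : Set G) := by
  obtain ⟨t₀, u₀, h1, h2, h3, h4⟩ := h.four
  have hcj : ∀ {t : G}, IsT L x t → ∀ y ∈ core (centralizer ({x} : Set G)),
      t * y * t⁻¹ ∈ core (centralizer ({x} : Set G)) := fun ht y hy => conj_core (mem_c ht.comm) hy
  have hinf : ∀ t, IsT L x t →
      core (centralizer ({x} : Set G)) ⊓ centralizer ({t} : Set G) ≤ normalizer (L : Set G) :=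
    fun t ht y hy => (h.good ht).mem_normalizer_of_core hy.1 hy.2
  exact Lib.KleinGen.le_of_klein _ _ (odd_card_core _) t₀ u₀ h1.sq h2.sq h4 (hcj h1) (hcj h2)
    (hinf _ h1) (hinf _ h2) (hinf _ (isT_mul2 h1 h2 h3 h4)) hd

/-- an element of `O(C(x)) ∩ C(t)` centralizing `L` lies in `O(C(t))` -/
theorem HonW.mem_core (O : Hon.One G) (h : HonW x L) {t d : G} (ht : IsT L x t)
    (hd : d ∈ core (centralizer ({x} : Set G))) (hdt : d * t = t * d)
    (hdL : d ∈ centralizer (L : Set G)) : d ∈ core (centralizer ({t} : Set G)) := by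
  by_contra hn
  obtain ⟨J, TJ, hJ⟩ := exists_triple h.ox (order_isT ht) ht.comm hd (mem_c hdt) hn
  rw [← O (h.good ht) TJ] at hJ
  exact hJ (fixes_of_comm hdL)

include W in
/-- `x t` is honest -/
theorem HonW.mul (h : HonW x L) {t : G} (ht : IsT L x t) : HonW (x * t) L := by
  have T := h.good ht
  obtain ⟨u, hu, hne, hc⟩ := h.partner ht
  obtain ⟨d, k, hd, hdL, hkL, hkx, hf⟩ := exists_yk W.pgl T
  have hy := h.comm_core W.pgl W.one ht hd hdL hkL hkx
  have hyL : d * k * d⁻¹ * k⁻¹ ∈ L := mul_mem (mul_mem (mul_mem hdL hkL) (inv_mem hdL)) (inv_mem hkL)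
  have ctx : Commute t x := ht.comm
  have cux : Commute u x := hu.comm
  have T' : IsTriple (x * t) t L := ⟨h.o_mul ht, order_isT ht, (ctx.mul_right (Commute.refl t)).eq,
    T.comp, _, hy, mem_c (cl hyL ht.mem).eq, hf⟩
  exact W.glue T' (order_isT hu) hne hc (cux.mul_right (show Commute u t from hc)).eq
    (fixes_of_comm hu.mem)

include W in
/-- `O(C(x)) ∩ L ≤ O(C(xt))` -/
theorem HonW.inf_le (h : HonW x L) {t : G} (ht : IsT L x t) {y : G}
    (hy : y ∈ core (centralizer ({x} : Set G))) (hyL : y ∈ L) :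
    y ∈ core (centralizer ({x * t} : Set G)) := by
  obtain ⟨F, _, _, h5, ⟨R⟩⟩ := h.exists_R W.pgl
  obtain ⟨s, hs, hinv⟩ := Cf.exists_inv (h.cf W.pgl R)
  have h1 := h.comm_core W.pgl W.one ht hy hyL hs.mem hs.comm
  have h2 := hinv y⁻¹ (inv_mem hyL) (by
    have : Commute y x := comm_c (core_le _ hy)
    exact this.inv_left.eq) (by rw [orderOf_inv]; exact odd_of_core hy)
  have h3 : y * s * y⁻¹ * s⁻¹ = y * y := by
    calc y * s * y⁻¹ * s⁻¹ = y * (s * y⁻¹ * s⁻¹) := by group
      _ = y * y := by rw [h2, inv_inv]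
  rw [h3] at h1
  exact PGLFacts.mem_of_sq_mem h1 (odd_of_core hy)

/-! ### `O(C(x))` is faithful on `L` -/

omit [Finite G] in
theorem conj_mem_cen {g c : G} (hg : g ∈ normalizer (L : Set G)) (hc : c ∈ centralizer (L : Set G)) :
    g * c * g⁻¹ ∈ centralizer (L : Set G) := by
  rw [mem_centralizer_iff] at hc ⊢
  intro l hl
  have h1 : g⁻¹ * l * g ∈ L := ThE.Base.L_conj' hg hl
  have h2 := hc _ h1
  calc l * (g * c * g⁻¹) = g * (g⁻¹ * l * g * c) * g⁻¹ := by group
    _ = g * (c * (g⁻¹ * l * g)) * g⁻¹ := by rw [h2]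
    _ = g * c * g⁻¹ * l := by group

omit [Finite G] in
theorem normalizer_le_normalizer_cen :
    normalizer (L : Set G) ≤ normalizer ((centralizer (L : Set G) : Subgroup G) : Set G) := by
  intro g hg
  rw [mem_normalizer_iff]
  intro c
  constructor
  · exact fun hc => conj_mem_cen hg hc
  · intro hc
    have h1 := conj_mem_cen (inv_mem hg) hc
    have e : g⁻¹ * (g * c * g⁻¹) * g⁻¹⁻¹ = c := by group
    rwa [e] at h1

/-- an involution of `N(K)` centralizes an involution of `K` if `K` has even order -/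
theorem exists_fixed {K : Subgroup G} {x : G} (hx : x * x = 1) (hxK : x ∈ normalizer (K : Set G))
    (hK : Even (Nat.card K)) : ∃ k ∈ K, k * x = x * k ∧ orderOf k = 2 := by
  classical
  have : Fact (Nat.Prime 2) := ⟨Nat.prime_two⟩
  have : Fintype K := Fintype.ofFinite K
  have hN : ∀ k ∈ K, x * k * x⁻¹ ∈ K := fun k hk => (mem_normalizer_iff.mp hxK k).mp hk
  obtain ⟨f, hf⟩ : ∃ f : Function.End K, ∀ k, f k = ⟨x * k * x⁻¹, hN k k.2⟩ := ⟨fun k => _, fun _ => rfl⟩
  have hxi : x⁻¹ = x := inv_eq_of_mul_eq_one_left hx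
  have h1 : f ^ 2 ^ 1 = 1 := by
    rw [pow_one, pow_two]
    funext k
    change f (f k) = k
    rw [hf, hf]
    apply Subtype.ext
    change x * (x * k * x⁻¹) * x⁻¹ = k
    calc x * (x * (k : G) * x⁻¹) * x⁻¹ = (x * x) * k * (x * x)⁻¹ := by group
      _ = k := by rw [hx]; group
  have h2 : Nat.card K ≡ Nat.card (Function.fixedPoints f) [MOD 2] := by
    rw [Nat.card_eq_fintype_card, Nat.card_eq_fintype_card]
    convert Equiv.Perm.card_fixedPoints_modEq h1
  have h3 : Nat.card (K ⊓ centralizer ({x} : Set G) : Subgroup G) =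
      Nat.card (Function.fixedPoints f) := by
    refine Nat.card_congr
      { toFun := fun k => ⟨⟨k, k.2.1⟩, ?_⟩
        invFun := fun k => ⟨k.1, k.1.2, ?_⟩
        left_inv := fun _ => rfl
        right_inv := fun _ => rfl }
    · change f _ = _
      rw [hf]
      apply Subtype.ext
      change x * (k : G) * x⁻¹ = k
      rw [← comm_c k.2.2, mul_inv_cancel_right]
    · have h4 : f k.1 = k.1 := k.2
      rw [hf] at h4
      have h5 : x * (k.1 : G) * x⁻¹ = k.1 := congrArg Subtype.val h4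
      exact mem_c (eq_mul_of_mul_inv_eq h5).symm
  have h4 : 2 ∣ Nat.card (K ⊓ centralizer ({x} : Set G) : Subgroup G) := by
    rw [h3]
    exact Nat.modEq_zero_iff_dvd.mp (h2.symm.trans (Nat.modEq_zero_iff_dvd.mpr
      (even_iff_two_dvd.mp hK)))
  obtain ⟨⟨k, hk⟩, ho⟩ := exists_prime_orderOf_dvd_card' 2 h4
  rw [Subgroup.orderOf_mk] at ho
  exact ⟨k, hk.1, comm_c hk.2, ho⟩

section rep

variable {F : Type*} [Field F] [Finite F] {R : Cfsg.Agent.GH.L2Aut.Rep F L}

omit [Finite G] in
theorem Cf.inverts (C : Cf R x) {s y : G} (hs : IsS L x s) (hy : y ∈ L) (hyx : y * x = x * y)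
    (hyo : Odd (orderOf y)) : s * y * s⁻¹ = y⁻¹ := by
  have h1 := OddHalf.D6.PglType.inverts R C.sq (C.o1 C.xN) ((EFacts.act_fix C.xN hs.mem).mpr hs.comm)
    (Subtype.ext hs.sq : (⟨s, hs.mem⟩ : L) * ⟨s, hs.mem⟩ = 1) (fun h => hs.ne (congrArg Subtype.val h))
    ((EFacts.act_fix C.xN hy).mpr hyx) (b := ⟨y, hy⟩) (by rwa [Subgroup.orderOf_mk])
  exact congrArg Subtype.val h1

omit [Finite G] in
/-- `x s` is of PGL type -/
theorem Cf.mul_s (C : Cf R x) {s : G} (hs : IsS L x s) : Cf R (x * s) where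
  xx := by
    calc x * s * (x * s) = x * (s * x) * s := by group
      _ = (x * x) * (s * s) := by rw [hs.comm]; group
      _ = 1 := by rw [C.xx, hs.sq, one_mul]
  xN := mul_mem C.xN (le_normalizer hs.mem)
  o1 h := by
    rw [← OddHalf.D6.act_mul C.xN (le_normalizer hs.mem), EFacts.act_of_mem hs.mem, map_mul, C.o1,
      R.o1_conj, mul_one]

end rep

/-- an involution `s` of `C_L(x)` such that `t s` centralizes `J` -/
theorem px (H : Pgl G) {J : Subgroup G} (hL : HonW x L) (hJ : HonW x J) {t s y : G} (ht : IsT L x t)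
    (hs : IsS L x s) (hts : t * s ∈ centralizer (J : Set G)) (hy : y ∈ J) (hy1 : y ≠ 1)
    (hyo : Odd (orderOf y)) (hyx : y * x = x * y) (hyL : y ∈ centralizer (L : Set G)) :
    s ∈ centralizer (J : Set G) := by
  obtain ⟨F, _, _, h5, ⟨R⟩⟩ := hL.exists_R H
  obtain ⟨F', _, _, h5', ⟨R'⟩⟩ := hJ.exists_R H
  have C := hL.cf H R
  have C' := hJ.cf H R'
  have hst : s * t = t * s := (cl hs.mem ht.mem).eq
  have hsx : Commute s x := hs.comm
  have htx : Commute t x := ht.comm
  have hT : IsT J x (t * s) := by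
    refine ⟨hts, (htx.mul_left hsx).eq, ?_, fun h => ?_⟩
    · calc t * s * (t * s) = t * (s * t) * s := by group
        _ = (t * t) * (s * s) := by rw [hst]; group
        _ = 1 := by rw [ht.sq, hs.sq, one_mul]
    · have h1 : t = s⁻¹ := eq_inv_of_mul_eq_one_left h
      exact ht.ne (EFacts.eq_one_of_mem_centralizer R (h1 ▸ inv_mem hs.mem) ht.mem)
  have hcomp := (hJ.good hT).comp
  have hN : ∀ a ∈ L, a * s = s * a → a ∈ normalizer (J : Set G) := by
    intro a ha has
    have hat : Commute a t := cl ha ht.mem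
    have hc : a ∈ centralizer ({t * s} : Set G) := mem_c (hat.mul_right has).eq
    rw [mem_normalizer_iff_cj]
    by_contra hne
    have h1 : y ∈ cj a J := by
      rw [mem_cj]
      have h2 : a * y = y * a := (cl ha hyL).eq
      have h3 : a⁻¹ * y * a = y := by rw [mul_assoc, ← h2, inv_mul_cancel_left]
      rwa [h3]
    have h2 := hcomp.fixes_of_mem (Intrinsic.Diag.isComp_cj_of_mem hcomp hc) (Ne.symm hne) h1
    exact hy1 (EFacts.eq_one_of_mem_centralizer R' hy (comm_of_fixes hJ.cb h2))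
  have hact : ∀ a ∈ L, a * s = s * a → a * a = 1 → a ∈ centralizer (J : Set G) ∨
      a * x ∈ centralizer (J : Set G) := fun a ha has ha2 =>
    C'.aut hy hy1 hyo hyx (hN a ha has) (cl ha hyL).eq ⟨1, by rw [pow_one, pow_two]; exact ha2⟩
  by_contra hsJ
  have hsx' := (hact s hs.mem rfl hs.sq).resolve_left hsJ
  obtain ⟨K, hK⟩ : ∃ K, K = L ⊓ centralizer ({s} : Set G) ⊓ centralizer (J : Set G) := ⟨_, rfl⟩
  have hxK : x ∈ normalizer (K : Set G) := by
    have h1 : x ∈ normalizer ((centralizer ({s} : Set G) : Subgroup G) : Set G) :=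
      le_normalizer (mem_c hs.comm.symm)
    have h2 : x ∈ normalizer ((centralizer (J : Set G) : Subgroup G) : Set G) :=
      normalizer_le_normalizer_cen C'.xN
    rw [hK, mem_normalizer_iff]
    intro k
    constructor
    · rintro ⟨⟨k1, k2⟩, k3⟩
      exact ⟨⟨(mem_normalizer_iff.mp C.xN k).mp k1, (mem_normalizer_iff.mp h1 k).mp k2⟩,
        (mem_normalizer_iff.mp h2 k).mp k3⟩
    · rintro ⟨⟨k1, k2⟩, k3⟩
      exact ⟨⟨(mem_normalizer_iff.mp C.xN k).mpr k1, (mem_normalizer_iff.mp h1 k).mpr k2⟩,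
        (mem_normalizer_iff.mp h2 k).mpr k3⟩
  have hinv : ∃ r ∈ K, orderOf r = 2 := by
    obtain ⟨⟨r, hr⟩, h4⟩ := WCover.exists_four_of R (a := ⟨s, hs.mem⟩) (Subtype.ext hs.sq)
      (fun h => hs.ne (congrArg Subtype.val h))
    have hrr : r * r = 1 := congrArg Subtype.val h4.bb
    have hr1 : r ≠ 1 := fun h => h4.b1 (Subtype.ext h)
    have hsr : s ≠ r := fun h => h4.ne (Subtype.ext h)
    have hc : s * r = r * s := congrArg Subtype.val h4.comm
    rcases hact r hr hc.symm hrr with h6 | h6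
    · refine ⟨r, ?_, orderOf_eq_prime (by rw [pow_two]; exact hrr) hr1⟩
      rw [hK]
      exact ⟨⟨hr, mem_c hc.symm⟩, h6⟩
    · refine ⟨s * r, ?_, orderOf_eq_prime ?_ ?_⟩
      · rw [hK]
        refine ⟨⟨mul_mem hs.mem hr, mem_c ?_⟩, ?_⟩
        · rw [mul_assoc, hc]
        · have e : s * r = (s * x) * (r * x)⁻¹ := by
            rw [mul_inv_rev, inv_eq_of_mul_eq_one_left hrr]; group
          have h7 : (s * x) * (r * x)⁻¹ ∈ centralizer (J : Set G) := mul_mem hsx' (inv_mem h6)
          rw [← e] at h7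
          exact h7
      · rw [pow_two]
        calc s * r * (s * r) = s * (r * s) * r := by group
          _ = (s * s) * (r * r) := by rw [← hc]; group
          _ = 1 := by rw [hs.sq, hrr, one_mul]
      · intro h
        apply hsr
        have := eq_inv_of_mul_eq_one_left h
        rwa [inv_eq_of_mul_eq_one_left hrr] at this
  obtain ⟨r, hrK, hr⟩ := hinv
  have heven : Even (Nat.card K) := by
    rw [even_iff_two_dvd, ← hr]
    exact Subgroup.orderOf_dvd_natCard K hrK
  obtain ⟨k, hkK, hkx, hko⟩ := exists_fixed C.xx hxK heven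
  rw [hK] at hkK
  have hk1 : k ≠ 1 := by
    rintro rfl
    rw [orderOf_one] at hko
    exact absurd hko (by decide)
  have hks : IsS L x k := ⟨hkK.1.1, hkx, sq_of_order hko, hk1⟩
  have := C.comm k s hks hs (comm_c hkK.1.2)
  exact hsJ (this ▸ hkK.2)

section pigeon

variable {F : Type*} [Field F] [Finite F] {K : Type*} [Group K] (R : Cfsg.Agent.GH.L2Aut.Rep F K)

omit [Finite G] in
/-- involutory automorphisms commuting with `φ` of PGL type -/
theorem aut_or {φ γ : MulAut K} (h : φ * φ = 1) (ho : R.o1 φ = -1) (hγ : γ * γ = 1)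
    (hc : γ * φ = φ * γ) : ∃ s : K, φ s = s ∧ s * s = 1 ∧
      (γ = MulAut.conj s ∨ γ = MulAut.conj s * φ) := by
  have hf : R.fld γ = 1 := by
    by_contra hf
    have h3 := R.o1_of_comm hγ hf hc.symm
    rw [ho] at h3
    exact absurd h3 (by decide)
  have hf' : R.fld φ = 1 := R.mem_PGL_iff_fld.1 (OddHalf.D6.PglType.pgl_of R h ho).1
  have key : ∀ β : MulAut K, β * β = 1 → β * φ = φ * β → R.fld β = 1 → R.o1 β = 1 →
      ∃ s : K, φ s = s ∧ s * s = 1 ∧ β = MulAut.conj s := by
    intro β h1 h2 h3 h4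
    obtain ⟨s, rfl⟩ := R.mem_inn_iff.2 ⟨h3, h4⟩
    exact ⟨s, R.conj_injective (Cfsg.Agent.GH.L2Aut.Rep.conj_comm_iff.mp h2),
      R.conj_injective (by rw [map_mul, h1, map_one]), rfl⟩
  rcases Int.units_eq_one_or (R.o1 γ) with ho' | ho'
  · obtain ⟨s, h1, h2, h3⟩ := key γ hγ hc hf ho'
    exact ⟨s, h1, h2, Or.inl h3⟩
  · obtain ⟨s, h1, h2, h3⟩ := key (γ * φ) (by
      calc γ * φ * (γ * φ) = γ * (φ * γ) * φ := by group
        _ = (γ * γ) * (φ * φ) := by rw [← hc]; group
        _ = 1 := by rw [hγ, h, one_mul]) (by rw [← mul_assoc, ← hc])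
      (by rw [map_mul, hf, hf', one_mul]) (by rw [map_mul, ho', ho]; decide)
    exact ⟨s, h1, h2, Or.inr (by rw [← h3, mul_assoc, h, mul_one])⟩

omit [Finite G] in
/-- two of them -/
theorem aut_pigeon {φ α β : MulAut K} (h : φ * φ = 1) (ho : R.o1 φ = -1) (hα : α * α = 1)
    (hβ : β * β = 1) (hαφ : α * φ = φ * α) (hβφ : β * φ = φ * β) (hαβ : α * β = β * α) :
    (α = 1 ∨ α = φ) ∨ (β = 1 ∨ β = φ) ∨ (α * β = 1 ∨ α * β = φ) := by
  obtain ⟨s, hs, hss, hs'⟩ := aut_or R h ho hα hαφ
  obtain ⟨r, hr, hrr, hr'⟩ := aut_or R h ho hβ hβφ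
  have csφ : Commute (MulAut.conj s) φ :=
    Cfsg.Agent.GH.L2Aut.Rep.conj_comm_iff.mpr (congrArg MulAut.conj hs)
  by_cases hs1 : s = 1
  · left
    rw [hs1, map_one, one_mul] at hs'
    exact hs'
  by_cases hr1 : r = 1
  · right; left
    rw [hr1, map_one, one_mul] at hr'
    exact hr'
  have hcomm : s * r = r * s := by
    apply R.conj_injective
    rw [map_mul, map_mul]
    have h1 : Commute α β := hαβ
    have h2 : Commute α φ := hαφ
    have h3 : Commute β φ := hβφ
    have e1 : MulAut.conj s = α ∨ MulAut.conj s = α * φ := by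
      rcases hs' with h4 | h4
      · exact Or.inl h4.symm
      · right; rw [h4, mul_assoc, h, mul_one]
    have e2 : MulAut.conj r = β ∨ MulAut.conj r = β * φ := by
      rcases hr' with h4 | h4
      · exact Or.inl h4.symm
      · right; rw [h4, mul_assoc, h, mul_one]
    rcases e1 with e1 | e1 <;> rcases e2 with e2 | e2 <;> rw [e1, e2]
    · exact h1.eq
    · exact (h1.mul_right h2).eq
    · exact (h1.mul_left h3.symm).eq
    · exact ((h1.mul_right h2).mul_left (h3.symm.mul_right (Commute.refl φ))).eq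
  have hsr : s = r := by
    refine OddHalf.D6.PglType.eq_of_two R h ho hs hss hs1 hr hrr hr1 ⟨1, ?_⟩
    rw [pow_one, pow_two]
    calc s * r * (s * r) = s * (r * s) * r := by group
      _ = (s * s) * (r * r) := by rw [← hcomm]; group
      _ = 1 := by rw [hss, hrr, one_mul]
  subst hsr
  have hcc : MulAut.conj s * MulAut.conj s = 1 := by rw [← map_mul, hss, map_one]
  right; right
  rcases hs' with h4 | h4 <;> rcases hr' with h5 | h5 <;> rw [h4, h5]
  · exact Or.inl hcc
  · right; rw [← mul_assoc, hcc, one_mul]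
  · right; rw [mul_assoc, ← csφ.eq, ← mul_assoc, hcc, one_mul]
  · left
    calc MulAut.conj s * φ * (MulAut.conj s * φ) = MulAut.conj s * (φ * MulAut.conj s) * φ := by group
      _ = (MulAut.conj s * MulAut.conj s) * (φ * φ) := by rw [← csφ.eq]; group
      _ = 1 := by rw [hcc, h, one_mul]

end pigeon

/-- one of the involutions of a four-group commuting with `x` acts as `1` or `x` -/
theorem pigeon (H : Pgl G) {e : G} {J : Subgroup G} (T : IsTriple x e J) {s u : G} (hs : s * s = 1)
    (hu : u * u = 1) (hsu : s * u = u * s) (hsx : s * x = x * s) (hux : u * x = x * u)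
    (hsJ : s ∈ normalizer (J : Set G)) (huJ : u ∈ normalizer (J : Set G)) :
    (Fixes s J ∨ Fixes (s * x) J) ∨ (Fixes u J ∨ Fixes (u * x) J) ∨
      (Fixes (s * u) J ∨ Fixes (s * u * x) J) := by
  obtain ⟨F, _, _, -, R, ho⟩ := H.exists_rep T
  have hxi : x⁻¹ = x := inv_eq_of_mul_eq_one_left (sq_of_order T.invx)
  have hsq : ∀ {g : G} (hg : g ∈ normalizer (J : Set G)), g * g = 1 →
      act J ⟨g, hg⟩ * act J ⟨g, hg⟩ = 1 := by
    intro g hg h1
    rw [← map_mul]
    have : (⟨g, hg⟩ : ↥(normalizer (J : Set G))) * ⟨g, hg⟩ = 1 := Subtype.ext h1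
    rw [this, map_one]
  have conv : ∀ {g : G} (hg : g ∈ normalizer (J : Set G)),
      (act J ⟨g, hg⟩ = 1 ∨ act J ⟨g, hg⟩ = act J ⟨x, T.x_mem⟩) → Fixes g J ∨ Fixes (g * x) J := by
    rintro g hg (h | h)
    · exact Or.inl ((act_eq_one_iff hg).mp h)
    · right
      have h1 := (act_eq_iff hg T.x_mem).mp h
      rwa [hxi] at h1
  rcases aut_pigeon R (KFacts.act_sq T) ho (hsq hsJ hs) (hsq huJ hu) (KFacts.act_comm hsJ T.x_mem hsx)
    (KFacts.act_comm huJ T.x_mem hux) (KFacts.act_comm hsJ huJ hsu) with h | h | h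
  · exact Or.inl (conv hsJ h)
  · exact Or.inr (Or.inl (conv huJ h))
  · rw [← act_mul hsJ huJ] at h
    exact Or.inr (Or.inr (conv (mul_mem hsJ huJ) h))

/-- no commuting honest components `L`, `P` that are components of the centralizers of the involutions of the other one -/
def NP (G : Type u) [Group G] [Finite G] : Prop := ∀ {x x' : G} {L P : Subgroup G}, HonW x L →
  HonW x' P → L ≠ P → L ≤ centralizer (P : Set G) →
  (∀ p ∈ P, orderOf p = 2 → IsComp (centralizer ({p} : Set G)) L) →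
  (∀ l ∈ L, orderOf l = 2 → IsComp (centralizer ({l} : Set G)) P) → False

omit [Finite G] in
/-- conjugate involutions of `P ≤ C(L)` -/
theorem comp_all {P : Subgroup G} {F : Type*} [Field F] [Finite F]
    (R : Cfsg.Agent.GH.L2Aut.Rep F P) (hP : P ≤ centralizer (L : Set G)) {s : G} (hs : s ∈ P)
    (hss : s * s = 1) (hs1 : s ≠ 1) (hc : IsComp (centralizer ({s} : Set G)) L) :
    ∀ p ∈ P, orderOf p = 2 → IsComp (centralizer ({p} : Set G)) L := by
  intro p hp ho
  obtain ⟨⟨j, hj⟩, h1⟩ := R.inv_conj (s := ⟨s, hs⟩) (t := ⟨p, hp⟩) (Subtype.ext hss)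
    (fun h => hs1 (congrArg Subtype.val h)) (Subtype.ext (sq_of_order ho)) (by
      intro h
      have h2 : p = 1 := congrArg Subtype.val h
      rw [h2, orderOf_one] at ho
      exact absurd ho (by decide))
  have h2 : j * s * j⁻¹ = p := congrArg Subtype.val h1
  have h3 := hc.cj j
  have h4 : IntrinsicBasic.cj j (centralizer ({s} : Set G)) = centralizer ({j * s * j⁻¹} : Set G) :=
    cj_centralizer j s
  have h5 : IntrinsicBasic.cj j L = L := by
    rw [← mem_normalizer_iff_cj]
    exact centralizer_le_normalizer _ (hP hj)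
  rw [h4, h5, h2] at h3
  exact h3

/-- **the centralizer of `L` in `O(C(x)) ∩ C(t)` is trivial** -/
theorem HonW.faith_t (W : World G) (N : NP G) (h : HonW x L) {t d : G} (ht : IsT L x t)
    (hd : d ∈ core (centralizer ({x} : Set G))) (hdL : d ∈ centralizer (L : Set G))
    (hdt : d * t = t * d) : d = 1 := by
  by_contra hd1
  have hxx := sq_of_order h.ox
  obtain ⟨F, _, _, h5, ⟨R⟩⟩ := h.exists_R W.pgl
  have C := h.cf W.pgl R
  have htx : Commute t x := ht.comm
  have hdx : Commute d x := comm_c (core_le _ hd)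
  obtain ⟨e, he⟩ : ∃ e, e = x * t := ⟨_, rfl⟩
  have hoe : orderOf e = 2 := he ▸ h.o_mul ht
  have hex : Commute e x := he ▸ (Commute.refl x).mul_left htx
  have hde : Commute d e := he ▸ hdx.mul_right hdt
  have hn : d ∉ core (centralizer ({e} : Set G)) := fun hn => hd1
    (W.dl h ht hd (h.mem_core W.one ht hd hdt hdL) (he ▸ hn))
  obtain ⟨J, T, hJf⟩ := exists_triple h.ox hoe hex.eq hd (mem_c hde.eq) hn
  have hJL : J ≠ L := by
    rintro rfl
    exact hJf (fixes_of_comm hdL)
  obtain ⟨u, hu, hut, hutc⟩ := h.partner ht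
  obtain ⟨s, hs, hinv⟩ := Cf.exists_inv C
  have hst : Commute s t := cl hs.mem ht.mem
  have hsu : Commute s u := cl hs.mem hu.mem
  have hsx : Commute s x := hs.comm
  have hux : Commute u x := hu.comm
  have hse : Commute s e := he ▸ hsx.mul_right hst
  have hue : Commute u e := he ▸ hux.mul_right (show Commute u t from hutc)
  have hte : Commute t e := he ▸ htx.mul_right (Commute.refl t)
  have hsJ : s ∈ normalizer (J : Set G) := Hon.One.norm W.one T hs.comm hse.eq
  have huJ : u ∈ normalizer (J : Set G) := Hon.One.norm W.one T hu.comm hue.eq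
  have heJ : e ∈ centralizer (J : Set G) := by
    rw [mem_centralizer_iff]
    intro j hj
    exact comm_c (T.comp.le hj)
  have hxe : x = e * t := by rw [he, mul_assoc, ht.sq, mul_one]
  -- `J` is honest
  have hJ : HonW x J := by
    have key : ∀ l k : G, (l = 1 ∨ l = s) → k ∈ centralizer (L : Set G) → k * k = 1 →
        Commute k x → Commute k e → Commute l k → (l ≠ 1 ∨ k ≠ 1) → Fixes (l * k) J → HonW x J := by
      intro l k hl hk hkk hkx hke hlk hne hf
      have hlL : l ∈ L := by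
        rcases hl with rfl | rfl
        · exact one_mem _
        · exact hs.mem
      have hll : l * l = 1 := by
        rcases hl with rfl | rfl
        · exact one_mul 1
        · exact hs.sq
      have hlx : Commute l x := by
        rcases hl with rfl | rfl
        · exact Commute.one_left _
        · exact hsx
      have hle : Commute l e := by
        rcases hl with rfl | rfl
        · exact Commute.one_left _
        · exact hse
      refine W.glue T (orderOf_eq_prime ?_ ?_) ?_ (hle.mul_left hke).eq (hlx.mul_left hkx).eq hf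
      · rw [pow_two]
        calc l * k * (l * k) = l * (k * l) * k := by group
          _ = (l * l) * (k * k) := by rw [← hlk.eq]; group
          _ = 1 := by rw [hll, hkk, one_mul]
      · intro h1
        have h2 : l = k⁻¹ := eq_inv_of_mul_eq_one_left h1
        have h3 : l = 1 := EFacts.eq_one_of_mem_centralizer R hlL (h2 ▸ inv_mem hk)
        rcases hne with h4 | h4
        · exact h4 h3
        · rw [h3, one_mul] at h1
          exact h4 h1
      · intro h1
        have h2 : x * l ∈ centralizer (L : Set G) := by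
          have h3 : x * l = l * k * t * l := by rw [h1, ← hxe]
          have h4 : l * k * t * l = k * t := by
            have h5 : Commute l (k * t) := hlk.mul_right (cl hlL ht.mem)
            calc l * k * t * l = l * (k * t) * l := by group
              _ = (k * t) * l * l := by rw [h5.eq]
              _ = k * t * (l * l) := by group
              _ = k * t := by rw [hll, mul_one]
          rw [h3, h4]
          exact mul_mem hk ht.mem
        exact C.xLK l hlL h2
    -- from `x` to `t`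
    have toT : ∀ g : G, Fixes (g * x) J → Fixes (g * t) J := by
      intro g hg
      have h1 := fixes_mul hg (fixes_of_comm heJ)
      have h2 : g * x * e = g * t := by
        rw [he, ← mul_assoc, mul_assoc g x x, hxx, mul_one]
      rwa [h2] at h1
    have htu : Commute t u := (show Commute u t from hutc).symm
    have huu := hu.sq
    have htt := ht.sq
    rcases pigeon W.pgl T hs.sq hu.sq hsu.eq hs.comm hu.comm hsJ huJ with (h1 | h1) | (h1 | h1) | (h1 | h1)
    · exact key s 1 (Or.inr rfl) (one_mem _) (one_mul 1) (Commute.one_left _) (Commute.one_left _)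
        (Commute.one_right _) (Or.inl hs.ne) (by rwa [mul_one])
    · exact key s t (Or.inr rfl) ht.mem ht.sq htx hte hst (Or.inl hs.ne) (toT _ h1)
    · exact key 1 u (Or.inl rfl) hu.mem hu.sq hux hue (Commute.one_left _) (Or.inr hu.ne)
        (by rwa [one_mul])
    · refine key 1 (u * t) (Or.inl rfl) (mul_mem hu.mem ht.mem) ?_ (hux.mul_left htx)
        (hue.mul_left hte) (Commute.one_left _) (Or.inr ?_) (by rw [one_mul]; exact toT _ h1)
      · calc u * t * (u * t) = u * (t * u) * t := by group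
          _ = (u * u) * (t * t) := by rw [htu.eq]; group
          _ = 1 := by rw [huu, htt, one_mul]
      · intro h2
        apply hut
        have := eq_inv_of_mul_eq_one_left h2
        rwa [inv_eq_of_mul_eq_one_left htt] at this
    · exact key s u (Or.inr rfl) hu.mem hu.sq hux hue hsu (Or.inl hs.ne) h1
    · refine key s (u * t) (Or.inr rfl) (mul_mem hu.mem ht.mem) ?_ (hux.mul_left htx)
        (hue.mul_left hte) (hsu.mul_right hst) (Or.inl hs.ne) (by rw [← mul_assoc]; exact toT _ h1)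
      calc u * t * (u * t) = u * (t * u) * t := by group
        _ = (u * u) * (t * t) := by rw [htu.eq]; group
        _ = 1 := by rw [huu, htt, one_mul]
  obtain ⟨F', _, _, h5', ⟨R'⟩⟩ := hJ.exists_R W.pgl
  have C' := hJ.cf W.pgl R'
  have heT : IsT J x e := ⟨heJ, hex.eq, sq_of_order hoe, by
    rintro rfl
    rw [orderOf_one] at hoe
    exact absurd hoe (by decide)⟩
  -- normalizing
  have hNL : ∀ k : G, Commute k x → Commute k e → k ∈ normalizer (L : Set G) := by
    intro k hkx hke
    have hkt : Commute k t := by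
      have : t = x * e := by rw [he, ← mul_assoc, hxx, one_mul]
      rw [this]
      exact hkx.mul_right hke
    exact Hon.One.norm W.one (h.good ht) hkx.eq hkt.eq
  -- `y_J`
  obtain ⟨y, hyJ, hy1, hyx, hyo, hyL⟩ : ∃ y ∈ J, y ≠ 1 ∧ y * x = x * y ∧ Odd (orderOf y) ∧
      y ∈ centralizer (L : Set G) := by
    have hdJ : d ∈ normalizer (J : Set G) := T.mem_normalizer_of_core hd (mem_c hde.eq)
    have hodd : Odd (orderOf (OddHalf.D6.act J d hdJ)) := by
      have h3 : orderOf (OddHalf.D6.act J d hdJ) ∣ orderOf (⟨d, hdJ⟩ : ↥(normalizer (J : Set G))) :=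
        orderOf_map_dvd J.normalizerMonoidHom _
      rw [Subgroup.orderOf_mk] at h3
      exact Odd.of_dvd_nat (odd_of_core hd) h3
    obtain ⟨⟨k, hk⟩, hkx, hkd⟩ := L2Fact.exists_moved R' C'.sq (C'.o1 C'.xN) hodd
      (fun h => hJf (fixes_of_comm ((EFacts.act_one_iff' hdJ).mp h)))
      (EFacts.act_comm' hdJ C'.xN hdx.eq)
    have hkx' := (EFacts.act_fix C'.xN hk).mp hkx
    have hke : Commute k e := cl hk heJ
    have hkL : k ∈ normalizer (L : Set G) := hNL k hkx' hke
    have e1 : d * k * d⁻¹ * k⁻¹ = d * (k * d⁻¹ * k⁻¹) := by group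
    refine ⟨d * k * d⁻¹ * k⁻¹, mul_mem (ThE.Base.L_conj hdJ hk) (inv_mem hk), ?_, ?_, ?_, ?_⟩
    · intro h1
      apply hkd
      rw [EFacts.act_fix hdJ hk]
      exact (mul_inv_eq_iff_eq_mul.mp (mul_inv_eq_one.mp h1)).symm
    · have h1 : d * k * d⁻¹ * k⁻¹ ∈ core (centralizer ({x} : Set G)) := by
        rw [e1]
        exact mul_mem hd (conj_core (mem_c hkx') (inv_mem hd))
      exact comm_c (core_le _ h1)
    · have h1 : d * k * d⁻¹ * k⁻¹ ∈ core (centralizer ({x} : Set G)) := by
        rw [e1]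
        exact mul_mem hd (conj_core (mem_c hkx') (inv_mem hd))
      exact odd_of_core h1
    · rw [e1]
      exact mul_mem hdL (conj_mem_cen hkL (inv_mem hdL))
  -- `y_L`
  obtain ⟨z, hz, hzL, hzf⟩ := W.pgl.exists_y (h.good ht)
  have hz1 : z ≠ 1 := by
    rintro rfl
    exact hzf (fixes_one L)
  have hzx : z * x = x * z := comm_c (core_le _ hz)
  have hzJ : z ∈ centralizer (J : Set G) := hJ.cen heT z (he ▸ h.inf_le W ht hz hzL)
  -- `s` centralizes `J`
  have hsJc : s ∈ centralizer (J : Set G) := by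
    rcases C'.aut hyJ hy1 hyo hyx hsJ (cl hs.mem hyL).eq ⟨1, by rw [pow_one, pow_two]; exact hs.sq⟩
      with h1 | h1
    · exact h1
    · refine px W.pgl h hJ ht hs ?_ hyJ hy1 hyo hyx hyL
      have h2 : t * s = e * (s * x) := by
        rw [he, hsx.eq]
        calc t * s = (x * x) * t * s := by rw [hxx, one_mul]
          _ = x * (x * t) * s := by group
          _ = x * (t * x) * s := by rw [htx.eq]
          _ = x * t * (x * s) := by group
      rw [h2]
      exact mul_mem heJ h1
  -- `s_J` centralizes `L`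
  obtain ⟨r, hr, -⟩ := Cf.exists_inv C'
  have hrx : Commute r x := hr.comm
  have hre : Commute r e := cl hr.mem heJ
  have hrL : r ∈ centralizer (L : Set G) := by
    rcases C.aut hzL hz1 (odd_of_core hz) hzx (hNL r hrx hre) (cl hr.mem hzJ).eq
      ⟨1, by rw [pow_one, pow_two]; exact hr.sq⟩ with h1 | h1
    · exact h1
    · refine px W.pgl hJ h heT hr ?_ hzL hz1 (odd_of_core hz) hzx hzJ
      have h2 : e * r = t * (r * x) := by
        rw [he, hrx.eq, ← mul_assoc t x r, htx.eq]
      rw [h2]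
      exact mul_mem ht.mem h1
  have hrT : IsT L x r := ⟨hrL, hr.comm, hr.sq, hr.ne⟩
  have hsT : IsT J x s := ⟨hsJc, hs.comm, hs.sq, hs.ne⟩
  -- `J ≤ C(L)`
  have half : ∀ {x' : G}, Cf R' x' → IsS J x' r → (∀ k : G, Commute k x' → Commute k e →
      k ∈ normalizer (L : Set G)) → ∀ y ∈ J, y * x' = x' * y → Odd (orderOf y) →
      y ∈ centralizer (L : Set G) := by
    intro x' c hr' hN' y hy hyx' hyo'
    have h1 := Cf.inverts c hr' hy hyx' hyo'
    have hyN : y ∈ normalizer (L : Set G) := hN' y hyx' (cl hy heJ)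
    have h2 : y * y = (y * r * y⁻¹) * r⁻¹ := by
      have h3 : r * y⁻¹ * r⁻¹ = y := by
        have h4 : r * y⁻¹ * r⁻¹ = (r * y * r⁻¹)⁻¹ := by group
        rw [h4, h1, inv_inv]
      calc y * y = y * (r * y⁻¹ * r⁻¹) := by rw [h3]
        _ = (y * r * y⁻¹) * r⁻¹ := by group
    refine PGLFacts.mem_of_sq_mem ?_ hyo'
    rw [h2]
    exact mul_mem (conj_mem_cen hyN hrL) (inv_mem hrL)
  have hJcL : J ≤ centralizer (L : Set G) := by
    refine BBTools.gen2 C' (by omega) hr (half C' hr hNL) (half (Cf.mul_s C' hr)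
      ⟨hr.mem, (hrx.mul_right (Commute.refl r)).eq, hr.sq, hr.ne⟩ ?_)
    intro k hk hke
    have hrt : Commute r t := by
      have : t = x * e := by rw [he, ← mul_assoc, hxx, one_mul]
      rw [this]
      exact hrx.mul_right hre
    have h1 : HonW (x * r) L := h.mul W hrT
    have h2 : IsT L (x * r) (t * r) := by
      refine ⟨mul_mem ht.mem hrL, ?_, ?_, ?_⟩
      · exact ((htx.mul_right hrt.symm).mul_left (hrx.mul_right (Commute.refl r))).eq
      · calc t * r * (t * r) = t * (r * t) * r := by group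
          _ = (t * t) * (r * r) := by rw [hrt.eq]; group
          _ = 1 := by rw [ht.sq, hr.sq, one_mul]
      · intro h3
        have h4 : t = r := by
          have := eq_inv_of_mul_eq_one_left h3
          rwa [inv_eq_of_mul_eq_one_left hr.sq] at this
        apply C'.xLK r hr.mem
        rw [← h4, ← he]
        exact heJ
    refine Hon.One.norm W.one (h1.good h2) hk.eq ?_
    have h3 : t * r = e * (x * r) := by
      rw [he]
      calc t * r = (x * x) * t * r := by rw [hxx, one_mul]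
        _ = x * (x * t) * r := by group
        _ = x * (t * x) * r := by rw [htx.eq]
        _ = x * t * (x * r) := by group
    rw [h3]
    exact (hke.mul_right hk).eq
  have hLcJ : L ≤ centralizer (J : Set G) := by
    rw [le_centralizer_iff]
    exact hJcL
  exact N h hJ (Ne.symm hJL) hLcJ (comp_all R' hJcL hr.mem hr.sq hr.ne (h.good hrT).comp)
    (comp_all R hLcJ hs.mem hs.sq hs.ne (hJ.good hsT).comp)

/-- **`O(C(x))` is faithful on `L`** -/
theorem HonW.faith (W : World G) (N : NP G) (h : HonW x L) {d : G}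
    (hd : d ∈ core (centralizer ({x} : Set G))) (hdL : d ∈ centralizer (L : Set G)) : d = 1 := by
  obtain ⟨t₀, u₀, h1, h2, h3, h4⟩ := h.four
  obtain ⟨D, hD⟩ : ∃ D, D = core (centralizer ({x} : Set G)) ⊓ centralizer (L : Set G) := ⟨_, rfl⟩
  have hcj : ∀ {t : G}, IsT L x t → ∀ y ∈ D, t * y * t⁻¹ ∈ D := by
    intro t ht y hy
    rw [hD] at hy ⊢
    exact ⟨conj_core (mem_c ht.comm) hy.1, (centralizer (L : Set G)).mul_mem
      ((centralizer (L : Set G)).mul_mem ht.mem hy.2) ((centralizer (L : Set G)).inv_mem ht.mem)⟩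
  have hinf : ∀ t, IsT L x t → D ⊓ centralizer ({t} : Set G) ≤ ⊥ := by
    intro t ht y hy
    rw [hD] at hy
    rw [mem_bot]
    exact h.faith_t W N ht hy.1.1 hy.1.2 (comm_c hy.2)
  have hodd : Odd (Nat.card D) := by
    rw [hD]
    exact Odd.of_dvd_nat (odd_card_core _) (card_dvd_of_le inf_le_left)
  have h5 := Lib.KleinGen.le_of_klein D ⊥ hodd t₀ u₀ h1.sq h2.sq h4 (hcj h1) (hcj h2)
    (hinf _ h1) (hinf _ h2) (hinf _ (isT_mul2 h1 h2 h3 h4))
  exact mem_bot.mp (h5 (by rw [hD]; exact ⟨hd, hdL⟩))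

/-- `O(C(x))` centralizes the involutions of `C(L) ∩ C(x)` -/
theorem HonW.core_t (W : World G) (N : NP G) (h : HonW x L) {t d : G} (ht : IsT L x t)
    (hd : d ∈ core (centralizer ({x} : Set G))) : t * d = d * t := by
  have h1 : t * d * t⁻¹ * d⁻¹ ∈ core (centralizer ({x} : Set G)) :=
    mul_mem (conj_core (mem_c ht.comm) hd) (inv_mem hd)
  have h2 : t * d * t⁻¹ * d⁻¹ ∈ centralizer (L : Set G) := by
    have e : t * d * t⁻¹ * d⁻¹ = t * (d * t⁻¹ * d⁻¹) := by group
    rw [e]
    exact mul_mem ht.mem (conj_mem_cen (h.norm hd) (inv_mem ht.mem))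
  have h3 := h.faith W N h1 h2
  exact mul_inv_eq_iff_eq_mul.mp (mul_inv_eq_one.mp h3)

/-- **the system of the bad involutions of `L`** -/
theorem HonW.hsys (W : World G) (N : NP G) (h₀ : HonW x L) :
    HSys.HSys L (fun e => HonW e L) where
  cb := h₀.cb
  ox h := h.ox
  good h ht := h.good ht
  norm h hd := h.norm hd
  faith h hd hdL := h.faith W N hd hdL
  mul h ht := h.mul W ht
  commc h ht hd hdL hkL hkx := h.comm_core W.pgl W.one ht hd hdL hkL hkx
  four h := h.four

theorem HonW.cj (h : HonW x L) (g : G) : HonW (g * x * g⁻¹) (IntrinsicBasic.cj g L) := by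
  refine ⟨?_, ?_, ?_, ?_, ?_⟩
  · have h1 := (MulAut.conj g).orderOf_eq x
    rw [h.ox] at h1
    exact h1
  · rw [core_cj, h.cb]
    exact Subgroup.map_bot _
  · intro t ht
    have h3 := (h.good (HonTools.conj_isT ht)).cj g
    have e : g * (g⁻¹ * t * g) * g⁻¹ = t := by group
    rwa [e] at h3
  · intro t ht d hd
    have h1 := h.cen (HonTools.conj_isT ht) (g⁻¹ * d * g) (by
      have h2 : g⁻¹ * d * g ∈ IntrinsicBasic.cj g⁻¹ (core (centralizer ({t} : Set G))) := by
        rw [mem_cj]
        convert hd using 1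
        group
      rw [← core_cj, cj_centralizer] at h2
      convert h2 using 3
      group)
    rw [mem_centralizer_iff]
    intro l hl
    rw [SetLike.mem_coe, mem_cj] at hl
    have h2 := mem_centralizer_iff.mp h1 _ hl
    calc l * d = g * (g⁻¹ * l * g * (g⁻¹ * d * g)) * g⁻¹ := by group
      _ = g * (g⁻¹ * d * g * (g⁻¹ * l * g)) * g⁻¹ := by rw [h2]
      _ = d * l := by group
  · obtain ⟨t, u, h1, h2, h3, h4⟩ := h.four
    refine ⟨_, _, HonTools.isT_cj (g := g) h1, HonTools.isT_cj (g := g) h2, fun h5 => h3 ?_, ?_⟩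
    · simpa using h5
    · calc g * t * g⁻¹ * (g * u * g⁻¹) = g * (t * u) * g⁻¹ := by group
        _ = g * (u * t) * g⁻¹ := by rw [h4]
        _ = g * u * g⁻¹ * (g * t * g⁻¹) := by group

/-- `x` determines `L` -/
theorem HonW.unique (W : World G) (N : NP G) {L' : Subgroup G} (h : HonW x L) (h' : HonW x L') :
    L = L' := by
  obtain ⟨t₀, u₀, ht₀, -⟩ := h.four
  obtain ⟨F, _, _, h5, ⟨R⟩⟩ := h.exists_R W.pgl
  have c := h.cf W.pgl R
  obtain ⟨y, hy, hyL, hyf⟩ := W.pgl.exists_y (h.good ht₀)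
  have hy1 : y ≠ 1 := by
    rintro rfl
    exact hyf (fixes_one L)
  -- an involution of `C(L') ∩ C(x)` acts on `L` as `1` or `x`
  have key : ∀ t, IsT L' x t → t ∈ centralizer (L : Set G) ∨ t * x ∈ centralizer (L : Set G) := by
    intro t ht
    exact c.aut hyL hy1 (odd_of_core hy) (comm_c (core_le _ hy))
      (HSys.cx_le (h.hsys W N) W.pgl W.one h ht.comm) (h'.core_t W N ht hy)
      ⟨1, by rw [pow_one, pow_two]; exact ht.sq⟩
  have fin : ∀ t, IsT L' x t → t ∈ centralizer (L : Set G) → L = L' := by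
    intro t ht htL
    exact W.one (h.good ⟨htL, ht.comm, ht.sq, ht.ne⟩) (h'.good ht)
  obtain ⟨t, u, h1, h2, h3, h4⟩ := h'.four
  rcases key t h1 with k1 | k1
  · exact fin t h1 k1
  rcases key u h2 with k2 | k2
  · exact fin u h2 k2
  have h6 : t * u = (t * x) * (u * x) := by
    calc t * u = t * (x * x) * u := by rw [sq_of_order h.ox, mul_one]
      _ = (t * x) * (x * u) := by group
      _ = (t * x) * (u * x) := by rw [h2.comm]
  exact fin (t * u) (isT_mul2 h1 h2 h3 h4) (by rw [h6]; exact mul_mem k1 k2)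

/-- **the system of bad pairs for `x ∈ X`, `W = 1`, one `L` for each pair, no `~`-pairs** -/
theorem bbs_honW (W : World G) (N : NP G) : BBS.BBS (fun (x : G) (L : Subgroup G) => HonW x L) where
  conj g h := h.cj g
  ox h := h.ox
  uniq h h' := h.unique W N h'
  rep h := h.exists_R W.pgl
  cf h _ _ _ R := h.cf W.pgl R
  mul h ht := h.mul W ht
  comp h ht := (h.good ht).comp
  corec h ht := h.cen ht
  four h := h.four
  tor h hy hyx hyo := ((HSys.mem_Y (h.hsys W N) W.pgl W.one h).mpr ⟨hy, hyx, hyo⟩).1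
  hx h hc := HSys.cx_le (h.hsys W N) W.pgl W.one h hc
  hy h hc := HSys.cy_le (h.hsys W N) W.pgl W.one h hc

end Cfsg.Agent.UGT.Res.HonW
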