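import Cfsg.Agent.UGT.Res.L2Fact
import Cfsg.Agent.OddHalf.D6.Bal
import Cfsg.Agent.LieRecognition.FieldSemilinear
import Cfsg.Agent.UGT.ThE.In

/-!
# `L ≅ PSL(2,F)` and `x ∈ N(L)` of PGL type: the facts used in Theorems E and H

`Cf R x`: `x` is an involution of `N(L)` acting on `L` as an element of `PGL(2,F) ∖ PSL(2,F)`.
-/

set_option autoImplicit false

open Subgroup Cfsg.Agent.GH.L2Aut Cfsg.Agent.OddHalf.D6
open Cfsg.Agent.UGT.ThE.Base (IsS IsT)

namespace Cfsg.Agent.UGT.Res.EFacts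

variable {G : Type*} [Group G] {L : Subgroup G}

/-! ### the action on `L` -/

theorem act_one_iff' {h : G} (hn : h ∈ normalizer (L : Set G)) :
    act L h hn = 1 ↔ h ∈ centralizer (L : Set G) := by
  rw [act_one_iff, mem_centralizer_iff]
  exact ⟨fun h1 l hl => (h1 l hl).symm, fun h1 l hl => (h1 l hl).symm⟩

theorem act_of_mem {l : G} (hl : l ∈ L) : act L l (le_normalizer hl) = MulAut.conj (⟨l, hl⟩ : L) := by
  ext z
  rfl

theorem act_inv {u : G} (hu : u ∈ normalizer (L : Set G)) :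
    act L u⁻¹ (inv_mem hu) = (act L u hu)⁻¹ := by
  rw [eq_inv_iff_mul_eq_one, act_mul, act_one_iff]
  intro l _
  rw [inv_mul_cancel, one_mul, mul_one]

theorem act_comm {u v : G} (hu : u ∈ normalizer (L : Set G)) (hv : v ∈ normalizer (L : Set G))
    (h : u * v * u⁻¹ * v⁻¹ ∈ centralizer (L : Set G)) :
    act L u hu * act L v hv = act L v hv * act L u hu := by
  have h1 : act L (u * v * u⁻¹ * v⁻¹) (mul_mem (mul_mem (mul_mem hu hv) (inv_mem hu)) (inv_mem hv)) = 1 :=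
    (act_one_iff' _).mpr h
  have h2 : act L (u * v * u⁻¹ * v⁻¹) (mul_mem (mul_mem (mul_mem hu hv) (inv_mem hu)) (inv_mem hv)) *
      (act L v hv * act L u hu) = act L u hu * act L v hv := by
    rw [act_mul, act_mul, act_mul]
    apply act_congr
    group
  rw [h1, one_mul] at h2
  exact h2.symm

theorem act_comm' {u v : G} (hu : u ∈ normalizer (L : Set G)) (hv : v ∈ normalizer (L : Set G))
    (h : u * v = v * u) : act L u hu * act L v hv = act L v hv * act L u hu := by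
  apply act_comm
  rw [h]
  have : v * u * u⁻¹ * v⁻¹ = 1 := by group
  rw [this]
  exact one_mem _

theorem act_sq {u : G} (hu : u ∈ normalizer (L : Set G)) (h : u * u = 1) :
    act L u hu * act L u hu = 1 := by
  rw [act_mul, act_one_iff]
  intro l _
  rw [h, one_mul, mul_one]

theorem act_fix {u l : G} (hu : u ∈ normalizer (L : Set G)) (hl : l ∈ L) :
    act L u hu ⟨l, hl⟩ = ⟨l, hl⟩ ↔ l * u = u * l := by
  rw [act_eq_iff]
  exact eq_comm

variable {F : Type*} [Field F] [Finite F] (R : Cfsg.Agent.GH.L2Aut.Rep F L)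

/-- `x` is an involution of PGL type on `L` -/
structure Cf (x : G) : Prop where
  xx : x * x = 1
  xN : x ∈ normalizer (L : Set G)
  o1 : ∀ h : x ∈ normalizer (L : Set G), R.o1 (act L x h) = -1

/-- no involution of `N(L)` is of field type on `L` -/
def NF : Prop := ∀ (u : G) (hu : u ∈ normalizer (L : Set G)), u * u = 1 → R.fld (act L u hu) = 1

variable {R} {x : G}

theorem Cf.ne (C : Cf R x) : x ≠ 1 := by
  intro h
  have h1 := C.o1 C.xN
  have h2 : act L x C.xN = 1 := by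
    rw [act_one_iff]
    intro l _
    rw [h, one_mul, mul_one]
  rw [h2, map_one] at h1
  exact absurd h1 (by decide)

theorem Cf.sq (C : Cf R x) : act L x C.xN * act L x C.xN = 1 := act_sq _ C.xx

/-- an inner automorphism of order two commuting with `x` is an `s` -/
theorem Cf.exists_s (C : Cf R x) {β : MulAut L} (h1 : β * β = 1) (h2 : β ≠ 1)
    (h3 : β * act L x C.xN = act L x C.xN * β) (hf : R.fld β = 1) (ho : R.o1 β = 1) :
    ∃ (s : G) (hs : s ∈ L), IsS L x s ∧ β = MulAut.conj (⟨s, hs⟩ : L) := by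
  obtain ⟨⟨s, hs⟩, rfl⟩ := R.mem_inn_iff.2 ⟨hf, ho⟩
  refine ⟨s, hs, ⟨hs, ?_, ?_, ?_⟩, rfl⟩
  · rw [← act_fix C.xN hs]
    exact R.conj_injective (Cfsg.Agent.GH.L2Aut.Rep.conj_comm_iff.mp h3)
  · have h4 : (⟨s, hs⟩ : L) * ⟨s, hs⟩ = 1 := R.conj_injective (by rw [map_mul, h1, map_one])
    exact congrArg Subtype.val h4
  · rintro rfl
    apply h2
    have h4 : (⟨1, hs⟩ : L) = 1 := rfl
    rw [h4, map_one]

/-- `cenx` -/
theorem Cf.cenx (C : Cf R x) (e : G) (he : e ∈ normalizer (L : Set G)) (hee : e * e = 1)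
    (hc : e * x * e⁻¹ * x⁻¹ ∈ centralizer (L : Set G)) :
    e ∈ centralizer (L : Set G) ∨ e * x ∈ centralizer (L : Set G) ∨
      ∃ s, IsS L x s ∧ (e * s ∈ centralizer (L : Set G) ∨ e * x * s ∈ centralizer (L : Set G)) := by
  have hα := act_sq he hee
  have hcm := act_comm he C.xN hc
  have hf : R.fld (act L e he) = 1 := by
    by_contra hf
    have h3 := R.o1_of_comm hα hf hcm.symm
    rw [C.o1] at h3
    exact absurd h3 (by decide)
  have hf' : R.fld (act L x C.xN) = 1 :=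
    R.mem_PGL_iff_fld.1 (PglType.pgl_of R C.sq (C.o1 C.xN)).1
  rcases Int.units_eq_one_or (R.o1 (act L e he)) with ho | ho
  · by_cases h1 : act L e he = 1
    · exact Or.inl ((act_one_iff' he).mp h1)
    · obtain ⟨s, hs, hS, h2⟩ := C.exists_s hα h1 hcm hf ho
      refine Or.inr (Or.inr ⟨s, hS, Or.inl ?_⟩)
      rw [← act_one_iff' (mul_mem he (le_normalizer hs)), ← act_mul he (le_normalizer hs), act_of_mem hs,
        ← h2, hα]
  · obtain ⟨β, hβ⟩ : ∃ β, β = act L e he * act L x C.xN := ⟨_, rfl⟩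
    have hββ : β * β = 1 := by
      calc β * β = act L e he * (act L x C.xN * act L e he) * act L x C.xN := by
            rw [hβ]; group
        _ = (act L e he * act L e he) * (act L x C.xN * act L x C.xN) := by rw [← hcm]; group
        _ = 1 := by rw [hα, C.sq, one_mul]
    have hβx : β * act L x C.xN = act L x C.xN * β := by
      rw [hβ, ← mul_assoc, ← hcm]
    have hβf : R.fld β = 1 := by rw [hβ, map_mul, hf, hf', one_mul]
    have hβo : R.o1 β = 1 := by rw [hβ, map_mul, ho, C.o1]; decide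
    by_cases h1 : β = 1
    · right; left
      rw [← act_one_iff' (mul_mem he C.xN), ← act_mul he C.xN, ← hβ, h1]
    · obtain ⟨s, hs, hS, h2⟩ := C.exists_s hββ h1 hβx hβf hβo
      refine Or.inr (Or.inr ⟨s, hS, Or.inr ?_⟩)
      rw [← act_one_iff' (mul_mem (mul_mem he C.xN) (le_normalizer hs)),
        ← act_mul (mul_mem he C.xN) (le_normalizer hs), act_of_mem hs, ← act_mul he C.xN, ← hβ, ← h2, hββ]

/-- `comm` -/
theorem Cf.comm (C : Cf R x) (s s' : G) (hs : IsS L x s) (hs' : IsS L x s') (h : s * s' = s' * s) :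
    s = s' := by
  have h1 := PglType.eq_of_two R C.sq (C.o1 C.xN) ((act_fix C.xN hs.mem).mpr hs.comm)
    (Subtype.ext hs.sq : (⟨s, hs.mem⟩ : L) * ⟨s, hs.mem⟩ = 1) (fun h => hs.ne (congrArg Subtype.val h))
    ((act_fix C.xN hs'.mem).mpr hs'.comm)
    (Subtype.ext hs'.sq : (⟨s', hs'.mem⟩ : L) * ⟨s', hs'.mem⟩ = 1)
    (fun h => hs'.ne (congrArg Subtype.val h)) ⟨1, by
      apply Subtype.ext
      change (s * s') ^ 2 ^ 1 = 1
      rw [pow_one, pow_two]
      calc s * s' * (s * s') = s * (s' * s) * s' := by group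
        _ = s * (s * s') * s' := by rw [h]
        _ = (s * s) * (s' * s') := by group
        _ = 1 := by rw [hs.sq, hs'.sq, one_mul]⟩
  exact congrArg Subtype.val h1

/-- `inv` -/
theorem Cf.inv (C : Cf R x) (hNF : NF R) (e : G) (he : e ∈ normalizer (L : Set G))
    (hee : e * e = 1) : e ∈ centralizer (L : Set G) ∨
    (∃ s ∈ L, s * s = 1 ∧ e * s ∈ centralizer (L : Set G)) ∨
      ∃ l ∈ L, l * e * l⁻¹ * x ∈ centralizer (L : Set G) := by
  have hα := act_sq he hee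
  have hf := hNF e he hee
  rcases Int.units_eq_one_or (R.o1 (act L e he)) with ho | ho
  · by_cases h1 : act L e he = 1
    · exact Or.inl ((act_one_iff' he).mp h1)
    · obtain ⟨⟨s, hs⟩, h2⟩ := R.mem_inn_iff.2 ⟨hf, ho⟩
      refine Or.inr (Or.inl ⟨s, hs, ?_, ?_⟩)
      · have h4 : (⟨s, hs⟩ : L) * ⟨s, hs⟩ = 1 := R.conj_injective (by rw [map_mul, h2, hα, map_one])
        exact congrArg Subtype.val h4
      · rw [← act_one_iff' (mul_mem he (le_normalizer hs)), ← act_mul he (le_normalizer hs),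
          act_of_mem hs, h2, hα]
  · obtain ⟨h1, h2⟩ := PglType.pgl_of R hα ho
    obtain ⟨h3, h4⟩ := PglType.pgl_of R C.sq (C.o1 C.xN)
    obtain ⟨⟨y, hyL⟩, hy⟩ := R.dtype_conj h1 h2 hα h3 h4 C.sq
    refine Or.inr (Or.inr ⟨y, hyL, ?_⟩)
    have hyN := le_normalizer hyL
    rw [← act_one_iff' (mul_mem (mul_mem (mul_mem hyN he) (inv_mem hyN)) C.xN),
      ← act_mul (mul_mem (mul_mem hyN he) (inv_mem hyN)) C.xN]
    have h5 : act L (y * e * y⁻¹) (mul_mem (mul_mem hyN he) (inv_mem hyN)) = act L x C.xN := by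
      rw [← hy, ← act_mul (mul_mem hyN he) (inv_mem hyN), ← act_mul hyN he, act_inv hyN,
        act_of_mem hyL]
    rw [h5, C.sq]

/-- three involutions of `PGL` commuting with `s` and generating a four-group: one of them is `s` -/
theorem four_cens (R : Cfsg.Agent.GH.L2Aut.Rep F L) {σ α β : MulAut L} (hσP : σ ∈ R.PGL)
    (hσ1 : σ ≠ 1) (hσ : σ * σ = 1) (hαP : α ∈ R.PGL) (hα1 : α ≠ 1) (hα : α * α = 1)
    (hβP : β ∈ R.PGL) (hβ1 : β ≠ 1) (hβ : β * β = 1) (hαβ : α * β = β * α) (hαβ1 : α * β ≠ 1)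
    (hασ : α * σ = σ * α) (hβσ : β * σ = σ * β) : α = σ ∨ β = σ ∨ α * β = σ := by
  obtain ⟨g, rfl⟩ := R.mem_PGL.1 hσP
  obtain ⟨h, rfl⟩ := R.mem_PGL.1 hαP
  obtain ⟨k, rfl⟩ := R.mem_PGL.1 hβP
  have hs := R.not_scalar_of_ne hσ1
  have htr := R.tr_of_inv hσ1 hσ
  have hor : ∀ u : GL (Fin 2) F, R.gl u ≠ 1 → R.gl u * R.gl u = 1 → R.gl u * R.gl g = R.gl g * R.gl u →
      R.gl u = R.gl g ∨ u.1 * g.1 = -(g.1 * u.1) := by
    intro u hu1 hu hc
    rcases R.comm_cases hc with h1 | h1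
    · rcases R.torus_inv hs htr h1.symm hu with h2 | h2
      · exact absurd h2 hu1
      · exact Or.inl h2
    · exact Or.inr h1
  rcases hor h hα1 hα hασ with h1 | h1
  · exact Or.inl h1
  rcases hor k hβ1 hβ hβσ with h2 | h2
  · exact Or.inr (Or.inl h2)
  right; right
  have h3 : g.1 * (h * k).1 = (h * k).1 * g.1 := by
    rw [Units.val_mul]
    have e1 : g.1 * h.1 = -(h.1 * g.1) := by rw [h1, neg_neg]
    have e2 : g.1 * k.1 = -(k.1 * g.1) := by rw [h2, neg_neg]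
    rw [← Matrix.mul_assoc, e1, Matrix.neg_mul, Matrix.mul_assoc, e2, Matrix.mul_neg, neg_neg,
      Matrix.mul_assoc]
  have h4 : R.gl (h * k) * R.gl (h * k) = 1 := by
    rw [map_mul]
    calc R.gl h * R.gl k * (R.gl h * R.gl k) = R.gl h * (R.gl k * R.gl h) * R.gl k := by group
      _ = (R.gl h * R.gl h) * (R.gl k * R.gl k) := by rw [← hαβ]; group
      _ = 1 := by rw [hα, hβ, one_mul]
  rcases R.torus_inv hs htr h3 h4 with h5 | h5
  · rw [map_mul] at h5
    exact absurd h5 hαβ1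
  · rwa [map_mul] at h5

/-- `cens` -/
theorem Cf.cens (_C : Cf R x) (hNF : NF R) (s : G) (hs : IsS L x s)
    (f₁ : G) (hf₁ : f₁ ∈ normalizer (L : Set G)) (f₂ : G) (hf₂ : f₂ ∈ normalizer (L : Set G))
    (h₁ : f₁ * f₁ = 1) (h₂ : f₂ * f₂ = 1) (h₁₂ : f₁ * f₂ = f₂ * f₁) (hs₁ : f₁ * s = s * f₁)
    (hs₂ : f₂ * s = s * f₂) (hn₁ : f₁ ∉ centralizer (L : Set G)) (hn₂ : f₂ ∉ centralizer (L : Set G))
    (hn₁₂ : f₁ * f₂ ∉ centralizer (L : Set G)) :
    f₁ * s ∈ centralizer (L : Set G) ∨ f₂ * s ∈ centralizer (L : Set G) ∨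
      f₁ * f₂ * s ∈ centralizer (L : Set G) := by
  have hsN : s ∈ normalizer (L : Set G) := le_normalizer hs.mem
  have hss := act_sq hsN hs.sq
  have hs1 : act L s hsN ≠ 1 := by
    rw [act_of_mem hs.mem]
    intro h
    have h1 : (⟨s, hs.mem⟩ : L) = 1 := R.conj_injective (by rw [h, map_one])
    exact hs.ne (congrArg Subtype.val h1)
  have key := four_cens R (R.mem_PGL_iff_fld.2 (hNF s hsN hs.sq)) hs1 hss
    (R.mem_PGL_iff_fld.2 (hNF f₁ hf₁ h₁)) (fun h => hn₁ ((act_one_iff' hf₁).mp h)) (act_sq hf₁ h₁)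
    (R.mem_PGL_iff_fld.2 (hNF f₂ hf₂ h₂)) (fun h => hn₂ ((act_one_iff' hf₂).mp h)) (act_sq hf₂ h₂)
    (act_comm' hf₁ hf₂ h₁₂) (fun h => hn₁₂ ((act_one_iff' (mul_mem hf₁ hf₂)).mp (by
      rwa [act_mul hf₁ hf₂] at h))) (act_comm' hf₁ hsN hs₁) (act_comm' hf₂ hsN hs₂)
  rcases key with h | h | h
  · left
    rw [← act_one_iff' (mul_mem hf₁ hsN), ← act_mul hf₁ hsN, h, hss]
  · right; left
    rw [← act_one_iff' (mul_mem hf₂ hsN), ← act_mul hf₂ hsN, h, hss]
  · right; right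
    rw [← act_one_iff' (mul_mem (mul_mem hf₁ hf₂) hsN), ← act_mul (mul_mem hf₁ hf₂) hsN,
      ← act_mul hf₁ hf₂, h, hss]

/-- `simp` -/
theorem simp (R : Cfsg.Agent.GH.L2Aut.Rep F L) (hF : 3 < Nat.card F) (N : Subgroup G) (hN : N ≤ L)
    (hn : ∀ l ∈ L, ∀ n ∈ N, l * n * l⁻¹ ∈ N) : N = ⊥ ∨ N = L := by
  have h1 : IsSimpleGroup L := SubFix.isSimple R hF
  have h2 : (N.subgroupOf L).Normal := ⟨fun n hn' g => hn g g.2 n hn'⟩
  rcases h2.eq_bot_or_eq_top with h3 | h3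
  · left
    rw [subgroupOf_eq_bot, disjoint_iff, inf_of_le_left hN] at h3
    exact h3
  · right
    exact le_antisymm hN (subgroupOf_eq_top.mp h3)

/-- `L` is not abelian -/
theorem not_comm (R : Cfsg.Agent.GH.L2Aut.Rep F L) : ¬ ∀ a b : L, a * b = b * a := by
  intro h
  obtain ⟨a, b, hab⟩ := R.exists_four
  obtain ⟨-, y, -, -, -, -, -, -, -, hya, -⟩ := R.exists_frame hab
  apply hab.ne
  rw [← hya, h y a, mul_inv_cancel_right]

/-- homomorphisms from `L` to commutative groups are trivial -/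
theorem hom_trivial (R : Cfsg.Agent.GH.L2Aut.Rep F L) (hF : 3 < Nat.card F) {A : Type*} [Group A]
    (hA : ∀ a b : A, a * b = b * a) (f : L →* A) (l : L) : f l = 1 := by
  have h1 : IsSimpleGroup L := SubFix.isSimple R hF
  rcases (MonoidHom.normal_ker f).eq_bot_or_eq_top with h2 | h2
  · exfalso
    refine not_comm R fun a b => ?_
    apply (MonoidHom.ker_eq_bot_iff f).mp h2
    rw [map_mul, map_mul, hA]
  · have : l ∈ f.ker := by rw [h2]; trivial
    exact this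

theorem ringAut_comm (σ τ : F ≃+* F) : σ * τ = τ * σ := by
  have hc : IsCyclic (F ≃+* F) := Cfsg.Agent.LieRecognition.FieldSemilinear.isCyclic_ringAut F
  let _ : CommGroup (F ≃+* F) := IsCyclic.commGroup
  exact mul_comm σ τ

/-- `perf` -/
theorem perf (R : Cfsg.Agent.GH.L2Aut.Rep F L) (hF : 3 < Nat.card F) (g : G)
    (hg : ∀ l ∈ L, g * l * g⁻¹ ∈ normalizer (L : Set G)) (l : G) (hl : l ∈ L) :
    ∃ l' ∈ L, g * l * g⁻¹ * l' ∈ centralizer (L : Set G) := by
  let θ : L →* MulAut L :=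
    { toFun := fun l => act L (g * l * g⁻¹) (hg l l.2)
      map_one' := by
        rw [act_one_iff]
        intro m _
        rw [Subgroup.coe_one, mul_one, mul_inv_cancel, one_mul, mul_one]
      map_mul' := fun a b => by
        rw [act_mul]
        apply act_congr
        rw [Subgroup.coe_mul]
        group }
  have h1 : R.fld (θ ⟨l, hl⟩) = 1 :=
    hom_trivial R hF (A := F ≃+* F) ringAut_comm (R.fld.comp θ) ⟨l, hl⟩
  have h2 : R.o1 (θ ⟨l, hl⟩) = 1 :=
    hom_trivial R hF (A := ℤˣ) (fun a b => mul_comm a b) (R.o1.comp θ) ⟨l, hl⟩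
  obtain ⟨⟨m, hm⟩, h3⟩ := R.mem_inn_iff.2 ⟨h1, h2⟩
  refine ⟨m⁻¹, inv_mem hm, ?_⟩
  have hmN : m⁻¹ ∈ normalizer (L : Set G) := le_normalizer (inv_mem hm)
  rw [← act_one_iff' (mul_mem (hg l hl) hmN), ← act_mul (hg l hl) hmN]
  have h4 : act L m⁻¹ hmN = (MulAut.conj (⟨m, hm⟩ : L))⁻¹ := by
    rw [← act_of_mem hm, ← act_inv]
  rw [h4, h3]
  exact mul_inv_cancel (θ ⟨l, hl⟩)

/-- `xLK` -/
theorem Cf.xLK (C : Cf R x) (l : G) (hl : l ∈ L) : x * l ∉ centralizer (L : Set G) := by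
  intro h
  have h1 := (act_one_iff' (mul_mem C.xN (le_normalizer hl))).mpr h
  rw [← act_mul C.xN (le_normalizer hl), act_of_mem hl] at h1
  have h2 := congrArg R.o1 h1
  rw [map_mul, C.o1, R.o1_conj, map_one] at h2
  exact absurd h2 (by decide)

/-- `YK` -/
theorem eq_one_of_mem_centralizer (R : Cfsg.Agent.GH.L2Aut.Rep F L) {l : G} (hl : l ∈ L)
    (h : l ∈ centralizer (L : Set G)) : l = 1 := by
  have h1 : (⟨l, hl⟩ : L) ∈ center L := by
    rw [Subgroup.mem_center_iff]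
    intro m
    exact Subtype.ext (mem_centralizer_iff.mp h m m.2)
  rw [R.center_eq_bot, mem_bot] at h1
  exact congrArg Subtype.val h1

/-- a nontrivial subgroup of odd order of `L` is not normalized by `L` -/
theorem not_le_normalizer (R : Cfsg.Agent.GH.L2Aut.Rep F L) (hF : 3 < Nat.card F) {Y : Subgroup G}
    (hYL : Y ≤ L) (hY : Y ≠ ⊥) (hodd : Odd (Nat.card Y)) : ¬ L ≤ normalizer (Y : Set G) := by
  intro h
  rcases simp R hF Y hYL (fun l hl n hn => (mem_normalizer_iff.mp (h hl) n).mp hn) with h1 | h1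
  · exact hY h1
  · obtain ⟨a, b, hab⟩ := R.exists_four
    have h2 : orderOf (a : G) = 2 := by
      refine orderOf_eq_prime ?_ (fun h => hab.a1 (Subtype.ext h))
      rw [pow_two]
      exact congrArg Subtype.val hab.aa
    have h3 : orderOf (a : G) ∣ Nat.card Y := by
      rw [h1]
      exact Subgroup.orderOf_dvd_natCard L a.2
    rw [h2] at h3
    exact (Nat.not_even_iff_odd.mpr hodd) (even_iff_two_dvd.mpr h3)

/-- `gen` -/
theorem gen (R : Cfsg.Agent.GH.L2Aut.Rep F L) (hF : 3 < Nat.card F) {Y : Subgroup G}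
    (hYL : Y ≤ L) (hY : Y ≠ ⊥) (H : Subgroup G) (hH : ∀ l ∈ L, ∀ a ∈ Y, l * a * l⁻¹ ∈ H) : L ≤ H := by
  obtain ⟨N, hN⟩ : ∃ N, N = closure {z | ∃ l ∈ L, ∃ a ∈ Y, z = l * a * l⁻¹} := ⟨_, rfl⟩
  have hNL : N ≤ L := by
    rw [hN, closure_le]
    rintro _ ⟨l, hl, a, ha, rfl⟩
    exact mul_mem (mul_mem hl (hYL ha)) (inv_mem hl)
  have hNH : N ≤ H := by
    rw [hN, closure_le]
    rintro _ ⟨l, hl, a, ha, rfl⟩
    exact hH l hl a ha
  rcases simp R hF N hNL (by
    intro g hg n hn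
    rw [hN] at hn ⊢
    induction hn using closure_induction with
    | mem z hz =>
      obtain ⟨l, hl, a, ha, rfl⟩ := hz
      exact subset_closure ⟨g * l, mul_mem hg hl, a, ha, by group⟩
    | one => rw [mul_one, mul_inv_cancel]; exact one_mem _
    | mul a b _ _ iha ihb =>
      have : g * (a * b) * g⁻¹ = (g * a * g⁻¹) * (g * b * g⁻¹) := by group
      rw [this]
      exact mul_mem iha ihb
    | inv a _ iha =>
      have : g * a⁻¹ * g⁻¹ = (g * a * g⁻¹)⁻¹ := by group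
      rw [this]
      exact inv_mem iha) with h | h
  · exfalso
    apply hY
    rw [eq_bot_iff_forall]
    intro a ha
    have h1 : a ∈ N := by
      rw [hN]
      exact subset_closure ⟨1, one_mem _, a, ha, by group⟩
    rw [h] at h1
    exact mem_bot.mp h1
  · exact h ▸ hNH

/-- a 2-element of `N(L)` commuting with an element `y ≠ 1` of odd order of `C_L(x)` acts as `1` or `x` -/
theorem Cf.aut (C : Cf R x) {y : G} (hy : y ∈ L) (hy1 : y ≠ 1) (hyo : Odd (orderOf y))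
    (hyx : y * x = x * y) {c : G} (hc : c ∈ normalizer (L : Set G)) (hcy : c * y = y * c)
    (hc2 : ∃ n : ℕ, c ^ 2 ^ n = 1) : c ∈ centralizer (L : Set G) ∨ c * x ∈ centralizer (L : Set G) := by
  have h2 : ∃ n : ℕ, act L c hc ^ 2 ^ n = 1 := by
    obtain ⟨n, hn⟩ := hc2
    refine ⟨n, ?_⟩
    have h3 : act L c hc ^ 2 ^ n = L.normalizerMonoidHom (⟨c, hc⟩ ^ 2 ^ n) :=
      (map_pow L.normalizerMonoidHom _ _).symm
    have h4 : (⟨c, hc⟩ : normalizer (L : Set G)) ^ 2 ^ n = 1 := Subtype.ext hn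
    rw [h3, h4, map_one]
  have hyo' : Odd (orderOf (⟨y, hy⟩ : L)) := by rwa [Subgroup.orderOf_mk]
  rcases L2Fact.eq_of_fix R C.sq (C.o1 C.xN) (b := ⟨y, hy⟩) (fun h => hy1 (congrArg Subtype.val h))
    hyo' ((act_fix C.xN hy).mpr hyx) h2 ((act_fix hc hy).mpr hcy.symm) with h | h
  · exact Or.inl ((act_one_iff' hc).mp h)
  · right
    rw [← act_one_iff' (mul_mem hc C.xN), ← act_mul hc C.xN, h, C.sq]

end Cfsg.Agent.UGT.Res.EFacts
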