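import Cfsg.Agent.UGT.Res.KFacts
import Cfsg.Agent.UGT.Res.EFacts
import Cfsg.Agent.UGT.ThE.Base
import Cfsg.Agent.Lib.KleinGen

/-!
# The residual world, `X` core-free, at most one `L` for each pair `(x, a)`

* `One G`: `(x, a, L)`, `(x, a, L')` triples ⇒ `L = L'`.
* `CFX X`: `|G : X| ≤ 2`, `O(C(t)) = 1` for the involutions `t` of `X`.
* `Hon X x L`: `x` an involution of `N(L)`, `(x, t, L)` is a triple and `t ∈ X` for all involutions `t` of
  `C(L) ∩ C(x)`, and there is a four-group of them.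
* `hon_of`: a triple `(x, a, L)`, `a ∈ X`, with a four-group in `C(L) ∩ C(x)` gives `Hon X x L`.
* `Hon.mul`: `Hon X (x t) L` for the involutions `t` of `C(L) ∩ C(x)`.
* `Hon.core_comm`, `Hon.core_faithful`: `O(C(x))` centralizes the involutions of `C(L) ∩ C(x)`, normalizes `L` and acts
  faithfully on `L`.
-/

set_option autoImplicit false
set_option linter.dupNamespace false

open Cfsg Subgroup
open Cfsg.Agent.SignalizersComponents Cfsg.Agent.Lib
open Cfsg.Agent.SignalizersComponents.IntrinsicBasic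
open Cfsg.Agent.SignalizersComponents.PLayerAut
open Cfsg.Agent.Intrinsic.Basic Cfsg.Agent.Intrinsic.Cen Cfsg.Agent.Intrinsic.Diag
open Cfsg.Agent.McLLyComp.Act
open Cfsg.Agent.UGT.Triple Cfsg.Agent.UGT.LemG Cfsg.Agent.UGT.PumpGen Cfsg.Agent.UGT.TriBase
open Cfsg.Agent.UGT.Res.Base Cfsg.Agent.UGT.Res.KMax Cfsg.Agent.UGT.Res.KOne
open Cfsg.Agent.UGT.Res.KFacts
open Cfsg.Agent.UGT.Iface Cfsg.Agent.UGT.Nodes
open Cfsg.Agent.UGT.ThE.Base (IsT IsS)
open scoped commutatorElement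

namespace Cfsg.Agent.UGT.Res.Hon

universe u

variable {G : Type u} [Group G]

/-- There is at most one `L` for each pair `(x, a)`. -/
def One (G : Type u) [Group G] : Prop := ∀ {x a : G} {L L' : Subgroup G}, IsTriple x a L →
  IsTriple x a L' → L = L'

/-- `X` is core-free of index at most two. -/
structure CFX (X : Subgroup G) : Prop where
  mul : ∀ {g h : G}, g ∉ X → h ∉ X → g * h ∈ X
  cf : ∀ {t : G}, t ∈ X → orderOf t = 2 → core (centralizer ({t} : Set G)) = ⊥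

variable [Finite G]

section basic

variable {x a : G} {L X : Subgroup G}

omit [Finite G] in
theorem CFX.not_mem (C : CFX X) (T : IsTriple x a L) : x ∉ X := by
  intro hx
  obtain ⟨d, hd, -, hf⟩ := T.bad
  rw [C.cf hx T.invx, mem_bot] at hd
  rw [hd] at hf
  exact hf (fixes_one L)

theorem CFX.core_bot (C : CFX X) (T : IsTriple x a L) (ha : a ∈ X) : core L = ⊥ := by
  rw [eq_bot_iff, ← C.cf ha T.inva]
  exact T.comp.core_le_core

omit [Finite G] in
theorem comm_of_fixes (h : core L = ⊥) {f : G} (hf : Fixes f L) : f ∈ centralizer (L : Set G) := by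
  rw [mem_centralizer_iff]
  intro l hl
  have h1 := hf.2 l hl
  rw [h, mem_bot, commutatorElement_eq_one_iff_mul_comm] at h1
  exact h1.symm

omit [Finite G] in
theorem fixes_of_comm {f : G} (hf : f ∈ centralizer (L : Set G)) : Fixes f L :=
  fixes_self' fun l hl => mem_c (mem_centralizer_iff.mp hf l hl)

omit [Finite G] in
/-- `C(x) ∩ C(a)` normalizes `L` -/
theorem One.norm (O : One G) (T : IsTriple x a L) {k : G} (hkx : k * x = x * k) (hka : k * a = a * k) :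
    k ∈ normalizer (L : Set G) := by
  have h1 := T.cj k
  rw [hkx, hka, mul_inv_cancel_right, mul_inv_cancel_right] at h1
  rw [mem_normalizer_iff_cj]
  exact (O T h1).symm

theorem cen_eq (T : IsTriple x a L) (h : core L = ⊥) {w : G} (hw : w * w = 1) (hwa : w * a = a * w)
    (hf : Fixes w L) : cen L w = L := by
  obtain ⟨-, h2⟩ := isComp_cen T.comp (mem_c hwa) hw hf
  rwa [h, sup_bot_eq] at h2

/-- pump-ups are trivial -/
theorem pump1 (H : Pgl G) (O : One G) (T : IsTriple x a L) {c : G} (hc : orderOf c = 2)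
    (hca : c * a = a * c) (hcx : c * x = x * c) (hcL : Fixes c L) : ∃ N, Triv x L c N := by
  obtain ⟨N, hN, hor⟩ := T.pump hc hca hcx hcL
  rcases hor with ⟨h1, h2⟩ | ⟨h1, -⟩
  · exact ⟨N, hN, h2, H.rtriv.triv T hc hca hcx hcL hN h1 h2⟩
  · exact absurd (mem_normalizer_iff_cj.mp (O.norm hN T.comm hca.symm)) h1

/-- commutators act as inner automorphisms -/
theorem inn_comm (H : Pgl G) (T : IsTriple x a L) {d k : G} (hd : d ∈ normalizer (L : Set G))
    (hk : k ∈ normalizer (L : Set G)) : Inn (d * k * d⁻¹ * k⁻¹) L := by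
  obtain ⟨F, _, _, -, R, -⟩ := H.exists_rep T
  have hn : d * k * d⁻¹ * k⁻¹ ∈ normalizer (L : Set G) :=
    mul_mem (mul_mem (mul_mem hd hk) (inv_mem hd)) (inv_mem hk)
  have h1 : act L ⟨d * k * d⁻¹ * k⁻¹, hn⟩ =
      act L ⟨d, hd⟩ * act L ⟨k, hk⟩ * (act L ⟨d, hd⟩)⁻¹ * (act L ⟨k, hk⟩)⁻¹ := by
    rw [← map_inv, ← map_inv, ← map_mul, ← map_mul, ← map_mul]
    rfl
  have h2 : act L ⟨d * k * d⁻¹ * k⁻¹, hn⟩ ∈ (MulAut.conj : ↥L ⧸ oddCore ↥L →* _).range := by
    rw [R.mem_inn_iff]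
    constructor
    · rw [h1, map_mul, map_mul, map_mul, map_inv, map_inv,
        EFacts.ringAut_comm (R.fld (act L ⟨d, hd⟩)) (R.fld (act L ⟨k, hk⟩)), mul_inv_cancel_right,
        mul_inv_cancel]
    · rw [h1, map_mul, map_mul, map_mul, map_inv, map_inv,
        mul_comm (R.o1 (act L ⟨d, hd⟩)) (R.o1 (act L ⟨k, hk⟩)), mul_inv_cancel_right,
        mul_inv_cancel]
  obtain ⟨r, hr⟩ := h2
  obtain ⟨⟨r, hrL⟩, rfl⟩ := QuotientGroup.mk_surjective r
  refine ⟨r, hrL, ?_⟩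
  rw [← act_eq_iff hn (le_normalizer hrL), act_of_mem hrL]
  exact hr.symm

/-- `y = [d, k]`, `d ∈ L ∩ O(C(x))`, `k ∈ C_L(x)` -/
theorem exists_yk (H : Pgl G) (T : IsTriple x a L) : ∃ d k : G, d ∈ core (centralizer ({x} : Set G)) ∧
    d ∈ L ∧ k ∈ L ∧ k * x = x * k ∧ ¬ Fixes (d * k * d⁻¹ * k⁻¹) L := by
  obtain ⟨d, hd, hdL, hf⟩ := H.exists_y T
  obtain ⟨F, _, _, -, R, ho⟩ := H.exists_rep T
  have hdN : d ∈ normalizer (L : Set G) := le_normalizer hdL
  have hodd : Odd (orderOf (act L ⟨d, hdN⟩)) := by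
    have h3 : orderOf (act L ⟨d, hdN⟩) ∣ orderOf (⟨d, hdN⟩ : ↥(normalizer (L : Set G))) :=
      orderOf_map_dvd _ _
    rw [Subgroup.orderOf_mk] at h3
    refine Odd.of_dvd_nat ?_ h3
    have h4 := orderOf_dvd_natCard (⟨d, hd⟩ : ↥(core (centralizer ({x} : Set G))))
    rw [Subgroup.orderOf_mk] at h4
    exact Odd.of_dvd_nat (odd_card_core _) h4
  obtain ⟨k, hk, hdk⟩ := L2Fact.exists_moved R (KFacts.act_sq T) ho hodd
    (fun h => hf ((act_eq_one_iff hdN).mp h)) (KFacts.act_comm hdN T.x_mem (comm_c (core_le _ hd)))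
  obtain ⟨c, hc, hcx, rfl⟩ := exists_lift T hk
  refine ⟨d, c, hd, hdL, hc, hcx, fun h => hdk ?_⟩
  have hdc : d * c * d⁻¹ ∈ L := conj_mem hdN hc
  have hyL : d * c * d⁻¹ * c⁻¹ ∈ L := mul_mem hdc (inv_mem hc)
  have h1 := (act_eq_one_iff (le_normalizer hyL)).mpr h
  rw [act_of_mem hyL] at h1
  have h2 : (QuotientGroup.mk ⟨d * c * d⁻¹ * c⁻¹, hyL⟩ : ↥L ⧸ oddCore ↥L) = 1 :=
    R.conj_injective (by rw [h1, map_one])
  have h3 := (mk_eq_one_iff hyL).mp h2
  rw [act_mk hdN hc, mk_eq_iff]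
  have h4 := conj_core (L.inv_mem hdc) (inv_mem h3)
  convert h4 using 1
  group

/-- LEMMA W for `[d, k]`, `d ∈ L ∩ O(C(x))`, `k ∈ C_L(x)` -/
theorem comm_core (H : Pgl G) (O : One G) (C : CFX X) (T : IsTriple x a L) (ha : a ∈ X)
    {w₁ w₂ f : G} (o₁ : orderOf w₁ = 2) (o₂ : orderOf w₂ = 2) (hne : w₁ ≠ w₂)
    (h₁₂ : w₁ * w₂ = w₂ * w₁) (k₁ : w₁ ∈ centralizer (L : Set G)) (k₂ : w₂ ∈ centralizer (L : Set G))
    (a₁ : w₁ * a = a * w₁) (a₂ : w₂ * a = a * w₂) (x₁ : w₁ * x = x * w₁) (x₂ : w₂ * x = x * w₂)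
    (kf : f ∈ centralizer (L : Set G)) (hfx : f * x = x * f) (hf₁ : f * w₁ = w₁ * f)
    (hf₂ : f * w₂ = w₂ * f) (he : orderOf (x * f) = 2) {d k : G}
    (hd : d ∈ core (centralizer ({x} : Set G))) (hdL : d ∈ L) (hkL : k ∈ L) (hkx : k * x = x * k) :
    d * k * d⁻¹ * k⁻¹ ∈ core (centralizer ({x * f} : Set G)) := by
  have hcore := C.core_bot T ha
  have hyL : d * k * d⁻¹ * k⁻¹ ∈ L := mul_mem (mul_mem (mul_mem hdL hkL) (inv_mem hdL)) (inv_mem hkL)
  have hyx : d * k * d⁻¹ * k⁻¹ ∈ core (centralizer ({x} : Set G)) := by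
    have e : d * k * d⁻¹ * k⁻¹ = d * (k * d⁻¹ * k⁻¹) := by group
    rw [e]
    exact mul_mem hd (conj_core (mem_c hkx) (inv_mem hd))
  have cL : ∀ {l g : G}, l ∈ L → g ∈ centralizer (L : Set G) → Commute l g := fun hl hg =>
    mem_centralizer_iff.mp hg _ hl
  have k₃ : w₁ * w₂ ∈ centralizer (L : Set G) := mul_mem k₁ k₂
  have o₃ := order_mul (sq_of_order o₁) (sq_of_order o₂) h₁₂ hne
  have a₃ : w₁ * w₂ * a = a * (w₁ * w₂) := (Commute.mul_left (show Commute w₁ a from a₁) a₂).eq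
  have x₃ : w₁ * w₂ * x = x * (w₁ * w₂) := (Commute.mul_left (show Commute w₁ x from x₁) x₂).eq
  obtain ⟨N₁, t₁⟩ := pump1 H O T o₁ a₁ x₁ (fixes_of_comm k₁)
  obtain ⟨N₂, t₂⟩ := pump1 H O T o₂ a₂ x₂ (fixes_of_comm k₂)
  obtain ⟨N₃, t₃⟩ := pump1 H O T o₃ a₃ x₃ (fixes_of_comm k₃)
  have c₁ := cen_eq T hcore (sq_of_order o₁) a₁ (fixes_of_comm k₁)
  have c₂ := cen_eq T hcore (sq_of_order o₂) a₂ (fixes_of_comm k₂)
  have c₃ := cen_eq T hcore (sq_of_order o₃) a₃ (fixes_of_comm k₃)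
  have cdx : Commute d x := comm_c (core_le _ hd)
  have ckx : Commute k x := hkx
  refine lemmaW_inn H.rworld ?_ T hyx a₁ a₂ (fixes_of_comm k₁) (fixes_of_comm k₂) t₁ t₂ t₃
    (by rwa [c₁]) (by rwa [c₂]) (by rwa [c₃]) hfx (cL hyL kf).symm.eq hf₁ hf₂ (fixes_of_comm kf) he
  intro J T'
  refine inn_comm H T' (T'.mem_normalizer_of_core hd (mem_c (cdx.mul_right (cL hdL kf)))) ?_
  exact O.norm T' hkx (ckx.mul_right (cL hkL kf)).eq

/-- LEMMA W: `x f` is bad -/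
theorem exists_bad (H : Pgl G) (O : One G) (C : CFX X) (T : IsTriple x a L) (ha : a ∈ X)
    {w₁ w₂ f : G} (o₁ : orderOf w₁ = 2) (o₂ : orderOf w₂ = 2) (hne : w₁ ≠ w₂)
    (h₁₂ : w₁ * w₂ = w₂ * w₁) (k₁ : w₁ ∈ centralizer (L : Set G)) (k₂ : w₂ ∈ centralizer (L : Set G))
    (a₁ : w₁ * a = a * w₁) (a₂ : w₂ * a = a * w₂) (x₁ : w₁ * x = x * w₁) (x₂ : w₂ * x = x * w₂)
    (kf : f ∈ centralizer (L : Set G)) (hfx : f * x = x * f) (hf₁ : f * w₁ = w₁ * f)
    (hf₂ : f * w₂ = w₂ * f) (he : orderOf (x * f) = 2) :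
    ∃ y ∈ L, y ∈ core (centralizer ({x} : Set G)) ∧ y ∈ core (centralizer ({x * f} : Set G)) ∧
      ¬ Fixes y L := by
  obtain ⟨d, k, hd, hdL, hkL, hkx, hf⟩ := exists_yk H T
  have hyL : d * k * d⁻¹ * k⁻¹ ∈ L := mul_mem (mul_mem (mul_mem hdL hkL) (inv_mem hdL)) (inv_mem hkL)
  have hyx : d * k * d⁻¹ * k⁻¹ ∈ core (centralizer ({x} : Set G)) := by
    have e : d * k * d⁻¹ * k⁻¹ = d * (k * d⁻¹ * k⁻¹) := by group
    rw [e]
    exact mul_mem hd (conj_core (mem_c hkx) (inv_mem hd))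
  exact ⟨_, hyL, hyx, comm_core H O C T ha o₁ o₂ hne h₁₂ k₁ k₂ a₁ a₂ x₁ x₂ kf hfx hf₁ hf₂ he hd hdL
    hkL hkx, hf⟩

end basic

/-! ### `Hon` -/

/-- The honest configuration. -/
structure Hon (X : Subgroup G) (x : G) (L : Subgroup G) : Prop where
  ox : orderOf x = 2
  good : ∀ {t : G}, IsT L x t → t ∈ X ∧ IsTriple x t L
  four : ∃ t u : G, IsT L x t ∧ IsT L x u ∧ t ≠ u ∧ t * u = u * t

section hon

variable {x a : G} {L X : Subgroup G}

omit [Finite G] in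
theorem order_isT {t : G} (h : IsT L x t) : orderOf t = 2 :=
  orderOf_eq_prime (by rw [pow_two]; exact h.sq) h.ne

theorem step (H : Pgl G) (O : One G) (C : CFX X) (T : IsTriple x a L) (ha : a ∈ X) {t : G}
    (ht : IsT L x t) (hta : t * a = a * t) : t ∈ X ∧ IsTriple x t L := by
  by_cases hne : t = a
  · rw [hne]; exact ⟨ha, T⟩
  have hcore := C.core_bot T ha
  have hxX := C.not_mem T
  have hka : a ∈ centralizer (L : Set G) := by
    rw [mem_centralizer_iff]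
    intro l hl
    exact comm_c (T.comp.le hl)
  have ot := order_isT ht
  have hxt : x ≠ t := by
    rintro rfl
    exact T.not_fixes (fixes_of_comm ht.mem)
  have he : orderOf (x * t) = 2 := order_mul (sq_of_order T.invx) ht.sq ht.comm.symm hxt
  obtain ⟨y, -, -, hy, hf⟩ := exists_bad H O C T ha ot T.inva hne hta ht.mem hka hta rfl ht.comm
    T.comm ht.mem ht.comm rfl hta he
  have htX : t ∈ X := by
    by_contra hn
    have h1 := C.mul hxX hn
    rw [C.cf h1 he, mem_bot] at hy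
    rw [hy] at hf
    exact hf (fixes_one L)
  refine ⟨htX, ?_⟩
  obtain ⟨N, hN, -, hsup⟩ := pump1 H O T ot hta ht.comm (fixes_of_comm ht.mem)
  rw [C.core_bot hN htX, sup_bot_eq, cen_eq T hcore ht.sq hta (fixes_of_comm ht.mem)] at hsup
  rw [hsup]
  exact hN

omit [Finite G] in
theorem isPGroup_of_sq {g : G} (hg : g * g = 1) : IsPGroup 2 ↥(zpowers g) := by
  rintro ⟨y, hy⟩
  obtain ⟨k, rfl⟩ := mem_zpowers_iff.mp hy
  refine ⟨1, Subtype.ext ?_⟩
  change (g ^ k) ^ 2 ^ 1 = 1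
  rw [← zpow_natCast, ← zpow_mul, mul_comm, zpow_mul, zpow_natCast, pow_one, pow_two, hg, one_zpow]

omit [Finite G] in
theorem isT_conj {g t : G} (hgL : g ∈ normalizer (L : Set G)) (hgx : g * x = x * g) (ht : IsT L x t) :
    IsT L x (g * t * g⁻¹) := by
  have h1 : Commute g x := hgx
  refine ⟨ThE.Base.K_conj hgL ht.mem, ?_, ?_, ?_⟩
  · exact ((h1.mul_left (show Commute t x from ht.comm)).mul_left h1.inv_left).eq
  · have := ht.sq
    calc g * t * g⁻¹ * (g * t * g⁻¹) = g * (t * t) * g⁻¹ := by group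
      _ = 1 := by rw [this]; group
  · intro h
    apply ht.ne
    have : t = g⁻¹ * (g * t * g⁻¹) * g := by group
    rw [this, h]; group

/-- a Sylow subgroup of `C(L) ∩ C(x)` containing `t`, and a central involution of it -/
theorem exists_P {t : G} (ht : IsT L x t) : ∃ (P : Subgroup G) (z : G), IsPGroup 2 ↥P ∧
    P ≤ centralizer (L : Set G) ∧ (∀ p ∈ P, p * x = x * p) ∧ t ∈ P ∧ z ∈ P ∧ IsT L x z ∧
    (∀ p ∈ P, p * z = z * p) ∧ ∀ R : Subgroup G, IsPGroup 2 ↥R → R ≤ centralizer (L : Set G) →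
      (∀ r ∈ R, r * x = x * r) → ∃ g ∈ centralizer (L : Set G), g * x = x * g ∧
        ∀ r ∈ R, g * r * g⁻¹ ∈ P := by
  obtain ⟨E, hE⟩ : ∃ E, E = centralizer (L : Set G) ⊓ centralizer ({x} : Set G) := ⟨_, rfl⟩
  have hmem : ∀ {g : G}, g ∈ E ↔ g ∈ centralizer (L : Set G) ∧ g * x = x * g := by
    intro g
    rw [hE, mem_inf]
    exact and_congr_right fun _ => ⟨comm_c, mem_c⟩
  obtain ⟨P, hP, htP⟩ := exists_isSyl (isPGroup_of_sq ht.sq)
    (zpowers_le.mpr (hmem.mpr ⟨ht.mem, ht.comm⟩))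
  rw [zpowers_le] at htP
  have hP1 : P ≠ ⊥ := by
    rintro rfl
    exact ht.ne (mem_bot.mp htP)
  obtain ⟨z, hzP, hz, hzc⟩ := exists_central hP.two le_rfl le_normalizer hP1
  have hzE := hmem.mp (hP.le hzP)
  refine ⟨P, z, hP.two, fun p hp => (hmem.mp (hP.le hp)).1, fun p hp => (hmem.mp (hP.le hp)).2, htP,
    hzP, ⟨hzE.1, hzE.2, sq_of_order hz, ne_one_of_order hz⟩, hzc, ?_⟩
  intro R hR hRL hRx
  obtain ⟨g, hg, hle⟩ := hP.conj hR (fun r hr => hmem.mpr ⟨hRL hr, hRx r hr⟩)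
  have hgE := hmem.mp (inv_mem hg)
  refine ⟨g⁻¹, hgE.1, hgE.2, fun r hr => ?_⟩
  obtain ⟨p, hp, rfl⟩ := hle hr
  have h3 : g⁻¹ * (MulAut.conj g).toMonoidHom p * g⁻¹⁻¹ = p := by
    simp only [MulEquiv.coe_toMonoidHom, MulAut.conj_apply]
    group
  rw [h3]
  exact hp

omit [Finite G] in
theorem CFX.conj (C : CFX X) {g b : G} (hb : b ∈ X) : g * b * g⁻¹ ∈ X := by
  by_cases hg : g ∈ X
  · exact mul_mem (mul_mem hg hb) (inv_mem hg)
  · refine C.mul (fun h => hg ?_) (fun h => hg (by simpa using inv_mem h))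
    have := mul_mem h (inv_mem hb)
    rwa [mul_inv_cancel_right] at this

/-- **the honest configuration** -/
theorem hon_of (H : Pgl G) (O : One G) (C : CFX X) (T : IsTriple x a L) (ha : a ∈ X)
    (four : ∃ t u : G, IsT L x t ∧ IsT L x u ∧ t ≠ u ∧ t * u = u * t) : Hon X x L := by
  refine ⟨T.invx, ?_, four⟩
  intro t ht
  have hka : a ∈ centralizer (L : Set G) := by
    rw [mem_centralizer_iff]
    intro l hl
    exact comm_c (T.comp.le hl)
  obtain ⟨P, z, hP2, hPL, hPx, htP, hzP, hz, hzc, hcj⟩ := exists_P ht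
  obtain ⟨g, hgL, hgx, hg⟩ := hcj (zpowers a) (isPGroup_of_sq (sq_of_order T.inva))
    (zpowers_le.mpr hka) (fun r hr => by
      obtain ⟨k, rfl⟩ := mem_zpowers_iff.mp hr
      exact (Commute.zpow_left (show Commute a x from T.comm) k).eq)
  have hgP := hg a (mem_zpowers a)
  have T' := T.cj g
  rw [hgx, mul_inv_cancel_right, mem_normalizer_iff_cj.mp (ThE.Base.K_le_M hgL)] at T'
  have hgX : g * a * g⁻¹ ∈ X := C.conj ha
  obtain ⟨hzX, Tz⟩ := step H O C T' hgX hz (hzc _ hgP).symm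
  exact step H O C Tz hzX ht (hzc _ htP)

theorem Hon.partner (h : Hon X x L) {t : G} (ht : IsT L x t) : ∃ u, IsT L x u ∧ u ≠ t ∧
    u * t = t * u := by
  obtain ⟨P, z, hP2, hPL, hPx, htP, hzP, hz, hzc, hcj⟩ := exists_P ht
  by_cases hzt : z = t
  · subst hzt
    obtain ⟨t₁, u₁, h1, h2, h3, h4⟩ := h.four
    have h5 : IsPGroup 2 ↥(zpowers t₁ ⊔ zpowers u₁) := by
      refine Tri.isPGroup_sup_zpowers (isPGroup_of_sq h1.sq) ?_ (n := 1) ?_
      · rw [mem_normalizer_iff_cj, cj, MonoidHom.map_zpowers]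
        have : (MulAut.conj u₁).toMonoidHom t₁ = t₁ := by
          simp only [MulEquiv.coe_toMonoidHom, MulAut.conj_apply]
          rw [← h4, mul_inv_cancel_right]
        rw [this]
      · rw [pow_one, pow_two, h2.sq]
    obtain ⟨g, hgL, hgx, hg⟩ := hcj (zpowers t₁ ⊔ zpowers u₁) h5
      (sup_le (zpowers_le.mpr h1.mem) (zpowers_le.mpr h2.mem)) (by
        have : zpowers t₁ ⊔ zpowers u₁ ≤ centralizer ({x} : Set G) :=
          sup_le (zpowers_le.mpr (mem_c h1.comm)) (zpowers_le.mpr (mem_c h2.comm))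
        exact fun r hr => comm_c (this hr))
    have g1 := hg t₁ (mem_sup_left (mem_zpowers t₁))
    have g2 := hg u₁ (mem_sup_right (mem_zpowers u₁))
    have k1 := isT_conj (ThE.Base.K_le_M hgL) hgx h1
    have k2 := isT_conj (ThE.Base.K_le_M hgL) hgx h2
    by_cases hne : g * t₁ * g⁻¹ = z
    · refine ⟨_, k2, ?_, hzc _ g2⟩
      rintro h6
      apply h3
      have h7 := hne.trans h6.symm
      simpa using h7
    · exact ⟨_, k1, hne, hzc _ g1⟩
  · exact ⟨z, hz, hzt, (hzc _ htP).symm⟩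

/-- `C_{O(C(x))}(t)` normalizes `L` and moves it -/
theorem Hon.core_c (O : One G) (C : CFX X) (h : Hon X x L) {t : G} (ht : IsT L x t) {d : G}
    (hd : d ∈ core (centralizer ({x} : Set G))) (hdt : d * t = t * d) :
    d ∈ normalizer (L : Set G) ∧ (Fixes d L → d = 1) := by
  have T := (h.good ht).2
  refine ⟨T.mem_normalizer_of_core hd (mem_c hdt), fun hf => ?_⟩
  by_contra hne
  obtain ⟨J, TJ, hJ⟩ := exists_triple h.ox (order_isT ht) ht.comm hd (mem_c hdt) (by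
    rw [C.cf (h.good ht).1 (order_isT ht), mem_bot]
    exact hne)
  rw [← O T TJ] at hJ
  exact hJ hf

/-- **`O(C(x))` normalizes `L`, acts faithfully on it and commutes with the involutions of `C(L) ∩ C(x)`** -/
theorem Hon.core_all (O : One G) (C : CFX X) (h : Hon X x L) {d : G}
    (hd : d ∈ core (centralizer ({x} : Set G))) :
    d ∈ normalizer (L : Set G) ∧ (Fixes d L → d = 1) ∧ ∀ t, IsT L x t → d * t = t * d := by
  obtain ⟨t₀, u₀, h1, h2, h3, h4⟩ := h.four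
  have hinf : ∀ t, IsT L x t → ∀ D : Subgroup G, D ≤ core (centralizer ({x} : Set G)) →
      ∀ y ∈ D ⊓ centralizer ({t} : Set G), y ∈ normalizer (L : Set G) ∧ (Fixes y L → y = 1) :=
    fun t ht D hD y hy => h.core_c O C ht (hD hy.1) (comm_c hy.2)
  have hmul : ∀ {t u : G}, IsT L x t → IsT L x u → t ≠ u → t * u = u * t → IsT L x (t * u) := by
    intro t u ht hu hne hc
    refine ⟨mul_mem ht.mem hu.mem, (Commute.mul_left (show Commute t x from ht.comm) hu.comm).eq, ?_,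
      ?_⟩
    · calc t * u * (t * u) = t * (u * t) * u := by group
        _ = t * t * (u * u) := by rw [← hc]; group
        _ = 1 := by rw [ht.sq, hu.sq, one_mul]
    · intro h
      apply hne
      have := eq_inv_of_mul_eq_one_left h
      rwa [inv_eq_of_mul_eq_one_left hu.sq] at this
  have hcj : ∀ {t : G}, IsT L x t → ∀ y ∈ core (centralizer ({x} : Set G)),
      t * y * t⁻¹ ∈ core (centralizer ({x} : Set G)) := fun ht y hy => conj_core (mem_c ht.comm) hy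
  have hN : core (centralizer ({x} : Set G)) ≤ normalizer (L : Set G) := by
    refine Lib.KleinGen.le_of_klein _ _ (odd_card_core _) t₀ u₀ h1.sq h2.sq h4 (hcj h1) (hcj h2) ?_ ?_ ?_
    · exact fun y hy => (hinf t₀ h1 _ le_rfl y hy).1
    · exact fun y hy => (hinf u₀ h2 _ le_rfl y hy).1
    · exact fun y hy => (hinf _ (hmul h1 h2 h3 h4) _ le_rfl y hy).1
  have hK : core (centralizer ({x} : Set G)) ⊓ centralizer (L : Set G) ≤ ⊥ := by
    have hcj' : ∀ {t : G}, IsT L x t → ∀ y ∈ core (centralizer ({x} : Set G)) ⊓ centralizer (L : Set G),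
        t * y * t⁻¹ ∈ core (centralizer ({x} : Set G)) ⊓ centralizer (L : Set G) :=
      fun ht y hy => ⟨hcj ht y hy.1, ThE.Base.K_conj (ThE.Base.K_le_M ht.mem) hy.2⟩
    refine Lib.KleinGen.le_of_klein _ _ ?_ t₀ u₀ h1.sq h2.sq h4 (hcj' h1) (hcj' h2) ?_ ?_ ?_
    · exact Odd.of_dvd_nat (odd_card_core _) (card_dvd_of_le inf_le_left)
    · intro y hy
      exact mem_bot.mpr ((hinf t₀ h1 _ inf_le_left y hy).2 (fixes_of_comm hy.1.2))
    · intro y hy
      exact mem_bot.mpr ((hinf u₀ h2 _ inf_le_left y hy).2 (fixes_of_comm hy.1.2))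
    · intro y hy
      exact mem_bot.mpr ((hinf _ (hmul h1 h2 h3 h4) _ inf_le_left y hy).2 (fixes_of_comm hy.1.2))
  refine ⟨hN hd, fun hf => ?_, fun t ht => ?_⟩
  · exact mem_bot.mp (hK ⟨hd, comm_of_fixes (C.core_bot (h.good h1).2 (h.good h1).1) hf⟩)
  · have h5 : d * t * d⁻¹ * t⁻¹ ∈ (⊥ : Subgroup G) := by
      refine hK ⟨?_, (centralizer (L : Set G)).mul_mem (ThE.Base.K_conj (hN hd) ht.mem)
        ((centralizer (L : Set G)).inv_mem ht.mem)⟩
      have h6 : d * t * d⁻¹ * t⁻¹ = d * (t * d⁻¹ * t⁻¹) := by group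
      rw [h6]
      exact mul_mem hd (hcj ht _ (inv_mem hd))
    rw [mem_bot] at h5
    have h6 := mul_inv_eq_one.mp h5
    exact mul_inv_eq_iff_eq_mul.mp h6

/-- `x t` is bad as well -/
theorem Hon.mul (H : Pgl G) (O : One G) (C : CFX X) (h : Hon X x L) {t : G} (ht : IsT L x t) :
    Hon X (x * t) L := by
  obtain ⟨htX, T⟩ := h.good ht
  obtain ⟨u, hu, hne, hc⟩ := h.partner ht
  have hxt : x ≠ t := by
    rintro rfl
    exact T.not_fixes (fixes_of_comm ht.mem)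
  have he : orderOf (x * t) = 2 := order_mul (sq_of_order h.ox) ht.sq ht.comm.symm hxt
  obtain ⟨y, hyL, -, hy, hf⟩ := exists_bad H O C T htX (order_isT ht) (order_isT hu) hne.symm hc.symm
    ht.mem hu.mem rfl hc ht.comm hu.comm ht.mem ht.comm rfl hc.symm he
  have ctx : Commute t x := ht.comm
  have cux : Commute u x := hu.comm
  have cut : Commute u t := hc
  have T' : IsTriple (x * t) t L := by
    refine ⟨he, order_isT ht, (ctx.mul_right (Commute.refl t)).eq, T.comp, y, hy, ?_, hf⟩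
    exact mem_c (mem_centralizer_iff.mp ht.mem y hyL)
  refine hon_of H O C T' htX ⟨t, u, ⟨ht.mem, (ctx.mul_right (Commute.refl t)).eq, ht.sq, ht.ne⟩,
    ⟨hu.mem, (cux.mul_right cut).eq, hu.sq, hu.ne⟩, hne.symm, hc.symm⟩

/-- `[d, k] ∈ O(C(x t))` for `d ∈ L ∩ O(C(x))`, `k ∈ C_L(x)` -/
theorem Hon.comm_core (H : Pgl G) (O : One G) (C : CFX X) (h : Hon X x L) {t : G} (ht : IsT L x t)
    {d k : G} (hd : d ∈ core (centralizer ({x} : Set G))) (hdL : d ∈ L) (hkL : k ∈ L)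
    (hkx : k * x = x * k) : d * k * d⁻¹ * k⁻¹ ∈ core (centralizer ({x * t} : Set G)) := by
  obtain ⟨htX, T⟩ := h.good ht
  obtain ⟨u, hu, hne, hc⟩ := h.partner ht
  have hxt : x ≠ t := by
    rintro rfl
    exact T.not_fixes (fixes_of_comm ht.mem)
  have he : orderOf (x * t) = 2 := order_mul (sq_of_order h.ox) ht.sq ht.comm.symm hxt
  exact Res.Hon.comm_core H O C T htX (order_isT ht) (order_isT hu) hne.symm hc.symm
    ht.mem hu.mem rfl hc ht.comm hu.comm ht.mem ht.comm rfl hc.symm he hd hdL hkL hkx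

end hon

end Cfsg.Agent.UGT.Res.Hon
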