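import Cfsg.Agent.UGT.Res.KFacts
import Cfsg.Agent.UGT.Res.EFacts
import Cfsg.Agent.UGT.Res.Hon

/-!
# `L` core-free: the transport from `L / O(L)` to `L`

* `exists_R`: `L ≅ PSL(2,F)` if `(x, a, L)` is a triple and `O(L) = 1`.
* `cf_of`: `x` is of PGL type on `L`, for every `R : Rep F L`.
-/

set_option autoImplicit false

open Cfsg Subgroup
open Cfsg.Agent.SignalizersComponents Cfsg.Agent.Lib
open Cfsg.Agent.SignalizersComponents.IntrinsicBasic
open Cfsg.Agent.Intrinsic.Basic Cfsg.Agent.Intrinsic.Cen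
open Cfsg.Agent.UGT.Triple Cfsg.Agent.UGT.Iface Cfsg.Agent.UGT.Nodes
open Cfsg.Agent.UGT.Res.KFacts Cfsg.Agent.UGT.Res.EFacts
open Cfsg.Agent.UGT.Res.Hon (comm_of_fixes fixes_of_comm)

namespace Cfsg.Agent.UGT.Res.CfOf

universe u

variable {G : Type u} [Group G] {x a : G} {L : Subgroup G}

theorem isL2_of (h1 : IsL2 (Bar L)) (h : core L = ⊥) : IsL2 ↥L := by
  have h0 : oddCore ↥L = ⊥ := by
    rw [core, Subgroup.map_eq_bot_iff_of_injective _ L.subtype_injective] at h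
    exact h
  obtain ⟨F, i1, i2, h2, h3, ⟨e⟩⟩ := h1
  exact ⟨F, i1, i2, h2, h3,
    ⟨((QuotientGroup.quotientMulEquivOfEq h0).trans QuotientGroup.quotientBot).symm.trans e⟩⟩

theorem exists_R (H : Pgl G) (T : IsTriple x a L) (h : core L = ⊥) :
    ∃ (F : Type) (_ : Field F) (_ : Finite F), 5 ≤ Nat.card F ∧
      Nonempty (Cfsg.Agent.GH.L2Aut.Rep F L) := KFacts.exists_rep (isL2_of (H x a L T).1 h)

variable [Finite G]

/-- `x` is of PGL type -/
theorem cf_of (H : Pgl G) (T : IsTriple x a L) (_h : core L = ⊥) {F : Type*} [Field F] [Finite F]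
    (R : Cfsg.Agent.GH.L2Aut.Rep F L) : Cf R x := by
  refine ⟨sq_of_order T.invx, T.x_mem, fun hx => ?_⟩
  obtain ⟨N, hN⟩ : ∃ N, N = core (centralizer ({x} : Set G)) ⊓ centralizer ({a} : Set G) := ⟨_, rfl⟩
  have hNL : N ≤ normalizer (L : Set G) := by
    intro d hd
    rw [hN] at hd
    exact T.mem_normalizer_of_core hd.1 hd.2
  have hNodd : Odd (Nat.card N) := by
    rw [hN]
    exact Odd.of_dvd_nat (odd_card_core _) (card_dvd_of_le inf_le_left)
  obtain ⟨D, hD⟩ : ∃ D, D = (N.subgroupOf (normalizer (L : Set G))).map L.normalizerMonoidHom :=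
    ⟨_, rfl⟩
  have hmem : ∀ δ, δ ∈ D ↔ ∃ (d : G) (hd : d ∈ N), OddHalf.D6.act L d (hNL hd) = δ := by
    intro δ
    rw [hD]
    constructor
    · rintro ⟨⟨d, hd⟩, hdN, rfl⟩
      exact ⟨d, hdN, rfl⟩
    · rintro ⟨d, hd, rfl⟩
      exact ⟨⟨d, hNL hd⟩, hd, rfl⟩
  refine L2Fact.o1_of_unbal R (EFacts.act_sq hx (sq_of_order T.invx)) ?_ (D := D) ?_ ?_ ?_ ?_
  · rintro ⟨⟨r, hrL⟩, hr⟩
    apply (H x a L T).2
    refine ⟨r, hrL, fixes_of_comm ?_⟩
    rw [← act_one_iff' (mul_mem hx (inv_mem (le_normalizer hrL))),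
      ← OddHalf.D6.act_mul hx (inv_mem (le_normalizer hrL)), EFacts.act_inv (le_normalizer hrL),
      EFacts.act_of_mem hrL, hr, mul_inv_cancel]
  · rw [hD]
    refine Odd.of_dvd_nat hNodd ((card_map_dvd _ _).trans ?_)
    rw [Nat.card_congr (subgroupOfEquivOfLe hNL).toEquiv]
  · intro δ hδ
    obtain ⟨d, hd, rfl⟩ := (hmem δ).mp hδ
    refine EFacts.act_comm' _ _ ?_
    rw [hN] at hd
    exact comm_c (core_le _ hd.1)
  · rintro ⟨c, hc⟩ hk δ hδ
    obtain ⟨d, hd, rfl⟩ := (hmem δ).mp hδ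
    have hcx : c * x = x * c := (EFacts.act_fix hx hc).mp hk
    have hcN : c * d * c⁻¹ ∈ N := by
      rw [hN] at hd ⊢
      refine ⟨conj_core (mem_c hcx) hd.1, ?_⟩
      have h1 : c ∈ centralizer ({a} : Set G) := T.comp.le hc
      exact (centralizer ({a} : Set G)).mul_mem ((centralizer ({a} : Set G)).mul_mem h1 hd.2)
        ((centralizer ({a} : Set G)).inv_mem h1)
    rw [hmem]
    refine ⟨_, hcN, ?_⟩
    have hcn := le_normalizer hc
    rw [← EFacts.act_of_mem hc, OddHalf.D6.act_mul hcn (hNL hd), ← EFacts.act_inv hcn,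
      OddHalf.D6.act_mul]
  · intro hbot
    obtain ⟨d, hd, hda, hf⟩ := T.bad
    apply hf
    have hdN : d ∈ N := by rw [hN]; exact ⟨hd, hda⟩
    have h1 : OddHalf.D6.act L d (hNL hdN) ∈ D := (hmem _).mpr ⟨d, hdN, rfl⟩
    rw [hbot, mem_bot] at h1
    exact fixes_of_comm ((act_one_iff' _).mp h1)

end Cfsg.Agent.UGT.Res.CfOf
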