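import Cfsg.Agent.UGT.Res.KFacts
import Cfsg.Agent.UGT.Res.CoreFree
import Cfsg.Agent.UGT.TT.PGLSolv

/-!
# Involutions of the 2-component of a triple

* `exists_s`: an involution of `L` commuting with `x`.
* `exists_four`: every involution of `L` lies in a four-group of `L`.
-/

set_option autoImplicit false

open Cfsg Subgroup
open Cfsg.Agent.SignalizersComponents Cfsg.Agent.Lib
open Cfsg.Agent.SignalizersComponents.IntrinsicBasic
open Cfsg.Agent.SignalizersComponents.PLayerAut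
open Cfsg.Agent.Intrinsic.Basic Cfsg.Agent.Intrinsic.Cen Cfsg.Agent.Intrinsic.Diag
open Cfsg.Agent.McLLyComp.Act
open Cfsg.Agent.UGT.Triple Cfsg.Agent.UGT.LemG Cfsg.Agent.UGT.PumpGen Cfsg.Agent.UGT.TriBase
open Cfsg.Agent.UGT.Res.Base Cfsg.Agent.UGT.Res.KFacts
open scoped commutatorElement

namespace Cfsg.Agent.UGT.Res.TwoFacts

universe u

variable {G : Type u} [Group G] [Finite G] {x a : G} {L : Subgroup G}

/-- an involution modulo `O(L)` can be replaced by an involution -/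
theorem exists_inv_pow {c : G} (hc : c ∈ L) (h2 : c * c ∈ core L) (h1 : c ∉ core L) :
    ∃ n : ℕ, c ^ n ∈ L ∧ orderOf (c ^ n) = 2 ∧ c⁻¹ * c ^ n ∈ core L := by
  obtain ⟨m, hm⟩ := odd_card_core L
  have h3 : (c * c) ^ Nat.card ↥(core L) = 1 := by
    have := pow_card_eq_one' (x := (⟨c * c, h2⟩ : ↥(core L)))
    exact congrArg Subtype.val this
  have h4 : c ^ Nat.card ↥(core L) * c ^ Nat.card ↥(core L) = 1 := by
    rw [← pow_add, ← two_mul, pow_mul, pow_two]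
    exact h3
  have h5 : c⁻¹ * c ^ Nat.card ↥(core L) ∈ core L := by
    rw [hm, pow_succ', pow_mul, pow_two, inv_mul_cancel_left]
    exact pow_mem h2 _
  refine ⟨Nat.card ↥(core L), pow_mem hc _, orderOf_eq_prime (by rw [pow_two]; exact h4) fun h => ?_,
    h5⟩
  rw [h, mul_one] at h5
  exact h1 (by simpa using inv_mem h5)

/-- an involution of `L` commuting with `x` -/
theorem exists_s (H : Pgl G) (T : IsTriple x a L) : ∃ s ∈ L, orderOf s = 2 ∧ s * x = x * s := by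
  obtain ⟨F, _, _, -, R, -⟩ := H.exists_rep T
  obtain ⟨z, hz, hz1, hzx⟩ := TT.PGLSolv.fixed (TT.PGLSolv.two_dvd R) (act_sq T)
  obtain ⟨c, hc, hcx, rfl⟩ := exists_lift T hzx
  obtain ⟨n, h1, h2, -⟩ := exists_inv_pow (L := L) hc ((mk_eq_one_iff (mul_mem hc hc)).mp hz)
    fun h => hz1 ((mk_eq_one_iff hc).mpr h)
  refine ⟨c ^ n, h1, h2, ?_⟩
  have h3 : Commute c x := hcx
  exact (h3.pow_left n).eq

/-- an involution of `L` lies in a four-group of `L` -/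
theorem exists_four (H : Pgl G) (T : IsTriple x a L) {s : G} (hs : s ∈ L) (ho : orderOf s = 2) :
    ∃ f ∈ L, orderOf f = 2 ∧ f ≠ s ∧ s * f = f * s := by
  obtain ⟨F, _, _, -, R, -⟩ := H.exists_rep T
  have hss := sq_of_order ho
  have hz : (QuotientGroup.mk ⟨s, hs⟩ : ↥L ⧸ oddCore ↥L) * QuotientGroup.mk ⟨s, hs⟩ = 1 := by
    rw [← QuotientGroup.mk_mul]
    have : (⟨s, hs⟩ : ↥L) * ⟨s, hs⟩ = 1 := Subtype.ext hss
    rw [this]
    rfl
  have hz1 : (QuotientGroup.mk ⟨s, hs⟩ : ↥L ⧸ oddCore ↥L) ≠ 1 := fun h =>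
    ne_one_of_order ho (eq_one_of_mem_core_sq ((mk_eq_one_iff hs).mp h) hss)
  obtain ⟨f, hff, hf1, hfs, hsf⟩ := TT.PGLSolv.four R hz hz1
  obtain ⟨⟨c, hc⟩, rfl⟩ := QuotientGroup.mk_surjective f
  have h1 : c⁻¹ * (s * c * s⁻¹) ∈ core L := by
    have h2 : (QuotientGroup.mk ⟨c, hc⟩ : ↥L ⧸ oddCore ↥L) =
        QuotientGroup.mk ⟨s * c * s⁻¹, mul_mem (mul_mem hs hc) (inv_mem hs)⟩ := by
      have h3 : (⟨s * c * s⁻¹, mul_mem (mul_mem hs hc) (inv_mem hs)⟩ : ↥L) =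
          ⟨s, hs⟩ * ⟨c, hc⟩ * ⟨s, hs⟩⁻¹ := rfl
      rw [h3, QuotientGroup.mk_mul, QuotientGroup.mk_mul, QuotientGroup.mk_inv, hsf,
        mul_inv_cancel_right]
    exact (mk_eq_iff _ _).mp h2
  obtain ⟨o, ho', hco⟩ := Intrinsic.Lifting.exists_commute (n := 1) (odd_card_core L)
    (by rw [pow_one, pow_two]; exact hss) (le_normalizer_core L hs) h1
  have hoL := core_le L ho'
  have hmk : (QuotientGroup.mk ⟨c * o, mul_mem hc hoL⟩ : ↥L ⧸ oddCore ↥L) = QuotientGroup.mk ⟨c, hc⟩ := by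
    rw [mk_eq_iff (mul_mem hc hoL) hc]
    have : (c * o)⁻¹ * c = o⁻¹ := by group
    rw [this]
    exact inv_mem ho'
  obtain ⟨d, hd⟩ : ∃ d, d = c * o := ⟨_, rfl⟩
  have hdL : d ∈ L := hd ▸ mul_mem hc hoL
  have hmk' : (QuotientGroup.mk ⟨d, hdL⟩ : ↥L ⧸ oddCore ↥L) = QuotientGroup.mk ⟨c, hc⟩ := by
    rw [← hmk]
    congr 1
    exact Subtype.ext hd
  rw [← hmk'] at hff hf1 hfs
  obtain ⟨n, h2, h3, h4⟩ := exists_inv_pow (L := L) hdL ((mk_eq_one_iff (mul_mem hdL hdL)).mp hff)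
    fun h => hf1 ((mk_eq_one_iff hdL).mpr h)
  refine ⟨d ^ n, h2, h3, fun h => hfs ?_, ?_⟩
  · rw [mk_eq_iff hdL hs]
    rwa [h] at h4
  · have h5 : Commute s d := hd ▸ hco
    exact (h5.pow_right n).eq

end Cfsg.Agent.UGT.Res.TwoFacts
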