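import Cfsg.Agent.UGT.Res.TwoPair
import Cfsg.Agent.UGT.Res.TwoFacts
import Cfsg.Agent.UGT.Res.CfOf
import Cfsg.Agent.UGT.Blk.LFRep

/-!
# Supply for `TwoPair`

* `world_cfx`: the world from `Pgl G` and `CFX X` (`x ∉ X`).
* `world_W`: the world from `Pgl G` and `WOne G` (`W = 1`); `Conf`: the configurations `E = F F₁`.
* `SS G`: the members of the pairs; `base : Blk.Base (SS G)`.
-/

set_option autoImplicit false
set_option linter.dupNamespace false

open Cfsg Subgroup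
open Cfsg.Agent.SignalizersComponents Cfsg.Agent.Lib
open Cfsg.Agent.SignalizersComponents.IntrinsicBasic
open Cfsg.Agent.SignalizersComponents.PLayerAut
open Cfsg.Agent.Intrinsic.Basic Cfsg.Agent.Intrinsic.Cen Cfsg.Agent.Intrinsic.Diag
open Cfsg.Agent.McLLyComp.Act
open Cfsg.Agent.UGT.Triple Cfsg.Agent.UGT.LemG Cfsg.Agent.UGT.PumpGen Cfsg.Agent.UGT.TriBase
open Cfsg.Agent.UGT.Res.Base Cfsg.Agent.UGT.Res.Abel Cfsg.Agent.UGT.Res.KFacts
open Cfsg.Agent.UGT.Res.CoreFree Cfsg.Agent.UGT.Res.WFun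
open Cfsg.Agent.UGT.Res.TwoFacts Cfsg.Agent.UGT.Res.TwoPair
open Cfsg.Agent.UGT.Res.Hon (CFX)
open scoped commutatorElement

namespace Cfsg.Agent.UGT.Res.TwoSup

universe u

variable {G : Type u} [Group G] [Finite G]

omit [Finite G] in
theorem tri {x a : G} {L : Subgroup G} (T : IsTriple x a L) : Tri (fun _ => True) x a L := ⟨T, trivial⟩

/-- an involution of `L` fixing `L` is trivial -/
theorem simp_of (H : Pgl G) {x a : G} {L : Subgroup G} (T : IsTriple x a L) {l : G} (hl : l ∈ L)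
    (hll : l * l = 1) (hf : Fixes l L) : l = 1 := by
  obtain ⟨F, _, _, -, R, -⟩ := H.exists_rep T
  have h1 := (act_eq_one_iff (le_normalizer hl)).mpr hf
  rw [act_of_mem hl] at h1
  have h2 : (QuotientGroup.mk ⟨l, hl⟩ : ↥L ⧸ oddCore ↥L) = 1 :=
    R.conj_injective (by rw [h1, map_one])
  exact eq_one_of_mem_core_sq ((mk_eq_one_iff hl).mp h2) hll

/-- the world of all triples -/
theorem world_of (H : Pgl G) (hB : ∀ v : G, orderOf v = 2 → HasBProperty ↥(centralizer ({v} : Set G)))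
    (hD : ∀ {x a : G} {L₁ L₂ F : Subgroup G}, IsTriple x a L₁ → IsTriple x a L₂ → L₁ ≠ L₂ →
      IsElementaryAbelian 2 F → 8 ≤ Nat.card ↥F → a ∈ F → (∀ f ∈ F, f ∈ L₂ ∨ a * f ∈ L₂) →
      ∀ u ∈ F, u ≠ 1 → ∀ v ∈ F, v ≠ 1 → u ≠ v → DTriv u v) : World G (fun _ => True) where
  Qcj _ _ := trivial
  ex T := exists_s H T.toIsTriple
  four T hs ho := exists_four H T.toIsTriple hs ho
  simp T hl hll hf := simp_of H T.toIsTriple hl hll hf
  pump T hc hca hcx hf := by
    obtain ⟨N, S, hor⟩ := T.toIsTriple.pump hc hca hcx hf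
    refine ⟨N, ⟨S, trivial⟩, ?_⟩
    rcases hor with ⟨h1, h2⟩ | h1
    · exact Or.inl (H.rtriv.triv T.toIsTriple hc hca hcx hf S h1 h2)
    · exact Or.inr h1
  conj {x a f g L} T hb hf hg hfo hgo := by
    obtain ⟨K, _, _, -, ⟨R⟩⟩ := CfOf.exists_R H T.toIsTriple hb
    have h1 : (⟨f, hf⟩ : ↥L) * ⟨f, hf⟩ = 1 := Subtype.ext (sq_of_order hfo)
    have h2 : (⟨g, hg⟩ : ↥L) * ⟨g, hg⟩ = 1 := Subtype.ext (sq_of_order hgo)
    obtain ⟨⟨l, hl⟩, h3⟩ := R.inv_conj h1 (fun h => ne_one_of_order hfo (congrArg Subtype.val h)) h2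
      (fun h => ne_one_of_order hgo (congrArg Subtype.val h))
    exact ⟨l, hl, congrArg Subtype.val h3⟩
  B := hB
  D T₁ T₂ hne hF hc ha hor u hu hu1 v hv hv1 huv :=
    hD T₁.toIsTriple T₂.toIsTriple hne hF hc ha hor u hu hu1 v hv hv1 huv

omit [Finite G] in
theorem dtriv_of_cfx {X : Subgroup G} (C : CFX X) {u v : G} (hu : orderOf u = 2)
    (hv : orderOf v = 2) (huv : orderOf (u * v) = 2) : DTriv u v := by
  intro c h1 h2 h3
  by_cases hu' : u ∈ X
  · rwa [C.cf hu' hu, mem_bot] at h1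
  by_cases hv' : v ∈ X
  · rwa [C.cf hv' hv, mem_bot] at h2
  · rwa [C.cf (C.mul hu' hv') huv, mem_bot] at h3

omit [Finite G] in
theorem mul_ne {F : Subgroup G} (hF : IsElementaryAbelian 2 F) {u v : G} (hu : u ∈ F) (huv : u ≠ v) :
    u * v ≠ 1 := by
  intro h
  apply huv
  rw [← inv_eq_of_mul_eq_one_right h]
  exact (inv_eq_of_mul_eq_one_left (sq_of_el hF hu)).symm

/-- **the core-free world** -/
theorem world_cfx (H : Pgl G)
    (hB : ∀ v : G, orderOf v = 2 → HasBProperty ↥(centralizer ({v} : Set G))) {X : Subgroup G}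
    (C : CFX X) : World G (fun _ => True) :=
  world_of H hB fun _ _ _ hF _ _ _ _ hu hu1 _ hv hv1 huv =>
    dtriv_of_cfx C (order_of_el hF hu hu1) (order_of_el hF hv hv1)
      (order_of_el hF (mul_mem hu hv) (mul_ne hF hu huv))

/-! ### `W = 1` -/

/-- The configurations `E = F F₁`, `F = ⟨a⟩ F₂`. -/
structure Conf (x a : G) (L₁ L₂ F F₁ : Subgroup G) : Prop where
  T₁ : IsTriple x a L₁
  T₂ : IsTriple x a L₂
  ne : L₁ ≠ L₂
  el : IsElementaryAbelian 2 F
  card : 8 ≤ Nat.card ↥F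
  aF : a ∈ F
  or : ∀ f ∈ F, f ∈ L₂ ∨ a * f ∈ L₂
  le : F₁ ≤ L₁
  el₁ : IsElementaryAbelian 2 F₁
  card₁ : Nat.card ↥F₁ = 4
  comm : ∀ f ∈ F, ∀ b ∈ F₁, f * b = b * f

/-- `W = 1` -/
def WOne (G : Type u) [Group G] : Prop :=
  ∀ (x a : G) (L₁ L₂ F F₁ : Subgroup G), Conf x a L₁ L₂ F F₁ → Wd (F ⊔ F₁) = ⊥

/-- a four-group of `L` through the involution `s` -/
theorem exists_four_group (H : Pgl G) {x a s : G} {L : Subgroup G} (T : IsTriple x a L) (hs : s ∈ L)
    (ho : orderOf s = 2) : ∃ A ≤ L, IsElementaryAbelian 2 A ∧ Nat.card ↥A = 4 ∧ s ∈ A := by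
  obtain ⟨f, hf, hfo, hfs, hsf⟩ := exists_four H T hs ho
  have hss := sq_of_order ho
  have hff := sq_of_order hfo
  have hc1 : ∀ e ∈ zpowers s, ∀ b ∈ zpowers f, e * b = b * e := by
    intro e he b hb
    obtain ⟨m, rfl⟩ := mem_zpowers_iff.mp he
    obtain ⟨n, rfl⟩ := mem_zpowers_iff.mp hb
    exact ((show Commute s f from hsf).zpow_zpow m n).eq
  have elA := el_sup (el_zpowers hss) (el_zpowers hff) hc1
  refine ⟨zpowers s ⊔ zpowers f, sup_le (zpowers_le.mpr hs) (zpowers_le.mpr hf), elA, ?_,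
    mem_sup_left (mem_zpowers s)⟩
  have h2 := two_mul_card_le (A := zpowers s) (E := zpowers s ⊔ zpowers f) le_sup_left (fun h => by
    have h3 : f ∈ zpowers s := by
      rw [h]
      exact mem_sup_right (mem_zpowers f)
    rcases (mem_zpowers_of_sq hss).mp h3 with h4 | h4
    · exact ne_one_of_order hfo h4
    · exact hfs h4)
  have h3 : Nat.card ↥(zpowers s) = 2 := by rw [Nat.card_zpowers, ho]
  have h4 : ((zpowers s ⊔ zpowers f : Subgroup G) : Set G) ⊆ {1, s, f, s * f} := by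
    intro z hz
    obtain ⟨e, he, b, hb, rfl⟩ := (mem_sup_of_comm hc1).mp hz
    rcases (mem_zpowers_of_sq hss).mp he with rfl | rfl <;>
      rcases (mem_zpowers_of_sq hff).mp hb with rfl | rfl <;> simp
  have h5 := Set.ncard_le_ncard h4 (Set.toFinite _)
  have h6 : ({1, s, f, s * f} : Set G).ncard ≤ 4 := by
    refine (Set.ncard_insert_le _ _).trans ?_
    have := Set.ncard_insert_le s ({f, s * f} : Set G)
    have := Set.ncard_insert_le f ({s * f} : Set G)
    have := Set.ncard_singleton (s * f)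
    omega
  have h7 : ((zpowers s ⊔ zpowers f : Subgroup G) : Set G).ncard =
    Nat.card ↥(zpowers s ⊔ zpowers f : Subgroup G) := rfl
  omega

/-- every `F = ⟨a⟩ F₂` is part of a configuration -/
theorem exists_conf (H : Pgl G) {x a : G} {L₁ L₂ F : Subgroup G} (T₁ : IsTriple x a L₁)
    (T₂ : IsTriple x a L₂) (hne : L₁ ≠ L₂) (hF : IsElementaryAbelian 2 F) (hc : 8 ≤ Nat.card ↥F)
    (ha : a ∈ F) (hor : ∀ f ∈ F, f ∈ L₂ ∨ a * f ∈ L₂) : ∃ F₁, Conf x a L₁ L₂ F F₁ := by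
  obtain ⟨s, hs, ho, -⟩ := exists_s H T₁
  obtain ⟨A, hA, elA, cA, -⟩ := exists_four_group H T₁ hs ho
  have hfix : ∀ f ∈ F, Fixes f L₁ := by
    intro f hf
    have ha' : Fixes a L₁ := fixes_self' T₁.comp.le
    rcases hor f hf with h1 | h1
    · exact T₁.comp.fixes_of_mem T₂.comp hne h1
    · have h2 := fixes_mul ha' (T₁.comp.fixes_of_mem T₂.comp hne h1)
      rwa [← mul_assoc, sq_of_order T₁.inva, one_mul] at h2
  obtain ⟨o, hoL, hcomm⟩ := exists_commuting (odd_card_core L₁) (isPGroup_of_el hF) (isPGroup_of_el elA)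
    (fun f hf => normalizer_le_normalizer_core L₁ (hfix f hf).1)
    (fun f hf => le_normalizer_core L₁ (hA hf)) (fun f hf b hb => (hfix f hf).2 b (hA hb))
  refine ⟨cj o A, T₁, T₂, hne, hF, hc, ha, hor, ?_, el_cj elA o, ?_, hcomm⟩
  · have h1 := cj_mono (g := o) hA
    rwa [cj_eq_self_of_mem (core_le L₁ hoL)] at h1
  · rw [card_cj, cA]

/-- **the world with `W = 1`** -/
theorem world_W (H : Pgl G)
    (hB : ∀ v : G, orderOf v = 2 → HasBProperty ↥(centralizer ({v} : Set G))) (hW : WOne G) :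
    World G (fun _ => True) :=
  world_of H hB fun {x a L₁ L₂ F} T₁ T₂ hne hF hc ha hor u hu hu1 v hv hv1 huv => by
    obtain ⟨F₁, C⟩ := exists_conf H T₁ T₂ hne hF hc ha hor
    have hel := el_sup C.el C.el₁ C.comm
    intro c h1 h2 h3
    have h4 := mem_Wd hel (mem_sup_left hu) (mem_sup_left hv) hu1 hv1 huv h1 h2 h3
    rwa [hW x a L₁ L₂ F F₁ C, mem_bot] at h4

/-! ### pairs and blocks -/

section pair

variable {Q : Subgroup G → Prop} {x e : G} {N N' : Subgroup G}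

omit [Finite G] in
theorem Pair.symm (P : Pair Q x e N N') : Pair Q x e N' N :=
  ⟨P.T', P.T, P.ne.symm, P.bot', P.bot, fun n hn m hm => (P.comm m hm n hn).symm, P.right, P.left⟩

omit [Finite G] in
theorem order_cj {g t : G} : orderOf (g⁻¹ * t * g) = orderOf t := by
  have h3 := (MulAut.conj g⁻¹).orderOf_eq t
  rw [← h3]
  simp

omit [Finite G] in
theorem Pair.cj (hQ : ∀ {L : Subgroup G} (g : G), Q L → Q (IntrinsicBasic.cj g L))
    (P : Pair Q x e N N') (g : G) :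
    Pair Q (g * x * g⁻¹) (g * e * g⁻¹) (IntrinsicBasic.cj g N) (IntrinsicBasic.cj g N') := by
  have key : ∀ {A B : Subgroup G}, (∀ t ∈ B, orderOf t = 2 → IsComp (centralizer ({t} : Set G)) A) →
      ∀ t ∈ IntrinsicBasic.cj g B, orderOf t = 2 →
        IsComp (centralizer ({t} : Set G)) (IntrinsicBasic.cj g A) := by
    intro A B h t ht hto
    have h1 : g⁻¹ * t * g ∈ B := (mem_cj (g := g) (K := B)).mp ht
    have h3 := (h _ h1 (by rw [order_cj, hto])).cj g
    rw [cj_centralizer] at h3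
    have h4 : g * (g⁻¹ * t * g) * g⁻¹ = t := by group
    rwa [h4] at h3
  refine ⟨⟨P.T.toIsTriple.cj g, hQ g P.T.q⟩, ⟨P.T'.toIsTriple.cj g, hQ g P.T'.q⟩, fun h => P.ne ?_,
    ?_, ?_, ?_, key P.left, key P.right⟩
  · exact cj_injective g h
  · rw [core_cj, P.bot]
    exact Subgroup.map_bot _
  · rw [core_cj, P.bot']
    exact Subgroup.map_bot _
  · intro n hn m hm
    have h1 : g⁻¹ * n * g ∈ N := (mem_cj (g := g) (K := N)).mp hn
    have h2 : g⁻¹ * m * g ∈ N' := (mem_cj (g := g) (K := N')).mp hm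
    have h3 := P.comm _ h1 _ h2
    calc n * m = g * ((g⁻¹ * n * g) * (g⁻¹ * m * g)) * g⁻¹ := by group
      _ = g * ((g⁻¹ * m * g) * (g⁻¹ * n * g)) * g⁻¹ := by rw [h3]
      _ = m * n := by group

omit [Finite G] in
theorem cmp_of_isComp {H L : Subgroup G} (h : IsComp H L) : Blk.Cmp H L := ⟨h.le, h.2.1⟩

omit [Finite G] in
/-- `N ~ N'` -/
theorem Pair.rel (P : Pair Q x e N N') : Blk.Rel ⊤ N N' where
  le := le_top
  le' := le_top
  ne := P.ne
  comm := P.comm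
  left t ht hto := by
    rw [top_inf_eq]
    exact cmp_of_isComp (P.left t ht hto)
  right t ht hto := by
    rw [top_inf_eq]
    exact cmp_of_isComp (P.right t ht hto)

end pair

/-- the members of the pairs -/
def SS (G : Type u) [Group G] : Set (Subgroup G) :=
  {L | ∃ (x e : G) (P : Subgroup G), Pair (fun _ => True) x e L P}

/-- **the input of the block files** -/
theorem base (H : Pgl G) : Blk.Base (SS G) where
  cj_mem := by
    rintro L ⟨x, e, P, h⟩ g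
    exact ⟨_, _, _, Pair.cj (fun _ _ => trivial) h g⟩
  simple := by
    rintro L ⟨x, e, P, h⟩
    obtain ⟨K, _, _, h5, ⟨R⟩⟩ := CfOf.exists_R H h.T.toIsTriple h.bot
    exact TT.PGLSolv.isSimple R (by omega)
  perfect := by
    rintro L ⟨x, e, P, h⟩
    obtain ⟨K, _, _, h5, ⟨R⟩⟩ := CfOf.exists_R H h.T.toIsTriple h.bot
    exact Blk.perfect_of_rep R h5
  even := by
    rintro L ⟨x, e, P, h⟩
    obtain ⟨s, hs, ho, -⟩ := exists_s H h.T.toIsTriple
    exact ⟨s, hs, ho⟩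
  conj2 := by
    rintro L ⟨x, e, P, h⟩ t ht u hu hto huo
    obtain ⟨K, _, _, h5, ⟨R⟩⟩ := CfOf.exists_R H h.T.toIsTriple h.bot
    exact (Blk.LF.of_rep R h5).conj2 t ht u hu hto huo
  solv := by
    rintro L ⟨x, e, P, h⟩ t ht hto D hD hn hc
    obtain ⟨K, _, _, h5, ⟨R⟩⟩ := CfOf.exists_R H h.T.toIsTriple h.bot
    exact (Blk.LF.of_rep R h5).solv t ht hto D hD hn hc
  part := by
    rintro L ⟨x, e, P, h⟩
    exact ⟨P, ⟨x, e, L, Pair.symm h⟩, Pair.rel h⟩

end Cfsg.Agent.UGT.Res.TwoSup
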