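import Cfsg.Agent.OddHalf.D6.PglType
import Cfsg.Agent.OddCyclic.PGLTorus
import Cfsg.Agent.GH.L2AutF

/-!
# Two tori of `PSL(2,F)` generate

`R : Rep F L`, `|F| ≥ 5`, `α` an involution of PGL type, `s ∈ C_L(α)` an involution, `β = α s`.

* `gen`: the elements of odd order fixed by `α` or by `β` generate `L`;
* `exists_pair`: `β` is conjugate to `α` under `L`.
-/

set_option autoImplicit false

namespace Cfsg.Agent.UGT.Res.Gen

open Cfsg.Agent.GH.L2Aut Cfsg.Agent.GH.L2Aut.Rep Cfsg.Agent.Lib.SL2Mat Cfsg.Agent.OddHalf.D6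
open Cfsg.Agent.OddCyclic.PGLTorus
open Subgroup

/-! ### group theory -/

section grp

variable {A : Type*} [Group A]

/-- `N V`, `V = ⟨a, b⟩` a four-group normalizing `N` -/
def NV (N : Subgroup A) (a b : A) (ha : a * a = 1) (hb : b * b = 1) (hab : a * b = b * a)
    (hNa : ∀ n ∈ N, a * n * a⁻¹ ∈ N) (hNb : ∀ n ∈ N, b * n * b⁻¹ ∈ N) : Subgroup A where
  carrier := {g | g ∈ N ∨ g * a ∈ N ∨ g * b ∈ N ∨ g * (a * b) ∈ N}
  one_mem' := Or.inl N.one_mem
  mul_mem' := by
    have ha' : a⁻¹ = a := inv_eq_of_mul_eq_one_left ha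
    have hb' : b⁻¹ = b := inv_eq_of_mul_eq_one_left hb
    have hab2 : a * b * (a * b) = 1 := by
      calc a * b * (a * b) = a * (b * a) * b := by group
        _ = (a * a) * (b * b) := by rw [← hab]; group
        _ = 1 := by rw [ha, hb, one_mul]
    have key : ∀ v w g h : A, v * v = 1 → (∀ n ∈ N, v * n * v⁻¹ ∈ N) → g * v ∈ N → h * w ∈ N →
        g * h * (w * v) ∈ N := by
      intro v w g h hv hN h1 h2
      have hv' : v⁻¹ = v := inv_eq_of_mul_eq_one_left hv
      have h3 := N.mul_mem h1 (hN _ h2)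
      have e : g * v * (v * (h * w) * v⁻¹) = g * h * (w * v) := by
        rw [hv']
        calc g * v * (v * (h * w) * v) = g * (v * v) * (h * w) * v := by group
          _ = g * h * (w * v) := by rw [hv]; group
      rwa [e] at h3
    have hNab : ∀ n ∈ N, a * b * n * (a * b)⁻¹ ∈ N := by
      intro n hn
      have := hNa _ (hNb n hn)
      have e : a * (b * n * b⁻¹) * a⁻¹ = a * b * n * (a * b)⁻¹ := by group
      rwa [e] at this
    have hN1 : ∀ n ∈ N, (1 : A) * n * (1 : A)⁻¹ ∈ N := by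
      intro n hn; simpa using hn
    have e1 : b * a = a * b := hab.symm
    have e2 : a * b * a = b := by rw [hab, mul_assoc, ha, mul_one]
    have e3 : a * b * b = a := by rw [mul_assoc, hb, mul_one]
    have e4 : a * (a * b) = b := by rw [← mul_assoc, ha, one_mul]
    have e5 : b * (a * b) = a := by rw [← mul_assoc, ← hab, mul_assoc, hb, mul_one]
    rintro g h (hg | hg | hg | hg) (hh | hh | hh | hh)
    · exact Or.inl (N.mul_mem hg hh)
    · right; left
      have := key 1 a g h (one_mul _) hN1 (by rwa [mul_one]) hh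
      rwa [mul_one] at this
    · right; right; left
      have := key 1 b g h (one_mul _) hN1 (by rwa [mul_one]) hh
      rwa [mul_one] at this
    · right; right; right
      have := key 1 (a * b) g h (one_mul _) hN1 (by rwa [mul_one]) hh
      rwa [mul_one] at this
    · right; left
      have := key a 1 g h ha hNa hg (by rwa [mul_one])
      rwa [one_mul] at this
    · left
      have := key a a g h ha hNa hg hh
      rwa [ha, mul_one] at this
    · right; right; right
      have := key a b g h ha hNa hg hh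
      rwa [e1] at this
    · right; right; left
      have := key a (a * b) g h ha hNa hg hh
      rwa [e2] at this
    · right; right; left
      have := key b 1 g h hb hNb hg (by rwa [mul_one])
      rwa [one_mul] at this
    · right; right; right
      exact key b a g h hb hNb hg hh
    · left
      have := key b b g h hb hNb hg hh
      rwa [hb, mul_one] at this
    · right; left
      have := key b (a * b) g h hb hNb hg hh
      rwa [e3] at this
    · right; right; right
      have := key (a * b) 1 g h hab2 hNab hg (by rwa [mul_one])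
      rwa [one_mul] at this
    · right; right; left
      have := key (a * b) a g h hab2 hNab hg hh
      rwa [e4] at this
    · right; left
      have := key (a * b) b g h hab2 hNab hg hh
      rwa [e5] at this
    · left
      have := key (a * b) (a * b) g h hab2 hNab hg hh
      rwa [hab2, mul_one] at this
  inv_mem' := by
    have ha' : a⁻¹ = a := inv_eq_of_mul_eq_one_left ha
    have hb' : b⁻¹ = b := inv_eq_of_mul_eq_one_left hb
    have hab2 : a * b * (a * b) = 1 := by
      calc a * b * (a * b) = a * (b * a) * b := by group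
        _ = (a * a) * (b * b) := by rw [← hab]; group
        _ = 1 := by rw [ha, hb, one_mul]
    have hNab : ∀ n ∈ N, a * b * n * (a * b)⁻¹ ∈ N := by
      intro n hn
      have := hNa _ (hNb n hn)
      have e : a * (b * n * b⁻¹) * a⁻¹ = a * b * n * (a * b)⁻¹ := by group
      rwa [e] at this
    have key : ∀ v g : A, v * v = 1 → (∀ n ∈ N, v * n * v⁻¹ ∈ N) → g * v ∈ N → g⁻¹ * v ∈ N := by
      intro v g hv hN h1
      have hv' : v⁻¹ = v := inv_eq_of_mul_eq_one_left hv
      have h2 := hN _ (N.inv_mem h1)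
      have e : v * (g * v)⁻¹ * v⁻¹ = g⁻¹ * v := by
        rw [mul_inv_rev, hv']
        calc v * (v * g⁻¹) * v = (v * v) * g⁻¹ * v := by group
          _ = g⁻¹ * v := by rw [hv, one_mul]
      rwa [e] at h2
    rintro g (hg | hg | hg | hg)
    · exact Or.inl (N.inv_mem hg)
    · exact Or.inr (Or.inl (key a g ha hNa hg))
    · exact Or.inr (Or.inr (Or.inl (key b g hb hNb hg)))
    · exact Or.inr (Or.inr (Or.inr (key _ g hab2 hNab hg)))

variable {N : Subgroup A} {a b : A} {ha : a * a = 1} {hb : b * b = 1} {hab : a * b = b * a}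
  {hNa : ∀ n ∈ N, a * n * a⁻¹ ∈ N} {hNb : ∀ n ∈ N, b * n * b⁻¹ ∈ N}

theorem NV.left {n : A} (hn : n ∈ N) : n ∈ NV N a b ha hb hab hNa hNb := Or.inl hn

theorem NV.a_mem : a ∈ NV N a b ha hb hab hNa hNb := by
  right; left; rw [ha]; exact N.one_mem

theorem NV.b_mem : b ∈ NV N a b ha hb hab hNa hNb := by
  right; right; left; rw [hb]; exact N.one_mem

theorem NV.sq {g : A} (hg : g ∈ NV N a b ha hb hab hNa hNb) : g * g ∈ N := by
  have hab2 : a * b * (a * b) = 1 := by
    calc a * b * (a * b) = a * (b * a) * b := by group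
      _ = (a * a) * (b * b) := by rw [← hab]; group
      _ = 1 := by rw [ha, hb, one_mul]
  have hNab : ∀ n ∈ N, a * b * n * (a * b)⁻¹ ∈ N := by
    intro n hn
    have := hNa _ (hNb n hn)
    have e : a * (b * n * b⁻¹) * a⁻¹ = a * b * n * (a * b)⁻¹ := by group
    rwa [e] at this
  have key : ∀ v : A, v * v = 1 → (∀ n ∈ N, v * n * v⁻¹ ∈ N) → g * v ∈ N → g * g ∈ N := by
    intro v hv hN h1
    have hv' : v⁻¹ = v := inv_eq_of_mul_eq_one_left hv
    have h3 := N.mul_mem h1 (hN _ h1)
    have e : g * v * (v * (g * v) * v⁻¹) = g * g := by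
      rw [hv']
      calc g * v * (v * (g * v) * v) = g * (v * v) * g * (v * v) := by group
        _ = g * g := by rw [hv]; group
    rwa [e] at h3
  rcases hg with hg | hg | hg | hg
  · exact N.mul_mem hg hg
  · exact key a ha hNa hg
  · exact key b hb hNb hg
  · exact key _ hab2 hNab hg

end grp

/-! ### the torus -/

variable {F : Type*} [Field F] [Finite F] {L : Type*} [Group L] (R : Cfsg.Agent.GH.L2Aut.Rep F L)

/-- an automorphism given by a matrix commuting with `g` is `t` or `t α`, `t` of odd order fixed by `α` -/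
theorem tor_dec {g h : GL (Fin 2) F} (hα : R.gl g * R.gl g = 1) (ho : R.o1 (R.gl g) = -1)
    (hc : g.1 * h.1 = h.1 * g.1) :
    ∃ t : L, R.gl g t = t ∧ Odd (orderOf t) ∧
      (R.gl h = MulAut.conj t ∨ R.gl h = MulAut.conj t * R.gl g) := by
  have hLf := R.finite
  have hAf : Finite (MulAut L) :=
    Finite.of_injective (fun α : MulAut L => (α : L → L)) DFunLike.coe_injective
  have hne : R.gl g ≠ 1 := Cfsg.Agent.OddHalf.D6.PglType.ne_one R ho
  have hs := R.not_scalar_of_ne hne
  have htr := R.tr_of_inv hne hα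
  have hcomm : h * g = g * h := Units.ext hc.symm
  have huniq : ∀ n : ℕ, R.gl (h ^ n) * R.gl (h ^ n) = 1 → R.gl (h ^ n) = 1 ∨ R.gl (h ^ n) = R.gl g := by
    intro n hn
    refine R.torus_inv hs htr ?_ hn
    have : h ^ n * g = g * h ^ n := (Commute.pow_left hcomm n)
    exact (congrArg Units.val this).symm
  -- squares are inner
  have hsqi : ∀ k : GL (Fin 2) F, ∃ t : L, MulAut.conj t = R.gl (k * k) := by
    intro k
    have h1 : R.gl (k * k) ∈ (MulAut.conj : L →* MulAut L).range := by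
      rw [R.gl_mem_inn, Units.val_mul, Matrix.det_mul]
      exact ⟨_, rfl⟩
    obtain ⟨t, ht⟩ := h1
    exact ⟨t, ht⟩
  have hnsq : ∀ k : GL (Fin 2) F, R.gl (k * k) ≠ R.gl g := by
    intro k hk
    obtain ⟨t, ht⟩ := hsqi k
    have h1 := R.o1_conj t
    rw [ht, hk, ho] at h1
    exact absurd h1 (by decide)
  have hfix : ∀ (m : ℕ) (t : L), MulAut.conj t = R.gl (h ^ m) → R.gl g t = t := by
    intro m t ht
    apply R.conj_injective
    rw [← Cfsg.Agent.GH.L2Aut.Rep.conj_comm_iff, ht, ← map_mul, ← map_mul]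
    congr 1
    exact Commute.pow_left hcomm m
  have hord : ∀ t : L, orderOf (MulAut.conj t) = orderOf t := fun t =>
    orderOf_injective _ R.conj_injective t
  set γ := R.gl h with hγ
  have hpos : 0 < orderOf γ := orderOf_pos γ
  obtain ⟨k, m, hm, hn⟩ := Nat.exists_eq_two_pow_mul_odd hpos.ne'
  have hmpos : 0 < m := hm.pos
  rcases Nat.lt_or_ge k 2 with hk | hk
  · have hk' : k = 0 ∨ k = 1 := by omega
    rcases hk' with rfl | rfl
    · -- `γ` has odd order
      rw [pow_zero, one_mul] at hn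
      obtain ⟨j, hj⟩ := hm
      have h1 : R.gl (h ^ (j + 1) * h ^ (j + 1)) = γ := by
        rw [← pow_add, map_pow, ← hγ]
        have : j + 1 + (j + 1) = m + 1 := by omega
        rw [this, pow_succ, ← hn, pow_orderOf_eq_one, one_mul]
      obtain ⟨t, ht⟩ := hsqi (h ^ (j + 1))
      refine ⟨t, ?_, ?_, Or.inl ?_⟩
      · apply hfix (j + 1 + (j + 1))
        rw [ht, ← pow_add]
      · rw [← hord, ht, h1, hn]
        exact ⟨j, hj⟩
      · rw [ht, h1]
    · rw [pow_one] at hn
      -- `γ ^ m = α`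
      have h1 : R.gl (h ^ m) = R.gl g := by
        rcases huniq m (by
          rw [← map_mul, ← pow_add, ← two_mul, ← hn, map_pow, ← hγ, pow_orderOf_eq_one]) with h1 | h1
        · exfalso
          rw [map_pow, ← hγ] at h1
          have h2 := Nat.le_of_dvd hmpos (orderOf_dvd_of_pow_eq_one h1)
          omega
        · exact h1
      obtain ⟨j, hj⟩ := hm
      obtain ⟨t, ht⟩ := hsqi (h ^ (j + 1))
      have h2 : R.gl (h ^ (j + 1) * h ^ (j + 1)) = γ * R.gl g := by
        rw [← pow_add]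
        have : j + 1 + (j + 1) = 1 + m := by omega
        rw [this, pow_add, map_mul, pow_one, h1]
      refine ⟨t, ?_, ?_, Or.inr ?_⟩
      · apply hfix (j + 1 + (j + 1))
        rw [ht, ← pow_add]
      · have h3 : orderOf t ∣ m := by
          rw [← hord, ht]
          apply orderOf_dvd_of_pow_eq_one
          rw [map_mul, map_pow, ← hγ, ← pow_add, ← pow_mul]
          have : (j + 1 + (j + 1)) * m = (2 * m) * (j + 1) := by ring
          rw [this, pow_mul, ← hn, pow_orderOf_eq_one, one_pow]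
        exact Odd.of_dvd_nat ⟨j, hj⟩ h3
      · rw [ht, h2, mul_assoc, hα, mul_one]
  · exfalso
    obtain ⟨i, rfl⟩ : ∃ i, k = i + 2 := ⟨k - 2, by omega⟩
    have h1 : R.gl (h ^ (2 ^ i * m) * h ^ (2 ^ i * m)) = R.gl g := by
      rw [← pow_add]
      rcases huniq (2 ^ i * m + 2 ^ i * m) (by
        rw [← map_mul, ← pow_add, map_pow, ← hγ]
        have : 2 ^ i * m + 2 ^ i * m + (2 ^ i * m + 2 ^ i * m) = orderOf γ := by
          rw [hn, pow_add]; ring
        rw [this, pow_orderOf_eq_one]) with h1 | h1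
      · exfalso
        rw [map_pow, ← hγ] at h1
        have h2 : 0 < 2 ^ i * m := Nat.mul_pos (pow_pos two_pos i) hmpos
        have h3 := Nat.le_of_dvd (by omega) (orderOf_dvd_of_pow_eq_one h1)
        have h4 : orderOf γ = 4 * (2 ^ i * m) := by rw [hn, pow_add]; ring
        omega
      · exact h1
    exact hnsq _ h1

/-- what the argument needs: a subgroup of `Aut L` -/
structure Big (g h S : GL (Fin 2) F) (s : L) (H : Subgroup L) (W : Subgroup (MulAut L)) : Prop where
  gm : ∀ k : GL (Fin 2) F, g.1 * k.1 = k.1 * g.1 → R.gl k ∈ W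
  hm : ∀ k : GL (Fin 2) F, h.1 * k.1 = k.1 * h.1 → R.gl k ∈ W
  Sm : R.gl S ∈ W
  sq : ∀ γ ∈ W, ∃ t ∈ H, γ * γ = MulAut.conj t
  sH : ∀ t ∈ H, s * t * s⁻¹ ∈ H

theorem exists_big {g S : GL (Fin 2) F} {s : L} (hα : R.gl g * R.gl g = 1)
    (ho : R.o1 (R.gl g) = -1) (hs : R.gl g s = s) (hss : s * s = 1)
    (hS : R.gl S = MulAut.conj s) :
    ∃ (H : Subgroup L) (W : Subgroup (MulAut L)), Big R g (g * S) S s H W ∧
      ∀ K : Subgroup L, (∀ t, R.gl g t = t → Odd (orderOf t) → t ∈ K) →
        (∀ t, R.gl g t = s⁻¹ * t * s → Odd (orderOf t) → t ∈ K) → H ≤ K := by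
  classical
  have hss' : s⁻¹ = s := inv_eq_of_mul_eq_one_left hss
  set α := R.gl g with hαd
  set σ := MulAut.conj s with hσd
  have hσσ : σ * σ = 1 := by rw [hσd, ← map_mul, hss, map_one]
  have hασ : α * σ = σ * α := by
    have := Cfsg.Agent.GH.L2Aut.Rep.conj_comm_iff (φ := α) (x := s)
    rw [hs] at this
    exact (this.2 rfl).symm
  set H : Subgroup L := Subgroup.closure {t | Odd (orderOf t) ∧ (α t = t ∨ α t = s⁻¹ * t * s)} with hH
  have hαα : ∀ t, α (α t) = t := fun t => by rw [← MulAut.mul_apply, hα, MulAut.one_apply]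
  have hord : ∀ (φ : MulAut L) (t : L), orderOf (φ t) = orderOf t := fun φ t =>
    orderOf_injective φ.toMonoidHom φ.injective t
  have hHα : ∀ t ∈ H, α t ∈ H := by
    intro t ht
    have h1 : H ≤ H.comap α.toMonoidHom := by
      rw [hH, closure_le]
      rintro x ⟨hx, h2 | h2⟩
      · change α x ∈ Subgroup.closure _
        rw [h2]
        exact Subgroup.subset_closure ⟨hx, Or.inl h2⟩
      · change α x ∈ Subgroup.closure _
        apply Subgroup.subset_closure
        refine ⟨by rw [hord]; exact hx, Or.inr ?_⟩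
        have h3 : α (α x) = s⁻¹ * α x * s := by
          nth_rw 1 [h2]
          rw [map_mul, map_mul, map_inv, hs]
        exact h3
    exact h1 ht
  have hHs : ∀ t ∈ H, s * t * s⁻¹ ∈ H := by
    intro t ht
    have h1 : H ≤ H.comap σ.toMonoidHom := by
      rw [hH, closure_le]
      rintro x ⟨hx, h2 | h2⟩
      · change σ x ∈ Subgroup.closure _
        apply Subgroup.subset_closure
        refine ⟨by rw [hord]; exact hx, Or.inl ?_⟩
        rw [hσd, MulAut.conj_apply, map_mul, map_mul, map_inv, hs, h2]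
      · change σ x ∈ Subgroup.closure _
        apply Subgroup.subset_closure
        refine ⟨by rw [hord]; exact hx, Or.inr ?_⟩
        rw [hσd, MulAut.conj_apply, map_mul, map_mul, map_inv, hs, h2]
        group
    exact h1 ht
  have hNa : ∀ n ∈ H.map (MulAut.conj : L →* MulAut L), α * n * α⁻¹ ∈
      H.map (MulAut.conj : L →* MulAut L) := by
    rintro _ ⟨t, ht, rfl⟩
    rw [Cfsg.Agent.GH.L2Aut.conj_conj]
    exact ⟨_, hHα t ht, rfl⟩
  have hNb : ∀ n ∈ H.map (MulAut.conj : L →* MulAut L), σ * n * σ⁻¹ ∈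
      H.map (MulAut.conj : L →* MulAut L) := by
    rintro _ ⟨t, ht, rfl⟩
    rw [Cfsg.Agent.GH.L2Aut.conj_conj]
    exact ⟨_, hHs t ht, rfl⟩
  set W := NV (H.map (MulAut.conj : L →* MulAut L)) α σ hα hσσ hασ hNa hNb with hW
  have hαW : α ∈ W := NV.a_mem
  have hσW : σ ∈ W := NV.b_mem
  refine ⟨H, W, ⟨?_, ?_, ?_, ?_, hHs⟩, ?_⟩
  · intro k hk
    obtain ⟨t, h1, h2, h3⟩ := tor_dec R (g := g) (h := k) hα ho hk
    have h4 : MulAut.conj t ∈ W := NV.left ⟨t, Subgroup.subset_closure ⟨h2, Or.inl h1⟩, rfl⟩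
    rcases h3 with h3 | h3
    · rw [h3]; exact h4
    · rw [h3]; exact mul_mem h4 hαW
  · intro k hk
    have hgS : R.gl (g * S) = α * σ := by rw [map_mul, hS]
    have hβ2 : R.gl (g * S) * R.gl (g * S) = 1 := by
      rw [hgS]
      calc α * σ * (α * σ) = α * (σ * α) * σ := by group
        _ = (α * α) * (σ * σ) := by rw [← hασ]; group
        _ = 1 := by rw [hα, hσσ, one_mul]
    have hβo : R.o1 (R.gl (g * S)) = -1 := by
      rw [hgS, map_mul, ho, hσd, R.o1_conj, mul_one]
    obtain ⟨t, h1, h2, h3⟩ := tor_dec R (g := g * S) (h := k) hβ2 hβo hk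
    have h5 : α t = s⁻¹ * t * s := by
      rw [hgS, MulAut.mul_apply, hσd, MulAut.conj_apply] at h1
      have h6 := congrArg α h1
      rw [hαα] at h6
      rw [← h6, hss']
    have h4 : MulAut.conj t ∈ W := NV.left ⟨t, Subgroup.subset_closure ⟨h2, Or.inr h5⟩, rfl⟩
    rcases h3 with h3 | h3
    · rw [h3]; exact h4
    · rw [h3, hgS]; exact mul_mem h4 (mul_mem hαW hσW)
  · rw [hS]; exact hσW
  · intro γ hγ
    obtain ⟨t, ht, h1⟩ := NV.sq hγ
    exact ⟨t, ht, h1.symm⟩
  · intro K h1 h2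
    rw [hH, closure_le]
    rintro x ⟨hx, h3 | h3⟩
    · exact h1 x h3 hx
    · exact h2 x h3 hx

/-- from `conj (up b) ∈ W` to `up (2b) ∈ H` -/
theorem Big.up_mem {R} {g h S : GL (Fin 2) F} {s : L} {H : Subgroup L} {W : Subgroup (MulAut L)}
    (B : Big R g h S s H W) {b : F} (hb : R.gl (Matrix.SpecialLinearGroup.toGL (up b)) ∈ W) :
    R.π (up (b + b)) ∈ H := by
  obtain ⟨t, ht, h1⟩ := B.sq _ hb
  rw [← R.conj_π, ← map_mul, ← map_mul, up_mul] at h1
  rw [R.conj_injective h1]
  exact ht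

theorem Big.lo_mem {R} {g h S : GL (Fin 2) F} {s : L} {H : Subgroup L} {W : Subgroup (MulAut L)}
    (B : Big R g h S s H W) {b : F} (hb : R.gl (Matrix.SpecialLinearGroup.toGL (lo b)) ∈ W) :
    R.π (lo (b + b)) ∈ H := by
  obtain ⟨t, ht, h1⟩ := B.sq _ hb
  rw [← R.conj_π, ← map_mul, ← map_mul, lo_mul] at h1
  rw [R.conj_injective h1]
  exact ht

omit [Finite F] in
theorem eq_top_of_up_lo {H : Subgroup L} (h1 : ∀ b, R.π (up b) ∈ H) (h2 : ∀ b, R.π (lo b) ∈ H) :
    H = ⊤ := by
  rw [eq_top_iff]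
  intro x _
  obtain ⟨y, rfl⟩ := R.surj x
  obtain ⟨a, b, c, d, rfl⟩ := exists_up_lo y
  rw [map_mul, map_mul, map_mul]
  exact mul_mem (mul_mem (mul_mem (h1 a) (h2 b)) (h1 c)) (h2 d)


local notation "M2" => Matrix (Fin 2) (Fin 2) F
local notation "SL2" => Matrix.SpecialLinearGroup (Fin 2) F

/-! ### the nonsplit case, `-1 = i²`, `c` not a square -/

section nonsplit

/-- the fibres of `r ↦ κ r / (r² + c)` have at most two elements -/
theorem counting {c κ : F} (h2 : (2 : F) ≠ 0) (hκ : κ ≠ 0) (hc : ∀ r : F, r * r + c ≠ 0)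
    (A : AddSubgroup F) (hA : ∀ r : F, κ * r / (r * r + c) ∈ A) : A = ⊤ := by
  classical
  have := Fintype.ofFinite F
  by_contra hne
  have hc0 : c ≠ 0 := by have := hc 0; rwa [mul_zero, zero_add] at this
  -- index at least two
  have h1 : A.index ≠ 1 := fun h => hne (AddSubgroup.index_eq_one.1 h)
  have h3 := A.card_mul_index
  have h4 : 0 < A.index := Nat.pos_of_ne_zero A.index_ne_zero_of_finite
  have h5 : 2 * Nat.card A ≤ Nat.card F := by
    rw [← h3, mul_comm 2]
    exact Nat.mul_le_mul_left _ (by omega)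
  -- counting fibres
  set f : F → F := fun r => κ * r / (r * r + c) with hf
  have h6 : ∀ b ∈ Finset.univ.image f, (Finset.univ.filter (fun r => f r = b)).card ≤ 2 := by
    intro b hb
    obtain ⟨r, -, hr⟩ := Finset.mem_image.1 hb
    have h7 : Finset.univ.filter (fun x => f x = b) ⊆ {r, c / r} := by
      intro x hx
      rw [Finset.mem_filter] at hx
      have h8 : f x = f r := by rw [hx.2, hr]
      have h9 : κ * x * (r * r + c) = κ * r * (x * x + c) := by
        have e1 : f x = κ * x / (x * x + c) := rfl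
        have e2 : f r = κ * r / (r * r + c) := rfl
        rw [e1, e2, div_eq_div_iff (hc x) (hc r)] at h8
        exact h8
      have h10 : (x - r) * (c - x * r) = 0 := by
        apply mul_left_cancel₀ hκ
        linear_combination h9
      rw [Finset.mem_insert, Finset.mem_singleton]
      rcases mul_eq_zero.1 h10 with h | h
      · exact Or.inl (sub_eq_zero.1 h)
      · right
        have hr0 : r ≠ 0 := by
          rintro rfl
          rw [mul_zero, sub_zero] at h
          exact hc0 h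
        rw [eq_div_iff hr0]
        linear_combination -h
    exact (Finset.card_le_card h7).trans Finset.card_le_two
  have h7 := Finset.card_le_mul_card_image (f := f) (Finset.univ : Finset F) 2 h6
  have h8 : (Finset.univ.image f).card ≤ Nat.card A := by
    have e : Nat.card A = (Finset.univ.filter (fun x => x ∈ A)).card := by
      rw [Nat.card_eq_fintype_card]
      exact Fintype.card_subtype _
    rw [e]
    apply Finset.card_le_card
    intro x hx
    obtain ⟨r, -, rfl⟩ := Finset.mem_image.1 hx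
    rw [Finset.mem_filter]
    exact ⟨Finset.mem_univ _, hA r⟩
  have h9 : Nat.card F ≤ 2 * Nat.card A := by
    rw [Nat.card_eq_fintype_card]
    calc Fintype.card F = (Finset.univ : Finset F).card := rfl
      _ ≤ _ := h7
      _ ≤ _ := Nat.mul_le_mul_left 2 h8
  have h10 := Cfsg.Agent.GH.L2Aut.odd_card h2
  have h11 : Nat.card F = 2 * Nat.card A := le_antisymm h9 h5
  rw [h11] at h10
  exact (Nat.not_odd_iff_even.2 (even_two_mul _)) h10

/-- the nonsplit case in coordinates -/
theorem Big.top_ns {R} {g S : GL (Fin 2) F} {s : L} {H : Subgroup L} {W : Subgroup (MulAut L)}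
    (B : Big R g (g * S) S s H W) {c i : F} (hi : i * i = -1) (hc : ¬ IsSquare c)
    (hg : g.1 = !![0, c; 1, 0]) (hS : S.1 = !![i, 0; 0, -i]) : H = ⊤ := by
  have h2 := R.two
  have hi0 : i ≠ 0 := by
    rintro rfl
    rw [mul_zero] at hi
    exact one_ne_zero (neg_eq_zero.1 hi.symm)
  have hr1 : ∀ r : F, r * r - c ≠ 0 := fun r h => hc ⟨r, by linear_combination -h⟩
  have hr2 : ∀ r : F, r * r + c ≠ 0 := fun r h => hc ⟨i * r, by linear_combination -r * r * hi + h⟩
  have hc0 : c ≠ 0 := by have := hr2 0; rwa [mul_zero, zero_add] at this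
  have hgS : (g * S).1 = !![0, -(i * c); i, 0] := by
    rw [Units.val_mul, hg, hS]
    apply mat_ext <;> rw [mat_mul] <;> simp
    ring
  have hd1 : ∀ r : F, (!![r, c; 1, r] : M2).det ≠ 0 := by
    intro r
    rw [Matrix.det_fin_two_of, mul_one]
    exact hr1 r
  have hd2 : ∀ r : F, (!![r, -c; 1, r] : M2).det ≠ 0 := by
    intro r
    rw [Matrix.det_fin_two_of, mul_one, sub_neg_eq_add]
    exact hr2 r
  have hm1 : ∀ r, R.gl (toGL' _ (hd1 r)) ∈ W := by
    intro r
    apply B.gm
    rw [toGL'_val, hg]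
    apply mat_ext <;> rw [mat_mul, mat_mul] <;> simp [mul_comm]
  have hm2 : ∀ r, R.gl (toGL' _ (hd2 r)) ∈ W := by
    intro r
    apply B.hm
    rw [toGL'_val, hgS]
    apply mat_ext <;> rw [mat_mul, mat_mul] <;> simp <;> ring
  -- upper
  have hup : ∀ r : F, R.gl (Matrix.SpecialLinearGroup.toGL (up (4 * r * c / (r * r + c)))) ∈ W := by
    intro r
    obtain ⟨X, hX⟩ : ∃ X, X = toGL' _ (hd1 r) * toGL' _ (hd2 (-r)) := ⟨_, rfl⟩
    have hXW : R.gl X ∈ W := by rw [hX, map_mul]; exact mul_mem (hm1 r) (hm2 (-r))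
    have hXv : X.1 = !![c - r * r, -(2 * r * c); 0, -(r * r + c)] := by
      rw [hX, Units.val_mul, toGL'_val, toGL'_val]
      apply mat_ext <;> rw [mat_mul] <;> simp <;> ring
    have h3 : Matrix.SpecialLinearGroup.toGL (up (4 * r * c / (r * r + c))) * (S * X) = X * S := by
      apply Units.ext
      rw [Units.val_mul, Units.val_mul, Units.val_mul X S, hXv, hS]
      have e : (Matrix.SpecialLinearGroup.toGL (up (4 * r * c / (r * r + c)))).1 =
          !![1, 4 * r * c / (r * r + c); 0, 1] := rfl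
      rw [e]
      have h5 := hr2 r
      have h6 : r ^ 2 + c ≠ 0 := by rwa [pow_two]
      apply mat_ext <;> simp only [mat_mul] <;> simp
      · ring
      · field_simp
        ring
      · ring
    have h4 : R.gl (Matrix.SpecialLinearGroup.toGL (up (4 * r * c / (r * r + c)))) =
        R.gl X * R.gl S * (R.gl S * R.gl X)⁻¹ := by
      rw [eq_mul_inv_iff_mul_eq, ← map_mul, ← map_mul, ← map_mul, h3]
    rw [h4]
    exact mul_mem (mul_mem hXW B.Sm) (inv_mem (mul_mem B.Sm hXW))
  have hlo : ∀ r : F, R.gl (Matrix.SpecialLinearGroup.toGL (lo (4 * r / (r * r + c)))) ∈ W := by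
    intro r
    obtain ⟨X, hX⟩ : ∃ X, X = toGL' _ (hd1 r) * toGL' _ (hd2 r) := ⟨_, rfl⟩
    have hXW : R.gl X ∈ W := by rw [hX, map_mul]; exact mul_mem (hm1 r) (hm2 r)
    have hXv : X.1 = !![r * r + c, 0; 2 * r, r * r - c] := by
      rw [hX, Units.val_mul, toGL'_val, toGL'_val]
      apply mat_ext <;> rw [mat_mul] <;> simp <;> ring
    have h3 : Matrix.SpecialLinearGroup.toGL (lo (4 * r / (r * r + c))) * (S * X) = X * S := by
      apply Units.ext
      rw [Units.val_mul, Units.val_mul, Units.val_mul X S, hXv, hS]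
      have e : (Matrix.SpecialLinearGroup.toGL (lo (4 * r / (r * r + c)))).1 =
          !![1, 0; 4 * r / (r * r + c), 1] := rfl
      rw [e]
      have h5 := hr2 r
      have h6 : r ^ 2 + c ≠ 0 := by rwa [pow_two]
      apply mat_ext <;> simp only [mat_mul] <;> simp
      · ring
      · field_simp
        ring
      · ring
    have h4 : R.gl (Matrix.SpecialLinearGroup.toGL (lo (4 * r / (r * r + c)))) =
        R.gl X * R.gl S * (R.gl S * R.gl X)⁻¹ := by
      rw [eq_mul_inv_iff_mul_eq, ← map_mul, ← map_mul, ← map_mul, h3]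
    rw [h4]
    exact mul_mem (mul_mem hXW B.Sm) (inv_mem (mul_mem B.Sm hXW))
  have h8 : (8 : F) ≠ 0 := by
    have : (8 : F) = 2 * 2 * 2 := by norm_num
    rw [this]
    exact mul_ne_zero (mul_ne_zero h2 h2) h2
  refine eq_top_of_up_lo R ?_ ?_
  · let A : AddSubgroup F :=
      { carrier := {b | R.π (up b) ∈ H}
        zero_mem' := by change R.π (up 0) ∈ H; rw [up_zero, map_one]; exact one_mem _
        add_mem' := by
          intro a b ha hb
          change R.π (up (a + b)) ∈ H
          rw [← up_mul, map_mul]; exact mul_mem ha hb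
        neg_mem' := by
          intro a ha
          change R.π (up (-a)) ∈ H
          rw [← up_inv, map_inv]; exact inv_mem ha }
    have hA : A = ⊤ := by
      refine counting (κ := 8 * c) h2 (mul_ne_zero h8 hc0) hr2 A fun r => ?_
      have h5 := B.up_mem (hup r)
      change R.π (up _) ∈ H
      convert h5 using 3
      ring
    intro b
    have : b ∈ A := by rw [hA]; trivial
    exact this
  · let A : AddSubgroup F :=
      { carrier := {b | R.π (lo b) ∈ H}
        zero_mem' := by change R.π (lo 0) ∈ H; rw [lo_zero, map_one]; exact one_mem _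
        add_mem' := by
          intro a b ha hb
          change R.π (lo (a + b)) ∈ H
          rw [← lo_mul, map_mul]; exact mul_mem ha hb
        neg_mem' := by
          intro a ha
          change R.π (lo (-a)) ∈ H
          rw [← lo_inv, map_inv]; exact inv_mem ha }
    have hA : A = ⊤ := by
      refine counting (κ := 8) h2 h8 hr2 A fun r => ?_
      have h5 := B.lo_mem (hlo r)
      change R.π (lo _) ∈ H
      convert h5 using 3
      ring
    intro b
    have : b ∈ A := by rw [hA]; trivial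
    exact this

end nonsplit

/-! ### the split case, `-1` not a square -/

section split

theorem exists_two (h7 : 6 ≤ Nat.card F) :
    ∃ r r' : F, r ≠ 0 ∧ r' ≠ 0 ∧ r * r ≠ 1 ∧ r' * r' ≠ 1 ∧ r * r ≠ r' * r' := by
  classical
  have := Fintype.ofFinite F
  rw [Nat.card_eq_fintype_card] at h7
  have key : ∀ s : Finset F, s.card < Fintype.card F → ∃ r, r ∉ s := by
    intro s hs
    by_contra hno
    push Not at hno
    have : s = Finset.univ := Finset.eq_univ_of_forall hno
    rw [this, Finset.card_univ] at hs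
    exact lt_irrefl _ hs
  have hsq : ∀ x y : F, x ≠ y → x ≠ -y → x * x ≠ y * y := by
    intro x y h1 h3 h
    have h4 : (x - y) * (x + y) = 0 := by linear_combination h
    rcases mul_eq_zero.1 h4 with h5 | h5
    · exact h1 (sub_eq_zero.1 h5)
    · exact h3 (eq_neg_of_add_eq_zero_left h5)
  obtain ⟨r, hr⟩ := key {0, 1, -1} (lt_of_le_of_lt Finset.card_le_three (by omega))
  simp only [Finset.mem_insert, Finset.mem_singleton, not_or] at hr
  obtain ⟨r', hr'⟩ := key {0, 1, -1, r, -r} (lt_of_le_of_lt Finset.card_le_five (by omega))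
  simp only [Finset.mem_insert, Finset.mem_singleton, not_or] at hr'
  refine ⟨r, r', hr.1, hr'.1, ?_, ?_, ?_⟩
  · have := hsq r 1 hr.2.1 hr.2.2
    rwa [mul_one] at this
  · have := hsq r' 1 hr'.2.1 hr'.2.2.1
    rwa [mul_one] at this
  · exact (hsq r' r hr'.2.2.2.1 hr'.2.2.2.2).symm

/-- the split case in coordinates -/
theorem Big.top_sp {R} {g S : GL (Fin 2) F} {s : L} {H : Subgroup L} {W : Subgroup (MulAut L)}
    (B : Big R g (g * S) S s H W) (h7 : 6 ≤ Nat.card F) (hs : s = R.π (wm 1 one_ne_zero))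
    (hg : g.1 = !![1, 0; 0, -1]) (hS : S.1 = !![0, 1; -1, 0]) : H = ⊤ := by
  have h2 := R.two
  obtain ⟨r, r', hr, hr', h1, h1', hne⟩ := exists_two (F := F) h7
  have hgS : (g * S).1 = !![0, 1; 1, 0] := by
    rw [Units.val_mul, hg, hS]
    apply mat_ext <;> rw [mat_mul] <;> simp
  have hdD : ∀ x y : F, x ≠ 0 → y ≠ 0 → (!![x, 0; 0, y] : M2).det ≠ 0 := by
    intro x y hx hy
    rw [Matrix.det_fin_two_of, mul_zero, sub_zero]
    exact mul_ne_zero hx hy
  have hdM : ∀ x : F, x * x ≠ 1 → (!![x, 1; 1, x] : M2).det ≠ 0 := by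
    intro x hx
    rw [Matrix.det_fin_two_of, mul_one]
    exact sub_ne_zero.2 hx
  have hD : ∀ (x y : F) (hx : x ≠ 0) (hy : y ≠ 0), R.gl (toGL' _ (hdD x y hx hy)) ∈ W := by
    intro x y hx hy
    apply B.gm
    rw [toGL'_val, hg]
    apply mat_ext <;> rw [mat_mul, mat_mul] <;> simp
  have hM : ∀ (x : F) (hx : x * x ≠ 1), R.gl (toGL' _ (hdM x hx)) ∈ W := by
    intro x hx
    apply B.hm
    rw [toGL'_val, hgS]
    apply mat_ext <;> rw [mat_mul, mat_mul] <;> simp
  have hrr : -(r' / r) ≠ 0 := neg_ne_zero.2 (div_ne_zero hr' hr)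
  set b : F := (r * r - r' * r') / (r * (1 - r' * r')) with hb
  have hd1 : (1 : F) - r' * r' ≠ 0 := sub_ne_zero.2 h1'.symm
  have hd2 : r * r - 1 ≠ 0 := sub_ne_zero.2 h1
  have hb0 : b ≠ 0 := div_ne_zero (sub_ne_zero.2 hne) (mul_ne_zero hr hd1)
  have hA0 : r' * (r * r - 1) / r ≠ 0 := div_ne_zero (mul_ne_zero hr' hd2) hr
  have hup1 : R.gl (Matrix.SpecialLinearGroup.toGL (up b)) ∈ W := by
    have h3 : Matrix.SpecialLinearGroup.toGL (up b) * toGL' _ (hdD _ _ hA0 hd1) =
        toGL' _ (hdM r h1) * toGL' _ (hdD 1 _ one_ne_zero hrr) * toGL' _ (hdM r' h1') := by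
      apply Units.ext
      rw [Units.val_mul, Units.val_mul, Units.val_mul, toGL'_val, toGL'_val, toGL'_val, toGL'_val]
      have e : (Matrix.SpecialLinearGroup.toGL (up b)).1 = !![1, b; 0, 1] := rfl
      rw [e, hb]
      have h5 : (1 : F) - r' ^ 2 ≠ 0 := by rwa [pow_two]
      apply mat_ext <;> simp only [mat_mul] <;> simp
      · field_simp
        ring
      · field_simp
        ring
      · field_simp
        ring
      · field_simp
        ring
    have h4 : R.gl (Matrix.SpecialLinearGroup.toGL (up b)) =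
        R.gl (toGL' _ (hdM r h1)) * R.gl (toGL' _ (hdD 1 _ one_ne_zero hrr)) *
          R.gl (toGL' _ (hdM r' h1')) * (R.gl (toGL' _ (hdD _ _ hA0 hd1)))⁻¹ := by
      rw [eq_mul_inv_iff_mul_eq, ← map_mul, ← map_mul, ← map_mul, h3]
    rw [h4]
    exact mul_mem (mul_mem (mul_mem (hM _ h1) (hD _ _ one_ne_zero hrr)) (hM _ h1'))
      (inv_mem (hD _ _ hA0 hd1))
  have hup : ∀ e : F, R.π (up e) ∈ H := by
    intro e
    rcases eq_or_ne e 0 with rfl | he
    · rw [up_zero, map_one]; exact one_mem _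
    · have hx : e / (b + b) ≠ 0 := div_ne_zero he (by rw [← two_mul]; exact mul_ne_zero h2 hb0)
      have h5 : R.gl (Matrix.SpecialLinearGroup.toGL (up (e / (b + b) * b))) ∈ W := by
        have h3 : Matrix.SpecialLinearGroup.toGL (up (e / (b + b) * b)) *
            toGL' _ (hdD _ 1 hx one_ne_zero) =
            toGL' _ (hdD _ 1 hx one_ne_zero) * Matrix.SpecialLinearGroup.toGL (up b) := by
          apply Units.ext
          rw [Units.val_mul, Units.val_mul, toGL'_val]
          have e1 : (Matrix.SpecialLinearGroup.toGL (up b)).1 = !![1, b; 0, 1] := rfl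
          have e2 : (Matrix.SpecialLinearGroup.toGL (up (e / (b + b) * b))).1 =
            !![1, e / (b + b) * b; 0, 1] := rfl
          rw [e1, e2]
          apply mat_ext <;> simp only [mat_mul] <;> simp
        have h4 : R.gl (Matrix.SpecialLinearGroup.toGL (up (e / (b + b) * b))) =
            R.gl (toGL' _ (hdD _ 1 hx one_ne_zero)) * R.gl (Matrix.SpecialLinearGroup.toGL (up b)) *
              (R.gl (toGL' _ (hdD _ 1 hx one_ne_zero)))⁻¹ := by
          rw [eq_mul_inv_iff_mul_eq, ← map_mul, ← map_mul, h3]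
        rw [h4]
        exact mul_mem (mul_mem (hD _ _ hx one_ne_zero) hup1) (inv_mem (hD _ _ hx one_ne_zero))
      have h6 := B.up_mem h5
      have e3 : e / (b + b) * b + e / (b + b) * b = e := by
        rw [← two_mul, ← two_mul]
        field_simp
      rwa [e3] at h6
  refine eq_top_of_up_lo R hup fun e => ?_
  have h5 := B.sH _ (hup (-e))
  have h6 : wm (1 : F) one_ne_zero * up (-e) * (wm (1 : F) one_ne_zero)⁻¹ = lo e := by
    rw [wm_up, mul_inv_cancel_right]
    congr 1
    ring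
  rw [hs, ← map_mul, ← map_inv, ← map_mul, h6] at h5
  exact h5

end split

/-! ### the theorem -/

/-- one pair `(α, s)` for which the statement is known -/
theorem exists_std (h5 : 4 < Nat.card F) : ∃ (α : MulAut L) (s : L), α * α = 1 ∧ R.o1 α = -1 ∧
    α s = s ∧ s * s = 1 ∧ s ≠ 1 ∧ ∀ K : Subgroup L, (∀ t, α t = t → Odd (orderOf t) → t ∈ K) →
      (∀ t, α t = s⁻¹ * t * s → Odd (orderOf t) → t ∈ K) → K = ⊤ := by
  classical
  have := Fintype.ofFinite F
  have h2 := R.two
  have key : ∀ (g : GL (Fin 2) F) (x : SL2), g.1.trace = 0 → ¬ IsSquare g.1.det →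
      conjGL g x = -x → x * x = -1 →
      (∀ (H : Subgroup L) (W : Subgroup (MulAut L)),
        Big R g (g * Matrix.SpecialLinearGroup.toGL x) (Matrix.SpecialLinearGroup.toGL x) (R.π x) H W →
          H = ⊤) →
      ∃ (α : MulAut L) (s : L), α * α = 1 ∧ R.o1 α = -1 ∧
        α s = s ∧ s * s = 1 ∧ s ≠ 1 ∧ ∀ K : Subgroup L, (∀ t, α t = t → Odd (orderOf t) → t ∈ K) →
          (∀ t, α t = s⁻¹ * t * s → Odd (orderOf t) → t ∈ K) → K = ⊤ := by
    intro g x htr hsq hgx hxx hB
    have hα : R.gl g * R.gl g = 1 := sq_of_trace R htr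
    have ho : R.o1 (R.gl g) = -1 := by
      rcases Int.units_eq_one_or (R.o1 (R.gl g)) with h | h
      · exact absurd (R.o1_gl_eq_one_iff.1 h) hsq
      · exact h
    have hs : R.gl g (R.π x) = R.π x := by rw [R.gl_apply, hgx, R.π_neg]
    have hss : R.π x * R.π x = 1 := by rw [← map_mul, hxx, R.ker]; exact Or.inr rfl
    have hs1 : R.π x ≠ 1 := by
      intro h
      rw [R.ker] at h
      have h1 : (1 : SL2) = -1 := by
        rcases h with h | h
        · rw [h, mul_one] at hxx
          exact hxx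
        · rw [h, neg_mul_neg, mul_one] at hxx
          exact hxx
      exact R.neg_one_ne_one h1.symm
    obtain ⟨H, W, hBig, hmin⟩ := exists_big R hα ho hs hss (R.conj_π x).symm
    have hH := hB H W hBig
    refine ⟨R.gl g, R.π x, hα, ho, hs, hss, hs1, fun K h1 h2 => ?_⟩
    rw [eq_top_iff, ← hH]
    exact hmin K h1 h2
  by_cases hsq : IsSquare (-1 : F)
  · obtain ⟨i, hi⟩ := hsq
    obtain ⟨c, hc⟩ := FiniteField.exists_nonsquare (F := F) (ringChar_ne_two h2)
    have hi0 : i ≠ 0 := by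
      rintro rfl
      rw [mul_zero] at hi
      exact one_ne_zero (neg_eq_zero.1 hi)
    have hc0 : c ≠ 0 := by
      rintro rfl
      exact hc ⟨0, by rw [mul_zero]⟩
    have hd : (!![0, c; 1, 0] : M2).det = -c := by
      rw [Matrix.det_fin_two_of]; ring
    have hd0 : (!![0, c; 1, 0] : M2).det ≠ 0 := by rw [hd]; exact neg_ne_zero.2 hc0
    refine key (toGL' _ hd0) (mk i 0 0 (-i) (by linear_combination hi)) ?_ ?_ ?_ ?_ ?_
    · rw [toGL'_val, Matrix.trace_fin_two_of, add_zero]
    · rw [toGL'_val, hd]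
      rintro ⟨a, ha⟩
      apply hc
      refine ⟨i * a, ?_⟩
      linear_combination (-1 : F) * ha + (a * a) * hi
    · apply conjGL_eq_of
      rw [toGL'_val]
      change !![0, c; 1, 0] * !![i, 0; 0, -i] = -!![i, 0; 0, -i] * !![0, c; 1, 0]
      apply mat_ext <;> rw [mat_mul, mat_mul] <;> simp
      ring
    · apply Subtype.ext
      change !![i, 0; 0, -i] * !![i, 0; 0, -i] = -(1 : M2)
      apply mat_ext <;> rw [mat_mul] <;> simp
      · rw [← hi]
      · rw [← hi]
    · intro H W hB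
      exact hB.top_ns (c := c) (i := i) hi.symm hc rfl rfl
  · have h6 : 6 ≤ Nat.card F := by
      rw [Nat.card_eq_fintype_card] at h5 ⊢
      have h7 : Fintype.card F % 4 = 3 := by
        by_contra hne
        exact hsq (FiniteField.isSquare_neg_one_iff.2 hne)
      omega
    have hd : (!![1, 0; 0, -1] : M2).det = -1 := by
      rw [Matrix.det_fin_two_of]; ring
    have hd0 : (!![1, 0; 0, -1] : M2).det ≠ 0 := by rw [hd]; exact neg_ne_zero.2 one_ne_zero
    refine key (toGL' _ hd0) (wm 1 one_ne_zero) ?_ ?_ ?_ ?_ ?_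
    · rw [toGL'_val, Matrix.trace_fin_two_of, add_neg_cancel]
    · rw [toGL'_val, hd]; exact hsq
    · apply conjGL_eq_of
      rw [toGL'_val]
      change !![1, 0; 0, -1] * !![0, 1; -1⁻¹, 0] = -!![0, 1; -1⁻¹, 0] * !![1, 0; 0, -1]
      apply mat_ext <;> rw [mat_mul, mat_mul] <;> simp
    · apply Subtype.ext
      change !![0, 1; -1⁻¹, 0] * !![0, 1; -1⁻¹, 0] = -(1 : M2)
      apply mat_ext <;> rw [mat_mul] <;> simp
    · intro H W hB
      refine hB.top_sp h6 rfl rfl ?_
      change !![0, 1; -1⁻¹, 0] = !![0, 1; -1, 0]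
      rw [inv_one]

/-- **the elements of odd order fixed by `α` or by `α s` generate `L`** -/
theorem gen (h5 : 4 < Nat.card F) {α : MulAut L} (h : α * α = 1) (ho : R.o1 α = -1) {s : L}
    (hs : α s = s) (hss : s * s = 1) (hs1 : s ≠ 1) (K : Subgroup L)
    (h1 : ∀ t, α t = t → Odd (orderOf t) → t ∈ K)
    (h2 : ∀ t, α t = s⁻¹ * t * s → Odd (orderOf t) → t ∈ K) : K = ⊤ := by
  have hLf := R.finite
  obtain ⟨α₀, s₀, k1, k2, k3, k4, k5, k6⟩ := exists_std R h5
  obtain ⟨hα, hαI⟩ := Cfsg.Agent.OddHalf.D6.PglType.pgl_of R h ho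
  obtain ⟨hα', hαI'⟩ := Cfsg.Agent.OddHalf.D6.PglType.pgl_of R k1 k2
  obtain ⟨y, hy⟩ := R.dtype_conj hα' hαI' k1 hα hαI h
  have hyα : ∀ t, α (y * t * y⁻¹) = y * α₀ t * y⁻¹ := by
    intro t
    rw [← hy]
    simp only [MulAut.mul_apply, MulAut.conj_apply, map_mul, map_inv, MulAut.conj_inv_apply]
    group
  obtain ⟨B, v, hB1, hB2, hB3, hB4, -, -, -⟩ := Cfsg.Agent.OddHalf.D6.PglType.fix_data R h ho
  obtain ⟨s₁, hs₁⟩ : ∃ s₁, s₁ = y * s₀ * y⁻¹ := ⟨_, rfl⟩
  have hs₁α : α s₁ = s₁ := by rw [hs₁, hyα, k3]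
  have hs₁s : s₁ * s₁ = 1 := by
    rw [hs₁]
    calc y * s₀ * y⁻¹ * (y * s₀ * y⁻¹) = y * (s₀ * s₀) * y⁻¹ := by group
      _ = 1 := by rw [k4]; group
  have hs₁1 : s₁ ≠ 1 := by
    intro h7
    apply k5
    have : s₀ = y⁻¹ * s₁ * y := by rw [hs₁]; group
    rw [this, h7]; group
  have hsB : s ∉ B := fun h7 => hs1 (hB2 s h7 hss)
  have hs₁B : s₁ ∉ B := fun h7 => hs₁1 (hB2 s₁ h7 hs₁s)
  obtain ⟨b, hb⟩ : ∃ b, b = s₁ * s := ⟨_, rfl⟩
  have hbB : b ∈ B := by rw [hb]; exact hB4 _ _ hs₁α hs hs₁B hsB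
  have hbα : α b = b := by rw [hb, map_mul, hs₁α, hs]
  have hbo : Odd (orderOf b) := by
    rw [← Nat.not_even_iff_odd]
    rintro ⟨n, hn⟩
    have hpos : 0 < orderOf b := orderOf_pos b
    have h7 : b ^ n = 1 := hB2 _ (B.pow_mem hbB n) (by rw [← pow_add, ← hn, pow_orderOf_eq_one])
    have h8 := Nat.le_of_dvd (by omega) (orderOf_dvd_of_pow_eq_one h7)
    omega
  obtain ⟨n, hn⟩ := hbo
  set c := b ^ (n + 1) with hc
  have hcc : c * c = b := by
    rw [hc, ← pow_add]
    have : n + 1 + (n + 1) = (2 * n + 1) + 1 := by ring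
    rw [this, ← hn, pow_succ, pow_orderOf_eq_one, one_mul]
  have hcα : α c = c := by rw [hc, map_pow, hbα]
  have hs₁i : s₁⁻¹ = s₁ := inv_eq_of_mul_eq_one_left hs₁s
  have hsi : s⁻¹ = s := inv_eq_of_mul_eq_one_left hss
  have hs₁b : s₁ * b * s₁⁻¹ = b⁻¹ := by
    rw [hb, mul_inv_rev, hs₁i, hsi]
    calc s₁ * (s₁ * s) * s₁ = (s₁ * s₁) * s * s₁ := by group
      _ = s * s₁ := by rw [hs₁s, one_mul]
  have hs₁c : s₁ * c * s₁⁻¹ = c⁻¹ := by
    rw [hc, ← conj_pow, hs₁b, inv_pow]
  have hcs : c⁻¹ * s₁ * c = s := by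
    have h7 : s₁ * b = s := by rw [hb, ← mul_assoc, hs₁s, one_mul]
    rw [← hs₁c, hs₁i]
    calc s₁ * c * s₁ * s₁ * c = s₁ * c * (s₁ * s₁) * c := by group
      _ = s₁ * (c * c) := by rw [hs₁s]; group
      _ = s := by rw [hcc, h7]
  -- the element `z = c⁻¹ y`
  have hz : ∀ t, α (c⁻¹ * y * t * (c⁻¹ * y)⁻¹) = c⁻¹ * y * α₀ t * (c⁻¹ * y)⁻¹ := by
    intro t
    have e : c⁻¹ * y * t * (c⁻¹ * y)⁻¹ = c⁻¹ * (y * t * y⁻¹) * c := by group
    rw [e, map_mul, map_mul, map_inv, hcα, hyα]
    group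
  have hzs : c⁻¹ * y * s₀ * (c⁻¹ * y)⁻¹ = s := by
    rw [← hcs, hs₁]; group
  have hK := k6 (K.comap (MulAut.conj (c⁻¹ * y)).toMonoidHom) (by
      intro t ht hto
      rw [mem_comap]
      change c⁻¹ * y * t * (c⁻¹ * y)⁻¹ ∈ K
      apply h1
      · rw [hz, ht]
      · have := orderOf_injective (MulAut.conj (c⁻¹ * y)).toMonoidHom (MulAut.conj (c⁻¹ * y)).injective t
        have e : (MulAut.conj (c⁻¹ * y)).toMonoidHom t = c⁻¹ * y * t * (c⁻¹ * y)⁻¹ := rfl
        rw [e] at this
        rw [this]; exact hto) (by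
      intro t ht hto
      rw [mem_comap]
      change c⁻¹ * y * t * (c⁻¹ * y)⁻¹ ∈ K
      apply h2
      · rw [hz, ht, ← hzs]; group
      · have := orderOf_injective (MulAut.conj (c⁻¹ * y)).toMonoidHom (MulAut.conj (c⁻¹ * y)).injective t
        have e : (MulAut.conj (c⁻¹ * y)).toMonoidHom t = c⁻¹ * y * t * (c⁻¹ * y)⁻¹ := rfl
        rw [e] at this
        rw [this]; exact hto)
  rw [eq_top_iff]
  intro x _
  have hx : (c⁻¹ * y)⁻¹ * x * (c⁻¹ * y) ∈ K.comap (MulAut.conj (c⁻¹ * y)).toMonoidHom := by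
    rw [hK]; trivial
  rw [mem_comap] at hx
  have e : (MulAut.conj (c⁻¹ * y)).toMonoidHom ((c⁻¹ * y)⁻¹ * x * (c⁻¹ * y)) = x := by
    change c⁻¹ * y * ((c⁻¹ * y)⁻¹ * x * (c⁻¹ * y)) * (c⁻¹ * y)⁻¹ = x
    group
  rwa [e] at hx

/-- `α s` is conjugate to `α` under `L` -/
theorem exists_pair {α : MulAut L} (h : α * α = 1) (ho : R.o1 α = -1) {s : L}
    (hs : α s = s) (hss : s * s = 1) :
    ∃ l : L, MulAut.conj l * α * (MulAut.conj l)⁻¹ = α * MulAut.conj s := by
  obtain ⟨hα, hαI⟩ := Cfsg.Agent.OddHalf.D6.PglType.pgl_of R h ho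
  have hc : α * MulAut.conj s = MulAut.conj s * α := by
    have := Cfsg.Agent.GH.L2Aut.Rep.conj_comm_iff (φ := α) (x := s)
    rw [hs] at this
    exact (this.2 rfl).symm
  have h1 : α * MulAut.conj s * (α * MulAut.conj s) = 1 := by
    calc α * MulAut.conj s * (α * MulAut.conj s) =
        α * (MulAut.conj s * α) * MulAut.conj s := by group
      _ = (α * α) * (MulAut.conj s * MulAut.conj s) := by rw [← hc]; group
      _ = 1 := by rw [h, ← map_mul, hss, map_one, mul_one]
  have h2 : R.o1 (α * MulAut.conj s) = -1 := by rw [map_mul, ho, R.o1_conj, mul_one]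
  obtain ⟨hβ, hβI⟩ := Cfsg.Agent.OddHalf.D6.PglType.pgl_of R h1 h2
  exact R.dtype_conj hα hαI h hβ hβI h1

end Cfsg.Agent.UGT.Res.Gen
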