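import Cfsg.Agent.UGT.Res.WEnd
import Cfsg.Agent.UGT.TriBase
import Cfsg.Agent.Involutions.BaerSuzuki

/-!
# The end of R4 from the hypothesis `VS`

`K ⊴ M ≤ G`, `lam : M → {±1}`, `x ∈ M` an involution with `lam x = -1`, every involution `x' ∈ M` with
`lam x' = -1` is conjugate in `M` to an element of `x K`, `C_K(x)` has even order, and

`VS`: if `t` is an involution of `C_K(x)`, `g t g⁻¹ ∈ C_M(x)`, `g⁻¹ x g ∈ M` with `lam = -1`, then `g ∈ M`.

Then `G` has a nontrivial homomorphism to `{±1}`.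
-/

set_option autoImplicit false

open Subgroup
open Cfsg.Agent.SignalizersComponents.IntrinsicBasic
open Cfsg.Agent.UGT.TriBase Cfsg.Agent.UGT.Triple
open Cfsg.Agent.Intrinsic.Basic

namespace Cfsg.Agent.UGT.Res.WEndVS

open Cfsg.Agent.UGT.Parity

variable {G : Type*} [Group G]

theorem conj_sq {a c : G} (h : a * a = 1) : c⁻¹ * a * c * (c⁻¹ * a * c) = 1 := by
  calc c⁻¹ * a * c * (c⁻¹ * a * c) = c⁻¹ * (a * a) * c := by group
    _ = 1 := by rw [h]; group

theorem isPGroup_zpowers {v : G} (h : v * v = 1) : IsPGroup 2 ↥(zpowers v) := by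
  rintro ⟨_, n, rfl⟩
  refine ⟨1, ?_⟩
  apply Subtype.ext
  change (v ^ n) ^ (2 ^ 1) = 1
  rw [pow_one, ← zpow_natCast, ← zpow_mul, mul_comm, zpow_mul, zpow_natCast, pow_two, h, one_zpow]

variable [Finite G]

/-- A maximal 2-subgroup `T` of `M ∩ C` with `N_C(T) ≤ M` is maximal in `C`. -/
theorem isSyl_of_normalizer {M C T : Subgroup G} (hT : IsSyl (M ⊓ C) T)
    (h : ∀ n ∈ C, n ∈ normalizer (T : Set G) → n ∈ M) : IsSyl C T := by
  have hp : Fact (Nat.Prime 2) := ⟨Nat.prime_two⟩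
  refine ⟨hT.two, hT.le.trans inf_le_right, fun R hR hRC hTR => ?_⟩
  by_contra hne
  obtain ⟨y, hyR, hyT, hyN⟩ := Cfsg.Agent.Involutions.BaerSuzuki.exists_mem_normalizer_of_lt hR
    (lt_of_le_of_ne hTR (Ne.symm hne))
  have hle : T ⊔ zpowers y ≤ M ⊓ C := by
    refine sup_le hT.le ?_
    rw [zpowers_le]
    exact ⟨h y (hRC hyR) hyN, hRC hyR⟩
  have h2 : IsPGroup 2 ↥(T ⊔ zpowers y : Subgroup G) :=
    hR.to_le (sup_le hTR (by rw [zpowers_le]; exact hyR))
  have h3 := hT.max _ h2 hle le_sup_left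
  apply hyT
  rw [← h3]
  exact mem_sup_right (mem_zpowers y)

/-- **The end of R4 from `VS`.** -/
theorem false_of (hG : NoSign G) {M K : Subgroup G} (hKM : K ≤ M)
    (hKn : M ≤ normalizer (K : Set G)) (lam : ↥M →* ℤˣ) {x : G} (hx : x ∈ M) (hxx : x * x = 1)
    (hlx : lam ⟨x, hx⟩ = -1)
    (conj : ∀ (x' : G) (hx' : x' ∈ M), x' * x' = 1 → lam ⟨x', hx'⟩ = -1 →
      ∃ m ∈ M, ∃ k ∈ K, m * x' * m⁻¹ = x * k)
    (h2 : 2 ∣ Nat.card ↥(K ⊓ centralizer ({x} : Set G) : Subgroup G))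
    (VS : ∀ g t : G, t ∈ K → t * t = 1 → t ≠ 1 → t * x = x * t → g * t * g⁻¹ ∈ M →
      g * t * g⁻¹ * x = x * (g * t * g⁻¹) → ∀ h : g⁻¹ * x * g ∈ M,
        lam ⟨g⁻¹ * x * g, h⟩ = -1 → g ∈ M) : False := by
  have hp : Fact (Nat.Prime 2) := ⟨Nat.prime_two⟩
  obtain ⟨T, hT, -⟩ := exists_isSyl (E := M ⊓ centralizer ({x} : Set G)) (R₀ := ⊥)
    IsPGroup.of_bot bot_le
  have hTM : T ≤ M := hT.le.trans inf_le_left
  have hTC : T ≤ centralizer ({x} : Set G) := hT.le.trans inf_le_right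
  -- an involution of `T ∩ K`
  have hKC : K ⊓ centralizer ({x} : Set G) ≤ M ⊓ centralizer ({x} : Set G) := inf_le_inf_right _ hKM
  have hKCn : M ⊓ centralizer ({x} : Set G) ≤
      normalizer ((K ⊓ centralizer ({x} : Set G) : Subgroup G) : Set G) := by
    rintro m ⟨hm1, hm2⟩
    rw [mem_normalizer_iff_cj, cj_inf, mem_normalizer_iff_cj.mp (hKn hm1), cj_eq_self_of_mem hm2]
  have hTK := hT.inf hKC hKCn
  obtain ⟨f, hfTK, hf2⟩ : ∃ f ∈ T ⊓ (K ⊓ centralizer ({x} : Set G)), orderOf f = 2 := by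
    have h3 : 2 ∣ Nat.card ↥(T ⊓ (K ⊓ centralizer ({x} : Set G)) : Subgroup G) := by
      have := hTK.dvd_card (k := 1) (by rw [pow_one]; exact h2)
      rwa [pow_one] at this
    obtain ⟨f, hf⟩ := exists_prime_orderOf_dvd_card' 2 h3
    exact ⟨f, f.2, by rw [Subgroup.orderOf_coe]; exact hf⟩
  have hff := sq_of_order hf2
  have hf1 := ne_one_of_order hf2
  have hxinv : x⁻¹ = x := inv_eq_of_mul_eq_one_left hxx
  -- (3)
  have h3 : ∀ n ∈ centralizer ({x} : Set G), n ∈ normalizer (T : Set G) → n ∈ M := by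
    intro n hn hnT
    have hnx := comm_c hn
    have h4 : n * f * n⁻¹ ∈ T := (mem_normalizer_iff.mp hnT f).mp hfTK.1
    have h5 : n⁻¹ * x * n = x := by
      calc n⁻¹ * x * n = n⁻¹ * (x * n) := by group
        _ = n⁻¹ * (n * x) := by rw [hnx]
        _ = x := by group
    have h6 : n⁻¹ * x * n ∈ M := by rw [h5]; exact hx
    refine VS n f hfTK.2.1 hff hf1 (comm_c hfTK.2.2) (hTM h4) (comm_c (hTC h4)) h6 ?_
    rw [← hlx]
    exact congrArg lam (Subtype.ext h5)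
  have hTs : IsSyl (centralizer ({x} : Set G)) T := isSyl_of_normalizer hT h3
  -- `c ∈ C(x)` with `c⁻¹ T c ≤ M`
  have key : ∀ c ∈ centralizer ({x} : Set G), (∀ t ∈ T, c⁻¹ * t * c ∈ M) → c ∈ M := by
    intro c hc hcT
    have h4 : cj c⁻¹ T ≤ M ⊓ centralizer ({x} : Set G) := by
      intro z hz
      rw [mem_cj, inv_inv] at hz
      refine ⟨?_, ?_⟩
      · have h5 := hcT _ hz
        have h6 : c⁻¹ * (c * z * c⁻¹) * c = z := by group
        rwa [h6] at h5
      · have h5 := mul_mem (mul_mem (inv_mem hc) (hTC hz)) hc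
        have h6 : c⁻¹ * (c * z * c⁻¹) * c = z := by group
        rwa [h6] at h5
    obtain ⟨c', hc', h5⟩ := hT.conj (isPGroup_cj hT.two) h4
    have h6 : cj (c'⁻¹ * c⁻¹) T ≤ T := by
      have h7 := cj_mono (g := c'⁻¹) h5
      rwa [← cj_mul, cj_inv_cj] at h7
    have h7 : cj (c'⁻¹ * c⁻¹) T = T := Subgroup.eq_of_le_of_card_ge h6 (by rw [card_cj])
    have h8 := h3 _ (mul_mem (inv_mem hc'.2) (inv_mem hc)) (mem_normalizer_iff_cj.mpr h7)
    have h9 := M.inv_mem (mul_mem hc'.1 h8)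
    have h10 : (c' * (c'⁻¹ * c⁻¹))⁻¹ = c := by group
    rwa [h10] at h9
  refine WEnd.false_of hG M lam T hx hxx hlx hT.two hTC hTM fun g hgT hgx hlg => ?_
  -- it suffices that `g = c m`, `c ∈ C(x)`, `m ∈ M`
  have fin : ∀ c ∈ centralizer ({x} : Set G), ∀ m ∈ M, g = c * m → g ∈ M := by
    intro c hc m hm hgcm
    have h4 : c ∈ M := by
      refine key c hc fun t ht => ?_
      have h5 := mul_mem (mul_mem hm (hgT t ht)) (inv_mem hm)
      have h6 : m * (g⁻¹ * t * g) * m⁻¹ = c⁻¹ * t * c := by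
        rw [hgcm]
        group
      rwa [h6] at h5
    rw [hgcm]
    exact mul_mem h4 hm
  obtain ⟨m, hm, k, hk, hmk⟩ := conj _ hgx (conj_sq hxx) hlg
  have hkM := hKM hk
  -- `g m⁻¹`
  obtain ⟨a, ha⟩ : ∃ a, a = g * m⁻¹ := ⟨_, rfl⟩
  have hax : a⁻¹ * x * a = x * k := by
    rw [← hmk, ha]
    group
  have hxk : x * k * (x * k) = 1 := by
    rw [← hax]
    exact conj_sq hxx
  have hxkx : x * k * x = k⁻¹ := by
    have h4 : x * k * x * k = 1 := by rw [← hxk]; group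
    exact eq_inv_of_mul_eq_one_left h4
  have hpow : ∀ n : ℕ, x * k ^ n * x = (k ^ n)⁻¹ := by
    intro n
    have h4 : (x * k * x⁻¹) ^ n = x * k ^ n * x⁻¹ := conj_pow
    rw [hxinv, hxkx] at h4
    rw [← h4, inv_pow]
  rcases Nat.even_or_odd (orderOf k) with hev | ⟨j, hj⟩
  · -- `|k|` even
    obtain ⟨n, hn⟩ := hev
    have hn0 : 0 < n := by
      have := orderOf_pos k
      omega
    obtain ⟨t, ht⟩ : ∃ t, t = k ^ n := ⟨_, rfl⟩
    have htt : t * t = 1 := by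
      rw [ht, ← pow_add, ← hn, pow_orderOf_eq_one]
    have ht1 : t ≠ 1 := by
      rw [ht]
      intro h4
      have h5 := orderOf_dvd_of_pow_eq_one h4
      have h6 := Nat.le_of_dvd hn0 h5
      omega
    have htx : t * x = x * t := by
      have h4 := hpow n
      rw [← ht] at h4
      have h5 : t⁻¹ = t := inv_eq_of_mul_eq_one_left htt
      rw [h5] at h4
      calc t * x = x * t * x * x := by rw [h4]
        _ = x * t * (x * x) := by group
        _ = x * t := by rw [hxx, mul_one]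
    have htk : t * k = k * t := by
      rw [ht, ← pow_succ, ← pow_succ']
    have htxk : t * (x * k) = x * k * t := by
      rw [← mul_assoc, htx, mul_assoc, htk, mul_assoc]
    obtain ⟨v, hv⟩ : ∃ v, v = a * t * a⁻¹ := ⟨_, rfl⟩
    have hvv : v * v = 1 := by
      rw [hv]
      calc a * t * a⁻¹ * (a * t * a⁻¹) = a * (t * t) * a⁻¹ := by group
        _ = 1 := by rw [htt]; group
    have hvx : v * x = x * v := by
      have h4 : x = a * (x * k) * a⁻¹ := by rw [← hax]; group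
      have h5 : v * x = a * (t * (x * k)) * a⁻¹ := by
        calc v * x = v * (a * (x * k) * a⁻¹) := by rw [← h4]
          _ = a * (t * (x * k)) * a⁻¹ := by rw [hv]; group
      have h6 : x * v = a * (x * k * t) * a⁻¹ := by
        calc x * v = (a * (x * k) * a⁻¹) * v := by rw [← h4]
          _ = a * (x * k * t) * a⁻¹ := by rw [hv]; group
      rw [h5, h6, htxk]
    obtain ⟨c, hc, hvc⟩ := hTs.conj (isPGroup_zpowers hvv) (by
      rw [zpowers_le]
      exact mem_c hvx)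
    rw [zpowers_le, mem_cj] at hvc
    have hcx := comm_c hc
    have h4 : (c⁻¹ * a) * t * (c⁻¹ * a)⁻¹ = c⁻¹ * v * c := by
      rw [hv]
      group
    have h5 : (c⁻¹ * a)⁻¹ * x * (c⁻¹ * a) = x * k := by
      rw [← hax]
      calc (c⁻¹ * a)⁻¹ * x * (c⁻¹ * a) = a⁻¹ * (c * x * c⁻¹) * a := by group
        _ = a⁻¹ * x * a := by rw [hcx]; group
    have h6 : (c⁻¹ * a)⁻¹ * x * (c⁻¹ * a) ∈ M := by
      rw [h5]
      exact mul_mem hx hkM
    have h7 : c⁻¹ * a ∈ M := by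
      refine VS (c⁻¹ * a) t (ht ▸ pow_mem hk n) htt ht1 htx (by rw [h4]; exact hTM hvc)
        (by rw [h4]; exact comm_c (hTC hvc)) h6 ?_
      have h8 : (⟨(c⁻¹ * a)⁻¹ * x * (c⁻¹ * a), h6⟩ : ↥M) =
          ⟨m, hm⟩ * ⟨g⁻¹ * x * g, hgx⟩ * (⟨m, hm⟩)⁻¹ := by
        apply Subtype.ext
        change (c⁻¹ * a)⁻¹ * x * (c⁻¹ * a) = m * (g⁻¹ * x * g) * m⁻¹
        rw [h5, hmk]
      rw [h8, map_mul, map_mul, map_inv, mul_comm (lam ⟨m, hm⟩), mul_assoc, mul_inv_cancel,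
        mul_one, hlg]
    refine fin c hc (c⁻¹ * a * m) (mul_mem h7 hm) ?_
    rw [ha]
    group
  · -- `|k|` odd
    obtain ⟨d, hd⟩ : ∃ d, d = k ^ (j + 1) := ⟨_, rfl⟩
    have hdK : d ∈ M := hd ▸ pow_mem hkM _
    have hdd : d * d = k := by
      rw [hd, ← pow_add, show j + 1 + (j + 1) = (2 * j + 1) + 1 by ring, pow_succ, ← hj,
        pow_orderOf_eq_one, one_mul]
    have hxdx : x * d * x = d⁻¹ := hd ▸ hpow (j + 1)
    have h4 : d * (x * k) * d⁻¹ = x := by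
      have h5 : x * d⁻¹ = d * x := by
        rw [← hxdx]
        calc x * (x * d * x) = (x * x) * (d * x) := by group
          _ = d * x := by rw [hxx, one_mul]
      calc d * (x * k) * d⁻¹ = d * x * (d * d) * d⁻¹ := by rw [hdd]; group
        _ = x * d⁻¹ * (d * d) * d⁻¹ := by rw [h5]
        _ = x := by group
    have h5 : (a * d⁻¹) * x = x * (a * d⁻¹) := by
      have h6 : (a * d⁻¹)⁻¹ * x * (a * d⁻¹) = x := by
        calc (a * d⁻¹)⁻¹ * x * (a * d⁻¹) = d * (a⁻¹ * x * a) * d⁻¹ := by group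
          _ = x := by rw [hax, h4]
      calc (a * d⁻¹) * x = (a * d⁻¹) * ((a * d⁻¹)⁻¹ * x * (a * d⁻¹)) := by rw [h6]
        _ = x * (a * d⁻¹) := by group
    refine fin (a * d⁻¹) (mem_c h5) (d * m) (mul_mem hdK hm) ?_
    rw [ha]
    group

end Cfsg.Agent.UGT.Res.WEndVS
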