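import Cfsg.Agent.UGT.Res.BBS
import Cfsg.Agent.UGT.Res.WEndVS
import Cfsg.Agent.UGT.Res.Gen
import Cfsg.Agent.UGT.TT.PGLSolv

/-!
# Systems of bad pairs: commuting bad involutions, and the case without pairs in a simple group

`S : BBS BB`.

* `cb`: commuting bad involutions have the same component.
* `comm_of_pt`: if `x` acts on the conjugate `L₁ ≠ L` of its component `L` as a bad involution of `L₁`, then
  `[L₁, L] = 1`.
* `false_of_unpaired`: if that does not happen, `G` has a nontrivial homomorphism to `{±1}`.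
-/

set_option autoImplicit false
set_option linter.dupNamespace false

open Cfsg Subgroup
open Cfsg.Agent.SignalizersComponents Cfsg.Agent.Lib
open Cfsg.Agent.SignalizersComponents.IntrinsicBasic
open Cfsg.Agent.Intrinsic.Basic
open Cfsg.Agent.GH.L2Aut Cfsg.Agent.OddHalf.D6
open Cfsg.Agent.UGT.Triple
open Cfsg.Agent.UGT.Res.EFacts Cfsg.Agent.UGT.Res.BBS
open Cfsg.Agent.UGT.ThE.Base (IsT IsS)

namespace Cfsg.Agent.UGT.Res.COneIn

universe u

section facts

variable {G : Type u} [Group G] {L : Subgroup G} {x : G}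
variable {F : Type*} [Field F] [Finite F] (R : Cfsg.Agent.GH.L2Aut.Rep F L)

/-- `x s` is conjugate to `x` under `L` -/
theorem exists_pair (C : Cf R x) {s : G} (hs : IsS L x s) : ∃ l ∈ L, l * x * l⁻¹ = x * s := by
  obtain ⟨⟨l, hl⟩, h⟩ := Gen.exists_pair R C.sq (C.o1 C.xN) (s := ⟨s, hs.mem⟩)
    ((act_fix C.xN hs.mem).mpr hs.comm) (Subtype.ext hs.sq)
  have hlN := le_normalizer hl
  have hsN := le_normalizer hs.mem
  have h1 : act L (l * x * l⁻¹) (mul_mem (mul_mem hlN C.xN) (inv_mem hlN)) =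
      act L (x * s) (mul_mem C.xN hsN) := by
    rw [← act_mul (mul_mem hlN C.xN) (inv_mem hlN), ← act_mul hlN C.xN, act_inv hlN,
      ← act_mul C.xN hsN, act_of_mem hl, act_of_mem hs.mem]
    exact h
  refine ⟨l, hl, ?_⟩
  have h2 : (l * x * l⁻¹) * (x * s)⁻¹ ∈ centralizer (L : Set G) := by
    rw [← act_one_iff' (mul_mem (mul_mem (mul_mem hlN C.xN) (inv_mem hlN))
      (inv_mem (mul_mem C.xN hsN))), ← act_mul (mul_mem (mul_mem hlN C.xN) (inv_mem hlN))
      (inv_mem (mul_mem C.xN hsN)), act_inv (mul_mem C.xN hsN), h1, mul_inv_cancel]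
  have h3 : (l * x * l⁻¹) * (x * s)⁻¹ ∈ L := by
    have h4 : x * (l⁻¹ * s⁻¹) * x⁻¹ ∈ L :=
      (mem_normalizer_iff.mp C.xN _).mp (mul_mem (inv_mem hl) (inv_mem hs.mem))
    have h5 : (l * x * l⁻¹) * (x * s)⁻¹ = l * (x * (l⁻¹ * s⁻¹) * x⁻¹) := by group
    rw [h5]
    exact mul_mem hl h4
  exact mul_inv_eq_one.mp (eq_one_of_mem_centralizer R h3 h2)

/-- a perfect group of automorphisms of `L` commuting with `x` is trivial -/
theorem perf_cen (C : Cf R x) {P : Subgroup G} (hP : P ≤ ⁅P, P⁆) (hN : P ≤ normalizer (L : Set G))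
    (hx : ∀ p ∈ P, p * x = x * p) : P ≤ centralizer (L : Set G) := by
  obtain ⟨θ, hθ⟩ : ∃ θ : ↥P →* MulAut L, ∀ p : ↥P, θ p = act L (p : G) (hN p.2) :=
    ⟨{ toFun := fun p => act L (p : G) (hN p.2)
       map_one' := by
         rw [act_one_iff]
         intro l _
         rw [Subgroup.coe_one, one_mul, mul_one]
       map_mul' := fun a b => (act_mul _ _).symm }, fun _ => rfl⟩
  obtain ⟨J, hJ⟩ : ∃ J, J = (⊤ : Subgroup ↥P).map θ := ⟨_, rfl⟩
  have h1 : (⊤ : Subgroup ↥P) ≤ ⁅(⊤ : Subgroup ↥P), (⊤ : Subgroup ↥P)⁆ := by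
    have h2 : (⊤ : Subgroup ↥P).map P.subtype ≤
        (⁅(⊤ : Subgroup ↥P), (⊤ : Subgroup ↥P)⁆).map P.subtype := by
      rw [map_commutator, ← MonoidHom.range_eq_map, P.range_subtype]
      exact hP
    exact (map_le_map_iff_of_injective P.subtype_injective).mp h2
  have h2 : J ≤ ⁅J, J⁆ := by
    rw [hJ, ← map_commutator]
    exact map_mono h1
  have h3 : J = ⊥ := by
    refine TT.PGLSolv.solv R (PglType.pgl_of R C.sq (C.o1 C.xN)).1 C.sq
      (PglType.ne_one R (C.o1 C.xN)) h2 ?_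
    rw [hJ]
    rintro _ ⟨p, -, rfl⟩
    rw [hθ]
    exact act_comm' _ _ (hx p p.2)
  intro p hp
  have h4 : θ ⟨p, hp⟩ ∈ J := hJ ▸ ⟨_, mem_top _, rfl⟩
  rw [h3, mem_bot, hθ] at h4
  exact (act_one_iff' _).mp h4

theorem perfect_self (R : Cfsg.Agent.GH.L2Aut.Rep F L) (hF : 3 < Nat.card F) : L ≤ ⁅L, L⁆ := by
  have hs := TT.PGLSolv.isSimple R hF
  have h1 := TT.PGLSolv.top_le_commutator (TT.PGLSolv.nab R)
  have h2 := map_mono (f := L.subtype) h1
  rwa [map_commutator, ← MonoidHom.range_eq_map, L.range_subtype] at h2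

/-- `core L = 1` -/
theorem core_self (R : Cfsg.Agent.GH.L2Aut.Rep F L) : core L = ⊥ := by
  have : Finite L := R.finite
  have h1 : (oddCore ↥L) = ⊥ :=
    PGLFacts.no_odd_normal R (Lib.Cores.pPrimeCore_normal 2)
      (Nat.coprime_two_right.mp (Lib.Cores.pPrimeCore_coprime (G := ↥L) 2))
  change (oddCore ↥L).map L.subtype = ⊥
  rw [h1, Subgroup.map_bot]

/-- If `L₁ ≤ N(L)` is a conjugate of `L` and does not centralize `L`, every element of `N(L)` commuting with `L₁`
centralizes `L`. -/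
theorem cen_of_conj (R : Cfsg.Agent.GH.L2Aut.Rep F L) (hF : 3 < Nat.card F) {g : G}
    (hN : cj g L ≤ normalizer (L : Set G)) (hc : ¬ cj g L ≤ centralizer (L : Set G)) {q : G}
    (hq : q ∈ normalizer (L : Set G)) (hqL : q ∈ centralizer ((cj g L : Subgroup G) : Set G)) :
    q ∈ centralizer (L : Set G) := by
  have hfin : Finite L := R.finite
  have hs := TT.PGLSolv.isSimple R hF
  have hgN : ∀ l ∈ L, g * l * g⁻¹ ∈ normalizer (L : Set G) := fun l hl => hN (conj_mem_cj hl)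
  obtain ⟨θ, hθ⟩ : ∃ θ : ↥L →* MulAut L, ∀ l : ↥L, θ l = act L (g * (l : G) * g⁻¹) (hgN l l.2) :=
    ⟨{ toFun := fun l => act L (g * (l : G) * g⁻¹) (hgN l l.2)
       map_one' := by
         rw [act_one_iff]
         intro l _
         rw [Subgroup.coe_one, mul_one, mul_inv_cancel, one_mul, mul_one]
       map_mul' := fun a b => by
         rw [act_mul]
         apply act_congr
         rw [Subgroup.coe_mul]
         group }, fun _ => rfl⟩
  -- `θ` is injective
  have hinj : Function.Injective θ := by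
    rw [← MonoidHom.ker_eq_bot_iff]
    rcases (MonoidHom.normal_ker θ).eq_bot_or_eq_top with h1 | h1
    · exact h1
    · exfalso
      apply hc
      rintro _ ⟨l, hl, rfl⟩
      have h2 : (⟨l, hl⟩ : ↥L) ∈ θ.ker := by rw [h1]; exact mem_top _
      rw [MonoidHom.mem_ker, hθ] at h2
      exact (act_one_iff' _).mp h2
  -- its image consists of inner automorphisms
  have hin : ∀ l, ∃ m : ↥L, MulAut.conj m = θ l := by
    intro l
    obtain ⟨l', hl', h1⟩ := perf R hF g hgN l l.2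
    refine ⟨⟨l', hl'⟩⁻¹, ?_⟩
    have h2 := (act_one_iff' (mul_mem (hgN l l.2) (le_normalizer hl'))).mpr h1
    rw [← act_mul (hgN l l.2) (le_normalizer hl'), act_of_mem hl', ← hθ] at h2
    rw [map_inv]
    exact (eq_inv_of_mul_eq_one_left h2).symm
  choose f hf using hin
  have hfi : Function.Injective f := by
    intro a b hab
    apply hinj
    rw [← hf a, ← hf b, hab]
  have hfs : Function.Surjective f := Finite.injective_iff_surjective.mp hfi
  rw [← act_one_iff' hq]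
  refine MulEquiv.ext fun m => ?_
  obtain ⟨l, rfl⟩ := hfs m
  have h3 : act L q hq * θ l = θ l * act L q hq := by
    rw [hθ]
    refine act_comm' _ _ ?_
    exact (mem_centralizer_iff.mp hqL _ (conj_mem_cj l.2)).symm
  rw [← hf l] at h3
  have h4 := (Cfsg.Agent.GH.L2Aut.Rep.conj_comm_iff (φ := act L q hq) (x := f l)).mp h3.symm
  exact R.conj_injective h4

end facts

section cb

variable {G : Type u} [Group G] [Finite G] {BB : G → Subgroup G → Prop} {L L' : Subgroup G} {x x' : G}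

theorem xx (S : BBS BB) (h : BB x L) : x * x = 1 := sq_of_order (S.ox h)

theorem xne (S : BBS BB) (h : BB x L) : x ≠ 1 := ne_one_of_order (S.ox h)

theorem bb_cj_mem (S : BBS BB) (h : BB x L) {l : G} (hl : l ∈ normalizer (L : Set G)) :
    BB (l * x * l⁻¹) L := by
  have h1 := S.conj l h
  rwa [mem_normalizer_iff_cj.mp hl] at h1

theorem bb_mul_s (S : BBS BB) (h : BB x L) {s : G} (hs : IsS L x s) : BB (x * s) L := by
  obtain ⟨F, _, _, h5, ⟨R⟩⟩ := S.rep h
  obtain ⟨l, hl, h1⟩ := exists_pair R (S.cf h R) hs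
  rw [← h1]
  exact bb_cj_mem S h (le_normalizer hl)

theorem xN (S : BBS BB) (h : BB x L) : x ∈ normalizer (L : Set G) := S.hx h rfl

/-- `x'` acts on `L` as `x` -/
theorem eq_of_act (S : BBS BB) (h : BB x L) (h' : BB x' L') (hc : x * x' = x' * x)
    (hk : x' * x ∈ centralizer (L : Set G)) : L = L' := by
  have hxx := xx S h
  by_cases hne : x * x' = 1
  · have h1 : x = x' := by rw [eq_inv_of_mul_eq_one_left hne, inv_eq_of_mul_eq_one_left (xx S h')]
    subst h1
    exact S.uniq h h'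
  · have h1 : IsT L x (x * x') := by
      refine ⟨hc ▸ hk, ?_, ?_, hne⟩
      · rw [mul_assoc, ← hc]
      · calc x * x' * (x * x') = x * (x' * x) * x' := by group
          _ = (x * x) * (x' * x') := by rw [← hc]; group
          _ = 1 := by rw [hxx, xx S h', one_mul]
    have h2 := S.mul h h1
    rw [← mul_assoc, hxx, one_mul] at h2
    exact S.uniq h2 h'

omit [Finite G] in
theorem comm_of_act {s : G} (hs : s ∈ L) (hss : s * s = 1)
    (hk : x' * s ∈ centralizer (L : Set G)) : x' * s = s * x' := by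
  have h1 := mem_centralizer_iff.mp hk s hs
  have h2 : s * (x' * s) = x' := by rw [h1, mul_assoc, hss, mul_one]
  calc x' * s = (s * s) * (x' * s) := by rw [hss, one_mul]
    _ = s * (s * (x' * s)) := by group
    _ = s * x' := by rw [h2]

/-- the action of `x'` on `L` -/
theorem act_cases (S : BBS BB) (h : BB x L) (h' : BB x' L') (hc : x * x' = x' * x) (hne : L ≠ L') :
    x' ∈ centralizer (L : Set G) ∨ ∃ s, IsS L x s ∧ x' * s ∈ centralizer (L : Set G) := by
  obtain ⟨F, _, _, h5, ⟨R⟩⟩ := S.rep h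
  have C := S.cf h R
  rcases C.cenx x' (S.hx h hc.symm) (xx S h') (by
      have : x' * x * x'⁻¹ * x⁻¹ = 1 := by rw [← hc]; group
      rw [this]
      exact one_mem _) with h1 | h1 | ⟨s, hs, h1 | h1⟩
  · exact Or.inl h1
  · exact absurd (eq_of_act S h h' hc h1) hne
  · exact Or.inr ⟨s, hs, h1⟩
  · exfalso
    apply hne
    have hxs : x * s * (x * s) = 1 := by
      calc x * s * (x * s) = x * (s * x) * s := by group
        _ = (x * x) * (s * s) := by rw [hs.comm]; group
        _ = 1 := by rw [xx S h, hs.sq, one_mul]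
    -- `x'` commutes with `s`
    have h2 : x' * s = s * x' := by
      obtain ⟨k, hk⟩ : ∃ k, k = x' * x * s := ⟨_, rfl⟩
      rw [← hk] at h1
      have h3 := mem_centralizer_iff.mp h1 s hs.mem
      have h4 : x' = k * (x * s) := by
        calc x' = x' * (x * s * (x * s)) := by rw [hxs, mul_one]
          _ = (x' * x * s) * (x * s) := by group
          _ = k * (x * s) := by rw [hk]
      calc x' * s = k * (x * s) * s := by rw [h4]
        _ = k * ((x * s) * s) := by group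
        _ = k * ((s * x) * s) := by rw [hs.comm]
        _ = (k * s) * (x * s) := by group
        _ = (s * k) * (x * s) := by rw [h3]
        _ = s * (k * (x * s)) := by group
        _ = s * x' := by rw [← h4]
    refine eq_of_act S (bb_mul_s S h hs) h' ?_ (by rwa [← mul_assoc])
    calc x * s * x' = x * (x' * s) := by rw [h2]; group
      _ = x' * x * s := by rw [← mul_assoc, hc]
      _ = x' * (x * s) := by group

/-- both act trivially on the other component -/
theorem cb_zero (S : BBS BB) (h : BB x L) (h' : BB x' L') (hc : x * x' = x' * x)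
    (h1 : x ∈ centralizer (L' : Set G)) (h2 : x' ∈ centralizer (L : Set G)) : L = L' := by
  have h3 := S.mul h ⟨h2, hc.symm, xx S h', xne S h'⟩
  have h4 := S.mul h' ⟨h1, hc, xx S h, xne S h⟩
  rw [← hc] at h4
  exact S.uniq h3 h4

theorem perfect (S : BBS BB) (h : BB x L) : L ≤ ⁅L, L⁆ := by
  obtain ⟨F, _, _, h5, ⟨R⟩⟩ := S.rep h
  exact perfect_self R (by omega)

theorem perfCen (S : BBS BB) (h : BB x L) {P : Subgroup G} (hP : P ≤ ⁅P, P⁆)
    (hx : ∀ p ∈ P, p * x = x * p) : P ≤ centralizer (L : Set G) := by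
  obtain ⟨F, _, _, h5, ⟨R⟩⟩ := S.rep h
  exact perf_cen R (S.cf h R) hP (fun p hp => S.hx h (hx p hp)) hx

/-- `x` acts trivially on `L'` -/
theorem cb_one (S : BBS BB) (h : BB x L) (h' : BB x' L') (hc : x * x' = x' * x)
    (h1 : x ∈ centralizer (L' : Set G)) : L = L' := by
  by_contra hne
  have hL : L' ≤ centralizer (L : Set G) :=
    perfCen S h (perfect S h') fun p hp => mem_centralizer_iff.mp h1 p hp
  rcases act_cases S h h' hc hne with h2 | ⟨s, hs, h2⟩
  · exact hne (cb_zero S h h' hc h1 h2)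
  · have h3 := comm_of_act hs.mem hs.sq h2
    have hsc : s ∈ centralizer (L' : Set G) := by
      rw [mem_centralizer_iff]
      intro l hl
      exact (mem_centralizer_iff.mp (hL hl) s hs.mem).symm
    have h4 := S.mul h' ⟨hsc, h3.symm, hs.sq, hs.ne⟩
    refine hne (cb_zero S h h4 ?_ h1 h2)
    calc x * (x' * s) = x' * (x * s) := by rw [← mul_assoc, hc, mul_assoc]
      _ = x' * s * x := by rw [← hs.comm, mul_assoc]

/-- **commuting bad involutions have the same component** -/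
theorem cb (S : BBS BB) (h : BB x L) (h' : BB x' L') (hc : x * x' = x' * x) : L = L' := by
  by_contra hne
  rcases act_cases S h h' hc hne with h1 | ⟨s, hs, h1⟩
  · exact hne (cb_one S h' h hc.symm h1).symm
  rcases act_cases S h' h hc.symm (Ne.symm hne) with h2 | ⟨s', hs', h2⟩
  · exact hne (cb_one S h h' hc h2)
  have h'' := bb_mul_s S h' hs'
  have hxs' := comm_of_act hs'.mem hs'.sq h2
  have hc'' : x * (x' * s') = x' * s' * x := by
    calc x * (x' * s') = x' * (x * s') := by rw [← mul_assoc, hc, mul_assoc]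
      _ = x' * s' * x := by rw [hxs', mul_assoc]
  have hs'L : s' ∈ normalizer (L : Set G) := S.hx h hxs'.symm
  have hs'c : s' ∈ centralizer (L : Set G) := by
    rcases act_cases S h h'' hc'' hne with h3 | ⟨r, hr, h3⟩
    · exact absurd (cb_one S h'' h hc''.symm h3).symm hne
    · obtain ⟨F, _, _, h5, ⟨R⟩⟩ := S.rep h
      have C := S.cf h R
      have hx'N := S.hx h hc.symm
      have hsN := le_normalizer hs.mem
      have hrN := le_normalizer hr.mem
      -- the actions on `L`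
      have a1 : act L x' hx'N = MulAut.conj (⟨s, hs.mem⟩ : ↥L) := by
        have h4 := (act_one_iff' (mul_mem hx'N hsN)).mpr h1
        rw [← act_mul hx'N hsN, act_of_mem hs.mem] at h4
        rw [eq_inv_of_mul_eq_one_left h4, ← map_inv]
        congr 1
        exact Subtype.ext (inv_eq_of_mul_eq_one_left hs.sq)
      have a2 : act L x' hx'N * act L s' hs'L = MulAut.conj (⟨r, hr.mem⟩ : ↥L) := by
        have h4 := (act_one_iff' (mul_mem (mul_mem hx'N hs'L) hrN)).mpr h3
        rw [← act_mul (mul_mem hx'N hs'L) hrN, ← act_mul hx'N hs'L, act_of_mem hr.mem] at h4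
        rw [eq_inv_of_mul_eq_one_left h4, ← map_inv]
        congr 1
        exact Subtype.ext (inv_eq_of_mul_eq_one_left hr.sq)
      have a3 : act L x' hx'N * act L s' hs'L = act L s' hs'L * act L x' hx'N :=
        act_comm' _ _ hs'.comm.symm
      -- `s` and `r` commute
      have h6 : MulAut.conj (⟨s, hs.mem⟩ : ↥L) * MulAut.conj (⟨r, hr.mem⟩ : ↥L) =
          MulAut.conj (⟨r, hr.mem⟩ : ↥L) * MulAut.conj (⟨s, hs.mem⟩ : ↥L) := by
        rw [← a2, ← a1, mul_assoc, a3, ← mul_assoc]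
      have h7 : (⟨s, hs.mem⟩ : ↥L) * ⟨r, hr.mem⟩ = ⟨r, hr.mem⟩ * ⟨s, hs.mem⟩ := by
        rw [← map_mul, ← map_mul] at h6
        exact R.conj_injective h6
      have h8 : s = r := C.comm s r hs hr (congrArg Subtype.val h7)
      subst h8
      rw [← act_one_iff' hs'L]
      rw [← a1] at a2
      exact mul_eq_left.mp a2
  have h3 := S.mul h ⟨hs'c, hxs'.symm, hs'.sq, hs'.ne⟩
  refine hne (cb_one S h3 h' ?_ h2)
  calc x * s' * x' = x * (x' * s') := by rw [mul_assoc, hs'.comm]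
    _ = x' * (x * s') := by rw [← mul_assoc, hc, mul_assoc]

/-! ### `x` and the conjugates of its component -/

/-- `x` acts on `L'` as a bad involution of `L'` -/
def PT (BB : G → Subgroup G → Prop) (x : G) (L' : Subgroup G) : Prop :=
  ∃ x₁, BB x₁ L' ∧ x₁ * x ∈ centralizer (L' : Set G)

theorem PT.mem (S : BBS BB) (h : PT BB x L') : x ∈ normalizer (L' : Set G) := by
  obtain ⟨x₁, h1, h2⟩ := h
  have h3 : x = x₁ * (x₁ * x) := by rw [← mul_assoc, xx S h1, one_mul]
  rw [h3]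
  exact mul_mem (xN S h1) (ThE.Base.K_le_M h2)

theorem PT.cf (S : BBS BB) (h : PT BB x L') (hxx : x * x = 1) {F : Type} [Field F] [Finite F]
    (R : Cfsg.Agent.GH.L2Aut.Rep F ↥L') : Cf R x := by
  have hN := h.mem S
  obtain ⟨x₁, h1, h2⟩ := h
  have C := S.cf h1 R
  refine ⟨hxx, hN, fun h3 => ?_⟩
  have h4 := (act_one_iff' (mul_mem C.xN h3)).mpr h2
  rw [← act_mul C.xN h3] at h4
  have h5 := congrArg R.o1 h4
  rw [map_mul, C.o1, map_one] at h5
  have h6 := eq_inv_of_mul_eq_one_right h5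
  rw [h6]
  rfl

/-- the elements of odd order of `C(x)` and of `C(x s)` in `L'` generate `L'` -/
theorem gen_le (S : BBS BB) (h : PT BB x L') (hxx : x * x = 1) {s : G} (hs : IsS L' x s)
    {M : Subgroup G} (h1 : ∀ c ∈ L', c * x = x * c → c ∈ M)
    (h2 : ∀ c ∈ L', c * (x * s) = x * s * c → c ∈ M) : L' ≤ M := by
  obtain ⟨x₁, k1, k2⟩ := id h
  obtain ⟨F, _, _, h5, ⟨R⟩⟩ := S.rep k1
  have C := h.cf S hxx R
  have h3 := Gen.gen R (by omega) C.sq (C.o1 C.xN) (s := ⟨s, hs.mem⟩)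
    ((act_fix C.xN hs.mem).mpr hs.comm) (Subtype.ext hs.sq)
    (fun h => hs.ne (congrArg Subtype.val h)) (M.subgroupOf L') ?_ ?_
  · rwa [subgroupOf_eq_top] at h3
  · rintro ⟨t, ht⟩ h4 -
    rw [act_fix C.xN ht] at h4
    exact h1 t ht h4
  · rintro ⟨t, ht⟩ h4 -
    rw [mem_subgroupOf]
    refine h2 t ht ?_
    have h6 : x * t * x⁻¹ = s⁻¹ * t * s := congrArg Subtype.val h4
    have hsi : s⁻¹ = s := inv_eq_of_mul_eq_one_left hs.sq
    rw [hsi, mul_inv_eq_iff_eq_mul] at h6
    calc t * (x * s) = t * (s * x) := by rw [hs.comm]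
      _ = s * (s * t * s * x) := by
          rw [show s * (s * t * s * x) = (s * s) * (t * (s * x)) by group, hs.sq, one_mul]
      _ = s * (x * t) := by rw [h6]
      _ = x * s * t := by rw [← mul_assoc, hs.comm]

/-- **`x` of PGL type on the conjugate `L' ≠ L` implies `[L', L] = 1`.** -/
theorem comm_of_pt (S : BBS BB) (h : BB x L) {g : G} (hP : PT BB x (cj g L)) (hne : cj g L ≠ L) :
    cj g L ≤ centralizer (L : Set G) := by
  have hxx := xx S h
  obtain ⟨L₁, hL₁⟩ : ∃ L₁, L₁ = cj g L := ⟨_, rfl⟩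
  rw [← hL₁] at hP hne ⊢
  obtain ⟨x₁, h1, h2⟩ := id hP
  obtain ⟨F, _, _, h5, ⟨R⟩⟩ := S.rep h
  obtain ⟨F₁, _, _, h5₁, ⟨R₁⟩⟩ := S.rep h1
  have C₁ := hP.cf S hxx R₁
  -- `L₁ ≤ N(L)`
  obtain ⟨⟨s, hsL⟩, hs1, hs2, hs3⟩ := PglType.exists_fix_involution R₁ C₁.sq (C₁.o1 C₁.xN)
  have hs : IsS L₁ x s := ⟨hsL, (act_fix C₁.xN hsL).mp hs1, congrArg Subtype.val hs2,
    fun h => hs3 (Subtype.ext h)⟩
  obtain ⟨l, hl, hlx⟩ := exists_pair R₁ C₁ hs
  have h3 := S.conj l h
  rw [hlx] at h3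
  have h4 : L = cj l L := cb S h h3 (by
    calc x * (x * s) = x * (s * x) := by rw [hs.comm]
      _ = x * s * x := by group)
  rw [← h4] at h3
  have hLN : L₁ ≤ normalizer (L : Set G) :=
    gen_le S hP hxx hs (fun c _ hc => S.hx h hc) (fun c _ hc => S.hx h3 hc)
  by_contra hcon
  -- `q = x₁ x`
  have hxx₁ := xx S h1
  obtain ⟨q, hq⟩ : ∃ q, q = x₁ * x := ⟨_, rfl⟩
  rw [← hq] at h2
  have hqi : x₁ * q * x₁ = q⁻¹ := by
    rw [hq, mul_inv_rev, inv_eq_of_mul_eq_one_left hxx, inv_eq_of_mul_eq_one_left hxx₁]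
    calc x₁ * (x₁ * x) * x₁ = (x₁ * x₁) * x * x₁ := by group
      _ = x * x₁ := by rw [hxx₁, one_mul]
  have hx₁i : x₁⁻¹ = x₁ := inv_eq_of_mul_eq_one_left hxx₁
  have hpow : ∀ n : ℕ, x₁ * q ^ n * x₁ = (q ^ n)⁻¹ := by
    intro n
    have h6 : (x₁ * q * x₁⁻¹) ^ n = x₁ * q ^ n * x₁⁻¹ := conj_pow
    rw [hx₁i, hqi] at h6
    rw [← h6, inv_pow]
  have hxq : x = x₁ * q := by rw [hq, ← mul_assoc, hxx₁, one_mul]
  rcases Nat.even_or_odd (orderOf q) with hev | ⟨j, hj⟩
  · -- the involution `f` of `⟨q⟩`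
    obtain ⟨n, hn⟩ := hev
    have hn0 : 0 < n := by
      have := orderOf_pos q
      omega
    obtain ⟨f, hf⟩ : ∃ f, f = q ^ n := ⟨_, rfl⟩
    have hff : f * f = 1 := by rw [hf, ← pow_add, ← hn, pow_orderOf_eq_one]
    have hf1 : f ≠ 1 := by
      rw [hf]
      intro h6
      have h7 := Nat.le_of_dvd hn0 (orderOf_dvd_of_pow_eq_one h6)
      omega
    have hfx₁ : f * x₁ = x₁ * f := by
      have h6 := hpow n
      rw [← hf, inv_eq_of_mul_eq_one_left hff] at h6
      calc f * x₁ = x₁ * f * x₁ * x₁ := by rw [h6]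
        _ = x₁ * f * (x₁ * x₁) := by group
        _ = x₁ * f := by rw [hxx₁, mul_one]
    have hfq : f * q = q * f := by rw [hf, ← pow_succ, ← pow_succ']
    have hfx : f * x = x * f := by
      rw [hxq, ← mul_assoc, hfx₁, mul_assoc, hfq, mul_assoc]
    have hfL₁ : f ∈ centralizer (L₁ : Set G) := hf ▸ pow_mem h2 n
    have hT₁ : IsT L₁ x₁ f := ⟨hfL₁, hfx₁, hff, hf1⟩
    have hfL : f ∈ centralizer (L : Set G) := by
      subst hL₁
      exact cen_of_conj R (by omega) hLN hcon (S.hx h hfx) hfL₁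
    have hT : IsT L x f := ⟨hfL, hfx, hff, hf1⟩
    have h6 := (S.comp h1 hT₁).comm_le_core (S.comp h hT) hne
    rw [core_self R, inf_bot_eq, le_bot_iff, commutator_eq_bot_iff_le_centralizer] at h6
    exact hcon h6
  · -- `|q|` odd
    obtain ⟨d, hd⟩ : ∃ d, d = q ^ (j + 1) := ⟨_, rfl⟩
    have hdd : d * d = q := by
      rw [hd, ← pow_add, show j + 1 + (j + 1) = (2 * j + 1) + 1 by ring, pow_succ, ← hj,
        pow_orderOf_eq_one, one_mul]
    have h6 : x₁ * d * x₁ = d⁻¹ := hd ▸ hpow (j + 1)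
    have h7 : d⁻¹ * x₁ * d⁻¹⁻¹ = x := by
      have h8 : d⁻¹ * x₁ = x₁ * d := by
        rw [← h6]
        calc x₁ * d * x₁ * x₁ = x₁ * d * (x₁ * x₁) := by group
          _ = x₁ * d := by rw [hxx₁, mul_one]
      rw [inv_inv, h8, mul_assoc, hdd, hxq]
    have h8 := bb_cj_mem S h1 (ThE.Base.K_le_M (inv_mem (hd ▸ pow_mem h2 (j + 1))))
    rw [h7] at h8
    exact hne (S.uniq h8 h)

end cb

section transfer

variable {G : Type u} [Group G] [Finite G] {BB : G → Subgroup G → Prop} {L : Subgroup G} {x : G}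

/-- **If `x` is not of PGL type on any conjugate `L₁ ≠ L` commuting with `L`, then `G` is not perfect.** -/
theorem false_of_unpaired (S : BBS BB) (hG : Parity.NoSign G) (h : BB x L)
    (hU : ∀ g, cj g L ≤ centralizer (L : Set G) → PT BB x (cj g L) → cj g L = L) : False := by
  obtain ⟨F, _, _, h5, ⟨R⟩⟩ := S.rep h
  have C := S.cf h R
  have hxx := xx S h
  obtain ⟨lam, hlam⟩ : ∃ lam : ↥(normalizer (L : Set G)) →* ℤˣ,
      ∀ m : ↥(normalizer (L : Set G)), lam m = R.o1 (act L (m : G) m.2) :=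
    ⟨{ toFun := fun m => R.o1 (act L (m : G) m.2)
       map_one' := by
         have h1 : act L ((1 : ↥(normalizer (L : Set G))) : G) (1 : ↥(normalizer (L : Set G))).2 = 1 := by
           rw [act_one_iff]
           intro l _
           rw [Subgroup.coe_one, one_mul, mul_one]
         rw [h1, map_one]
       map_mul' := fun a b => by
         rw [← map_mul, act_mul]
         rfl }, fun _ => rfl⟩
  -- involutions with `lam = -1`
  have key : ∀ (x' : G) (hx' : x' ∈ normalizer (L : Set G)), x' * x' = 1 → lam ⟨x', hx'⟩ = -1 →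
      ∃ m ∈ L, x * (m * x' * m⁻¹) ∈ centralizer (L : Set G) := by
    intro x' hx' hxx' hl
    rw [hlam] at hl
    obtain ⟨hα, hαI⟩ := PglType.pgl_of R (act_sq hx' hxx') hl
    obtain ⟨hβ, hβI⟩ := PglType.pgl_of R C.sq (C.o1 C.xN)
    obtain ⟨⟨m, hm⟩, h1⟩ := R.dtype_conj hα hαI (act_sq hx' hxx') hβ hβI C.sq
    have hmN := le_normalizer hm
    refine ⟨m, hm, ?_⟩
    rw [← act_one_iff' (mul_mem C.xN (mul_mem (mul_mem hmN hx') (inv_mem hmN))),
      ← act_mul C.xN (mul_mem (mul_mem hmN hx') (inv_mem hmN)),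
      ← act_mul (mul_mem hmN hx') (inv_mem hmN), ← act_mul hmN hx', act_inv hmN, act_of_mem hm, h1]
    exact C.sq
  refine WEndVS.false_of hG (M := normalizer (L : Set G)) (K := centralizer (L : Set G))
    ThE.Base.K_le_M (fun m hm => ?_) lam C.xN hxx (by rw [hlam]; exact C.o1 _) ?_ ?_ ?_
  · rw [mem_normalizer_iff]
    intro k
    refine ⟨ThE.Base.K_conj hm, fun hk => ?_⟩
    have h1 := ThE.Base.K_conj (inv_mem hm) hk
    rwa [show m⁻¹ * (m * k * m⁻¹) * m⁻¹⁻¹ = k by group] at h1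
  · intro x' hx' hxx' hl
    obtain ⟨m, hm, h1⟩ := key x' hx' hxx' hl
    refine ⟨m, le_normalizer hm, _, h1, ?_⟩
    rw [← mul_assoc, hxx, one_mul]
  · obtain ⟨t, u, ht, -⟩ := S.four h
    have h1 : t ∈ centralizer (L : Set G) ⊓ centralizer ({x} : Set G) := ⟨ht.mem, mem_c ht.comm⟩
    have h2 := Subgroup.orderOf_dvd_natCard _ h1
    rwa [orderOf_eq_prime (by rw [pow_two]; exact ht.sq) ht.ne] at h2
  · intro g t _ _ _ _ _ _ hx' hl
    have h1 : g⁻¹ * x * g * (g⁻¹ * x * g) = 1 := WEndVS.conj_sq hxx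
    obtain ⟨m, hm, h2⟩ := key _ hx' h1 hl
    -- `x₁ = g m⁻¹ x m g⁻¹`
    have h3 : PT BB x (cj g L) := by
      refine ⟨g * (m⁻¹ * x * m⁻¹⁻¹) * g⁻¹, S.conj g (bb_cj_mem S h (le_normalizer (inv_mem hm))), ?_⟩
      rw [mem_centralizer_iff]
      intro y hy
      rw [SetLike.mem_coe, mem_cj] at hy
      have h4 : m * (g⁻¹ * y * g) * m⁻¹ ∈ L := mul_mem (mul_mem hm hy) (inv_mem hm)
      have h5 := mem_centralizer_iff.mp h2 _ h4
      have h6 : g * (m⁻¹ * x * m⁻¹⁻¹) * g⁻¹ * x =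
          g * m⁻¹ * (x * (m * (g⁻¹ * x * g) * m⁻¹)) * m * g⁻¹ := by group
      rw [h6]
      calc y * (g * m⁻¹ * (x * (m * (g⁻¹ * x * g) * m⁻¹)) * m * g⁻¹)
          = g * m⁻¹ * ((m * (g⁻¹ * y * g) * m⁻¹) * (x * (m * (g⁻¹ * x * g) * m⁻¹))) * m * g⁻¹ := by
            group
        _ = g * m⁻¹ * ((x * (m * (g⁻¹ * x * g) * m⁻¹)) * (m * (g⁻¹ * y * g) * m⁻¹)) * m * g⁻¹ := by
            rw [h5]
        _ = g * m⁻¹ * (x * (m * (g⁻¹ * x * g) * m⁻¹)) * m * g⁻¹ * y := by group
    rw [mem_normalizer_iff_cj]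
    by_contra hne
    exact hne (hU g (comm_of_pt S h h3 hne) h3)

end transfer

end Cfsg.Agent.UGT.Res.COneIn
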