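import Cfsg.Agent.UGT.Res.FldGen
import Cfsg.Agent.UGT.Res.EFacts
import Cfsg.Agent.UGT.SL.GamL2

/-!
# `cens` and `conjS` with field automorphisms

* `gen_pair` : commuting involutory automorphisms `α ≠ β` of `PSL(2,F)`, one of them of field type: a subgroup containing
  the fixed points of `α`, `β`, `αβ` is everything (all `|F|`);
* `Cf.cens` : the field `cens` of `ThE.Base.Hyp`;
* `Cf.conjS` : the field `conjS`.
-/

set_option autoImplicit false
set_option linter.unusedVariables false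

namespace Cfsg.Agent.UGT.Res.FldCens

open Matrix Subgroup Cfsg.Agent.GH.L2Aut Cfsg.Agent.Lib.SL2Mat Cfsg.Agent.Lib.AutSL2
open Cfsg.Agent.UGT.Res.FldGen Cfsg.Agent.OddHalf.D6
open Cfsg.Agent.UGT.ThE.Base (IsS IsT)
open Cfsg.Agent.GH.L2Aut.Rep (inc exists_inc inc_val)

section abs

variable {L : Type*} [Group L]

/-- every subgroup containing the fixed points of `α` and of `α ∘ conj v` is everything -/
def Gen (α : MulAut L) (v : L) : Prop :=
  ∀ H : Subgroup L, (∀ y, α y = y → y ∈ H) → (∀ y, α (v * y * v⁻¹) = y → y ∈ H) → H = ⊤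

theorem Gen.conj {α : MulAut L} {v a : L} (ha : α a = a) (h : Gen α (a * v * a⁻¹)) : Gen α v := by
  intro H h1 h2
  refine h H h1 fun y hy => ?_
  have h3 : a⁻¹ * y * a ∈ H := by
    apply h2
    have e1 : a * v * a⁻¹ * y * (a * v * a⁻¹)⁻¹ = a * (v * (a⁻¹ * y * a) * v⁻¹) * a⁻¹ := by group
    rw [e1, map_mul, map_mul, map_inv, ha] at hy
    calc α (v * (a⁻¹ * y * a) * v⁻¹) = a⁻¹ * (a * α (v * (a⁻¹ * y * a) * v⁻¹) * a⁻¹) * a := by group
      _ = a⁻¹ * y * a := by rw [hy]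
  have h4 := mul_mem (mul_mem (h1 a ha) h3) (inv_mem (h1 a ha))
  have e2 : a * (a⁻¹ * y * a) * a⁻¹ = y := by group
  rwa [e2] at h4

variable {F : Type*} [Field F] [Finite F] (R : Cfsg.Agent.GH.L2Aut.Rep F L)

section fix

variable {K : Subfield F} {σ : F ≃+* F}

theorem gen_J' (hσ : orderOf σ = 2) (hK : ∀ a, a ∈ K ↔ σ a = a)
    (hcard : Nat.card F = Nat.card K ^ orderOf σ) : Gen (R.fa σ) (R.π J) := by
  intro H h1 h2
  refine gen_J R hσ hK hcard (fun y hy => h1 y (R.sub_le_fix hK hy)) fun c hc => ?_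
  exact mul_mem (h2 c hc) (h2 c hc)

theorem π_ne_one {x : Matrix.SpecialLinearGroup (Fin 2) F} (hx : x * x = -1) : R.π x ≠ 1 := by
  intro h
  apply R.neg_one_ne_one
  rcases (R.ker x).1 h with h1 | h1
  · rw [← hx, h1, one_mul]
  · rw [← hx, h1, neg_mul_neg, one_mul]

theorem πJ_ne : R.π J ≠ 1 := π_ne_one R J_sq

/-- involutions of `sub K` -/
theorem gen_inner (hσ : orderOf σ = 2) (hK : ∀ a, a ∈ K ↔ σ a = a)
    (hcard : Nat.card F = Nat.card K ^ orderOf σ) {v : L} (hvv : v * v = 1) (hv1 : v ≠ 1)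
    (hv : v ∈ R.sub K) : Gen (R.fa σ) v := by
  have hJ := J_mem_sub R K
  obtain ⟨⟨g, hg⟩, h⟩ := (R.subRep K).inv_conj (s := ⟨v, hv⟩) (t := ⟨R.π J, hJ⟩) (Subtype.ext hvv)
    (fun h => hv1 (congrArg Subtype.val h)) (Subtype.ext (πJ_sq R))
    (fun h => πJ_ne R (congrArg Subtype.val h))
  have h1 : g * v * g⁻¹ = R.π J := congrArg Subtype.val h
  refine Gen.conj (a := g) (R.sub_le_fix hK hg) ?_
  rw [h1]
  exact gen_J' R hσ hK hcard

/-- `diag(i, -i)` -/
theorem gen_diag (hσ : orderOf σ = 2) (hK : ∀ a, a ∈ K ↔ σ a = a) {i : F} (hi : i * -i - 0 * 0 = 1)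
    (hσi : σ i = -i) : Gen (R.fa σ) (R.π (mk i 0 0 (-i) hi)) := by
  have hσ2 : ∀ a, σ (σ a) = a := by
    intro a
    have h3 : σ * σ = 1 := by rw [← sq, ← hσ, pow_orderOf_eq_one]
    exact congrArg (fun τ : F ≃+* F => τ a) h3
  have hi0 : i ≠ 0 := by
    rintro rfl
    rw [neg_zero, mul_zero, sub_zero] at hi
    exact zero_ne_one hi
  have hne : σ i ≠ i := by
    rw [hσi]
    intro h
    have h4 : (2 : F) * i = 0 := by linear_combination -h
    exact mul_ne_zero R.two hi0 h4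
  intro H h1 h2
  have hsub : R.sub K ≤ H := fun y hy => h1 y (R.sub_le_fix hK hy)
  have hconj : ∀ x y : Matrix.SpecialLinearGroup (Fin 2) F, mk i 0 0 (-i) hi * x = y * mk i 0 0 (-i) hi →
      fieldAut σ y = x → R.π x ∈ H := by
    intro x y hxy hy
    apply h2
    rw [← map_inv, ← map_mul, ← map_mul, R.fa_apply, hxy, mul_inv_cancel_right, hy]
  refine eq_top R ?_ ?_
  · intro f
    obtain ⟨k, hk, l, hl, rfl⟩ := exists_add hσ2 hK hne f
    rw [← up_mul, map_mul]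
    refine mul_mem (hsub (up_mem_sub R K hk)) ?_
    refine hconj _ (up (-(i * l))) ?_ ?_
    · refine ext_ent ?_ ?_ ?_ ?_
      · rw [ent_mul, ent_mul]; change i * 1 + 0 * 0 = 1 * i + -(i * l) * 0; ring
      · rw [ent_mul, ent_mul]; change i * (i * l) + 0 * 1 = 1 * 0 + -(i * l) * -i; ring
      · rw [ent_mul, ent_mul]; change 0 * 1 + -i * 0 = 0 * i + 1 * 0; ring
      · rw [ent_mul, ent_mul]; change 0 * (i * l) + -i * 1 = 0 * 0 + 1 * -i; ring
    · rw [up, fieldAut_mk]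
      refine ext_ent (map_one σ) ?_ (map_zero σ) (map_one σ)
      change σ (-(i * l)) = i * l
      rw [map_neg, map_mul, hσi, (hK l).1 hl]; ring
  · intro f
    obtain ⟨k, hk, l, hl, rfl⟩ := exists_add hσ2 hK hne f
    rw [← lo_mul, map_mul]
    refine mul_mem (hsub (lo_mem_sub R K hk)) ?_
    refine hconj _ (lo (-(i * l))) ?_ ?_
    · refine ext_ent ?_ ?_ ?_ ?_
      · rw [ent_mul, ent_mul]; change i * 1 + 0 * (i * l) = 1 * i + 0 * 0; ring
      · rw [ent_mul, ent_mul]; change i * 0 + 0 * 1 = 1 * 0 + 0 * -i; ring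
      · rw [ent_mul, ent_mul]; change 0 * 1 + -i * (i * l) = -(i * l) * i + 1 * 0; ring
      · rw [ent_mul, ent_mul]; change 0 * 0 + -i * 1 = -(i * l) * 0 + 1 * -i; ring
    · rw [lo, fieldAut_mk]
      refine ext_ent (map_one σ) (map_zero σ) ?_ (map_one σ)
      change σ (-(i * l)) = i * l
      rw [map_neg, map_mul, hσi, (hK l).1 hl]; ring

/-- a square root of `-1` negated by `σ`, `|K| = 3` -/
theorem exists_i (h2 : (2 : F) ≠ 0) (hσ : orderOf σ = 2) (hK : ∀ a, a ∈ K ↔ σ a = a)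
    (hcard : Nat.card F = Nat.card K ^ orderOf σ) (h3 : Nat.card K = 3) :
    ∃ i : F, i * i = -1 ∧ σ i = -i := by
  obtain ⟨i, hi⟩ := isSquare_of_mem h2 (m := orderOf σ) hcard (by rw [hσ]; exact even_two)
    (neg_mem (one_mem K) : (-1 : F) ∈ K)
  have h4 : (σ i - i) * (σ i + i) = 0 := by
    have h5 : σ (-1) = -1 := by rw [map_neg, map_one]
    rw [hi, map_mul] at h5
    linear_combination h5
  rcases mul_eq_zero.1 h4 with h5 | h5
  · exfalso
    have h6 : i ∈ K := (hK i).2 (by linear_combination h5)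
    have := Fintype.ofFinite K
    have hi0 : (⟨i, h6⟩ : K) ≠ 0 := by
      intro h
      have h7 : i = 0 := congrArg Subtype.val h
      rw [h7, mul_zero] at hi
      exact one_ne_zero (neg_eq_zero.1 hi)
    have h7 := FiniteField.pow_card_sub_one_eq_one (⟨i, h6⟩ : K) hi0
    rw [← Nat.card_eq_fintype_card, h3] at h7
    have h8 : i ^ 2 = 1 := congrArg Subtype.val h7
    apply h2
    linear_combination -h8 - hi
  · exact ⟨i, hi.symm, by linear_combination h5⟩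

/-- involutions fixed by `fa σ` outside `sub K`, `|K| = 3` -/
theorem gen_outer (hσ : orderOf σ = 2) (hK : ∀ a, a ∈ K ↔ σ a = a)
    (hcard : Nat.card F = Nat.card K ^ orderOf σ) (h3 : Nat.card K = 3) {v : L} (hvv : v * v = 1)
    (hv1 : v ≠ 1) (hv : v ∉ R.sub K) (hσv : R.fa σ v = v) : Gen (R.fa σ) v := by
  obtain ⟨i, hii, hσi⟩ := exists_i R.two hσ hK hcard h3
  obtain ⟨V, rfl, hVV⟩ := R.exists_inv_lift hvv hv1
  have hfV : fieldAut σ V = -V := by
    rcases R.mem_fix_fa.1 (mem_fixSub.2 hσv) with h | h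
    · obtain ⟨y, rfl⟩ := exists_inc hK h
      exact absurd ⟨y, rfl⟩ hv
    · exact h
  have hVtr := tr_zero_of_sq hVV
  have hV : ∀ k l, -i * V.1 k l ∈ K := by
    intro k l
    have h1 : σ (V.1 k l) = -V.1 k l := congrFun (congrFun (congrArg Subtype.val hfV) k) l
    rw [hK, map_mul, map_neg, hσi, h1]; ring
  obtain ⟨V', hV'⟩ : ∃ V' : Matrix (Fin 2) (Fin 2) K, ∀ k l, ((V' k l : K) : F) = -i * V.1 k l :=
    ⟨Matrix.of fun k l => ⟨-i * V.1 k l, hV k l⟩, fun _ _ => rfl⟩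
  have htr : V'.trace = 0 := by
    apply Subtype.ext
    rw [Matrix.trace_fin_two] at hVtr ⊢
    change (V' 0 0 : F) + V' 1 1 = 0
    rw [hV', hV']
    linear_combination (-i) * hVtr
  have hdet : V'.det = -1 := by
    apply Subtype.ext
    rw [Matrix.det_fin_two]
    change (V' 0 0 : F) * V' 1 1 - V' 0 1 * V' 1 0 = ((-1 : K) : F)
    have h4 := V.2
    rw [Matrix.det_fin_two] at h4
    have h5 : ((-1 : K) : F) = -1 := by simp
    rw [hV', hV', hV', hV', h5]
    linear_combination (i * i) * h4 + hii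
  obtain ⟨B, hB⟩ : ∃ B : Matrix (Fin 2) (Fin 2) K, B = !![1, 0; 0, -1] := ⟨_, rfl⟩
  have hBtr : B.trace = 0 := by rw [hB, Matrix.trace_fin_two]; simp
  have hBdet : B.det = -1 := by rw [hB, Matrix.det_fin_two_of]; ring
  have h2K := two_sub R.two K
  have hns : ∀ A : Matrix (Fin 2) (Fin 2) K, A.trace = 0 → A.det = -1 →
      ∀ c : K, A ≠ c • (1 : Matrix (Fin 2) (Fin 2) K) := by
    rintro A h4 h5 c rfl
    rw [Matrix.trace_smul, Matrix.trace_one, Fintype.card_fin, smul_eq_mul] at h4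
    have h6 : c = 0 := (mul_eq_zero.1 h4).resolve_right (by exact_mod_cast h2K)
    rw [h6, zero_smul, Matrix.det_fin_two] at h5
    simp at h5
  obtain ⟨g, hg⟩ := mat_conj (hns V' htr hdet) (hns B hBtr hBdet) (htr.trans hBtr.symm)
    (hdet.trans hBdet.symm)
  have hg0 : g.1.det ≠ 0 := fun h => (Matrix.GeneralLinearGroup.det g).ne_zero h
  -- the element of `SL(2,K)`
  obtain ⟨h, hh⟩ : ∃ h : Matrix.SpecialLinearGroup (Fin 2) K,
      h.1 = !![(g.1.det)⁻¹, 0; 0, 1] * g.1 := ⟨⟨!![(g.1.det)⁻¹, 0; 0, 1] * g.1, by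
        rw [Matrix.det_mul, Matrix.det_fin_two_of, mul_one, mul_zero, sub_zero, inv_mul_cancel₀ hg0]⟩, rfl⟩
  have hhV : h.1 * V' = B * h.1 := by
    have h4 : !![(g.1.det)⁻¹, 0; 0, 1] * B = B * !![(g.1.det)⁻¹, 0; 0, 1] := by
      rw [hB]
      apply mat_ext <;> simp [mat_mul]
    rw [hh, Matrix.mul_assoc, hg, ← Matrix.mul_assoc, h4, Matrix.mul_assoc]
  have hi : i * -i - 0 * 0 = 1 := by linear_combination -hii
  refine Gen.conj (a := R.π (inc K h)) (R.sub_le_fix hK ⟨h, rfl⟩) ?_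
  have h4 : R.π (inc K h) * R.π V * (R.π (inc K h))⁻¹ = R.π (mk i 0 0 (-i) hi) := by
    rw [← map_inv, ← map_mul, ← map_mul]
    congr 1
    rw [mul_inv_eq_iff_eq_mul]
    have hV2 : ∀ k l, V.1 k l = i * (V' k l : F) := by
      intro k l
      rw [hV']
      linear_combination (V.1 k l) * hii
    have hent : ∀ k l, h.1 k 0 * V' 0 l + h.1 k 1 * V' 1 l = B k 0 * h.1 0 l + B k 1 * h.1 1 l := by
      intro k l
      rw [← mat_mul, ← mat_mul, hhV]
    have hentF : ∀ k l, (h.1 k 0 : F) * V' 0 l + h.1 k 1 * V' 1 l = B k 0 * h.1 0 l + B k 1 * h.1 1 l :=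
      fun k l => congrArg Subtype.val (hent k l)
    have hB00 : ((B 0 0 : K) : F) = 1 := by rw [hB]; rfl
    have hB01 : ((B 0 1 : K) : F) = 0 := by rw [hB]; rfl
    have hB10 : ((B 1 0 : K) : F) = 0 := by rw [hB]; rfl
    have hB11 : ((B 1 1 : K) : F) = -1 := by rw [hB]; simp
    apply Subtype.ext
    apply mat_ext
    · change ((inc K h).1 * V.1) 0 0 = ((mk i 0 0 (-i) hi).1 * (inc K h).1) 0 0
      rw [mat_mul, mat_mul]
      simp only [inc_val]
      rw [hV2, hV2]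
      change _ = i * _ + 0 * _
      have := hentF 0 0
      rw [hB00, hB01] at this
      linear_combination i * this
    · change ((inc K h).1 * V.1) 0 1 = ((mk i 0 0 (-i) hi).1 * (inc K h).1) 0 1
      rw [mat_mul, mat_mul]
      simp only [inc_val]
      rw [hV2, hV2]
      change _ = i * _ + 0 * _
      have := hentF 0 1
      rw [hB00, hB01] at this
      linear_combination i * this
    · change ((inc K h).1 * V.1) 1 0 = ((mk i 0 0 (-i) hi).1 * (inc K h).1) 1 0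
      rw [mat_mul, mat_mul]
      simp only [inc_val]
      rw [hV2, hV2]
      change _ = 0 * _ + -i * _
      have := hentF 1 0
      rw [hB10, hB11] at this
      linear_combination i * this
    · change ((inc K h).1 * V.1) 1 1 = ((mk i 0 0 (-i) hi).1 * (inc K h).1) 1 1
      rw [mat_mul, mat_mul]
      simp only [inc_val]
      rw [hV2, hV2]
      change _ = 0 * _ + -i * _
      have := hentF 1 1
      rw [hB10, hB11] at this
      linear_combination i * this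
  rw [h4]
  exact gen_diag R hσ hK hi hσi

/-- all involutions fixed by `fa σ`, `|K| = 3` -/
theorem gen_three (hσ : orderOf σ = 2) (hK : ∀ a, a ∈ K ↔ σ a = a)
    (hcard : Nat.card F = Nat.card K ^ orderOf σ) (h3 : Nat.card K = 3) {v : L} (hvv : v * v = 1)
    (hv1 : v ≠ 1) (hσv : R.fa σ v = v) : Gen (R.fa σ) v := by
  by_cases hv : v ∈ R.sub K
  · exact gen_inner R hσ hK hcard hvv hv1 hv
  · exact gen_outer R hσ hK hcard h3 hvv hv1 hv hσv

end fix

/-- `|F| < 11` -/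
theorem gen_small (hF : Nat.card F < 11) {α : MulAut L} (hα : α * α = 1) (hf : R.fld α ≠ 1) {v : L}
    (hvv : v * v = 1) (hv1 : v ≠ 1) (hαv : α v = v) : Gen α v := by
  obtain ⟨R', -, -, hR', hσ⟩ := R.ftype_rep (fun h => hf (R.mem_PGL_iff_fld.1 h)) hα
  obtain ⟨K, hK, hcard⟩ := Cfsg.Agent.GH.L2Aut.exists_fixed_field (R.fld α)
  have h3 : Nat.card K = 3 := by
    have h4 : Odd (Nat.card K) := odd_card (two_sub R.two K)
    have h5 : 1 < Nat.card K := Finite.one_lt_card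
    rw [hcard, hσ] at hF
    obtain ⟨k, hk⟩ := h4
    by_contra h6
    have h7 : 5 ≤ Nat.card K := by omega
    have h8 : 5 ^ 2 ≤ Nat.card K ^ 2 := Nat.pow_le_pow_left h7 2
    omega
  rw [hR'] at hαv ⊢
  exact gen_three R' hσ hK hcard h3 hvv hv1 hαv

/-- **commuting involutory automorphisms, one of them of field type** -/
theorem gen_pair {α β : MulAut L} (hα : α * α = 1) (hβ : β * β = 1) (hα1 : α ≠ 1) (hβ1 : β ≠ 1)
    (hne : α ≠ β) (hc : α * β = β * α) (hf : R.fld α ≠ 1 ∨ R.fld β ≠ 1) (H : Subgroup L)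
    (h1 : ∀ x, α x = x → x ∈ H) (h2 : ∀ x, β x = x → x ∈ H) (h3 : ∀ x, α (β x) = x → x ∈ H) :
    H = ⊤ := by
  rcases Nat.lt_or_ge (Nat.card F) 11 with hF | hF
  · have key : ∀ α β : MulAut L, α * α = 1 → β * β = 1 → β ≠ 1 → α ≠ β → α * β = β * α →
        R.fld α ≠ 1 → (∀ x, α x = x → x ∈ H) → (∀ x, β x = x → x ∈ H) →
        (∀ x, α (β x) = x → x ∈ H) → H = ⊤ := by
      intro α β hα hβ hβ1 hne hc hf h1 h2 h3
      have hfix : ∀ v : L, MulAut.conj v * α = α * MulAut.conj v → α v = v := by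
        intro v hv
        exact R.conj_injective (Cfsg.Agent.GH.L2Aut.Rep.conj_comm_iff.1 hv)
      by_cases hI : β ∈ Inn L
      · obtain ⟨v, hvv, rfl⟩ := R.inn_inv hI hβ
        refine gen_small R hF hα hf hvv ?_ (hfix v hc.symm) H h1 fun y hy => h3 y hy
        rintro rfl
        exact hβ1 (map_one _)
      · have hαI : α ∉ Inn L := fun h => hf (R.mem_inn_iff.1 h).1
        have hαβ : (α * β) * (α * β) = 1 := by
          calc (α * β) * (α * β) = α * (β * α) * β := by group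
            _ = α * (α * β) * β := by rw [hc]
            _ = (α * α) * (β * β) := by group
            _ = 1 := by rw [hα, hβ, one_mul]
        obtain ⟨v, hvv, hv⟩ := R.inn_inv (Cfsg.Agent.UGT.SL.outer_mul_mem R hα hβ hc hαI hI) hαβ
        have hβe : β = α * MulAut.conj v := by
          rw [← hv, ← mul_assoc, hα, one_mul]
        refine gen_small R hF hα hf hvv ?_ (hfix v ?_) H h1 fun y hy => h2 y ?_
        · rintro rfl
          rw [map_one] at hv
          apply hne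
          calc α = α * (β * β) := by rw [hβ, mul_one]
            _ = (α * β) * β := by group
            _ = β := by rw [hv, one_mul]
        · rw [← hv, mul_assoc, ← hc]
        · rw [hβe]
          exact hy
    rcases hf with hf | hf
    · exact key α β hα hβ hβ1 hne hc hf h1 h2 h3
    · refine key β α hβ hα hα1 hne.symm hc.symm hf h2 h1 fun x hx => h3 x ?_
      have h4 := DFunLike.congr_fun hc x
      rw [MulAut.mul_apply, MulAut.mul_apply] at h4
      rw [h4, hx]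
  · exact Cfsg.Agent.UGT.SL.gam_pair R hF hα hβ hα1 hβ1 hne hc H h1 h2 h3

end abs

/-! ### Subgroups of `G` -/

open Cfsg.Agent.UGT.Res.EFacts

variable {G : Type*} [Group G] {L : Subgroup G} {F : Type*} [Field F] [Finite F]
  {R : Cfsg.Agent.GH.L2Aut.Rep F L} {x : G}

/-- a subgroup containing the elements of `L` commuting with `f₁`, `f₂` or `f₁ f₂`, one of field type -/
theorem gen_fld (f₁ : G) (hf₁ : f₁ ∈ normalizer (L : Set G)) (f₂ : G)
    (hf₂ : f₂ ∈ normalizer (L : Set G)) (h₁ : f₁ * f₁ = 1) (h₂ : f₂ * f₂ = 1)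
    (h₁₂ : f₁ * f₂ = f₂ * f₁) (hn₁ : f₁ ∉ centralizer (L : Set G))
    (hn₂ : f₂ ∉ centralizer (L : Set G)) (hn₁₂ : f₁ * f₂ ∉ centralizer (L : Set G))
    (hf : R.fld (act L f₁ hf₁) ≠ 1 ∨ R.fld (act L f₂ hf₂) ≠ 1) (N : Subgroup G)
    (hN : ∀ l ∈ L, (l * f₁ = f₁ * l ∨ l * f₂ = f₂ * l ∨ l * (f₁ * f₂) = (f₁ * f₂) * l) → l ∈ N) :
    L ≤ N := by
  have h3 : N.subgroupOf L = ⊤ := by
    refine gen_pair R (act_sq hf₁ h₁) (act_sq hf₂ h₂) (fun h => hn₁ ((act_one_iff' hf₁).mp h))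
      (fun h => hn₂ ((act_one_iff' hf₂).mp h)) (fun h => hn₁₂ ?_) (act_comm' hf₁ hf₂ h₁₂) hf _ ?_ ?_ ?_
    · rw [← act_one_iff' (mul_mem hf₁ hf₂), ← act_mul hf₁ hf₂, ← h, act_sq hf₁ h₁]
    · rintro ⟨l, hl⟩ h
      exact mem_subgroupOf.2 (hN l hl (Or.inl ((act_fix hf₁ hl).1 h)))
    · rintro ⟨l, hl⟩ h
      exact mem_subgroupOf.2 (hN l hl (Or.inr (Or.inl ((act_fix hf₂ hl).1 h))))
    · rintro ⟨l, hl⟩ h
      refine mem_subgroupOf.2 (hN l hl (Or.inr (Or.inr ?_)))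
      rw [← MulAut.mul_apply, act_mul] at h
      exact (act_fix (mul_mem hf₁ hf₂) hl).1 h
  exact subgroupOf_eq_top.1 h3

/-- **`cens`** (`ThE.Base.Hyp.cens`), field automorphisms allowed -/
theorem cens (C : Cf R x) (s : G) (hs : IsS L x s)
    (f₁ : G) (hf₁ : f₁ ∈ normalizer (L : Set G)) (f₂ : G) (hf₂ : f₂ ∈ normalizer (L : Set G))
    (h₁ : f₁ * f₁ = 1) (h₂ : f₂ * f₂ = 1) (h₁₂ : f₁ * f₂ = f₂ * f₁) (hs₁ : f₁ * s = s * f₁)
    (hs₂ : f₂ * s = s * f₂) (hn₁ : f₁ ∉ centralizer (L : Set G)) (hn₂ : f₂ ∉ centralizer (L : Set G))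
    (hn₁₂ : f₁ * f₂ ∉ centralizer (L : Set G)) :
    f₁ * s ∈ centralizer (L : Set G) ∨ f₂ * s ∈ centralizer (L : Set G) ∨
      f₁ * f₂ * s ∈ centralizer (L : Set G) ∨
        ∀ N : Subgroup G, (∀ l ∈ L, (l * f₁ = f₁ * l ∨ l * f₂ = f₂ * l ∨
          l * (f₁ * f₂) = (f₁ * f₂) * l) → l ∈ N) → L ≤ N := by
  by_cases hf : R.fld (act L f₁ hf₁) ≠ 1 ∨ R.fld (act L f₂ hf₂) ≠ 1
  · right; right; right
    exact gen_fld f₁ hf₁ f₂ hf₂ h₁ h₂ h₁₂ hn₁ hn₂ hn₁₂ hf
  push Not at hf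
  have hsN : s ∈ normalizer (L : Set G) := le_normalizer hs.mem
  have hss := act_sq hsN hs.sq
  have hs1 : act L s hsN ≠ 1 := by
    rw [act_of_mem hs.mem]
    intro h
    have h1 : (⟨s, hs.mem⟩ : L) = 1 := R.conj_injective (by rw [h, map_one])
    exact hs.ne (congrArg Subtype.val h1)
  have key := four_cens R (by
      rw [act_of_mem hs.mem]
      exact R.conj_mem_PGL _) hs1 hss
    (R.mem_PGL_iff_fld.2 hf.1) (fun h => hn₁ ((act_one_iff' hf₁).mp h)) (act_sq hf₁ h₁)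
    (R.mem_PGL_iff_fld.2 hf.2) (fun h => hn₂ ((act_one_iff' hf₂).mp h)) (act_sq hf₂ h₂)
    (act_comm' hf₁ hf₂ h₁₂) (fun h => hn₁₂ ((act_one_iff' (mul_mem hf₁ hf₂)).mp (by
      rwa [act_mul hf₁ hf₂] at h))) (act_comm' hf₁ hsN hs₁) (act_comm' hf₂ hsN hs₂)
  rcases key with h | h | h
  · left
    rw [← act_one_iff' (mul_mem hf₁ hsN), ← act_mul hf₁ hsN, h, hss]
  · right; left
    rw [← act_one_iff' (mul_mem hf₂ hsN), ← act_mul hf₂ hsN, h, hss]
  · right; right; left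
    rw [← act_one_iff' (mul_mem (mul_mem hf₁ hf₂) hsN), ← act_mul (mul_mem hf₁ hf₂) hsN,
      ← act_mul hf₁ hf₂, h, hss]

/-- **`conjS`** (`ThE.Base.Hyp.conjS`) -/
theorem conjS (C : Cf R x) (s : G) (hs : IsS L x s) : ∃ l ∈ L, l * (x * s) * l⁻¹ = x := by
  have hsN : s ∈ normalizer (L : Set G) := le_normalizer hs.mem
  have hxs : x * s * (x * s) = 1 := by
    calc x * s * (x * s) = x * (s * x) * s := by group
      _ = (x * x) * (s * s) := by rw [hs.comm]; group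
      _ = 1 := by rw [C.xx, hs.sq, one_mul]
  have ho : R.o1 (act L (x * s) (mul_mem C.xN hsN)) = -1 := by
    rw [← act_mul C.xN hsN, map_mul, C.o1 C.xN, act_of_mem hs.mem, R.o1_conj, mul_one]
  obtain ⟨h1, h2⟩ := PglType.pgl_of R (act_sq (mul_mem C.xN hsN) hxs) ho
  obtain ⟨h3, h4⟩ := PglType.pgl_of R C.sq (C.o1 C.xN)
  obtain ⟨⟨y, hyL⟩, hy⟩ := R.dtype_conj h1 h2 (act_sq (mul_mem C.xN hsN) hxs) h3 h4 C.sq
  refine ⟨y, hyL, ?_⟩
  have hyN := le_normalizer hyL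
  -- `y x s y⁻¹ = x m`, `m ∈ L ∩ C(L)`
  have hmL : x⁻¹ * (y * (x * s) * y⁻¹) ∈ L := by
    have h5 : x⁻¹ * y * x ∈ L := by
      have := (mem_normalizer_iff.mp (inv_mem C.xN) y).mp hyL
      rwa [inv_inv] at this
    have e : x⁻¹ * (y * (x * s) * y⁻¹) = (x⁻¹ * y * x) * s * y⁻¹ := by group
    rw [e]
    exact mul_mem (mul_mem h5 hs.mem) (inv_mem hyL)
  have hmC : x⁻¹ * (y * (x * s) * y⁻¹) ∈ centralizer (L : Set G) := by
    have hN1 : y * (x * s) * y⁻¹ ∈ normalizer (L : Set G) :=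
      mul_mem (mul_mem hyN (mul_mem C.xN hsN)) (inv_mem hyN)
    rw [← act_one_iff' (mul_mem (inv_mem C.xN) hN1), ← act_mul (inv_mem C.xN) hN1, act_inv C.xN]
    have h5 : act L (y * (x * s) * y⁻¹) hN1 = act L x C.xN := by
      rw [← hy, ← act_mul (mul_mem hyN (mul_mem C.xN hsN)) (inv_mem hyN),
        ← act_mul hyN (mul_mem C.xN hsN), act_inv hyN, act_of_mem hyL]
    rw [h5, inv_mul_cancel]
  have h6 := eq_one_of_mem_centralizer R hmL hmC
  exact (inv_mul_eq_one.1 h6).symm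

end Cfsg.Agent.UGT.Res.FldCens
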