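import Cfsg.Agent.GH.L2AutF
import Cfsg.Agent.GH.L2AutField

/-!
# `PSL(2,F)` is generated by the fixed points of a field automorphism and of its product with an involution

`R : Rep F L`, `α = R.fa σ`, `σ² = 1 ≠ σ`, `K` the fixed field of `σ`, `J = !![0, 1; -1, 0]`.

* `sq_mem` : squares of fixed points of `fa σ` lie in `R.sub K`;
* `gen_J` : a subgroup containing `R.sub K` and the squares of the fixed points of `α ∘ conj (π J)` is everything.
-/

set_option autoImplicit false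
set_option linter.unusedVariables false

namespace Cfsg.Agent.UGT.Res.FldGen

open Matrix Cfsg.Agent.GH.L2Aut Cfsg.Agent.Lib.SL2Mat Cfsg.Agent.Lib.AutSL2

variable {F : Type*} [Field F] [Finite F] {L : Type*} [Group L] (R : Cfsg.Agent.GH.L2Aut.Rep F L)

section fix

variable {K : Subfield F} {σ : F ≃+* F}

/-- products of two fixed points outside `sub K` -/
theorem mul_mem_sub (hm : Even (orderOf σ)) (hK : ∀ a, a ∈ K ↔ σ a = a)
    (hcard : Nat.card F = Nat.card K ^ orderOf σ) {u v : L} (hu : R.fa σ u = u) (hv : R.fa σ v = v)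
    (hu' : u ∉ R.sub K) (hv' : v ∉ R.sub K) : u * v ∈ R.sub K := by
  obtain ⟨w, hw, hwn, hwx⟩ := R.exists_outer hm hK hcard
  have e1 := hwx u⁻¹ (by rw [mem_fixSub, map_inv, hu]) (fun h => hu' (inv_mem_iff.1 h))
  have e2 := hwx v hv hv'
  have e3 : u * v = (w * u⁻¹)⁻¹ * (w * v) := by group
  rw [e3]
  exact mul_mem (inv_mem e1) e2

theorem sq_mem (hm : Even (orderOf σ)) (hK : ∀ a, a ∈ K ↔ σ a = a)
    (hcard : Nat.card F = Nat.card K ^ orderOf σ) {c : L} (hc : R.fa σ c = c) :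
    c * c ∈ R.sub K := by
  by_cases h : c ∈ R.sub K
  · exact mul_mem h h
  · exact mul_mem_sub R hm hK hcard hc hc h h

end fix

/-- a subgroup containing the images of all upper and lower unitriangular matrices is everything -/
theorem eq_top {H : Subgroup L} (hu : ∀ a, R.π (up a) ∈ H) (hl : ∀ a, R.π (lo a) ∈ H) : H = ⊤ := by
  rw [eq_top_iff]
  intro y _
  obtain ⟨x, rfl⟩ := R.surj y
  obtain ⟨a, b, c, d, rfl⟩ := exists_up_lo x
  rw [map_mul, map_mul, map_mul]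
  exact mul_mem (mul_mem (mul_mem (hu _) (hl _)) (hu _)) (hl _)

/-- `J` -/
def J : Matrix.SpecialLinearGroup (Fin 2) F := mk 0 1 (-1) 0 (by ring)

theorem up_mem_sub (K : Subfield F) {a : F} (ha : a ∈ K) : R.π (up a) ∈ R.sub K :=
  ⟨up ⟨a, ha⟩, congrArg R.π (Subtype.ext (by
    apply mat_ext
    · rfl
    · rfl
    · rfl
    · rfl))⟩

theorem lo_mem_sub (K : Subfield F) {a : F} (ha : a ∈ K) : R.π (lo a) ∈ R.sub K :=
  ⟨lo ⟨a, ha⟩, congrArg R.π (Subtype.ext (by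
    apply mat_ext
    · rfl
    · rfl
    · rfl
    · rfl))⟩

theorem J_mem_sub (K : Subfield F) : R.π J ∈ R.sub K :=
  ⟨J, congrArg R.π (Subtype.ext (by
    apply mat_ext
    · rfl
    · rfl
    · change ((-1 : K) : F) = -1
      simp
    · rfl))⟩

theorem J_sq : (J : Matrix.SpecialLinearGroup (Fin 2) F) * J = -1 := by
  refine ext_ent ?_ ?_ ?_ ?_
  · rw [ent_mul]; change (0 : F) * 0 + 1 * (-1) = -(1 : Matrix (Fin 2) (Fin 2) F) 0 0; simp
  · rw [ent_mul]; change (0 : F) * 1 + 1 * 0 = -(1 : Matrix (Fin 2) (Fin 2) F) 0 1; simp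
  · rw [ent_mul]; change (-1 : F) * 0 + 0 * (-1) = -(1 : Matrix (Fin 2) (Fin 2) F) 1 0; simp
  · rw [ent_mul]; change (-1 : F) * 1 + 0 * 0 = -(1 : Matrix (Fin 2) (Fin 2) F) 1 1; simp

theorem πJ_sq : R.π J * R.π J = 1 := by
  rw [← map_mul, J_sq, R.ker]
  exact Or.inr rfl

theorem J_conj (a b c d : F) (h : a * d - b * c = 1) :
    J * mk a b c d h * J⁻¹ = mk d (-c) (-b) a (by linear_combination h) := by
  rw [mul_inv_eq_iff_eq_mul]
  refine ext_ent ?_ ?_ ?_ ?_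
  · rw [ent_mul, ent_mul]; change (0 : F) * a + 1 * c = d * 0 + (-c) * (-1); ring
  · rw [ent_mul, ent_mul]; change (0 : F) * b + 1 * d = d * 1 + (-c) * 0; ring
  · rw [ent_mul, ent_mul]; change (-1 : F) * a + 0 * c = (-b) * 0 + a * (-1); ring
  · rw [ent_mul, ent_mul]; change (-1 : F) * b + 0 * d = (-b) * 1 + a * 0; ring

theorem fieldAut_mk (σ : F ≃+* F) (a b c d : F) (h : a * d - b * c = 1) :
    fieldAut σ (mk a b c d h) = mk (σ a) (σ b) (σ c) (σ d) (by
      rw [← map_mul, ← map_mul, ← map_sub, h, map_one]) := by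
  apply Subtype.ext
  apply mat_ext
  · rfl
  · rfl
  · rfl
  · rfl

/-! ### Generation -/

theorem exists_t {E : Type*} [Field E] [Finite E] (h2 : (2 : E) ≠ 0) :
    ∃ t : E, t ≠ 0 ∧ ¬ IsSquare (1 + t * t) := by
  obtain ⟨c, hc⟩ := FiniteField.exists_nonsquare (F := E) (ringChar_ne_two h2)
  obtain ⟨x, y, hxy⟩ := Cfsg.Agent.GH.L2AutField.exists_sq_add h2 (ν := (1 : E)) one_ne_zero c
  have hx : x ≠ 0 := by
    rintro rfl
    exact hc ⟨y, by linear_combination -hxy⟩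
  have hy : y ≠ 0 := by
    rintro rfl
    exact hc ⟨x, by linear_combination -hxy⟩
  refine ⟨y / x, div_ne_zero hy hx, ?_⟩
  rintro ⟨s, hs⟩
  apply hc
  refine ⟨s * x, ?_⟩
  have h3 : c = (1 + y / x * (y / x)) * (x * x) := by
    field_simp
    linear_combination -hxy
  rw [h3, hs]
  ring

section gen

variable {K : Subfield F} {σ : F ≃+* F}

/-- `F = K + cK` for `c ∉ K` -/
theorem exists_add (hσ2 : ∀ a, σ (σ a) = a) (hK : ∀ a, a ∈ K ↔ σ a = a) {c : F} (hc : σ c ≠ c) (f : F) :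
    ∃ k ∈ K, ∃ l ∈ K, f = k + c * l := by
  have h0 : c - σ c ≠ 0 := sub_ne_zero.2 fun h => hc h.symm
  have h1 : (f - σ f) / (c - σ c) ∈ K := by
    rw [hK, map_div₀, map_sub, map_sub, hσ2, hσ2]
    rw [div_eq_div_iff (sub_ne_zero.2 hc) h0]
    ring
  refine ⟨f - c * ((f - σ f) / (c - σ c)), ?_, _, h1, by ring⟩
  rw [hK] at h1 ⊢
  rw [map_sub, map_mul, h1]
  have h2 : (c - σ c) * ((f - σ f) / (c - σ c)) = f - σ f := mul_div_cancel₀ _ h0
  linear_combination h2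

theorem exists_data (h2 : (2 : F) ≠ 0) (hσ : orderOf σ = 2) (hK : ∀ a, a ∈ K ↔ σ a = a)
    (hcard : Nat.card F = Nat.card K ^ orderOf σ) :
    ∃ t δ : F, t ∈ K ∧ t ≠ 0 ∧ σ δ = -δ ∧ δ ≠ 0 ∧ δ * δ * (1 + t * t) = 1 := by
  obtain ⟨t, ht, hn⟩ := exists_t (two_sub h2 K)
  have h0 : (1 + t * t : K) ≠ 0 := by
    intro h
    apply hn
    rw [h]
    exact IsSquare.zero
  obtain ⟨δ, hδ⟩ := isSquare_of_mem h2 (m := orderOf σ) hcard (by rw [hσ]; exact even_two)
    ((1 + t * t : K)⁻¹).2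
  have h1 : δ * δ * (1 + (t : F) * t) = 1 := by
    have h3 : (((1 + t * t : K)⁻¹ : K) : F) * ((1 + t * t : K) : F) = 1 := by
      rw [← Subfield.coe_mul, inv_mul_cancel₀ h0]
      rfl
    rw [← hδ]
    exact h3
  have hδ0 : δ ≠ 0 := by
    rintro rfl
    rw [zero_mul, zero_mul] at h1
    exact zero_ne_one h1
  have h3 : (σ δ - δ) * (σ δ + δ) = 0 := by
    have h4 : σ (((1 + t * t : K)⁻¹ : K) : F) = (((1 + t * t : K)⁻¹ : K) : F) := (hK _).1 (Subtype.mem _)
    rw [hδ, map_mul] at h4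
    linear_combination h4
  refine ⟨t, δ, t.2, fun h => ht (Subtype.ext h), ?_, hδ0, h1⟩
  rcases mul_eq_zero.1 h3 with h4 | h4
  · exfalso
    have h5 : δ ∈ K := (hK δ).2 (by linear_combination h4)
    apply hn
    refine ⟨(⟨δ, h5⟩ : K)⁻¹, ?_⟩
    have h6 : (⟨δ, h5⟩ : K) ≠ 0 := fun h => hδ0 (congrArg Subtype.val h)
    have h7 : (⟨δ, h5⟩ : K) * ⟨δ, h5⟩ * (1 + t * t) = 1 := Subtype.ext h1
    field_simp
    linear_combination h7
  · linear_combination h4

/-- **Generation** by `sub K` and the squares of the fixed points of `α ∘ conj (π J)` -/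
theorem gen_J (hσ : orderOf σ = 2) (hK : ∀ a, a ∈ K ↔ σ a = a)
    (hcard : Nat.card F = Nat.card K ^ orderOf σ) {H : Subgroup L} (h1 : R.sub K ≤ H)
    (h2 : ∀ c, R.fa σ (R.π J * c * (R.π J)⁻¹) = c → c * c ∈ H) : H = ⊤ := by
  obtain ⟨t, δ, htK, ht, hσδ, hδ, hd⟩ := exists_data R.two hσ hK hcard
  have hσ2 : ∀ a, σ (σ a) = a := by
    intro a
    have h3 : σ * σ = 1 := by rw [← sq, ← hσ, pow_orderOf_eq_one]
    exact congrArg (fun τ : F ≃+* F => τ a) h3
  have hσt : σ t = t := (hK t).1 htK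
  have htwo : (2 : F) ≠ 0 := R.two
  have hd' : 1 - δ * δ = δ * δ * (t * t) := by linear_combination -hd
  -- the element `Y`
  have hYd : (1 + δ / 2) * (1 - δ / 2) - (1 - δ) / (2 * t) * (-(1 + δ) / (2 * t)) = 1 := by
    field_simp
    linear_combination hd'
  obtain ⟨Y, hY⟩ : ∃ Y : Matrix.SpecialLinearGroup (Fin 2) F,
      Y = mk (1 + δ / 2) ((1 - δ) / (2 * t)) (-(1 + δ) / (2 * t)) (1 - δ / 2) hYd := ⟨_, rfl⟩
  have hYfix : R.fa σ (R.π J * R.π Y * (R.π J)⁻¹) = R.π Y := by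
    rw [← map_inv, ← map_mul, ← map_mul, R.fa_apply]
    congr 1
    rw [hY, J_conj, fieldAut_mk]
    have hs2 : σ 2 = 2 := map_ofNat σ 2
    refine ext_ent ?_ ?_ ?_ ?_
    · change σ (1 - δ / 2) = 1 + δ / 2
      rw [map_sub, map_div₀, hσδ, hs2, map_one]; ring
    · change σ (-(-(1 + δ) / (2 * t))) = (1 - δ) / (2 * t)
      rw [map_neg, map_div₀, map_neg, map_add, map_mul, hσδ, hs2, hσt, map_one]; ring
    · change σ (-((1 - δ) / (2 * t))) = -(1 + δ) / (2 * t)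
      rw [map_neg, map_div₀, map_sub, map_mul, hσδ, hs2, hσt, map_one]; ring
    · change σ (1 + δ / 2) = 1 - δ / 2
      rw [map_add, map_div₀, hσδ, hs2, map_one]; ring
  have hYH : R.π (Y * Y) ∈ H := by
    rw [map_mul]
    exact h2 _ hYfix
  -- the element `W`
  have hWd : (1 + δ) / t * ((1 - δ) * (1 + t * t) / t) - (δ - 1) * 0 = 1 := by
    field_simp
    linear_combination (1 + t * t) * hd' + (t * t) * hd
  obtain ⟨W, hW⟩ : ∃ W : Matrix.SpecialLinearGroup (Fin 2) F,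
      W = mk ((1 + δ) / t) (δ - 1) 0 ((1 - δ) * (1 + t * t) / t) hWd := ⟨_, rfl⟩
  have hJW : J * W = up t * (Y * Y) := by
    rw [hW, hY]
    refine ext_ent ?_ ?_ ?_ ?_
    · rw [ent_mul, ent_mul, ent_mul, ent_mul]
      change (0 : F) * ((1 + δ) / t) + 1 * 0 = 1 * ((1 + δ / 2) * (1 + δ / 2) +
        (1 - δ) / (2 * t) * (-(1 + δ) / (2 * t))) + t * (-(1 + δ) / (2 * t) * (1 + δ / 2) +
        (1 - δ / 2) * (-(1 + δ) / (2 * t)))
      field_simp
      linear_combination hd'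
    · rw [ent_mul, ent_mul, ent_mul, ent_mul]
      change (0 : F) * (δ - 1) + 1 * ((1 - δ) * (1 + t * t) / t) = 1 * ((1 + δ / 2) * ((1 - δ) / (2 * t)) +
        (1 - δ) / (2 * t) * (1 - δ / 2)) + t * (-(1 + δ) / (2 * t) * ((1 - δ) / (2 * t)) +
        (1 - δ / 2) * (1 - δ / 2))
      field_simp
      linear_combination hd'
    · rw [ent_mul, ent_mul, ent_mul, ent_mul]
      change (-1 : F) * ((1 + δ) / t) + 0 * 0 = 0 * ((1 + δ / 2) * (1 + δ / 2) +
        (1 - δ) / (2 * t) * (-(1 + δ) / (2 * t))) + 1 * (-(1 + δ) / (2 * t) * (1 + δ / 2) +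
        (1 - δ / 2) * (-(1 + δ) / (2 * t)))
      field_simp
      ring
    · rw [ent_mul, ent_mul, ent_mul, ent_mul]
      change (-1 : F) * (δ - 1) + 0 * ((1 - δ) * (1 + t * t) / t) = 0 * ((1 + δ / 2) * ((1 - δ) / (2 * t)) +
        (1 - δ) / (2 * t) * (1 - δ / 2)) + 1 * (-(1 + δ) / (2 * t) * ((1 - δ) / (2 * t)) +
        (1 - δ / 2) * (1 - δ / 2))
      field_simp
      linear_combination hd'
  have hJH : R.π J ∈ H := h1 (J_mem_sub R K)
  have hWH : R.π W ∈ H := by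
    have h3 : R.π W = (R.π J)⁻¹ * (R.π (up t) * R.π (Y * Y)) := by
      rw [← map_mul, ← hJW, map_mul, inv_mul_cancel_left]
    rw [h3]
    exact mul_mem (inv_mem hJH) (mul_mem (h1 (up_mem_sub R K htK)) hYH)
  -- conjugation by `W`
  obtain ⟨c, hc⟩ : ∃ c, c = (1 + δ) / t * ((1 + δ) / t) := ⟨_, rfl⟩
  have hcK : σ c ≠ c := by
    rw [hc, map_mul, map_div₀, map_add, hσδ, hσt, map_one]
    intro h
    field_simp at h
    have h4 : (2 : F) * 2 * δ = 0 := by linear_combination -h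
    exact mul_ne_zero (mul_ne_zero htwo htwo) hδ h4
  have hup' : ∀ k ∈ K, R.π (up (c * k)) ∈ H := by
    intro k hk
    have h3 : W * up k = up (c * k) * W := by
      rw [hW, hc]
      refine ext_ent ?_ ?_ ?_ ?_
      · rw [ent_mul, ent_mul]
        change (1 + δ) / t * 1 + (δ - 1) * 0 = 1 * ((1 + δ) / t) + (1 + δ) / t * ((1 + δ) / t) * k * 0
        ring
      · rw [ent_mul, ent_mul]
        change (1 + δ) / t * k + (δ - 1) * 1 = 1 * (δ - 1) + (1 + δ) / t * ((1 + δ) / t) * k *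
          ((1 - δ) * (1 + t * t) / t)
        linear_combination (-(1 + δ) / t * k) * hWd
      · rw [ent_mul, ent_mul]
        change 0 * 1 + (1 - δ) * (1 + t * t) / t * 0 = 0 * ((1 + δ) / t) + 1 * 0
        ring
      · rw [ent_mul, ent_mul]
        change 0 * k + (1 - δ) * (1 + t * t) / t * 1 = 0 * (δ - 1) + 1 * ((1 - δ) * (1 + t * t) / t)
        ring
    have h4 : R.π (up (c * k)) = R.π W * R.π (up k) * (R.π W)⁻¹ := by
      rw [← map_mul, h3, map_mul, mul_inv_cancel_right]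
    rw [h4]
    exact mul_mem (mul_mem hWH (h1 (up_mem_sub R K hk))) (inv_mem hWH)
  have hup : ∀ f, R.π (up f) ∈ H := by
    intro f
    obtain ⟨k, hk, l, hl, rfl⟩ := exists_add hσ2 hK hcK f
    rw [← up_mul, map_mul]
    exact mul_mem (h1 (up_mem_sub R K hk)) (hup' l hl)
  refine eq_top R hup fun f => ?_
  have h3 : (lo f : Matrix.SpecialLinearGroup (Fin 2) F) = J * up (-f) * J⁻¹ := by
    rw [up, J_conj]
    refine ext_ent rfl ?_ ?_ rfl
    · change (0 : F) = -0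
      ring
    · change f = -(-f)
      ring
  rw [h3, map_mul, map_mul, map_inv]
  exact mul_mem (mul_mem hJH (hup _)) (inv_mem hJH)

end gen

end Cfsg.Agent.UGT.Res.FldGen
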