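import Cfsg.Agent.UGT.Res.EFacts
import Cfsg.Agent.UGT.Res.FldGen

/-!
# `L ≅ PSL(2,F)`: involutory field automorphisms (NodeR, #12192), `Fld` and the four cases of `inv`

* `unip` : an automorphism of PGL type fixes no nontrivial unipotent element;
* `die` : a homomorphism from `PSL(2,K)`, `|F| = |K|²`, into the centralizer of an automorphism of PGL type is
  trivial;
* `Cf.fld` : an involution `e` acting as a field automorphism: `Fld L x e v A B` (`A`, `B ≅ PSL(2,K)`);
* `Cf.inv'` : the field `inv` of `ThE.Hyp`.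
-/

set_option autoImplicit false

open Cfsg.Agent.GH.L2Aut Cfsg.Agent.OddHalf.D6 Cfsg.Agent.Lib.SL2Mat Cfsg.Agent.Lib.AutSL2
  Cfsg.Agent.Lib.AutSL2Out

namespace Cfsg.Agent.UGT.Res.FldFacts

section rep

variable {F : Type*} [Field F] [Finite F] {L : Type*} [Group L]

theorem exists_char (h2 : (2 : F) ≠ 0) : ∃ p : ℕ, CharP F p ∧ p.Prime ∧ Odd p := by
  obtain ⟨p, hp⟩ := CharP.exists F
  have hpp : p.Prime := (CharP.char_is_prime_or_zero F p).resolve_right (by
    rintro rfl
    have : CharZero F := CharP.charP_to_charZero F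
    exact (Infinite.of_injective _ (Nat.cast_injective (R := F))).not_finite ‹_›)
  refine ⟨p, hp, hpp, hpp.odd_of_ne_two ?_⟩
  rintro rfl
  apply h2
  exact_mod_cast CharP.cast_eq_zero F 2

/-- an automorphism of PGL type fixes no nontrivial unipotent element -/
theorem unip (R : Cfsg.Agent.GH.L2Aut.Rep F L) {p : ℕ} [hc : CharP F p] (hpp : p.Prime) (hodd : Odd p)
    {φ : MulAut L} (h : φ * φ = 1) (ho : R.o1 φ = -1) {b : L} (hb : b ^ p = 1) (hφ : φ b = b) :
    b = 1 := by
  have : Fact p.Prime := ⟨hpp⟩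
  by_contra hb1
  obtain ⟨x, hx, hxp⟩ : ∃ x, R.π x = b ∧ x ^ p = 1 := by
    obtain ⟨x, rfl⟩ := R.surj b
    rw [← map_pow, R.ker] at hb
    rcases hb with h1 | h1
    · exact ⟨x, rfl, h1⟩
    · refine ⟨-x, R.π_neg x, ?_⟩
      rw [hodd.neg_pow, h1, neg_neg]
  -- `x - 1` is nilpotent
  obtain ⟨N, hN⟩ : ∃ N, N = x.1 - 1 := ⟨_, rfl⟩
  have hxN : x.1 = 1 + N := by rw [hN]; abel
  have hchar : CharP (Matrix (Fin 2) (Fin 2) F) p := inferInstance
  have hNp : N ^ p = 0 := by
    have h1 : x.1 ^ p = 1 := by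
      rw [← Matrix.SpecialLinearGroup.coe_pow, hxp, Matrix.SpecialLinearGroup.coe_one]
    rw [hxN, add_pow_char_of_commute p (Commute.one_left N), one_pow] at h1
    exact left_eq_add.mp h1.symm
  have hnil : IsNilpotent N := ⟨p, hNp⟩
  have htr : N.trace = 0 := (Matrix.isNilpotent_trace_of_isNilpotent hnil).eq_zero
  have hdet : N.det = 0 := by
    have h1 := congrArg Matrix.det hNp
    rw [Matrix.det_pow, Matrix.det_zero] at h1
    exact pow_eq_zero_iff (hpp.ne_zero) |>.1 h1
  have hN0 : N ≠ 0 := by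
    intro h1
    apply hb1
    rw [← hx, R.ker]
    left
    apply Subtype.ext
    rw [hxN, h1, add_zero]
    rfl
  have hxs : ∀ c : F, x.1 ≠ c • (1 : Matrix (Fin 2) (Fin 2) F) := by
    intro c h1
    have h3 : N = (c - 1) • (1 : Matrix (Fin 2) (Fin 2) F) := by
      rw [hN, h1, sub_smul, one_smul]
    rw [h3, Matrix.trace_smul, Matrix.trace_one, Fintype.card_fin, smul_eq_mul] at htr
    apply hN0
    rw [h3]
    rcases mul_eq_zero.1 htr with h4 | h4
    · rw [h4, zero_smul]
    · exact absurd (by exact_mod_cast h4) R.two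
  obtain ⟨hφP, -⟩ := PglType.pgl_of R h ho
  obtain ⟨g, rfl⟩ := R.mem_PGL.1 hφP
  have hg1 := PglType.ne_one R ho
  have hgtr := R.tr_of_inv hg1 h
  -- `g` commutes with `x`
  have hcg : conjGL g x = x := by
    rw [← hx, R.gl_apply, R.π_eq_iff] at hφ
    rcases hφ with h1 | h1
    · exact h1
    · exfalso
      have h3 : (conjGL g x).1.trace = x.1.trace := by
        rw [conjGL_val, Matrix.trace_mul_comm, ← Matrix.mul_assoc, ← Units.val_mul, inv_mul_cancel,
          Units.val_one, Matrix.one_mul]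
      rw [h1] at h3
      have h4 : (-x).1.trace = -x.1.trace := by
        change (-x.1).trace = _
        rw [Matrix.trace_neg]
      have h5 : x.1.trace = 2 := by
        rw [hxN, Matrix.trace_add, htr, Matrix.trace_one, Fintype.card_fin, add_zero]
        norm_num
      rw [h4, h5] at h3
      have h6 : (2 : F) * 2 = 0 := by linear_combination -h3
      rcases mul_eq_zero.1 h6 with h7 | h7 <;> exact R.two h7
  have hcomm : x.1 * g.1 = g.1 * x.1 := (of_conjGL_eq hcg).symm
  obtain ⟨a, c, hac⟩ := exists_ab hxs hcomm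
  have h1 : a + c = 0 := by
    have h3 : g.1 = (a + c) • (1 : Matrix (Fin 2) (Fin 2) F) + c • N := by
      rw [hac, hxN, smul_add, add_smul, add_assoc]
    rw [h3, Matrix.trace_add, Matrix.trace_smul, Matrix.trace_smul, htr, Matrix.trace_one,
      Fintype.card_fin, smul_zero, add_zero, smul_eq_mul] at hgtr
    rcases mul_eq_zero.1 hgtr with h4 | h4
    · exact h4
    · exact absurd (by exact_mod_cast h4) R.two
  have h3 : g.1 = c • N := by
    rw [hac, hxN, smul_add, ← add_assoc, ← add_smul, h1, zero_smul, zero_add]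
  have h4 : g.1.det ≠ 0 := (Matrix.GeneralLinearGroup.det g).ne_zero
  apply h4
  rw [h3, Matrix.det_smul, hdet, mul_zero]

/-- **(3)** `PSL(2,K)` dies in the centralizer of an automorphism of PGL type -/
theorem die (R R' : Cfsg.Agent.GH.L2Aut.Rep F L) {K : Subfield F} (hcard : Nat.card F = Nat.card K ^ 2)
    {φ : MulAut L} (h : φ * φ = 1) (ho : R.o1 φ = -1) (θ : R'.sub K →* MulAut L)
    (hθ : ∀ a, θ a * φ = φ * θ a) (a : R'.sub K) : θ a = 1 := by
  obtain ⟨p, hp, hpp, hodd⟩ := exists_char R.two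
  rcases Nat.lt_or_ge 3 (Nat.card K) with h3 | h3
  · -- `sub K` is simple
    have hf : ∀ a, R.fld (θ a) = 1 := EFacts.hom_trivial (R'.subRep K) h3 (A := F ≃+* F)
      EFacts.ringAut_comm (R.fld.comp θ)
    have ho' : ∀ a, R.o1 (θ a) = 1 := EFacts.hom_trivial (R'.subRep K) h3 (A := ℤˣ)
      (fun a b => mul_comm a b) (R.o1.comp θ)
    have hin : ∀ a, ∃ m, MulAut.conj m = θ a := fun a => R.mem_inn_iff.2 ⟨hf a, ho' a⟩
    obtain ⟨M, hM⟩ : ∃ M : Subgroup L, M = θ.range.comap (MulAut.conj : L →* MulAut L) := ⟨_, rfl⟩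
    have hMm : M.map (MulAut.conj : L →* MulAut L) = θ.range := by
      rw [hM]
      apply le_antisymm
      · rintro _ ⟨m, hm, rfl⟩
        exact hm
      · rintro _ ⟨a, rfl⟩
        obtain ⟨m, hm⟩ := hin a
        exact ⟨m, ⟨a, hm.symm⟩, hm⟩
    have hfix : ∀ m ∈ M, φ m = m := by
      intro m hm
      rw [hM] at hm
      obtain ⟨a, ha⟩ := hm
      apply R.conj_injective
      rw [← Cfsg.Agent.GH.L2Aut.Rep.conj_comm_iff, ← ha, hθ]
    have hperf : commutator (R'.sub K) = ⊤ := by
      rw [eq_top_iff]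
      intro a _
      rw [← Abelianization.ker_of, MonoidHom.mem_ker]
      exact EFacts.hom_trivial (R'.subRep K) h3 (A := Abelianization (R'.sub K)) mul_comm
        Abelianization.of a
    have hMM : M ≤ ⁅M, M⁆ := by
      intro m hm
      have h5 : MulAut.conj m ∈ M.map (MulAut.conj : L →* MulAut L) := ⟨m, hm, rfl⟩
      have h6 : M.map (MulAut.conj : L →* MulAut L) =
          ⁅M, M⁆.map (MulAut.conj : L →* MulAut L) := by
        rw [Subgroup.map_commutator, hMm, MonoidHom.range_eq_map, ← Subgroup.map_commutator]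
        congr 1
        exact hperf.symm
      rw [h6] at h5
      obtain ⟨m', hm', he⟩ := h5
      rw [← R.conj_injective he]
      exact hm'
    have hbot := PglType.no_perfect R h ho hfix hMM
    obtain ⟨m, hm⟩ := hin a
    have hmM : m ∈ M := by
      rw [hM]
      exact ⟨a, hm.symm⟩
    rw [hbot, Subgroup.mem_bot] at hmM
    rw [← hm, hmM, map_one]
  · -- `|K| = 3`
    have hF27 : Nat.card F < 27 := by
      rw [hcard]
      calc Nat.card K ^ 2 ≤ 3 ^ 2 := Nat.pow_le_pow_left h3 2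
        _ < 27 := by norm_num
    have hone : ∀ u : R'.sub K, u ^ p = 1 → θ u = 1 := by
      intro u hu
      have h5 : θ u ^ p = 1 := by rw [← map_pow, hu, map_one]
      have h6 : Odd (orderOf (θ u)) := Odd.of_dvd_nat hodd (orderOf_dvd_of_pow_eq_one h5)
      obtain ⟨b, hb⟩ := L2Fact.inn_of_odd R hF27 h6
      have hb1 : b = 1 := by
        refine unip R hpp hodd h ho (R.conj_injective ?_) ?_
        · rw [map_pow, hb, h5, map_one]
        · apply R.conj_injective
          rw [← Cfsg.Agent.GH.L2Aut.Rep.conj_comm_iff, hb, hθ]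
      rw [← hb, hb1, map_one]
    have hupow : ∀ (c : K) (n : ℕ), up c ^ n = up (n * c) := by
      intro c n
      induction n with
      | zero => rw [pow_zero, Nat.cast_zero, zero_mul, up_zero]
      | succ n ih => rw [pow_succ, ih, up_mul]; congr 1; push_cast; ring
    have hlpow : ∀ (c : K) (n : ℕ), lo c ^ n = lo (n * c) := by
      intro c n
      induction n with
      | zero => rw [pow_zero, Nat.cast_zero, zero_mul, lo_zero]
      | succ n ih => rw [pow_succ, ih, lo_mul]; congr 1; push_cast; ring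
    have hpK : ((p : ℕ) : K) = 0 := by
      apply Subtype.ext
      change ((p : K) : F) = 0
      rw [SubringClass.coe_natCast]
      exact CharP.cast_eq_zero F p
    obtain ⟨x, rfl⟩ := (R'.subRep K).surj a
    obtain ⟨a, b, c, d, rfl⟩ := exists_up_lo x
    have hu : ∀ c : K, θ ((R'.subRep K).π (up c)) = 1 := fun c => hone _ (by
      rw [← map_pow, hupow, hpK, zero_mul, up_zero, map_one])
    have hl : ∀ c : K, θ ((R'.subRep K).π (lo c)) = 1 := fun c => hone _ (by
      rw [← map_pow, hlpow, hpK, zero_mul, lo_zero, map_one])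
    rw [map_mul, map_mul, map_mul, map_mul, map_mul, map_mul, hu, hl, hu, hl, one_mul, one_mul,
      one_mul]

end rep

section grp

open Subgroup Cfsg.Agent.UGT.ThE.Base

variable {G : Type*} [Group G] {L : Subgroup G} {F : Type*} [Field F] [Finite F]
  {R : Cfsg.Agent.GH.L2Aut.Rep F L} {x : G}

/-- `PSL(2,K)` dies in `C(x) / K` -/
theorem dies (C : EFacts.Cf R x) (R' : Cfsg.Agent.GH.L2Aut.Rep F L) {K : Subfield F}
    (hcard : Nat.card F = Nat.card K ^ 2) : Dies L x ((R'.sub K).map L.subtype) := by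
  intro g hg hc a ha
  have hm : ∀ a : R'.sub K, g * ((a : L) : G) * g⁻¹ ∈ normalizer (L : Set G) := fun a =>
    hg _ ⟨a, a.2, rfl⟩
  let θ : R'.sub K →* MulAut L :=
    { toFun := fun a => act L (g * ((a : L) : G) * g⁻¹) (hm a)
      map_one' := by
        rw [act_one_iff]
        intro m _
        rw [Subgroup.coe_one, Subgroup.coe_one, mul_one, mul_inv_cancel, one_mul, mul_one]
      map_mul' := fun a b => by
        rw [act_mul]
        apply act_congr
        rw [Subgroup.coe_mul, Subgroup.coe_mul]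
        group }
  obtain ⟨a', ha', rfl⟩ := ha
  have h1 := die R R' hcard C.sq (C.o1 C.xN) θ (fun a => by
    have h3 := hc _ ⟨(a : L), a.2, rfl⟩
    exact EFacts.act_comm (hm a) C.xN h3) ⟨a', ha'⟩
  exact (EFacts.act_one_iff' (hm ⟨a', ha'⟩)).mp h1

/-- **field type involutions** -/
theorem fld (C : EFacts.Cf R x) {e : G} (he : e ∈ normalizer (L : Set G)) (hee : e * e = 1)
    (hf : R.fld (act L e he) ≠ 1) : ∃ v A B, Fld L x e v A B := by
  obtain ⟨α, hα⟩ : ∃ α, α = act L e he := ⟨_, rfl⟩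
  obtain ⟨σ, hσ⟩ : ∃ σ, σ = R.fld α := ⟨_, rfl⟩
  rw [← hα, ← hσ] at hf
  have hαα : α * α = 1 := by rw [hα]; exact EFacts.act_sq he hee
  have hσ2 : σ * σ = 1 := by rw [hσ, ← map_mul, hαα, map_one]
  have hord : orderOf σ = 2 := by
    rw [orderOf_eq_prime_iff]
    exact ⟨by rw [sq]; exact hσ2, hf⟩
  obtain ⟨R', -, -, hR'⟩ := R.exists_rep α (by rw [← hσ, hord, sq, hαα])
  rw [← hσ] at hR'
  obtain ⟨K, hK, hcard⟩ := Cfsg.Agent.GH.L2Aut.exists_fixed_field σ
  have hcard2 : Nat.card F = Nat.card K ^ 2 := by rw [hcard, hord]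
  obtain ⟨v, hv⟩ : ∃ v, v = R'.π FldGen.J := ⟨_, rfl⟩
  have hvK : v ∈ R'.sub K := hv ▸ FldGen.J_mem_sub R' K
  have hvv : v * v = 1 := hv ▸ FldGen.πJ_sq R'
  have hv1 : v ≠ 1 := by
    rw [hv, Ne, R'.ker]
    rintro (h | h)
    · have h1 := congrArg (fun x => ent x 0 1) h
      have h3 : (1 : F) = 0 := h1
      exact one_ne_zero h3
    · have h1 := congrArg (fun x => ent x 0 1) h
      have h3 : (1 : F) = -(0 : F) := h1
      rw [neg_zero] at h3
      exact one_ne_zero h3
  have hfixA : ∀ m ∈ R'.sub K, α m = m := by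
    intro m hm
    rw [hR']
    exact R'.sub_le_fix hK hm
  -- `β`
  obtain ⟨β, hβ⟩ : ∃ β, β = α * MulAut.conj v := ⟨_, rfl⟩
  have hcv : MulAut.conj v * α = α * MulAut.conj v :=
    Cfsg.Agent.GH.L2Aut.Rep.conj_comm_iff.mpr (congrArg _ (hfixA v hvK))
  have hββ : β * β = 1 := by
    calc β * β = α * (MulAut.conj v * α) * MulAut.conj v := by rw [hβ]; group
      _ = (α * α) * MulAut.conj (v * v) := by rw [hcv, map_mul]; group
      _ = 1 := by rw [hαα, hvv, map_one, one_mul]
  have hβf : R.fld β = σ := by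
    rw [hβ, map_mul, ← hσ, R.mem_PGL_iff_fld.1 (R.conj_mem_PGL v), mul_one]
  obtain ⟨R'', -, -, hR''⟩ := R.exists_rep β (by rw [hβf, hord, sq, hββ])
  rw [hβf] at hR''
  have hfixB : ∀ m ∈ R''.sub K, β m = m := by
    intro m hm
    rw [hR'']
    exact R''.sub_le_fix hK hm
  have hev : e * (v : G) ∈ normalizer (L : Set G) := mul_mem he (le_normalizer v.2)
  have hβe : act L (e * (v : G)) hev = β := by
    rw [← act_mul he (le_normalizer v.2), EFacts.act_of_mem v.2, ← hα, hβ]
  refine ⟨(v : G), (R'.sub K).map L.subtype, (R''.sub K).map L.subtype, ?_⟩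
  constructor
  · exact ⟨v, hvK, rfl⟩
  · exact congrArg Subtype.val hvv
  · exact fun h => hv1 (Subtype.ext h)
  · rintro _ ⟨a, ha, rfl⟩
    have h1 := hfixA a ha
    rw [hα] at h1
    exact (EFacts.act_fix he a.2).mp h1
  · rintro _ ⟨b, hb, rfl⟩
    have h1 := hfixB b hb
    rw [← hβe] at h1
    exact (EFacts.act_fix hev b.2).mp h1
  · intro N hA hB
    have h1 : N.comap L.subtype = ⊤ := by
      refine FldGen.gen_J R' hord hK hcard (fun a ha => hA ⟨a, ha, rfl⟩) fun c hc => hB ?_
      refine ⟨c * c, FldGen.sq_mem R'' (by rw [hord]; decide) hK hcard ?_, rfl⟩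
      rw [← hR'', hβ, MulAut.mul_apply, MulAut.conj_apply, hR', hv]
      exact hc
    intro l hl
    have h3 : (⟨l, hl⟩ : L) ∈ N.comap L.subtype := by rw [h1]; trivial
    exact h3
  · exact dies C R' hcard2
  · exact dies C R'' hcard2

/-- the field `inv` of `ThE.Hyp` -/
theorem inv' (C : EFacts.Cf R x) (e : G) (he : e ∈ normalizer (L : Set G)) (hee : e * e = 1) :
    e ∈ centralizer (L : Set G) ∨ (∃ s ∈ L, s * s = 1 ∧ e * s ∈ centralizer (L : Set G)) ∨
      (∃ l ∈ L, l * e * l⁻¹ * x ∈ centralizer (L : Set G)) ∨ ∃ v A B, Fld L x e v A B := by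
  by_cases hf : R.fld (act L e he) = 1
  · have hα := EFacts.act_sq he hee
    rcases Int.units_eq_one_or (R.o1 (act L e he)) with ho | ho
    · by_cases h1 : act L e he = 1
      · exact Or.inl ((EFacts.act_one_iff' he).mp h1)
      · obtain ⟨⟨s, hs⟩, h2⟩ := R.mem_inn_iff.2 ⟨hf, ho⟩
        refine Or.inr (Or.inl ⟨s, hs, ?_, ?_⟩)
        · have h4 : (⟨s, hs⟩ : L) * ⟨s, hs⟩ = 1 := R.conj_injective (by rw [map_mul, h2, hα, map_one])
          exact congrArg Subtype.val h4
        · rw [← EFacts.act_one_iff' (mul_mem he (le_normalizer hs)), ← act_mul he (le_normalizer hs),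
            EFacts.act_of_mem hs, h2, hα]
    · obtain ⟨h1, h2⟩ := PglType.pgl_of R hα ho
      obtain ⟨h3, h4⟩ := PglType.pgl_of R C.sq (C.o1 C.xN)
      obtain ⟨⟨y, hyL⟩, hy⟩ := R.dtype_conj h1 h2 hα h3 h4 C.sq
      refine Or.inr (Or.inr (Or.inl ⟨y, hyL, ?_⟩))
      have hyN := le_normalizer hyL
      rw [← EFacts.act_one_iff' (mul_mem (mul_mem (mul_mem hyN he) (inv_mem hyN)) C.xN),
        ← act_mul (mul_mem (mul_mem hyN he) (inv_mem hyN)) C.xN]
      have h5 : act L (y * e * y⁻¹) (mul_mem (mul_mem hyN he) (inv_mem hyN)) = act L x C.xN := by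
        rw [← hy, ← act_mul (mul_mem hyN he) (inv_mem hyN), ← act_mul hyN he, EFacts.act_inv hyN,
          EFacts.act_of_mem hyL]
      rw [h5, C.sq]
  · exact Or.inr (Or.inr (Or.inr (fld C he hee hf)))

end grp

end Cfsg.Agent.UGT.Res.FldFacts
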