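import Cfsg.Agent.UGT.Res.COne
import Cfsg.Agent.UGT.Res.FldFacts
import Cfsg.Agent.UGT.Res.FldCens
import Cfsg.Agent.UGT.ThE.End
import Cfsg.Agent.UGT.U2.TypeOf

/-!
# Node R: at most one `L` for each pair, `x ∉ X`, no commuting conjugates

* `cfx_of`: `X = F*(G)` is core-free of index 2 (`G` a minimal counterexample, `x ∉ X`).
* `exists_hon`: a triple `(x, a, L)` and a second involution of `C(a) ∩ C(x)` fixing `L` give `Hon X x L'`.
* `hyp`, `false_of_hon`: Theorem E.
-/

set_option autoImplicit false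

open Cfsg Subgroup
open Cfsg.Agent.SignalizersComponents Cfsg.Agent.Lib
open Cfsg.Agent.SignalizersComponents.IntrinsicBasic
open Cfsg.Agent.Intrinsic.Basic Cfsg.Agent.Intrinsic.Cen
open Cfsg.Agent.OddHalf.D6
open Cfsg.Agent.McLLyComp.Act (fixes_one)
open Cfsg.Agent.UGT.Triple Cfsg.Agent.UGT.TriBase Cfsg.Agent.UGT.Iface
open Cfsg.Agent.UGT.Res.KFacts (Pgl)
open Cfsg.Agent.UGT.Res.EFacts Cfsg.Agent.UGT.Res.CfOf Cfsg.Agent.UGT.Res.Hon Cfsg.Agent.UGT.Res.COne
open Cfsg.Agent.UGT.Res.Base
open Cfsg.Agent.UGT.ThE.Base (IsT IsS)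
open scoped commutatorElement

namespace Cfsg.Agent.UGT.Res.NodeCOne

universe u

local notation "Fs" => generalizedFittingSubgroup

variable {G : Type u} [Group G] [Finite G] {X L : Subgroup G} {x a : G}

/-! ### `X` is core-free -/

omit [Finite G] in
theorem index_two (hx : orderOf x = 2) (htop : Fs G ⊔ zpowers x = ⊤) (g : G) :
    g ∈ Fs G ∨ g * x ∈ Fs G := by
  have hn : (Fs G).Normal := Trich.normal_fs
  have hg : g ∈ Fs G ⊔ zpowers x := by rw [htop]; exact mem_top g
  obtain ⟨n, hn, y, hy, rfl⟩ := mem_sup_of_normal_left.mp hg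
  obtain ⟨k, rfl⟩ := mem_zpowers_iff.mp hy
  have hxx := sq_of_order hx
  rcases Int.even_or_odd' k with ⟨j, rfl | rfl⟩
  · left
    have : x ^ (2 * j) = 1 := by
      rw [zpow_mul, zpow_two, hxx, one_zpow]
    rw [this, mul_one]
    exact hn
  · right
    have : x ^ (2 * j + 1) * x = 1 := by
      rw [zpow_add, zpow_mul, zpow_two, hxx, one_zpow, one_mul, zpow_one, hxx]
    rw [mul_assoc, this, mul_one]
    exact hn

theorem cfx_of (hG : MinCex G) (H : Pgl G) (T : IsTriple x a L) (hx : x ∉ Fs G) :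
    CFX (Fs G) ∧ Fs G ⊔ zpowers x = ⊤ := by
  have hn : (Fs G).Normal := Trich.normal_fs
  rcases Trich.trichotomy hG T.invx (U2.TypeOf.core_ne_bot T) with h1 | ⟨-, h1, h2⟩ | ⟨-, h1, -⟩
  · exact absurd (h1 ▸ mem_top x) hx
  · have hmul : ∀ {g h : G}, g ∉ Fs G → h ∉ Fs G → g * h ∈ Fs G := by
      intro g h hg hh
      have h3 := (index_two T.invx h1 g).resolve_left hg
      have h4 := (index_two T.invx h1 h).resolve_left hh
      have h5 : g * h = (g * x) * (x⁻¹ * (h * x) * x) * (x * x)⁻¹ := by group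
      rw [h5, sq_of_order T.invx, inv_one, mul_one]
      refine mul_mem h3 ?_
      have := hn.conj_mem _ h4 x⁻¹
      rwa [inv_inv] at this
    refine ⟨⟨hmul, ?_⟩, h1⟩
    intro t ht ht2
    rw [eq_bot_iff, ← h2 t ht ht2]
    intro d hd
    refine PumpGen.inf_le_core' hd (PGLFacts.mem_of_sq_mem ?_ (odd_of_core hd))
    by_cases h3 : d ∈ Fs G
    · exact mul_mem h3 h3
    · exact hmul h3 h3
  · exfalso
    obtain ⟨y, hy, hyL, hf⟩ := H.exists_y T
    have h3 : y ∈ core (centralizer ({x} : Set G)) ⊓ (Fs G ⊔ zpowers x) :=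
      ⟨hy, mem_sup_left (U2.TypeOf.le_fs hG T hyL)⟩
    rw [h1, mem_bot] at h3
    rw [h3] at hf
    exact hf (fixes_one L)

/-! ### the honest configuration -/

theorem exists_hon (H : Pgl G) (O : Hon.One G) (C : CFX X) (T : IsTriple x a L) {c : G}
    (hc : orderOf c = 2) (hne : c ≠ a) (hca : c * a = a * c) (hcx : c * x = x * c)
    (hcL : Fixes c L) : ∃ L', Hon X x L' := by
  have haL : Fixes a L := by
    have hf : a ∈ centralizer (L : Set G) := by
      rw [mem_centralizer_iff]
      intro l hl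
      exact comm_c (T.comp.le hl)
    exact fixes_of_comm hf
  have key : ∀ w : G, w ∈ X → orderOf w = 2 → w * a = a * w → w * x = x * w → w * c = c * w →
      Fixes w L → ∃ L', Hon X x L' := by
    intro w hwX hw hwa hwx hwc hwL
    obtain ⟨N, hN⟩ := pump1 H O T hw hwa hwx hwL
    have hcore := C.core_bot hN.1 hwX
    have h1 := comm_of_fixes hcore (hN.fixes T hwa hwL hwa.symm haL)
    have h2 := comm_of_fixes hcore (hN.fixes T hwa hwL hwc.symm hcL)
    exact ⟨N, hon_of H O C hN.1 hwX ⟨a, c, ⟨h1, T.comm, sq_of_order T.inva, ne_one_of_order T.inva⟩,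
      ⟨h2, hcx, sq_of_order hc, ne_one_of_order hc⟩, hne.symm, hca.symm⟩⟩
  by_cases haX : a ∈ X
  · exact key a haX T.inva rfl T.comm hca.symm haL
  by_cases hcX : c ∈ X
  · exact key c hcX hc hca hcx rfl hcL
  have h1 : Commute c a := hca
  refine key (c * a) (C.mul hcX haX) (order_mul (sq_of_order hc) (sq_of_order T.inva) hca hne)
    (h1.mul_left (Commute.refl a)).eq ((show Commute c x from hcx).mul_left T.comm).eq
    ((Commute.refl c).mul_left h1.symm).eq (Cfsg.Agent.McLLyComp.Act.fixes_mul hcL haL)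

section

variable {F : Type*} [Field F] [Finite F] (R : Cfsg.Agent.GH.L2Aut.Rep F L)

/-- no conjugate of `L` commutes with `L` -/
def NC (L : Subgroup G) : Prop := ∀ g : G, ¬ ∀ l ∈ L, g * l * g⁻¹ ∈ centralizer (L : Set G)

theorem ct_le (C : CFX X) (h : Hon X x L) (nc : NC L) {t : G} (ht : IsT L x t) {c : G}
    (hc : c * t = t * c) : c ∈ normalizer (L : Set G) := by
  obtain ⟨htX, T⟩ := h.good ht
  by_cases h1 : cj c L = L
  · exact mem_normalizer_iff_cj.mpr h1
  · exfalso
    apply nc c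
    intro l hl
    exact comm_of_fixes (Hon.core_bot C h) (T.comp.fixes_of_mem
      (Intrinsic.Diag.isComp_cj_of_mem T.comp (mem_c hc)) (Ne.symm h1) (conj_mem_cj hl))

include R in
theorem pre (H : Pgl G) (O : Hon.One G) (C : CFX X) (h : Hon X x L) (h5 : 4 < Nat.card F)
    (nc : NC L) : ThE.Base.Pre L x := by
  have c := Hon.cf H C h R
  exact
    { xx := c.xx
      xM := c.xN
      xLK := c.xLK
      simp := EFacts.simp R (by omega)
      nc := nc
      Cx := fun _ hd => cx_le R H O C h h5 hd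
      Ct := fun _ ht _ hd => ct_le C h nc ht hd
      Cxt := fun _ ht _ hd => cx_le R H O C (h.mul H O C ht) h5 hd
      perf := EFacts.perf R (by omega) }

include R in
theorem hyp (H : Pgl G) (O : Hon.One G) (C : CFX X) (h : Hon X x L) (h5 : 4 < Nat.card F)
    (nc : NC L) : ThE.Base.Hyp L x := by
  have c := Hon.cf H C h R
  have hxX : x ∉ X := by
    obtain ⟨t, u, ht, -⟩ := h.four
    exact C.not_mem (h.good ht).2
  have hcj : ∀ (g : G) {b : G}, g⁻¹ * b * g ∈ X → b ∈ X := by
    intro g b hb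
    have := C.conj (g := g) hb
    have e : g * (g⁻¹ * b * g) * g⁻¹ = b := by group
    rwa [e] at this
  exact
    { toPre := pre R H O C h h5 nc
      four := by
        obtain ⟨t, u, ht, -⟩ := h.four
        exact ⟨t, ht⟩
      rk := fun t ht => h.partner ht
      badT := fun g hg => hxX (hcj g (h.good hg).1)
      badTt := fun t ht g hg => hxX (by
        have h1 := hcj g (h.good hg).1
        have h2 := mul_mem h1 (inv_mem (h.good ht).1)
        rwa [mul_inv_cancel_right] at h2)
      cenx := c.cenx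
      comm := c.comm
      conjS := FldCens.conjS c
      inv := FldFacts.inv' c
      cens := FldCens.cens c }

end

/-- **Theorem E**: no honest configuration without commuting conjugates -/
theorem false_of_hon (hG : MinCex G) (H : Pgl G) (O : Hon.One G) (C : CFX (Fs G))
    (htop : Fs G ⊔ zpowers x = ⊤) (h : Hon (Fs G) x L) (nc : NC L) : False := by
  obtain ⟨t, u, ht, -⟩ := h.four
  obtain ⟨F, _, _, h5, ⟨R⟩⟩ := exists_R H (h.good ht).2 (Hon.core_bot C h)
  have hn : (Fs G).Normal := Trich.normal_fs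
  have hxX : x ∉ Fs G := C.not_mem (h.good ht).2
  refine (hyp R H O C h (by omega) nc).false_of_out hn hxX (U2.TypeOf.le_fs hG (h.good ht).2)
    (fun t ht => (h.good ht).1) ?_ (index_two h.ox htop)
  intro N hN hle hne
  have hs := hG.simple
  have h1 : (N.subgroupOf (Fs G)).Normal := hN.comap _
  rcases h1.eq_bot_or_eq_top with h2 | h2
  · exfalso
    apply hne
    rw [subgroupOf_eq_bot, disjoint_iff, inf_of_le_left hle] at h2
    exact h2
  · exact subgroupOf_eq_top.mp h2

/-- **Node R, `x ∉ X`, at most one `L` for each pair, rank at least two, no commuting conjugates** -/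
theorem false_of (hG : MinCex G) (H : Pgl G) (O : Hon.One G) (T : IsTriple x a L) (hx : x ∉ Fs G)
    {c : G} (hc : orderOf c = 2) (hne : c ≠ a) (hca : c * a = a * c) (hcx : c * x = x * c)
    (hcL : Fixes c L) (nc : ∀ L' : Subgroup G, Hon (Fs G) x L' → NC L') : False := by
  obtain ⟨C, htop⟩ := cfx_of hG H T hx
  obtain ⟨L', h⟩ := exists_hon H O C T hc hne hca hcx hcL
  exact false_of_hon hG H O C htop h (nc L' h)

end Cfsg.Agent.UGT.Res.NodeCOne
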