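import Cfsg.Agent.UGT.Res.CoreFree
import Cfsg.Agent.Lib.KFamily

/-!
# The functor of a 2-balanced group

`G` 2-balanced (`TwoBal G`), `Wd E = ⟨Δ(V) : V ≤ E, |V| = 4⟩` for `E` elementary abelian.

* `Wd_eq`: `Wd U = Wd E` for `U ≤ E`, `|U| ≥ 8`, `|E| ≥ 16`; `odd_Wd`, `cj_Wd`, `normalizer_le`, `le_of_odd`.
* `Four`: `R₀` a four-group, `J ≤ C(R₀)` covering the 2-component `Lr r` of `C(r)` for all `r ∈ R₀#`, `A ≤ J` a
  four-group, `s ∈ A`, `x` an involution with `R₀⟨x, s⟩` elementary abelian of order 16.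
* `Four.J_le`, `Four.centralizer_le`: `J ≤ M`, `C(r) ≤ M` for `r ∈ R₀#`, `M = N(Wd (R₀ A))`.
-/

set_option autoImplicit false
set_option linter.unusedSectionVars false

open Cfsg Subgroup
open Cfsg.Agent.SignalizersComponents Cfsg.Agent.Lib
open Cfsg.Agent.SignalizersComponents.IntrinsicBasic
open Cfsg.Agent.Intrinsic.Basic Cfsg.Agent.Intrinsic.Cen Cfsg.Agent.Intrinsic.Diag
open Cfsg.Agent.McLLyComp.Act
open Cfsg.Agent.UGT.Triple Cfsg.Agent.UGT.PumpGen Cfsg.Agent.UGT.TriBase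
open Cfsg.Agent.UGT.Res.Base Cfsg.Agent.UGT.Res.Abel Cfsg.Agent.UGT.Res.CoreFree
open scoped commutatorElement

namespace Cfsg.Agent.UGT.Res.WFun

variable {G : Type*} [Group G]

/-! ### elementary abelian 2-groups -/

theorem el_of_sq {E : Subgroup G} (h : ∀ e ∈ E, e * e = 1) : IsElementaryAbelian 2 E := by
  refine ⟨⟨⟨fun a b => ?_⟩⟩, fun e he => by rw [pow_two]; exact h e he⟩
  apply Subtype.ext
  have h1 := h _ (mul_mem a.2 b.2)
  have h2 := h _ a.2
  have h3 := h _ b.2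
  change (a : G) * b = b * a
  calc (a : G) * b = (a * a) * (a * b) * (b * b) := by rw [h2, h3, one_mul, mul_one]
    _ = a * ((a * a) * (b * b)) * b := by group
    _ = a * b := by rw [h2, h3, one_mul, mul_one]
    _ = (b * b) * (a * b) * (a * a) := by rw [h2, h3, one_mul, mul_one]
    _ = b * ((b * a) * (b * a)) * a := by group
    _ = b * a := by
      have h4 : (b : G) * a * (b * a) = 1 := h _ (mul_mem b.2 a.2)
      rw [h4, mul_one]

theorem el_mono {E F : Subgroup G} (h : IsElementaryAbelian 2 F) (hle : E ≤ F) :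
    IsElementaryAbelian 2 E := el_of_sq fun _ he => sq_of_el h (hle he)

theorem mem_sup_of_comm {E F : Subgroup G} (hc : ∀ e ∈ E, ∀ f ∈ F, e * f = f * e) {z : G} :
    z ∈ E ⊔ F ↔ ∃ e ∈ E, ∃ f ∈ F, e * f = z := by
  refine CoprimeBasic.mem_sup_iff ?_ z
  intro f hf
  rw [mem_normalizer_iff]
  intro e
  constructor
  · intro he
    rw [← hc e he f hf, mul_inv_cancel_right]
    exact he
  · intro he
    have h1 := hc _ he f hf
    have h2 : e = f * e * f⁻¹ := by
      have h3 : f * e * f⁻¹ * f = f * e := by group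
      rw [h3] at h1
      exact mul_left_cancel h1
    rw [h2]
    exact he

theorem el_sup {E F : Subgroup G} (hE : IsElementaryAbelian 2 E) (hF : IsElementaryAbelian 2 F)
    (hc : ∀ e ∈ E, ∀ f ∈ F, e * f = f * e) : IsElementaryAbelian 2 (E ⊔ F : Subgroup G) := by
  refine el_of_sq fun z hz => ?_
  obtain ⟨e, he, f, hf, rfl⟩ := (mem_sup_of_comm hc).mp hz
  calc e * f * (e * f) = e * (f * e) * f := by group
    _ = e * (e * f) * f := by rw [hc e he f hf]
    _ = (e * e) * (f * f) := by group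
    _ = 1 := by rw [sq_of_el hE he, sq_of_el hF hf, one_mul]

theorem el_cj {E : Subgroup G} (hE : IsElementaryAbelian 2 E) (g : G) :
    IsElementaryAbelian 2 (cj g E) := by
  refine el_of_sq fun z hz => ?_
  rw [mem_cj] at hz
  have h1 := sq_of_el hE hz
  have h2 : z * z = g * (g⁻¹ * z * g * (g⁻¹ * z * g)) * g⁻¹ := by group
  rw [h2, h1]
  group

theorem mem_zpowers_of_sq {r : G} (h : r * r = 1) {z : G} : z ∈ zpowers r ↔ z = 1 ∨ z = r := by
  constructor
  · intro hz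
    obtain ⟨n, rfl⟩ := mem_zpowers_iff.mp hz
    have h2 : r ^ (2 : ℤ) = 1 := by
      rw [zpow_ofNat, pow_two]
      exact h
    rcases Int.even_or_odd' n with ⟨k, rfl | rfl⟩
    · left
      rw [zpow_mul, h2, one_zpow]
    · right
      rw [zpow_add, zpow_mul, h2, one_zpow, one_mul, zpow_one]
  · rintro (rfl | rfl)
    · exact one_mem _
    · exact mem_zpowers _

theorem el_zpowers {r : G} (h : r * r = 1) : IsElementaryAbelian 2 (zpowers r) := by
  refine el_of_sq fun z hz => ?_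
  rcases (mem_zpowers_of_sq h).mp hz with rfl | rfl
  · exact one_mul 1
  · exact h

theorem mem_zpowers_sup {r : G} (h : r * r = 1) {A : Subgroup G} (hc : ∀ a ∈ A, r * a = a * r)
    {z : G} : z ∈ zpowers r ⊔ A ↔ z ∈ A ∨ r * z ∈ A := by
  rw [mem_sup_of_comm]
  · constructor
    · rintro ⟨e, he, a, ha, rfl⟩
      rcases (mem_zpowers_of_sq h).mp he with rfl | rfl
      · left
        rwa [one_mul]
      · right
        rwa [← mul_assoc, h, one_mul]
    · rintro (hz | hz)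
      · exact ⟨1, one_mem _, z, hz, one_mul z⟩
      · refine ⟨r, mem_zpowers r, _, hz, ?_⟩
        rw [← mul_assoc, h, one_mul]
  · intro e he a ha
    rcases (mem_zpowers_of_sq h).mp he with rfl | rfl
    · rw [one_mul, mul_one]
    · exact hc a ha

theorem two_mul_card_le [Finite G] {A E : Subgroup G} (h : A ≤ E) (hne : A ≠ E) :
    2 * Nat.card ↥A ≤ Nat.card ↥E := by
  obtain ⟨k, hk⟩ := card_dvd_of_le h
  have h1 : 0 < Nat.card ↥E := Nat.card_pos
  have hA : 0 < Nat.card ↥A := Nat.card_pos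
  rw [hk] at h1 ⊢
  have hk0 : 0 < k := Nat.pos_of_mul_pos_left h1 |> fun _ => Nat.pos_of_ne_zero (by rintro rfl; simp at h1)
  have hk1 : k ≠ 1 := by
    rintro rfl
    exact hne (Subgroup.eq_of_le_of_card_ge h (by rw [hk, mul_one]))
  have : 2 ≤ k := by omega
  calc 2 * Nat.card ↥A ≤ k * Nat.card ↥A := Nat.mul_le_mul_right _ this
    _ = Nat.card ↥A * k := mul_comm _ _

theorem card_mul_le_sup [Finite G] {E F : Subgroup G} (h : E ⊓ F = ⊥) :
    Nat.card ↥E * Nat.card ↥F ≤ Nat.card ↥(E ⊔ F : Subgroup G) := by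
  rw [← Nat.card_prod]
  refine Nat.card_le_card_of_injective
    (fun p : ↥E × ↥F => (⟨p.1 * p.2, mul_mem (mem_sup_left p.1.2) (mem_sup_right p.2.2)⟩ :
      ↥(E ⊔ F : Subgroup G))) ?_
  rintro ⟨⟨e, he⟩, f, hf⟩ ⟨⟨e', he'⟩, f', hf'⟩ heq
  have h1 : e * f = e' * f' := congrArg Subtype.val heq
  have h2 : e'⁻¹ * e = f' * f⁻¹ := by
    rw [inv_mul_eq_iff_eq_mul, ← mul_assoc, ← h1, mul_inv_cancel_right]
  have h3 : e'⁻¹ * e ∈ E ⊓ F := ⟨E.mul_mem (E.inv_mem he') he,
    h2 ▸ F.mul_mem hf' (F.inv_mem hf)⟩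
  rw [h, mem_bot] at h3
  have h4 : e = e' := by
    rw [inv_mul_eq_one] at h3
    exact h3.symm
  rw [h3] at h2
  have h5 : f = f' := by
    have := eq_mul_inv_iff_mul_eq.mp h2
    rwa [one_mul] at this
  subst h4 h5
  rfl

/-! ### the functor -/

/-- 2-balance, solvable cores -/
structure TwoBal (G : Type*) [Group G] : Prop where
  bal : IsKBalanced 2 2 G
  solv : ∀ a : G, orderOf a = 2 → Group.IsSolvable ↥(centralizerPPrimeCore 2 a)

/-- `W_E` -/
def Wd (E : Subgroup G) : Subgroup G := KFamily.WW (fun D => signalizerDelta 2 D) E (2 ^ 2)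

variable [Finite G]

theorem fam (T : TwoBal G) {E : Subgroup G} (hE : IsElementaryAbelian 2 E)
    (h16 : 16 ≤ Nat.card ↥E) :
    KFamily.Fam 2 2 E (centralizerPPrimeCore 2) (fun D => signalizerDelta 2 D) := by
  have hp : Fact (Nat.Prime 2) := ⟨Nat.prime_two⟩
  refine KFamily.ofDelta (by norm_num) hE (by norm_num; exact h16)
    (fun a ha h1 => T.solv a (order_of_el hE ha h1)) fun D hD hc e he he1 => ?_
  exact T.bal D (el_mono hE hD) hc e (order_of_el hE he he1) fun a ha => comm_of_el hE (hD ha) he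

/-- `W_U = W_E` -/
theorem Wd_eq (T : TwoBal G) {E U : Subgroup G} (hE : IsElementaryAbelian 2 E)
    (h16 : 16 ≤ Nat.card ↥E) (hU : U ≤ E) (h8 : 8 ≤ Nat.card ↥U) : Wd U = Wd E := by
  have hp : Fact (Nat.Prime 2) := ⟨Nat.prime_two⟩
  exact (fam T hE h16).WW_eq hU (by norm_num; exact h8)

/-- `W_E = W_{E'}` if `E ∩ E'` contains a subgroup of order at least 8 -/
theorem Wd_link (T : TwoBal G) {E E' U : Subgroup G} (hE : IsElementaryAbelian 2 E)
    (h16 : 16 ≤ Nat.card ↥E) (hE' : IsElementaryAbelian 2 E') (h16' : 16 ≤ Nat.card ↥E')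
    (hU : U ≤ E) (hU' : U ≤ E') (h8 : 8 ≤ Nat.card ↥U) : Wd E = Wd E' := by
  rw [← Wd_eq T hE h16 hU h8, ← Wd_eq T hE' h16' hU' h8]

theorem odd_Wd (T : TwoBal G) {E : Subgroup G} (hE : IsElementaryAbelian 2 E)
    (h16 : 16 ≤ Nat.card ↥E) : Odd (Nat.card ↥(Wd E)) := by
  have h1 := (fam T hE h16).odd
  rwa [← even_iff_two_dvd, Nat.not_even_iff_odd] at h1

theorem cj_Wd (g : G) (E : Subgroup G) : cj g (Wd E) = Wd (cj g E) := by
  have hp : Fact (Nat.Prime 2) := ⟨Nat.prime_two⟩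
  have key : ∀ (g : G) (E : Subgroup G), cj g (Wd E) ≤ Wd (cj g E) := fun g E =>
    KFamily.WW_conj_le (KFamily.delta_equi 2) E (2 ^ 2) g
  refine le_antisymm (key g E) ?_
  have h1 := cj_mono (g := g) (key g⁻¹ (cj g E))
  rwa [cj_inv_cj, cj_cj_inv] at h1

theorem mem_normalizer_Wd {E : Subgroup G} {g : G} (h : Wd (cj g E) = Wd E) :
    g ∈ normalizer (Wd E : Set G) := by
  rw [mem_normalizer_iff_cj, cj_Wd, h]

theorem normalizer_le (T : TwoBal G) {E U : Subgroup G} (hE : IsElementaryAbelian 2 E)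
    (h16 : 16 ≤ Nat.card ↥E) (hU : U ≤ E) (h8 : 8 ≤ Nat.card ↥U) :
    normalizer (U : Set G) ≤ normalizer (Wd E : Set G) := by
  intro g hg
  have h1 := Wd_eq T hE h16 hU h8
  rw [← h1]
  exact mem_normalizer_Wd (by rw [mem_normalizer_iff_cj.mp hg])

omit [Finite G] in
theorem centralizer_le_normalizer' (U : Subgroup G) :
    centralizer (U : Set G) ≤ normalizer (U : Set G) := centralizer_le_normalizer _

/-- an `E`-invariant subgroup of odd order lies in `N(W_E)` -/
theorem le_of_odd (T : TwoBal G) {E N : Subgroup G} (hE : IsElementaryAbelian 2 E)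
    (h16 : 16 ≤ Nat.card ↥E) (hN : Odd (Nat.card ↥N)) (hn : E ≤ normalizer (N : Set G)) :
    N ≤ normalizer (Wd E : Set G) := by
  have hp : Fact (Nat.Prime 2) := ⟨Nat.prime_two⟩
  have hE1 : E ≠ ⊥ := by
    rintro rfl
    rw [card_bot] at h16
    omega
  have hN2 : ¬ 2 ∣ Nat.card ↥N := by
    rwa [← even_iff_two_dvd, Nat.not_even_iff_odd]
  rw [← Lib.CoprimeHyperplane.iSup_centralizer_hyperplane hE hE1 hN2 hn]
  refine iSup_le fun B => inf_le_right.trans ?_
  have h8 : 8 ≤ Nat.card ↥B.1 := by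
    have := relIndex_mul_relIndex ⊥ B.1 E bot_le B.2.1
    rw [relIndex_bot_left, relIndex_bot_left, B.2.2] at this
    omega
  exact (centralizer_le_normalizer' _).trans (normalizer_le T hE h16 B.2.1 h8)

/-! ### commuting conjugates -/

/-- `A`, `B` 2-groups commuting modulo the group `O` of odd order: `A` commutes with a conjugate `B ^ o`. -/
theorem exists_commuting {O A B : Subgroup G} (hO : Odd (Nat.card ↥O)) (hA : IsPGroup 2 ↥A)
    (hB : IsPGroup 2 ↥B) (nA : A ≤ normalizer (O : Set G)) (nB : B ≤ normalizer (O : Set G))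
    (hAB : ∀ a ∈ A, ∀ b ∈ B, ⁅a, b⁆ ∈ O) :
    ∃ o ∈ O, ∀ a ∈ A, ∀ b ∈ cj o B, a * b = b * a := by
  obtain ⟨X, hX⟩ : ∃ X, X = O ⊔ B := ⟨_, rfl⟩
  have hmem : ∀ z, z ∈ X ↔ ∃ o ∈ O, ∃ b ∈ B, o * b = z := fun z => by
    rw [hX]
    exact CoprimeBasic.mem_sup_iff nB z
  have hOX : O ≤ X := hX ▸ le_sup_left
  have hBX : B ≤ X := hX ▸ le_sup_right
  have hAX : A ≤ normalizer (X : Set G) := by
    have key : ∀ a ∈ A, ∀ z ∈ X, a * z * a⁻¹ ∈ X := by
      intro a ha z hz
      obtain ⟨o, ho, b, hb, rfl⟩ := (hmem z).mp hz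
      have h1 : a * o * a⁻¹ ∈ O := (mem_normalizer_iff.mp (nA ha) o).mp ho
      have h2 : a * b * a⁻¹ = ⁅a, b⁆ * b := by
        rw [commutatorElement_def]
        group
      have h3 : a * (o * b) * a⁻¹ = (a * o * a⁻¹) * (a * b * a⁻¹) := by group
      rw [h3, h2]
      exact mul_mem (hOX h1) (mul_mem (hOX (hAB a ha b hb)) (hBX hb))
    intro a ha
    rw [mem_normalizer_iff]
    refine fun z => ⟨key a ha z, fun h => ?_⟩
    have h1 := key _ (inv_mem ha) _ h
    have h2 : a⁻¹ * (a * z * a⁻¹) * a⁻¹⁻¹ = z := by group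
    rwa [h2] at h1
  obtain ⟨R, hR, hAR⟩ := exists_isSyl (E := X ⊔ A) hA le_sup_right
  have hRX := hR.inf (L := X) le_sup_left (sup_le le_normalizer hAX)
  obtain ⟨g, hg, hBg⟩ := hRX.conj hB hBX
  obtain ⟨o, ho, b, hb, hob⟩ := (hmem g⁻¹).mp (inv_mem hg)
  have hBR : cj o B ≤ R := by
    have h1 : cj g⁻¹ B ≤ R := by
      have := cj_mono (g := g⁻¹) hBg
      rw [cj_inv_cj] at this
      exact this.trans inf_le_left
    rwa [← hob, cj_mul, cj_eq_self_of_mem hb] at h1
  refine ⟨o, ho, fun a ha z hz => ?_⟩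
  rw [← commutatorElement_eq_one_iff_mul_comm]
  have haR := hAR ha
  have hzR := hBR hz
  have h1 : ⁅a, z⁆ ∈ R := by
    rw [commutatorElement_def]
    exact mul_mem (mul_mem (mul_mem haR hzR) (inv_mem haR)) (inv_mem hzR)
  have h2 : ⁅a, z⁆ ∈ O := by
    rw [mem_cj] at hz
    obtain ⟨b', hb'⟩ : ∃ b', b' = o⁻¹ * z * o := ⟨_, rfl⟩
    rw [← hb'] at hz
    have hz' : z = o * b' * o⁻¹ := by rw [hb']; group
    have h3 := hAB a ha b' hz
    have h4 : a * o * a⁻¹ ∈ O := (mem_normalizer_iff.mp (nA ha) o).mp ho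
    have h5 : b' * ((a * o * a⁻¹)⁻¹ * o) * b'⁻¹ ∈ O :=
      (mem_normalizer_iff.mp (nB hz) _).mp (mul_mem (inv_mem h4) ho)
    have h6 : ⁅a, z⁆ = (a * o * a⁻¹) * ⁅a, b'⁆ * (b' * ((a * o * a⁻¹)⁻¹ * o) * b'⁻¹) * o⁻¹ := by
      rw [hz', commutatorElement_def, commutatorElement_def]
      group
    rw [h6]
    exact mul_mem (mul_mem (mul_mem h4 h3) h5) (inv_mem ho)
  obtain ⟨n, hn⟩ := hR.two ⟨_, h1⟩
  exact eq_one_of_mem_odd hO h2 (congrArg Subtype.val hn)

/-! ### `C(r) ≤ M` -/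

/-- `R₀` a four-group, `J ≤ C(R₀)` covers the 2-component `Lr r` of `C(r)` for all `r ∈ R₀#`, `A ≤ J` a four-group,
`J` has 2-rank 2, `Lr r / O(Lr r)` is simple. -/
structure Four (R₀ A J : Subgroup G) (Lr : G → Subgroup G) : Prop where
  cardR : Nat.card ↥R₀ = 4
  sqR : ∀ r ∈ R₀, r * r = 1
  cardA : Nat.card ↥A = 4
  sqA : ∀ a ∈ A, a * a = 1
  AJ : A ≤ J
  comm : J ≤ centralizer (R₀ : Set G)
  comp : ∀ r ∈ R₀, r ≠ 1 → IsComp (centralizer ({r} : Set G)) (Lr r)
  sup : ∀ r ∈ R₀, r ≠ 1 → J ⊔ core (Lr r) = Lr r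
  simp : ∀ r ∈ R₀, r ≠ 1 → ∀ l ∈ Lr r, l * l = 1 → Fixes l (Lr r) → l = 1
  rank : ∀ B ≤ J, (∀ b ∈ B, b * b = 1) → Nat.card ↥B ≤ 4

section four

variable {R₀ A J : Subgroup G} {Lr : G → Subgroup G}

omit [Finite G] in
theorem Four.le (H : Four R₀ A J Lr) {r : G} (hr : r ∈ R₀) (h1 : r ≠ 1) : J ≤ Lr r := by
  rw [← H.sup r hr h1]
  exact le_sup_left

omit [Finite G] in
theorem Four.comm' (H : Four R₀ A J Lr) {r j : G} (hr : r ∈ R₀) (hj : j ∈ J) : r * j = j * r :=
  mem_centralizer_iff.mp (H.comm hj) r hr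

theorem Four.exists_ne (H : Four R₀ A J Lr) : ∃ r ∈ R₀, r ≠ 1 := by
  obtain ⟨r, hr, h1, -⟩ := CoreFree.exists_ne (B := R₀) H.cardR.ge 1
  exact ⟨r, hr, h1⟩

/-- an involution of `J` is not in `R₀` -/
theorem Four.eq_one (H : Four R₀ A J Lr) {j : G} (hj : j ∈ J) (hjR : j ∈ R₀) : j = 1 := by
  obtain ⟨r, hr, h1⟩ := H.exists_ne
  have h2 : Fixes j J := fixes_self' fun k hk => mem_c (H.comm' hjR hk).symm
  exact H.simp r hr h1 j (H.le hr h1 hj) (H.sqR j hjR)
    ((fixes_iff_of_sup (H.sup r hr h1) h2.1 (le_normalizer (H.le hr h1 hj))).mp h2)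

theorem Four.inf (H : Four R₀ A J Lr) {B : Subgroup G} (hB : B ≤ J) : R₀ ⊓ B = ⊥ := by
  rw [eq_bot_iff]
  rintro z ⟨h1, h2⟩
  exact mem_bot.mpr (H.eq_one (hB h2) h1)

omit [Finite G] in
theorem Four.el (H : Four R₀ A J Lr) {B : Subgroup G} (hB : B ≤ J) (h : ∀ b ∈ B, b * b = 1) :
    IsElementaryAbelian 2 (R₀ ⊔ B : Subgroup G) :=
  el_sup (el_of_sq H.sqR) (el_of_sq h) fun _ hr _ hb => H.comm' hr (hB hb)

theorem Four.card (H : Four R₀ A J Lr) {B : Subgroup G} (hB : B ≤ J) :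
    4 * Nat.card ↥B ≤ Nat.card ↥(R₀ ⊔ B : Subgroup G) := by
  rw [← H.cardR]
  exact card_mul_le_sup (H.inf hB)

theorem Four.elA (H : Four R₀ A J Lr) : IsElementaryAbelian 2 (R₀ ⊔ A : Subgroup G) :=
  H.el H.AJ H.sqA

theorem Four.card16 (H : Four R₀ A J Lr) : 16 ≤ Nat.card ↥(R₀ ⊔ A : Subgroup G) := by
  have := H.card H.AJ
  rw [H.cardA] at this
  omega

omit [Finite G] in
theorem mem_c_of_mem_el {E : Subgroup G} (hE : IsElementaryAbelian 2 E) {r : G} (hr : r ∈ E) :
    E ≤ centralizer ({r} : Set G) := fun _ he => mem_c (comm_of_el hE he hr)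

/-- `O(C(r)) ≤ M` -/
theorem Four.core_le (T : TwoBal G) (H : Four R₀ A J Lr) {r : G} (hr : r ∈ R₀) :
    core (centralizer ({r} : Set G)) ≤ normalizer (Wd (R₀ ⊔ A) : Set G) :=
  le_of_odd T H.elA H.card16 (odd_card_core _)
    ((mem_c_of_mem_el H.elA (mem_sup_left hr)).trans (le_normalizer_core _))

/-- the four-groups `A' ≤ J` meeting a four-group `B ≤ J` with `W_{R₀B} = W` in the same Sylow 2-subgroup -/
theorem Four.Wd_eq_of_le (T : TwoBal G) (H : Four R₀ A J Lr) {P B : Subgroup G} (hP : IsPGroup 2 ↥P)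
    (hPJ : P ≤ J) (hAP : A ≤ P) (hBP : B ≤ P) (hB : ∀ b ∈ B, b * b = 1) (hB4 : Nat.card ↥B = 4) :
    Wd (R₀ ⊔ B) = Wd (R₀ ⊔ A) := by
  have hp : Fact (Nat.Prime 2) := ⟨Nat.prime_two⟩
  -- a central involution of `P`
  have hP1 : P ≠ ⊥ := by
    rintro rfl
    have h1 := H.cardA
    have h2 := Nat.card_mono (Set.toFinite _) (show (A : Set G) ⊆ ((⊥ : Subgroup G) : Set G) from hAP)
    have h3 : Nat.card ((⊥ : Subgroup G) : Set G) = 1 := card_bot
    have h4 : Nat.card (A : Set G) = 4 := h1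
    omega
  obtain ⟨z, hzP, hz, hcen⟩ := exists_central hP le_rfl le_normalizer hP1
  have hz2 := sq_of_order hz
  have hmem : ∀ B : Subgroup G, B ≤ P → (∀ b ∈ B, b * b = 1) → Nat.card ↥B = 4 → z ∈ B := by
    intro B hBP hB hB4
    by_contra hzB
    have hc : ∀ e ∈ zpowers z, ∀ b ∈ B, e * b = b * e := by
      intro e he b hb
      rcases (mem_zpowers_of_sq hz2).mp he with rfl | rfl
      · rw [one_mul, mul_one]
      · exact (hcen b (hBP hb)).symm
    have h1 := H.rank (zpowers z ⊔ B) (sup_le (by rw [zpowers_le]; exact hPJ hzP) (hBP.trans hPJ))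
      fun b hb => sq_of_el (el_sup (el_zpowers hz2) (el_of_sq hB) hc) hb
    have h2 := two_mul_card_le (A := B) (E := zpowers z ⊔ B) le_sup_right (fun h => hzB (by
      rw [h]
      exact mem_sup_left (mem_zpowers z)))
    omega
  have hzA := hmem A hAP H.sqA H.cardA
  have hzB := hmem B hBP hB hB4
  have hzJ : zpowers z ≤ J := by
    rw [zpowers_le]
    exact hPJ hzP
  have h8 : 8 ≤ Nat.card ↥(R₀ ⊔ zpowers z : Subgroup G) := by
    have h1 := H.card hzJ
    have h2 : Nat.card ↥(zpowers z) = 2 := by rw [Nat.card_zpowers, hz]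
    omega
  have hBJ := hBP.trans hPJ
  have h16 : 16 ≤ Nat.card ↥(R₀ ⊔ B : Subgroup G) := by
    have := H.card hBJ
    omega
  exact Wd_link T (H.el hBJ hB) h16 H.elA H.card16
    (sup_le_sup_left (by rw [zpowers_le]; exact hzB) _)
    (sup_le_sup_left (by rw [zpowers_le]; exact hzA) _) h8

theorem Four.isPGroupA (H : Four R₀ A J Lr) : IsPGroup 2 ↥A := isPGroup_of_el (el_of_sq H.sqA)

/-- `|⟨r⟩ A| ≥ 8` -/
theorem Four.card8 (H : Four R₀ A J Lr) {r : G} (hr : r ∈ R₀) (h1 : r ≠ 1) {B : Subgroup G}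
    (hB : B ≤ J) (hB4 : Nat.card ↥B = 4) : 8 ≤ Nat.card ↥(zpowers r ⊔ B : Subgroup G) := by
  have h2 := two_mul_card_le (A := B) (E := zpowers r ⊔ B) le_sup_right (fun h => h1 (by
    have h3 : r ∈ B := by
      rw [h]
      exact mem_sup_left (mem_zpowers r)
    exact H.eq_one (hB h3) hr))
  omega

theorem Four.Wd_r (T : TwoBal G) (H : Four R₀ A J Lr) {r : G} (hr : r ∈ R₀) (h1 : r ≠ 1)
    {B : Subgroup G} (hB : B ≤ J) (hB2 : ∀ b ∈ B, b * b = 1) (hB4 : Nat.card ↥B = 4) :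
    Wd (zpowers r ⊔ B) = Wd (R₀ ⊔ B) := by
  have h16 : 16 ≤ Nat.card ↥(R₀ ⊔ B : Subgroup G) := by
    have := H.card hB
    omega
  exact Wd_eq T (H.el hB hB2) h16 (sup_le_sup_right (by rw [zpowers_le]; exact hr) _)
    (H.card8 hr h1 hB hB4)

theorem isSyl_of_sup {J L P : Subgroup G} (hs : J ⊔ core L = L) (hP : IsSyl J P) : IsSyl L P := by
  have hp : Fact (Nat.Prime 2) := ⟨Nat.prime_two⟩
  have hJL : J ≤ L := by rw [← hs]; exact le_sup_left
  refine ⟨hP.two, hP.le.trans hJL, fun R hR hRL hPR => ?_⟩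
  have h1 : Nat.card ↥L ∣ Nat.card ↥(core L) * Nat.card ↥J := by
    have := CoprimeBasic.card_sup_dvd (X := core L) (Y := J) (hJL.trans (le_normalizer_core L))
    rwa [sup_comm, hs] at this
  obtain ⟨k, hk⟩ := hR.exists_card_eq
  have h2 : 2 ^ k ∣ Nat.card ↥J := by
    have h3 : 2 ^ k ∣ Nat.card ↥(core L) * Nat.card ↥J := by
      rw [← hk]
      exact (card_dvd_of_le hRL).trans h1
    exact (Nat.Coprime.pow_left k (coprime_card_core L).symm).dvd_of_dvd_mul_left h3
  have h3 := hP.dvd_card h2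
  rw [← hk] at h3
  exact (Subgroup.eq_of_le_of_card_ge hPR (Nat.le_of_dvd Nat.card_pos h3)).symm

/-- **(2)** `C(r) ≤ M` -/
theorem Four.centralizer_le (T : TwoBal G) (H : Four R₀ A J Lr)
    (hJ : J ≤ normalizer (Wd (R₀ ⊔ A) : Set G)) {r : G} (hr : r ∈ R₀) (h1 : r ≠ 1) :
    centralizer ({r} : Set G) ≤ normalizer (Wd (R₀ ⊔ A) : Set G) := by
  have hL := H.comp r hr h1
  have hr2 := H.sqR r hr
  have hJL := H.le hr h1
  have hAL := H.AJ.trans hJL
  have hO := H.core_le T hr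
  have hLM : Lr r ≤ normalizer (Wd (R₀ ⊔ A) : Set G) := by
    rw [← H.sup r hr h1]
    exact sup_le hJ (hL.core_le_core.trans hO)
  have hW := H.Wd_r T hr h1 H.AJ H.sqA H.cardA
  -- conjugates of `⟨r⟩ A` by elements of `C(r)`
  have hcj : ∀ c : G, c * r = r * c → cj c (zpowers r ⊔ A) = zpowers r ⊔ cj c A := by
    intro c hc
    rw [cj, Subgroup.map_sup]
    congr 1
    rw [MonoidHom.map_zpowers]
    congr 1
    change c * r * c⁻¹ = r
    rw [hc, mul_inv_cancel_right]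
  have key : ∀ c : G, c * r = r * c → Wd (zpowers r ⊔ cj c A) = Wd (R₀ ⊔ A) →
      c ∈ normalizer (Wd (R₀ ⊔ A) : Set G) := by
    intro c hc h
    rw [mem_normalizer_iff_cj, ← hW, cj_Wd, hcj c hc, h, hW]
  intro c hc
  have hcr := comm_c hc
  have hsq : ∀ g : G, ∀ b ∈ cj g A, b * b = 1 := fun g b hb => sq_of_el (el_cj (el_of_sq H.sqA) g) hb
  have hcard : ∀ g : G, Nat.card ↥(cj g A) = 4 := fun g => by rw [card_cj, H.cardA]
  by_cases hcL : cj c (Lr r) = Lr r
  · -- (2a)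
    obtain ⟨P, hP, hAP⟩ := exists_isSyl H.isPGroupA H.AJ
    have hPL := isSyl_of_sup (H.sup r hr h1) hP
    obtain ⟨g, hg, hgA⟩ := hPL.conj (R' := cj c A) (isPGroup_cj H.isPGroupA) (by
      rw [← hcL]
      exact cj_mono hAL)
    have hBP : cj (g⁻¹ * c) A ≤ P := by
      rw [cj_mul]
      have := cj_mono (g := g⁻¹) hgA
      rwa [cj_inv_cj] at this
    have h2 := H.Wd_eq_of_le T hP.two hP.le hAP hBP (hsq _) (hcard _)
    have hgr : g⁻¹ * c * r = r * (g⁻¹ * c) := by
      have h3 : Commute g r := comm_c (hL.le hg)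
      have h4 : Commute c r := hcr
      exact (h3.inv_left.mul_left h4).eq
    have h3 := key _ hgr (by rw [H.Wd_r T hr h1 (hBP.trans hP.le) (hsq _) (hcard _), h2])
    have h4 := mul_mem (hLM hg) h3
    rwa [mul_inv_cancel_left] at h4
  · -- (2b)
    have hL' : IsComp (centralizer ({r} : Set G)) (cj c (Lr r)) := isComp_cj_of_mem hL hc
    have hAr : A ≤ centralizer ({r} : Set G) := hAL.trans hL.le
    have hcAL : cj c A ≤ cj c (Lr r) := cj_mono hAL
    obtain ⟨o, ho, hcomm⟩ := exists_commuting (odd_card_core (centralizer ({r} : Set G))) H.isPGroupA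
      (isPGroup_cj H.isPGroupA (g := c)) (hAr.trans (le_normalizer_core _))
      ((hcAL.trans hL'.le).trans (le_normalizer_core _)) fun a ha b hb =>
        hL.core_le_core (hL.comm_le_core hL' (Ne.symm hcL)
          (commutator_mem_commutator (hAL ha) (hcAL hb))).1
    rw [← cj_mul] at hcomm
    have hor : o * c * r = r * (o * c) := by
      have h3 : Commute o r := comm_c (Cfsg.Agent.Intrinsic.Basic.core_le _ ho)
      have h4 : Commute c r := hcr
      exact (h3.mul_left h4).eq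
    obtain ⟨B, hB⟩ : ∃ B, B = cj (o * c) A := ⟨_, rfl⟩
    rw [← hB] at hcomm
    have hBL : B ≤ cj c (Lr r) := by
      rw [hB, cj_mul]
      have h3 := cj_mono (g := o) hcAL
      rwa [mem_normalizer_iff_cj.mp (hL'.fixes_of_core ho).1] at h3
    have hB2 : ∀ b ∈ B, b * b = 1 := hB ▸ hsq _
    have hB4 : Nat.card ↥B = 4 := hB ▸ hcard _
    have hrA : ∀ a ∈ A, r * a = a * r := fun a ha => H.comm' hr (H.AJ ha)
    have hrB : ∀ b ∈ B, r * b = b * r := fun b hb => (comm_c (hL'.le (hBL hb))).symm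
    have elAB : IsElementaryAbelian 2 (A ⊔ B : Subgroup G) :=
      el_sup (el_of_sq H.sqA) (el_of_sq hB2) hcomm
    have hrAB : ∀ e ∈ zpowers r, ∀ b ∈ A ⊔ B, e * b = b * e := by
      intro e he b hb
      rcases (mem_zpowers_of_sq hr2).mp he with rfl | rfl
      · rw [one_mul, mul_one]
      · obtain ⟨a, ha, b', hb', rfl⟩ := (mem_sup_of_comm hcomm).mp hb
        have h3 : Commute e a := hrA a ha
        have h4 : Commute e b' := hrB b' hb'
        exact (h3.mul_right h4).eq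
    have elE : IsElementaryAbelian 2 (zpowers r ⊔ (A ⊔ B) : Subgroup G) :=
      el_sup (el_zpowers hr2) elAB hrAB
    have h8 := H.card8 hr h1 H.AJ H.cardA
    have hAE : zpowers r ⊔ A ≤ zpowers r ⊔ (A ⊔ B) := sup_le_sup_left le_sup_left _
    have hBE : zpowers r ⊔ B ≤ zpowers r ⊔ (A ⊔ B) := sup_le_sup_left le_sup_right _
    have h8' : 8 ≤ Nat.card ↥(zpowers r ⊔ B : Subgroup G) := by
      rw [hB, ← hcj _ hor, card_cj]
      exact h8
    have hne : zpowers r ⊔ A ≠ zpowers r ⊔ (A ⊔ B) := by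
      intro heq
      obtain ⟨b, hb, hb1, hbr⟩ := CoreFree.exists_ne (B := B) hB4.ge r
      have h3 : b ∈ zpowers r ⊔ A := by
        rw [heq]
        exact mem_sup_right (mem_sup_right hb)
      have hfb : Fixes b (Lr r) := hL.fixes_of_mem hL' (Ne.symm hcL) (hBL hb)
      rcases (mem_zpowers_sup hr2 hrA).mp h3 with h4 | h4
      · exact hb1 (H.simp r hr h1 b (hAL h4) (H.sqA b h4) hfb)
      · have hfr : Fixes r (Lr r) := fixes_self' hL.le
        have h5 := H.simp r hr h1 _ (hAL h4) (H.sqA _ h4) (fixes_mul hfr hfb)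
        apply hbr
        have h6 := eq_inv_of_mul_eq_one_right h5
        rw [h6]
        exact inv_eq_of_mul_eq_one_left hr2
    have h16 : 16 ≤ Nat.card ↥(zpowers r ⊔ (A ⊔ B) : Subgroup G) := by
      have := two_mul_card_le hAE hne
      omega
    have h3 := key _ hor (by
      rw [← hB, Wd_eq T elE h16 hBE h8', ← Wd_eq T elE h16 hAE h8, hW])
    have h4 := mul_mem (inv_mem (hO ho)) h3
    rwa [inv_mul_cancel_left] at h4

end four

/-! ### `J ≤ M` -/

/-- `x` an involution commuting with `R₀` and `s ∈ A#`, `x ∉ R₀ A`, and `J` is generated by `C_J(x)`, `C_J(x s)` and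
`O(J)`. -/
structure FourX (x s : G) (R₀ A J : Subgroup G) (Lr : G → Subgroup G) : Prop extends
    Four R₀ A J Lr where
  xx : x * x = 1
  xR : ∀ r ∈ R₀, x * r = r * x
  sA : s ∈ A
  s1 : s ≠ 1
  xs : x * s = s * x
  xout : x ∉ R₀ ⊔ A
  gen : ∀ N : Subgroup G, J ⊓ centralizer ({x} : Set G) ≤ N → J ⊓ centralizer ({x * s} : Set G) ≤ N →
    core J ≤ N → J ≤ N

/-- `R₀ ⟨s⟩ ⟨x⟩` -/
def EE (x s : G) (R₀ : Subgroup G) : Subgroup G := R₀ ⊔ zpowers s ⊔ zpowers x

section fourx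

variable {x s : G} {R₀ A J : Subgroup G} {Lr : G → Subgroup G}

theorem FourX.el (H : FourX x s R₀ A J Lr) : IsElementaryAbelian 2 (EE x s R₀) := by
  have hsA : zpowers s ≤ A := by
    rw [zpowers_le]
    exact H.sA
  refine el_sup (el_mono H.elA (sup_le_sup_left hsA _)) (el_zpowers H.xx) fun e he z hz => ?_
  have hx : ∀ e ∈ R₀ ⊔ zpowers s, e * x = x * e := by
    intro e he
    obtain ⟨r, hr, t, ht, rfl⟩ := (mem_sup_of_comm (fun r hr t ht =>
      H.comm' hr (H.AJ (hsA ht)))).mp he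
    have h1 : Commute r x := (H.xR r hr).symm
    have h2 : Commute t x := by
      rcases (mem_zpowers_of_sq (H.sqA s H.sA)).mp ht with rfl | rfl
      · exact Commute.one_left x
      · exact H.xs.symm
    exact (h1.mul_left h2).eq
  rcases (mem_zpowers_of_sq H.xx).mp hz with rfl | rfl
  · rw [one_mul, mul_one]
  · exact hx e he

theorem FourX.card8 (H : FourX x s R₀ A J Lr) : 8 ≤ Nat.card ↥(R₀ ⊔ zpowers s : Subgroup G) := by
  have hsJ : zpowers s ≤ J := by
    rw [zpowers_le]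
    exact H.AJ H.sA
  have h1 := H.card hsJ
  have h2 : orderOf s = 2 := orderOf_eq_prime (by rw [pow_two]; exact H.sqA s H.sA) H.s1
  have h3 : Nat.card ↥(zpowers s) = 2 := by rw [Nat.card_zpowers, h2]
  omega

theorem FourX.card16' (H : FourX x s R₀ A J Lr) : 16 ≤ Nat.card ↥(EE x s R₀) := by
  have h1 := H.card8
  have h2 := two_mul_card_le (A := R₀ ⊔ zpowers s) (E := EE x s R₀) le_sup_left (fun h => H.xout (by
    have h3 : x ∈ R₀ ⊔ zpowers s := by
      rw [h]
      exact mem_sup_right (mem_zpowers x)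
    have h4 : R₀ ⊔ zpowers s ≤ R₀ ⊔ A := sup_le_sup_left (by
      rw [zpowers_le]
      exact H.sA) _
    exact h4 h3))
  omega

/-- `W_{R₀⟨x, s⟩} = W_{R₀ A}` -/
theorem FourX.Wd_EE (T : TwoBal G) (H : FourX x s R₀ A J Lr) : Wd (EE x s R₀) = Wd (R₀ ⊔ A) :=
  Wd_link T H.el H.card16' H.elA H.card16 (U := R₀ ⊔ zpowers s) le_sup_left
    (sup_le_sup_left (by rw [zpowers_le]; exact H.sA) _) H.card8

/-- `N(U) ≤ M` for `U ≤ R₀⟨x, s⟩` of order at least 8 -/
theorem FourX.normalizer_le (T : TwoBal G) (H : FourX x s R₀ A J Lr) {U : Subgroup G}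
    (hU : U ≤ EE x s R₀) (h8 : 8 ≤ Nat.card ↥U) :
    normalizer (U : Set G) ≤ normalizer (Wd (R₀ ⊔ A) : Set G) := by
  rw [← H.Wd_EE T]
  exact WFun.normalizer_le T H.el H.card16' hU h8

/-- `O(C(e)) ≤ M` for `e ∈ R₀⟨x, s⟩` -/
theorem FourX.core_le (T : TwoBal G) (H : FourX x s R₀ A J Lr) {e : G} (he : e ∈ EE x s R₀) :
    core (centralizer ({e} : Set G)) ≤ normalizer (Wd (R₀ ⊔ A) : Set G) := by
  rw [← H.Wd_EE T]
  exact le_of_odd T H.el H.card16' (odd_card_core _)
    ((mem_c_of_mem_el H.el he).trans (le_normalizer_core _))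

/-- an element centralizing `R₀` and an involution `e ∈ R₀⟨x, s⟩ ∖ R₀` lies in `M` -/
theorem FourX.mem (T : TwoBal G) (H : FourX x s R₀ A J Lr) {e g : G} (he : e ∈ EE x s R₀)
    (heR : e ∉ R₀) (hg : g ∈ centralizer (R₀ : Set G)) (hge : g ∈ centralizer ({e} : Set G)) :
    g ∈ normalizer (Wd (R₀ ⊔ A) : Set G) := by
  have hEE : R₀ ≤ EE x s R₀ := le_sup_left.trans le_sup_left
  have h1 : R₀ ⊔ zpowers e ≤ EE x s R₀ := sup_le hEE (by rw [zpowers_le]; exact he)
  have h2 := two_mul_card_le (A := R₀) (E := R₀ ⊔ zpowers e) le_sup_left (fun h => heR (by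
    rw [h]
    exact mem_sup_right (mem_zpowers e)))
  rw [H.cardR] at h2
  refine H.normalizer_le T h1 h2 (centralizer_le_normalizer' _ ?_)
  have h3 : R₀ ⊔ zpowers e ≤ centralizer ({g} : Set G) := by
    refine sup_le (fun r hr => mem_c (mem_centralizer_iff.mp hg r hr)) ?_
    rw [zpowers_le]
    exact mem_c (comm_c hge).symm
  rw [mem_centralizer_iff]
  exact fun z hz => comm_c (h3 hz)

/-- **(1)** `J ≤ M` -/
theorem FourX.J_le (T : TwoBal G) (H : FourX x s R₀ A J Lr) :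
    J ≤ normalizer (Wd (R₀ ⊔ A) : Set G) := by
  have hR : R₀ ≤ R₀ ⊔ A := le_sup_left
  have hxE : x ∈ EE x s R₀ := mem_sup_right (mem_zpowers x)
  have hsE : s ∈ EE x s R₀ := mem_sup_left (mem_sup_right (mem_zpowers s))
  refine H.gen _ ?_ ?_ ?_
  · rintro g ⟨hg, hgx⟩
    exact H.mem T hxE (fun h => H.xout (hR h)) (H.comm hg) hgx
  · rintro g ⟨hg, hgx⟩
    refine H.mem T (mul_mem hxE hsE) (fun h => H.xout ?_) (H.comm hg) hgx
    have h1 := mul_mem (hR h) (mem_sup_right (S := R₀) (inv_mem H.sA))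
    rwa [mul_inv_cancel_right] at h1
  · refine le_of_odd T H.elA H.card16 (odd_card_core _) (sup_le ?_ (H.AJ.trans (le_normalizer_core _)))
    intro r hr
    exact normalizer_le_normalizer_core J (fixes_self' (t := r) (K := J) fun j hj =>
      mem_c (H.comm' hr hj).symm).1

/-- **(1)**, **(2)** -/
theorem FourX.centralizer_le' (T : TwoBal G) (H : FourX x s R₀ A J Lr) {r : G} (hr : r ∈ R₀)
    (h1 : r ≠ 1) : centralizer ({r} : Set G) ≤ normalizer (Wd (R₀ ⊔ A) : Set G) :=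
  H.toFour.centralizer_le T (H.J_le T) hr h1

end fourx

/-! ### four-groups of `Lr r` -/

section fine

variable {R₀ A J : Subgroup G} {Lr : G → Subgroup G}

omit [Finite G] in
theorem cj_zpowers_sup {c r : G} (hc : c * r = r * c) (B : Subgroup G) :
    cj c (zpowers r ⊔ B) = zpowers r ⊔ cj c B := by
  rw [cj, Subgroup.map_sup]
  congr 1
  rw [MonoidHom.map_zpowers]
  congr 1
  change c * r * c⁻¹ = r
  rw [hc, mul_inv_cancel_right]

theorem Four.Lr_le (T : TwoBal G) (H : Four R₀ A J Lr)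
    (hJ : J ≤ normalizer (Wd (R₀ ⊔ A) : Set G)) {r : G} (hr : r ∈ R₀) (h1 : r ≠ 1) :
    Lr r ≤ normalizer (Wd (R₀ ⊔ A) : Set G) := by
  rw [← H.sup r hr h1]
  exact sup_le hJ ((H.comp r hr h1).core_le_core.trans (H.core_le T hr))

/-- `W_{⟨r⟩B} = W` for all four-groups `B ≤ Lr r` -/
theorem Four.Wd_of_le (T : TwoBal G) (H : Four R₀ A J Lr)
    (hJ : J ≤ normalizer (Wd (R₀ ⊔ A) : Set G)) {r : G} (hr : r ∈ R₀) (h1 : r ≠ 1)
    {B : Subgroup G} (hBL : B ≤ Lr r) (hB : ∀ b ∈ B, b * b = 1) (hB4 : Nat.card ↥B = 4) :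
    Wd (zpowers r ⊔ B) = Wd (R₀ ⊔ A) := by
  obtain ⟨P, hP, hAP⟩ := exists_isSyl H.isPGroupA H.AJ
  have hPL := isSyl_of_sup (H.sup r hr h1) hP
  have hB2 : IsPGroup 2 ↥B := isPGroup_of_el (el_of_sq hB)
  obtain ⟨g, hg, hgB⟩ := hPL.conj hB2 hBL
  have hBP : cj g⁻¹ B ≤ P := by
    have := cj_mono (g := g⁻¹) hgB
    rwa [cj_inv_cj] at this
  have hsq : ∀ b ∈ cj g⁻¹ B, b * b = 1 := fun b hb => sq_of_el (el_cj (el_of_sq hB) _) hb
  have hcard : Nat.card ↥(cj g⁻¹ B) = 4 := by rw [card_cj, hB4]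
  have h2 := H.Wd_eq_of_le T hP.two hP.le hAP hBP hsq hcard
  have h3 := H.Wd_r T hr h1 (hBP.trans hP.le) hsq hcard
  have hgr : g⁻¹ * r = r * g⁻¹ := by
    have h3 : Commute g r := comm_c ((H.comp r hr h1).le hg)
    exact h3.inv_left.eq
  rw [h2, ← cj_zpowers_sup hgr, ← cj_Wd] at h3
  have h4 := congrArg (cj g) h3
  rw [cj_cj_inv] at h4
  rw [h4]
  exact mem_normalizer_iff_cj.mp (H.Lr_le T hJ hr h1 hg)

/-- `t` is fine for `W`: `C(t) ≤ N(W)`, `L` a 2-component of `C(t)`, `L / O(L)` without central involutions,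
`[O(C(t)), L] ≤ W`, `W = W_{⟨t⟩B}` for all four-groups `B ≤ L`. -/
structure Fine (W : Subgroup G) (t : G) (L : Subgroup G) : Prop where
  inv : orderOf t = 2
  comp : IsComp (centralizer ({t} : Set G)) L
  simp : ∀ l ∈ L, l * l = 1 → Fixes l L → l = 1
  cent : centralizer ({t} : Set G) ≤ normalizer (W : Set G)
  comm : ∀ w ∈ core (centralizer ({t} : Set G)), ∀ l ∈ L, ⁅l, w⁆ ∈ W
  eq : ∀ B ≤ L, (∀ b ∈ B, b * b = 1) → Nat.card ↥B = 4 → Wd (zpowers t ⊔ B) = W

theorem Fine.cj {W : Subgroup G} {t : G} {L : Subgroup G} (F : Fine W t L) (g : G) :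
    Fine (cj g W) (g * t * g⁻¹) (cj g L) where
  inv := by rw [← F.inv]; exact (MulAut.conj g).orderOf_eq t
  comp := by
    rw [← cj_centralizer]
    exact F.comp.cj g
  simp := by
    intro l hl h1 h2
    rw [mem_cj] at hl
    have h3 := h2.cj g⁻¹
    rw [cj_inv_cj] at h3
    have e1 : g⁻¹ * l * g⁻¹⁻¹ = g⁻¹ * l * g := by group
    rw [e1] at h3
    have h4 := F.simp _ hl (by
      calc g⁻¹ * l * g * (g⁻¹ * l * g) = g⁻¹ * (l * l) * g := by group
        _ = 1 := by rw [h1]; group) h3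
    have h5 : l = g * (g⁻¹ * l * g) * g⁻¹ := by group
    rw [h5, h4]
    group
  cent := by
    rw [← cj_centralizer]
    intro c hc
    rw [mem_cj] at hc
    have h1 := F.cent hc
    rw [mem_normalizer_iff_cj] at h1 ⊢
    have h2 := congrArg (IntrinsicBasic.cj g) h1
    rw [← cj_mul] at h2
    have e1 : g * (g⁻¹ * c * g) = c * g := by group
    rw [e1, cj_mul] at h2
    exact h2
  comm := by
    intro w hw l hl
    rw [← cj_centralizer, core_cj, mem_cj] at hw
    rw [mem_cj] at hl ⊢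
    have h1 := F.comm _ hw _ hl
    convert h1 using 1
    rw [commutatorElement_def, commutatorElement_def]
    group
  eq := by
    intro B hB h1 h2
    have h3 : IntrinsicBasic.cj g⁻¹ B ≤ L := by
      have := cj_mono (g := g⁻¹) hB
      rwa [cj_inv_cj] at this
    have h4 := F.eq _ h3 (fun b hb => sq_of_el (el_cj (el_of_sq h1) _) hb) (by rw [card_cj, h2])
    rw [← h4, cj_Wd]
    congr 1
    rw [IntrinsicBasic.cj, Subgroup.map_sup, MonoidHom.map_zpowers]
    congr 1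
    exact (cj_cj_inv g B).symm

/-- the four-group, in the 2-component -/
theorem Fine.eq_of_comm (T : TwoBal G) {W W' : Subgroup G} {t w : G} {L L' B : Subgroup G}
    (F : Fine W t L) (F' : Fine W' w L') (htw : t * w = w * t) (hB : B ≤ L) (hB' : B ≤ L')
    (hB2 : ∀ b ∈ B, b * b = 1) (hB4 : Nat.card ↥B = 4) : W = W' := by
  rw [← F.eq B hB hB2 hB4, ← F'.eq B hB' hB2 hB4]
  have ht2 := sq_of_order F.inv
  have hw2 := sq_of_order F'.inv
  have htB : ∀ b ∈ B, t * b = b * t := fun b hb => (comm_c (F.comp.le (hB hb))).symm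
  have hwB : ∀ b ∈ B, w * b = b * w := fun b hb => (comm_c (F'.comp.le (hB' hb))).symm
  have hzt : ∀ e ∈ zpowers t, ∀ b ∈ B, e * b = b * e := by
    intro e he b hb
    rcases (mem_zpowers_of_sq ht2).mp he with rfl | rfl
    · rw [one_mul, mul_one]
    · exact htB b hb
  have hzw : ∀ e ∈ zpowers w, ∀ b ∈ B, e * b = b * e := by
    intro e he b hb
    rcases (mem_zpowers_of_sq hw2).mp he with rfl | rfl
    · rw [one_mul, mul_one]
    · exact hwB b hb
  have h8 : ∀ {u : G} {L : Subgroup G}, orderOf u = 2 → IsComp (centralizer ({u} : Set G)) L →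
      (∀ l ∈ L, l * l = 1 → Fixes l L → l = 1) → B ≤ L →
      8 ≤ Nat.card ↥(zpowers u ⊔ B : Subgroup G) := by
    intro u L hu hL hs hBL
    have h2 := two_mul_card_le (A := B) (E := zpowers u ⊔ B) le_sup_right (fun h => ne_one_of_order hu (by
      have h3 : u ∈ B := by
        rw [h]
        exact mem_sup_left (mem_zpowers u)
      exact hs u (hBL h3) (sq_of_order hu) (fixes_self' hL.le)))
    omega
  have h8t := h8 F.inv F.comp F.simp hB
  have h8w := h8 F'.inv F'.comp F'.simp hB'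
  obtain ⟨E, hE⟩ : ∃ E, E = zpowers t ⊔ B ⊔ zpowers w := ⟨_, rfl⟩
  have elE : IsElementaryAbelian 2 E := by
    rw [hE]
    refine el_sup (el_sup (el_zpowers ht2) (el_of_sq hB2) hzt) (el_zpowers hw2) fun e he z hz => ?_
    rcases (mem_zpowers_of_sq hw2).mp hz with rfl | rfl
    · rw [one_mul, mul_one]
    · obtain ⟨u, hu, b, hb, rfl⟩ := (mem_sup_of_comm hzt).mp he
      have h2 : Commute b z := (hwB b hb).symm
      have h3 : Commute u z := by
        rcases (mem_zpowers_of_sq ht2).mp hu with rfl | rfl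
        · exact Commute.one_left z
        · exact htw
      exact (h3.mul_left h2).eq
  have h1 : zpowers t ⊔ B ≤ E := hE ▸ le_sup_left
  have h2 : zpowers w ⊔ B ≤ E := by
    rw [hE]
    exact sup_le le_sup_right (le_sup_right.trans le_sup_left)
  by_cases h16 : 16 ≤ Nat.card ↥E
  · rw [Wd_eq T elE h16 h1 h8t, Wd_eq T elE h16 h2 h8w]
  · have h3 : zpowers t ⊔ B = E := by
      by_contra hne
      have := two_mul_card_le h1 hne
      omega
    have h4 : zpowers w ⊔ B = E := by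
      by_contra hne
      have := two_mul_card_le h2 hne
      omega
    rw [h3, h4]

end fine

/-! ### LEMMA CK: `[O(C(r)), J] ≤ W` -/

/-- `Δ(⟨u, v⟩) ≤ W_E` -/
theorem mem_Wd {E : Subgroup G} {u v c : G} (hE : IsElementaryAbelian 2 E) (hu : u ∈ E) (hv : v ∈ E)
    (hu1 : u ≠ 1) (hv1 : v ≠ 1) (huv : u ≠ v) (h1 : c ∈ core (centralizer ({u} : Set G)))
    (h2 : c ∈ core (centralizer ({v} : Set G))) (h3 : c ∈ core (centralizer ({u * v} : Set G))) :
    c ∈ Wd E := by
  have hu2 := sq_of_el hE hu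
  have hv2 := sq_of_el hE hv
  have hc : ∀ e ∈ zpowers u, ∀ b ∈ zpowers v, e * b = b * e := fun e he b hb =>
    comm_of_el hE ((zpowers_le.mpr hu) he) ((zpowers_le.mpr hv) hb)
  obtain ⟨V, hV⟩ : ∃ V, V = zpowers u ⊔ zpowers v := ⟨_, rfl⟩
  have hVE : V ≤ E := hV ▸ sup_le (zpowers_le.mpr hu) (zpowers_le.mpr hv)
  have hcardu : Nat.card ↥(zpowers u) = 2 := by rw [Nat.card_zpowers, order_of_el hE hu hu1]
  have hcardv : Nat.card ↥(zpowers v) = 2 := by rw [Nat.card_zpowers, order_of_el hE hv hv1]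
  have hinf : zpowers u ⊓ zpowers v = ⊥ := by
    rw [eq_bot_iff]
    rintro z ⟨h4, h5⟩
    rw [mem_bot]
    rcases (mem_zpowers_of_sq hu2).mp h4 with rfl | rfl
    · rfl
    · rcases (mem_zpowers_of_sq hv2).mp h5 with h | h
      · exact h
      · exact absurd h huv
  have hcard : Nat.card ↥V = 2 ^ 2 := by
    have h4 := card_mul_le_sup hinf
    rw [hcardu, hcardv, ← hV] at h4
    have h5 : Nat.card ↥V ∣ Nat.card ↥(zpowers u) * Nat.card ↥(zpowers v) := by
      rw [hV]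
      refine CoprimeBasic.card_sup_dvd fun z hz => ?_
      rw [mem_normalizer_iff]
      intro e
      have hcen : ∀ e ∈ zpowers u, z * e * z⁻¹ = e := by
        intro e he
        rw [← hc e he z hz, mul_inv_cancel_right]
      constructor
      · intro he
        rw [hcen e he]
        exact he
      · intro he
        have h6 := hc _ he z hz
        have h7 : z * e * z⁻¹ * z = z * e := by group
        rw [h7] at h6
        rw [mul_left_cancel h6]
        exact he
    rw [hcardu, hcardv] at h5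
    have h6 := Nat.le_of_dvd (by norm_num) h5
    norm_num
    omega
  refine KFamily.le_WW (X := fun D => signalizerDelta 2 D) hVE hcard ?_
  refine mem_iInf.mpr ?_
  rintro ⟨e, he, he1⟩
  change c ∈ core (centralizer ({e} : Set G))
  rw [hV, mem_sup_of_comm hc] at he
  obtain ⟨a, ha, b, hb, he'⟩ := he
  rcases (mem_zpowers_of_sq hu2).mp ha with h | h
  · rcases (mem_zpowers_of_sq hv2).mp hb with h' | h'
    · rw [h, h', one_mul] at he'
      exact absurd he'.symm he1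
    · rw [h, h', one_mul] at he'
      rw [← he']
      exact h2
  · rcases (mem_zpowers_of_sq hv2).mp hb with h' | h'
    · rw [h, h', mul_one] at he'
      rw [← he']
      exact h1
    · rw [h, h'] at he'
      rw [← he']
      exact h3

section ck

variable {x s : G} {R₀ A J : Subgroup G} {Lr : G → Subgroup G}

/-- an element of `C(u) ∩ O(C(e))` -/
theorem comm_mem {u w y : G} (hw : w ∈ centralizer ({u} : Set G))
    (hy : y ∈ core (centralizer ({u} : Set G))) : ⁅y, w⁆ ∈ core (centralizer ({u} : Set G)) := by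
  have h1 : w * y⁻¹ * w⁻¹ ∈ core (centralizer ({u} : Set G)) :=
    conj_mem_core (le_normalizer hw) (inv_mem hy)
  have h2 : ⁅y, w⁆ = y * (w * y⁻¹ * w⁻¹) := by
    rw [commutatorElement_def]
    group
  rw [h2]
  exact mul_mem hy h1

theorem comm_mem' {u w y : G} (hw : w ∈ core (centralizer ({u} : Set G)))
    (hy : y ∈ centralizer ({u} : Set G)) : ⁅y, w⁆ ∈ core (centralizer ({u} : Set G)) := by
  have h1 : y * w * y⁻¹ ∈ core (centralizer ({u} : Set G)) := conj_mem_core (le_normalizer hy) hw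
  rw [commutatorElement_def]
  exact mul_mem h1 (inv_mem hw)

/-- **LEMMA CK** (#12655): `[J, O(C(r))] ≤ W` for `r ∈ R₀#`. -/
theorem FourX.comm_core (T : TwoBal G)
    (hB : ∀ v : G, orderOf v = 2 → HasBProperty ↥(centralizer ({v} : Set G)))
    (H : FourX x s R₀ A J Lr) (hJ : IsComp (centralizer (R₀ : Set G)) J) {y : G} (hyJ : y ∈ J)
    (hy : ∀ f ∈ R₀, y ∈ core (centralizer ({x * f} : Set G)))
    (hsimp : ∀ N : Subgroup G, N ≤ J → J ≤ normalizer (N : Set G) → y ∈ N → J ≤ N) {r : G}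
    (hr : r ∈ R₀) (h1 : r ≠ 1) : ∀ w ∈ core (centralizer ({r} : Set G)), ∀ j ∈ J,
      ⁅j, w⁆ ∈ Wd (R₀ ⊔ A) := by
  have hp : Fact (Nat.Prime 2) := ⟨Nat.prime_two⟩
  obtain ⟨W, hW⟩ : ∃ W, W = Wd (R₀ ⊔ A) := ⟨_, rfl⟩
  obtain ⟨r', hr', h1', hne⟩ := CoreFree.exists_ne (B := R₀) H.cardR.ge r
  have hrr := H.sqR r hr
  have hr'r' := H.sqR r' hr'
  have hcomm : ∀ e ∈ R₀, ∀ f ∈ R₀, e * f = f * e := fun e he f hf =>
    comm_of_el (el_of_sq H.sqR) he hf
  have hRE : R₀ ≤ EE x s R₀ := le_sup_left.trans le_sup_left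
  have hxE : x ∈ EE x s R₀ := mem_sup_right (mem_zpowers x)
  have hxR : ∀ f ∈ R₀, x ≠ f := fun f hf h => H.xout (mem_sup_left (h ▸ hf))
  have hx1 : x ≠ 1 := hxR 1 (one_mem _)
  have hyx : y ∈ core (centralizer ({x} : Set G)) := by
    have := hy 1 (one_mem _)
    rwa [mul_one] at this
  have hyr : ∀ f ∈ R₀, y ∈ centralizer ({f} : Set G) := fun f hf =>
    mem_c (H.comm' hf hyJ).symm
  obtain ⟨O, hO⟩ : ∃ O, O = core (centralizer ({r} : Set G)) := ⟨_, rfl⟩
  have hOM : O ≤ normalizer (W : Set G) := by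
    rw [hO, hW]
    exact H.toFour.core_le T hr
  have hJM : J ≤ normalizer (W : Set G) := hW ▸ H.J_le T
  have hWE : ∀ {u v c : G}, u ∈ EE x s R₀ → v ∈ EE x s R₀ → u ≠ 1 → v ≠ 1 → u ≠ v →
      c ∈ core (centralizer ({u} : Set G)) → c ∈ core (centralizer ({v} : Set G)) →
      c ∈ core (centralizer ({u * v} : Set G)) → c ∈ W := by
    intro u v c hu hv hu1 hv1 huv h1 h2 h3
    rw [hW, ← H.Wd_EE T]
    exact mem_Wd H.el hu hv hu1 hv1 huv h1 h2 h3
  -- the elements `w` of `O` with `[y, w] ∈ W`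
  obtain ⟨N₁, hN₁⟩ : ∃ N₁ : Subgroup G, ∀ w, w ∈ N₁ ↔ w ∈ O ∧ ⁅y, w⁆ ∈ W := by
    refine ⟨{ carrier := {w | w ∈ O ∧ ⁅y, w⁆ ∈ W}
              mul_mem' := ?_
              one_mem' := ⟨one_mem _, by rw [commutatorElement_one_right]; exact one_mem _⟩
              inv_mem' := ?_ }, fun _ => Iff.rfl⟩
    · rintro w w' ⟨h2, h3⟩ ⟨h4, h5⟩
      refine ⟨mul_mem h2 h4, ?_⟩
      have h6 : ⁅y, w * w'⁆ = ⁅y, w⁆ * (w * ⁅y, w'⁆ * w⁻¹) := by
        simp only [commutatorElement_def]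
        group
      rw [h6]
      exact mul_mem h3 ((mem_normalizer_iff.mp (hOM h2) _).mp h5)
    · rintro w ⟨h2, h3⟩
      refine ⟨inv_mem h2, ?_⟩
      have h6 : ⁅y, w⁻¹⁆ = w⁻¹ * ⁅y, w⁆⁻¹ * w⁻¹⁻¹ := by
        simp only [commutatorElement_def]
        group
      rw [h6]
      exact (mem_normalizer_iff.mp (hOM (inv_mem h2)) _).mp (inv_mem h3)
  have hON : O ≤ N₁ := by
    -- `⟨x, r'⟩` acts on `O`
    have hcx : ∀ e ∈ zpowers x, ∀ b ∈ zpowers r', e * b = b * e := fun e he b hb =>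
      comm_of_el H.el ((zpowers_le.mpr hxE) he) ((zpowers_le.mpr (hRE hr')) hb)
    have elV : IsElementaryAbelian 2 (zpowers x ⊔ zpowers r' : Subgroup G) :=
      el_sup (el_zpowers H.xx) (el_zpowers hr'r') hcx
    have hcard : 2 ^ 2 ≤ Nat.card ↥(zpowers x ⊔ zpowers r' : Subgroup G) := by
      have h2 := two_mul_card_le (A := zpowers x) (E := zpowers x ⊔ zpowers r') le_sup_left
        (fun h => by
          have h3 : r' ∈ zpowers x := by
            rw [h]
            exact mem_sup_right (mem_zpowers r')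
          rcases (mem_zpowers_of_sq H.xx).mp h3 with h4 | h4
          · exact h1' h4
          · exact hxR r' hr' h4.symm)
      have h3 : Nat.card ↥(zpowers x) = 2 := by
        rw [Nat.card_zpowers]
        exact orderOf_eq_prime (by rw [pow_two]; exact H.xx) hx1
      norm_num
      omega
    have hVn : (zpowers x ⊔ zpowers r' : Subgroup G) ≤ normalizer (O : Set G) := by
      rw [hO]
      refine le_trans (sup_le ?_ ?_) (le_normalizer_core _)
      · rw [zpowers_le]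
        exact mem_c (H.xR r hr)
      · rw [zpowers_le]
        exact mem_c (hcomm r' hr' r hr)
    have hO2 : ¬ 2 ∣ Nat.card ↥O := by
      rw [hO, ← even_iff_two_dvd, Nat.not_even_iff_odd]
      exact odd_card_core _
    refine (CoprimeGen.le_iSup_centralizer_ne_one elV hcard hO2 hVn).trans (iSup_le ?_)
    rintro ⟨a, ha, ha1⟩ w ⟨hwO, hwa⟩
    refine (hN₁ w).mpr ⟨hwO, ?_⟩
    have hwr : w ∈ core (centralizer ({r} : Set G)) := hO ▸ hwO
    have hwrc := Cfsg.Agent.Intrinsic.Basic.core_le _ hwr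
    have hyw := comm_mem' hwr (hyr r hr)
    -- `f ∈ R₀`, `w ∈ C(x f)`
    have key : ∀ f ∈ R₀, w ∈ centralizer ({x * f} : Set G) → ⁅y, w⁆ ∈ W := by
      intro f hf hwf
      have hxf : x * f * r = x * (f * r) := mul_assoc _ _ _
      have hfr : f * r ∈ R₀ := mul_mem hf hr
      have hwfr : w ∈ centralizer ({x * (f * r)} : Set G) := by
        rw [← hxf]
        have h2 : Commute w (x * f) := comm_c hwf
        have h3 : Commute w r := comm_c hwrc
        exact mem_c (h2.mul_right h3).eq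
      have hne' : x * f ≠ r := by
        intro h
        apply hxR (r * f) (mul_mem hr hf)
        rw [← h, mul_assoc, H.sqR f hf, mul_one]
      have hne1 : x * f ≠ 1 := by
        intro h
        apply hxR f hf
        have := eq_inv_of_mul_eq_one_left h
        rw [this]
        exact inv_eq_of_mul_eq_one_left (H.sqR f hf)
      refine hWE (mul_mem hxE (hRE hf)) (hRE hr) hne1 h1 hne' (comm_mem hwf (hy f hf)) hyw ?_
      rw [hxf]
      exact comm_mem hwfr (hy _ hfr)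
    replace hwa : w ∈ centralizer ({a} : Set G) := hwa
    rw [mem_sup_of_comm hcx] at ha
    obtain ⟨u, hu, v, hv, rfl⟩ := ha
    rcases (mem_zpowers_of_sq H.xx).mp hu with rfl | rfl
    · rcases (mem_zpowers_of_sq hr'r').mp hv with rfl | rfl
      · exact absurd (one_mul 1) ha1
      · -- `w ∈ C(r')`: LEMMA C
        rw [one_mul] at hwa
        have hcc : centralizer ({r} : Set G) ⊓ centralizer ({v} : Set G) =
            centralizer (R₀ : Set G) := by
          apply le_antisymm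
          · rintro g ⟨hg1, hg2⟩
            rw [mem_centralizer_iff]
            have h2 : R₀ ≤ centralizer ({g} : Set G) := by
              have h3 : zpowers r ⊔ zpowers v ≤ centralizer ({g} : Set G) := by
                refine sup_le ?_ ?_
                · rw [zpowers_le]
                  exact mem_c (comm_c hg1).symm
                · rw [zpowers_le]
                  exact mem_c (comm_c hg2).symm
              have h4 : zpowers r ⊔ zpowers v ≤ R₀ := sup_le (zpowers_le.mpr hr) (zpowers_le.mpr hr')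
              have h5 := two_mul_card_le (A := zpowers r) (E := zpowers r ⊔ zpowers v) le_sup_left
                (fun h => by
                  have h6 : v ∈ zpowers r := by
                    rw [h]
                    exact mem_sup_right (mem_zpowers v)
                  rcases (mem_zpowers_of_sq hrr).mp h6 with h7 | h7
                  · exact h1' h7
                  · exact hne h7)
              have h6 : Nat.card ↥(zpowers r) = 2 := by
                rw [Nat.card_zpowers]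
                exact orderOf_eq_prime (by rw [pow_two]; exact hrr) h1
              rw [← Subgroup.eq_of_le_of_card_ge h4 (by rw [H.cardR]; omega)]
              exact h3
            exact fun e he => comm_c (h2 he)
          · exact le_inf (fun g hg => mem_c (mem_centralizer_iff.mp hg r hr).symm)
              fun g hg => mem_c (mem_centralizer_iff.mp hg v hr').symm
        have hr2 : orderOf r = 2 := orderOf_eq_prime (by rw [pow_two]; exact hrr) h1
        have hv2 : orderOf v = 2 := orderOf_eq_prime (by rw [pow_two]; exact hr'r') h1'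
        have hw' := inf_le_core' hwr hwa
        rw [inf_comm] at hw'
        obtain ⟨c1, c2, c3⟩ := lemmaC hB hr2 hv2 (hcomm v hr' r hr) hne.symm
          (by rw [hcc]; exact hJ) hw' hyJ
        exact hWE (hRE hr) (hRE hr') h1 h1' hne.symm c1 c2 c3
    · rcases (mem_zpowers_of_sq hr'r').mp hv with rfl | rfl
      · exact key 1 (one_mem _) hwa
      · exact key v hr' hwa
  -- the elements `j` of `J` with `[j, O] ≤ W`
  obtain ⟨N₂, hN₂⟩ : ∃ N₂ : Subgroup G, ∀ j, j ∈ N₂ ↔ j ∈ J ∧ ∀ w ∈ O, ⁅j, w⁆ ∈ W := by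
    refine ⟨{ carrier := {j | j ∈ J ∧ ∀ w ∈ O, ⁅j, w⁆ ∈ W}
              mul_mem' := ?_
              one_mem' := ⟨one_mem _, fun w _ => by
                rw [commutatorElement_one_left]; exact one_mem _⟩
              inv_mem' := ?_ }, fun _ => Iff.rfl⟩
    · rintro j j' ⟨h2, h3⟩ ⟨h4, h5⟩
      refine ⟨mul_mem h2 h4, fun w hw => ?_⟩
      have h6 : ⁅j * j', w⁆ = j * ⁅j', w⁆ * j⁻¹ * ⁅j, w⁆ := by
        simp only [commutatorElement_def]
        group
      rw [h6]
      exact mul_mem ((mem_normalizer_iff.mp (hJM h2) _).mp (h5 w hw)) (h3 w hw)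
    · rintro j ⟨h2, h3⟩
      refine ⟨inv_mem h2, fun w hw => ?_⟩
      have h6 : ⁅j⁻¹, w⁆ = j⁻¹ * ⁅j, w⁆⁻¹ * j⁻¹⁻¹ := by
        simp only [commutatorElement_def]
        group
      rw [h6]
      exact (mem_normalizer_iff.mp (hJM (inv_mem h2)) _).mp (inv_mem (h3 w hw))
  have hJO : J ≤ normalizer (O : Set G) := by
    rw [hO]
    refine le_trans ?_ (le_normalizer_core _)
    exact fun j hj => mem_c (H.comm' hr hj).symm
  have hJN : J ≤ N₂ := by
    refine hsimp N₂ (fun j hj => ((hN₂ j).mp hj).1) ?_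
      ((hN₂ y).mpr ⟨hyJ, fun w hw => ((hN₁ w).mp (hON hw)).2⟩)
    have key : ∀ k ∈ J, ∀ j ∈ N₂, k * j * k⁻¹ ∈ N₂ := by
      intro k hk j hj
      obtain ⟨h2, h3⟩ := (hN₂ j).mp hj
      refine (hN₂ _).mpr ⟨mul_mem (mul_mem hk h2) (inv_mem hk), fun w hw => ?_⟩
      have h4 : k⁻¹ * w * k⁻¹⁻¹ ∈ O := (mem_normalizer_iff.mp (hJO (inv_mem hk)) w).mp hw
      have h5 : ⁅k * j * k⁻¹, w⁆ = k * ⁅j, k⁻¹ * w * k⁻¹⁻¹⁆ * k⁻¹ := by
        simp only [commutatorElement_def]
        group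
      rw [h5]
      exact (mem_normalizer_iff.mp (hJM hk) _).mp (h3 _ h4)
    intro k hk
    rw [mem_normalizer_iff]
    refine fun j => ⟨key k hk j, fun h => ?_⟩
    have h2 := key _ (inv_mem hk) _ h
    have h3 : k⁻¹ * (k * j * k⁻¹) * k⁻¹⁻¹ = j := by group
    rwa [h3] at h2
  intro w hw j hj
  rw [← hW]
  exact ((hN₂ j).mp (hJN hj)).2 w (hO ▸ hw)

end ck

end Cfsg.Agent.UGT.Res.WFun
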