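import Cfsg.Agent.UGT.Res.NodeCOne
import Cfsg.Agent.UGT.Res.WFun
import Cfsg.Agent.Intrinsic.Functor

/-!
# The residual world: `F*(G)`, B-property, 2-balance

* `cov`: `|G : F*(G)| ≤ 2`; `fs_top`: `G = F*(G)` if `x ∈ F*(G)`.
* `hasB`: the centralizers of involutions have the B-property.
* `twoBal`: `G` is 2-balanced.
-/

set_option autoImplicit false
set_option linter.dupNamespace false

open Cfsg Subgroup
open Cfsg.Agent.SignalizersComponents Cfsg.Agent.Lib
open Cfsg.Agent.SignalizersComponents.IntrinsicBasic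
open Cfsg.Agent.Intrinsic.Basic Cfsg.Agent.Intrinsic.Cen
open Cfsg.Agent.FixBN.BTheorem Cfsg.Agent.FixBN.BRelative
open Cfsg.Agent.McLLyComp.Act (fixes_one)
open Cfsg.Agent.UGT.Triple Cfsg.Agent.UGT.TriBase Cfsg.Agent.UGT.Iface
open Cfsg.Agent.UGT.Res.KFacts (Pgl)
open Cfsg.Agent.UGT.Res.Base Cfsg.Agent.UGT.Res.NodeCOne Cfsg.Agent.UGT.Res.CoreFree

namespace Cfsg.Agent.UGT.Res.Setup

universe u

local notation "Fs" => generalizedFittingSubgroup

variable {G : Type u} [Group G] [Finite G] {x a : G} {L : Subgroup G}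

/-- `|G : F*(G)| ≤ 2` -/
theorem cov (hG : MinCex G) (H : Pgl G) (T : IsTriple x a L) {g h : G} (hg : g ∉ Fs G)
    (hh : h ∉ Fs G) : g * h ∈ Fs G := by
  have hn : (Fs G).Normal := Trich.normal_fs
  rcases Trich.trichotomy hG T.invx (U2.TypeOf.core_ne_bot T) with h1 | ⟨-, h1, -⟩ | ⟨-, h1, -⟩
  · exact h1 ▸ mem_top _
  · have h3 := (index_two T.invx h1 g).resolve_left hg
    have h4 := (index_two T.invx h1 h).resolve_left hh
    have h5 : g * h = (g * x) * (x⁻¹ * (h * x) * x) * (x * x)⁻¹ := by group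
    rw [h5, sq_of_order T.invx, inv_one, mul_one]
    refine mul_mem h3 ?_
    have := hn.conj_mem _ h4 x⁻¹
    rwa [inv_inv] at this
  · exfalso
    obtain ⟨y, hy, hyL, hf⟩ := H.exists_y T
    have h3 : y ∈ core (centralizer ({x} : Set G)) ⊓ (Fs G ⊔ zpowers x) :=
      ⟨hy, mem_sup_left (U2.TypeOf.le_fs hG T hyL)⟩
    rw [h1, mem_bot] at h3
    rw [h3] at hf
    exact hf (fixes_one L)

/-- `G = F*(G)` if `x ∈ F*(G)` -/
theorem fs_top (hG : MinCex G) (H : Pgl G) (T : IsTriple x a L) (hx : x ∈ Fs G) : Fs G = ⊤ := by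
  rcases Trich.trichotomy hG T.invx (U2.TypeOf.core_ne_bot T) with h1 | ⟨h1, -, -⟩ | ⟨-, h1, -⟩
  · exact h1
  · exact absurd hx h1
  · exfalso
    obtain ⟨y, hy, hyL, hf⟩ := H.exists_y T
    have h3 : y ∈ core (centralizer ({x} : Set G)) ⊓ (Fs G ⊔ zpowers x) :=
      ⟨hy, mem_sup_left (U2.TypeOf.le_fs hG T hyL)⟩
    rw [h1, mem_bot] at h3
    rw [h3] at hf
    exact hf (fixes_one L)

/-- **the B-property** -/
theorem hasB (hG : MinCex G) (hk : Known.{u}) (hc : ∀ {g h : G}, g ∉ Fs G → h ∉ Fs G → g * h ∈ Fs G)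
    {v : G} (hv : orderOf v = 2) : HasBProperty ↥(centralizer ({v} : Set G)) := by
  have hn : (Fs G).Normal := Trich.normal_fs
  refine hasB_of_lt hG.small hk ?_
  intro A _ N _ hs hna
  obtain ⟨D, hD⟩ : ∃ D : Subgroup ↥A, D = ((Fs G).subgroupOf (centralizer ({v} : Set G))).subgroupOf A :=
    ⟨_, rfl⟩
  have hDn : D.Normal := by rw [hD]; exact (hn.comap _).comap _
  have hDN : (D.map (QuotientGroup.mk' N)).Normal := hDn.map _ (QuotientGroup.mk'_surjective N)
  have hmem : ∀ a : ↥A, a ∈ D ↔ ((a : ↥(centralizer ({v} : Set G))) : G) ∈ Fs G := by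
    intro a
    rw [hD, mem_subgroupOf, mem_subgroupOf]
  rcases hDN.eq_bot_or_eq_top with h1 | h1
  · -- `D ≤ N`: the quotient has order at most two
    exfalso
    apply hna
    have hDle : ∀ a ∈ D, (QuotientGroup.mk a : ↥A ⧸ N) = 1 := by
      intro a ha
      have : (QuotientGroup.mk a : ↥A ⧸ N) ∈ D.map (QuotientGroup.mk' N) := ⟨a, ha, rfl⟩
      rwa [h1, mem_bot] at this
    have hsq : ∀ a : ↥A ⧸ N, a * a = 1 := by
      intro a
      obtain ⟨a, rfl⟩ := QuotientGroup.mk_surjective a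
      refine hDle (a * a) ((hmem _).mpr ?_)
      by_cases h : ((a : ↥(centralizer ({v} : Set G))) : G) ∈ Fs G
      · exact mul_mem h h
      · exact hc h h
    refine ⟨⟨fun a b => ?_⟩⟩
    have h2 := hsq (a * b)
    have h3 : a * b = (a * b)⁻¹ := eq_inv_of_mul_eq_one_left h2
    rw [h3, mul_inv_rev, inv_eq_of_mul_eq_one_left (hsq a), inv_eq_of_mul_eq_one_left (hsq b)]
  · -- `D` covers the quotient
    have h2 : Nat.card (↥A ⧸ N) ≤ Nat.card ↥D := by
      have h3 : Nat.card ↥(D.map (QuotientGroup.mk' N)) = Nat.card (↥A ⧸ N) := by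
        rw [h1]; exact Nat.card_congr Subgroup.topEquiv.toEquiv
      rw [← h3]
      exact Nat.le_of_dvd Nat.card_pos (card_map_dvd _ _)
    have h3 : Nat.card ↥D ≤ Nat.card ↥(Fs G ⊓ centralizer ({v} : Set G) : Subgroup G) := by
      refine Nat.card_le_card_of_injective
        (fun d : ↥D => (⟨(((d : ↥A) : ↥(centralizer ({v} : Set G))) : G),
          ⟨(hmem _).mp d.2, ((d : ↥A) : ↥(centralizer ({v} : Set G))).2⟩⟩ :
            ↥(Fs G ⊓ centralizer ({v} : Set G) : Subgroup G))) ?_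
      intro d e hde
      apply Subtype.ext
      apply Subtype.ext
      apply Subtype.ext
      exact congrArg (fun z : ↥(Fs G ⊓ centralizer ({v} : Set G) : Subgroup G) => (z : G)) hde
    have h4 : Nat.card ↥(Fs G ⊓ centralizer ({v} : Set G) : Subgroup G) < Nat.card ↥(Fs G) := by
      refine lt_of_le_of_ne (Subgroup.card_le_of_le inf_le_left) fun he => ?_
      have h5 : Fs G ⊓ centralizer ({v} : Set G) = Fs G :=
        Subgroup.eq_of_le_of_card_ge inf_le_left he.ge
      have h6 : v ∈ centralizer (Fs G : Set G) := by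
        rw [mem_centralizer_iff]
        intro y hy
        have h7 : y ∈ Fs G ⊓ centralizer ({v} : Set G) := h5.symm ▸ hy
        exact comm_c h7.2
      rw [Trich.centralizer_fs hG, mem_bot] at h6
      rw [h6, orderOf_one] at hv
      exact absurd hv (by decide)
    exact (h2.trans h3).trans_lt h4

/-- two involutions of a four-group -/
theorem exists_pair {A : Subgroup G} (hA : IsElementaryAbelian 2 A) (hc : Nat.card ↥A = 2 ^ 2) :
    ∃ v ∈ A, ∃ w ∈ A, v ≠ 1 ∧ w ≠ 1 ∧ v * w ≠ 1 := by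
  have h1 : A ≠ ⊥ := by
    rintro rfl
    rw [Subgroup.card_bot] at hc
    exact absurd hc (by decide)
  obtain ⟨⟨v, hv⟩, hv1'⟩ := Subgroup.ne_bot_iff_exists_ne_one.mp h1
  have hv1 : v ≠ 1 := fun h => hv1' (Subtype.ext h)
  have h2 : ∃ w ∈ A, w ∉ zpowers v := by
    by_contra hcon
    push Not at hcon
    have h3 := Subgroup.card_le_of_le (K := zpowers v) (H := A) hcon
    rw [hc, Nat.card_zpowers, order_of_el hA hv hv1] at h3
    omega
  obtain ⟨w, hw, hwv⟩ := h2
  refine ⟨v, hv, w, hw, hv1, fun h => hwv (h ▸ one_mem _), fun h => hwv ?_⟩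
  have h4 : w = v⁻¹ := eq_inv_of_mul_eq_one_right h
  rw [h4]
  exact inv_mem (mem_zpowers v)

/-- **2-balance** -/
theorem twoBal (H : Pgl G) (hs : Intrinsic.Functor.OddSol G) : WFun.TwoBal G where
  bal := by
    intro A hA hc b hb hab d hd
    by_contra hn
    obtain ⟨hd1, hd2⟩ := hd
    have hmem : ∀ v ∈ A, v ≠ 1 → d ∈ core (centralizer ({v} : Set G)) := by
      intro v hv h1
      have h2 : d ∈ signalizerDelta 2 A := hd1
      rw [signalizerDelta, mem_iInf] at h2
      exact h2 ⟨v, hv, h1⟩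
    obtain ⟨v, hv, w, hw, hv1, hw1, hvw⟩ := exists_pair hA hc
    have hd2' : d ∈ centralizer ({b} : Set G) := hd2
    have hn' : d ∉ core (centralizer ({b} : Set G)) := hn
    obtain ⟨J, T, hf⟩ := exists_triple (order_of_el hA hv hv1) hb (hab v hv).symm (hmem v hv hv1) hd2' hn'
    have hvw' := mul_mem hv hw
    have T2 : IsTriple w b J := ⟨order_of_el hA hw hw1, hb, (hab w hw).symm, T.comp, d, hmem w hw hw1, hd2', hf⟩
    have T3 : IsTriple (v * w) b J := ⟨order_of_el hA hvw' hvw, hb, (hab _ hvw').symm, T.comp, d,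
      hmem _ hvw' hvw, hd2', hf⟩
    obtain ⟨F, _, _, -, R, h1⟩ := H.exists_rep T
    have h2 := KFacts.o1_act T2 (H _ _ _ T2).2 R
    have h3 := KFacts.o1_act T3 (H _ _ _ T3).2 R
    have h4 : McLLyComp.Act.act J ⟨v * w, T3.x_mem⟩ =
        McLLyComp.Act.act J ⟨v, T.x_mem⟩ * McLLyComp.Act.act J ⟨w, T2.x_mem⟩ :=
      McLLyComp.Act.act_mul T.x_mem T2.x_mem
    rw [h4, map_mul, h1, h2] at h3
    exact absurd h3 (by decide)
  solv a _ := hs _ (odd_card_core _)

end Cfsg.Agent.UGT.Res.Setup
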