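import Cfsg.Agent.UGT.Res.NodeCOne
import Cfsg.Agent.UGT.Res.WFun
import Cfsg.Agent.Intrinsic.Functor

/-!
# Supply of 2-balance and of the B-property of the centralizers in the residual world

* `bal`: `G` is 2-balanced: if `y ∈ Δ(A) ∩ C(b)` is not in `O(C(b))`, it moves a 2-component `J` of `C(b)`, and all three
  involutions of `A` are of PGL type on `J`.
* `twoBal : TwoBal G`.
* `top_or`: `F*(G) = G`, or `x ∉ F*(G)` and `G = F*(G)⟨x⟩`.
* `hasB`: the B-property of `C(v)`, `v` an involution.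
-/

set_option autoImplicit false

open Cfsg Subgroup
open Cfsg.Agent.SignalizersComponents Cfsg.Agent.Lib
open Cfsg.Agent.SignalizersComponents.IntrinsicBasic
open Cfsg.Agent.SignalizersComponents.PLayerAut
open Cfsg.Agent.Intrinsic.Basic Cfsg.Agent.Intrinsic.Cen
open Cfsg.Agent.McLLyComp.Act
open Cfsg.Agent.FixBN.BTheorem Cfsg.Agent.FixBN.BRelative
open Cfsg.Agent.UGT.Triple Cfsg.Agent.UGT.TriBase Cfsg.Agent.UGT.Iface
open Cfsg.Agent.UGT.Res.Base
open Cfsg.Agent.UGT.Res.KFacts (Pgl)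
open Cfsg.Agent.UGT.Res.WFun (TwoBal)
open scoped commutatorElement

namespace Cfsg.Agent.UGT.Res.TwoBalOf

universe u

local notation "Fs" => generalizedFittingSubgroup

section bal

variable {G : Type u} [Group G] [Finite G]

omit [Finite G] in
theorem mem_delta {A : Subgroup G} {y : G} (hy : y ∈ signalizerDelta 2 A) {a : G} (ha : a ∈ A) (h1 : a ≠ 1) :
    y ∈ core (centralizer ({a} : Set G)) :=
  (mem_iInf.mp hy) ⟨a, ha, h1⟩

/-- no two of `u`, `v`, `u v` ... : `u`, `v`, `uv` are not all bad for the same 2-component -/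
theorem false_of_three (H : Pgl G) {u v b : G} {J : Subgroup G} (T1 : IsTriple u b J) (T2 : IsTriple v b J)
    (T3 : IsTriple (u * v) b J) : False := by
  obtain ⟨F, _, _, -, ⟨R⟩⟩ := KFacts.exists_rep (H u b J T1).1
  have h1 := KFacts.o1_act T1 (H u b J T1).2 R
  have h2 := KFacts.o1_act T2 (H v b J T2).2 R
  have h3 := KFacts.o1_act T3 (H (u * v) b J T3).2 R
  have h4 : act J ⟨u * v, T3.x_mem⟩ = act J ⟨u, T1.x_mem⟩ * act J ⟨v, T2.x_mem⟩ := by
    rw [← map_mul]
    rfl
  rw [h4, map_mul, h1, h2] at h3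
  exact absurd h3 (by decide)

/-- `G` is 2-balanced -/
theorem bal (H : Pgl G) : IsKBalanced 2 2 G := by
  intro A hA hc b hb hcomm y hy
  by_contra hn
  have hyb : y ∈ centralizer ({b} : Set G) := hy.2
  -- a basis of `A`
  obtain ⟨u, v, huA, hvA, hu1, hv1, huv⟩ : ∃ u v : G, u ∈ A ∧ v ∈ A ∧ u ≠ 1 ∧ v ≠ 1 ∧ u * v ≠ 1 := by
    by_contra hcon
    push Not at hcon
    obtain ⟨⟨u, hu⟩, hu1⟩ : ∃ u : ↥A, u ≠ 1 := by
      by_contra h
      push Not at h
      have : Subsingleton ↥A := ⟨fun a b => by rw [h a, h b]⟩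
      rw [Nat.card_of_subsingleton (1 : ↥A)] at hc
      omega
    have hu1' : u ≠ 1 := fun h => hu1 (Subtype.ext h)
    have hle : A ≤ zpowers u := by
      intro v hv
      by_cases hv1 : v = 1
      · rw [hv1]; exact one_mem _
      · have h2 := hcon u v hu hv hu1' hv1
        rw [← inv_eq_of_mul_eq_one_right h2]
        exact inv_mem (mem_zpowers u)
    have h3 : orderOf u = 2 := CoreFree.order_of_el hA hu hu1'
    have h4 := Subgroup.card_le_of_le hle
    rw [Nat.card_zpowers, h3, hc] at h4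
    omega
  have hou : orderOf u = 2 := CoreFree.order_of_el hA huA hu1
  have hov : orderOf v = 2 := CoreFree.order_of_el hA hvA hv1
  have how : orderOf (u * v) = 2 := CoreFree.order_of_el hA (A.mul_mem huA hvA) huv
  have hyu := mem_delta hy.1 huA hu1
  have hyv := mem_delta hy.1 hvA hv1
  have hyw := mem_delta hy.1 (A.mul_mem huA hvA) huv
  obtain ⟨J, T, hf⟩ := exists_triple hou hb (hcomm u huA).symm hyu hyb hn
  exact false_of_three H T ⟨hov, hb, (hcomm v hvA).symm, T.comp, y, hyv, hyb, hf⟩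
    ⟨how, hb, (hcomm _ (A.mul_mem huA hvA)).symm, T.comp, y, hyw, hyb, hf⟩

/-- **2-balance, solvable cores** -/
theorem twoBal (FT : Intrinsic.Functor.OddSol G) (H : Pgl G) : TwoBal G where
  bal := bal H
  solv _ _ := FT _ (odd_card_core _)

end bal

variable {G : Type u} [Group G] [Finite G] {x a : G} {L : Subgroup G}

/-- `F*(G) = G`, or `x ∉ F*(G)` and `G = F*(G)⟨x⟩` -/
theorem top_or (hG : MinCex G) (H : Pgl G) (T : IsTriple x a L) :
    Fs G = ⊤ ∨ (x ∉ Fs G ∧ Fs G ⊔ zpowers x = ⊤) := by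
  rcases Trich.trichotomy hG T.invx (U2.TypeOf.core_ne_bot T) with h1 | ⟨h0, h1, -⟩ | ⟨-, h1, -⟩
  · exact Or.inl h1
  · exact Or.inr ⟨h0, h1⟩
  · exfalso
    obtain ⟨y, hy, hyL, hf⟩ := H.exists_y T
    have h3 : y ∈ core (centralizer ({x} : Set G)) ⊓ (Fs G ⊔ zpowers x) :=
      ⟨hy, mem_sup_left (U2.TypeOf.le_fs hG T hyL)⟩
    rw [h1, mem_bot] at h3
    rw [h3] at hf
    exact hf (fixes_one L)

omit [Finite G] in
theorem comm_quotient {N : Subgroup G} [N.Normal] (h : N ⊔ zpowers x = ⊤) (p q : G ⧸ N) : p * q = q * p := by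
  have key : ∀ p : G ⧸ N, ∃ k : ℤ, p = QuotientGroup.mk (x ^ k) := by
    intro p
    obtain ⟨g, rfl⟩ := QuotientGroup.mk_surjective p
    have hg : g ∈ N ⊔ zpowers x := h ▸ mem_top g
    obtain ⟨n, hn, y, hy, rfl⟩ := mem_sup_of_normal_left.mp hg
    obtain ⟨k, rfl⟩ := mem_zpowers_iff.mp hy
    refine ⟨k, ?_⟩
    rw [QuotientGroup.mk_mul, (QuotientGroup.eq_one_iff n).mpr hn, one_mul]
  obtain ⟨k, rfl⟩ := key p
  obtain ⟨l, rfl⟩ := key q
  rw [← QuotientGroup.mk_mul, ← QuotientGroup.mk_mul, ← zpow_add, ← zpow_add, add_comm]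

/-- `G / F*(G)` is solvable -/
theorem solv_quotient (hG : MinCex G) (H : Pgl G) (T : IsTriple x a L) (hn : (Fs G).Normal) :
    Group.IsSolvable (G ⧸ Fs G) := by
  have h : Fs G ⊔ zpowers x = ⊤ := by
    rcases top_or hG H T with h | ⟨-, h⟩
    · rw [h, top_sup_eq]
    · exact h
  exact Group.isSolvable_of_comm fun p q => comm_quotient h p q

/-- **The B-property of the centralizers of involutions** -/
theorem hasB (hk : Known.{u}) (hG : MinCex G) (H : Pgl G) (T : IsTriple x a L) :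
    ∀ v : G, orderOf v = 2 → HasBProperty ↥(centralizer ({v} : Set G)) := by
  intro v hv
  have hn : (Fs G).Normal := Trich.normal_fs
  have hsol := solv_quotient hG H T hn
  obtain ⟨C, hC⟩ : ∃ C, C = centralizer ({v} : Set G) := ⟨_, rfl⟩
  rw [← hC]
  have hJ : ((Fs G).subgroupOf C).Normal := hn.comap _
  refine hasB_of_lt hG.small hk (isComposition_of_isKGroupWith
    (isKGroupWith_of_solvable_quotient ((Fs G).subgroupOf C) ?_ ?_))
  · let f : ↥C ⧸ (Fs G).subgroupOf C →* G ⧸ Fs G :=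
      QuotientGroup.map ((Fs G).subgroupOf C) (Fs G) C.subtype (le_refl _)
    have hf : Function.Injective f := by
      rw [injective_iff_map_eq_one]
      intro p hp
      obtain ⟨c, rfl⟩ := QuotientGroup.mk_surjective p
      have h1 : ((c : G) : G ⧸ Fs G) = 1 := hp
      exact (QuotientGroup.eq_one_iff c).mpr ((QuotientGroup.eq_one_iff (c : G)).mp h1)
    exact Group.isSolvable_of_isSolvable_injective hf
  · have h1 : Nat.card ↥((Fs G).subgroupOf C) = Nat.card ↥(Fs G ⊓ C : Subgroup G) := by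
      rw [← subgroupOf_map_subtype, card_map_of_injective C.subtype_injective]
    rw [h1]
    refine lt_of_le_of_ne (Subgroup.card_le_of_le inf_le_left) fun he => ?_
    have h2 : Fs G ⊓ C = Fs G := Subgroup.eq_of_le_of_card_ge inf_le_left he.ge
    have h3 : v ∈ centralizer (Fs G : Set G) := by
      rw [mem_centralizer_iff]
      intro y hy
      have h4 : y ∈ C := (show y ∈ Fs G ⊓ C by rw [h2]; exact hy).2
      rw [hC] at h4
      exact comm_c h4
    rw [Trich.centralizer_fs hG, mem_bot] at h3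
    exact ne_one_of_order hv h3

end Cfsg.Agent.UGT.Res.TwoBalOf
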