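import Cfsg.Agent.UGT.Res.WOne

/-!
# `Δ(⟨x, t⟩) = 1` in the world `W = 1`

`dl`: `HonW x L`, `t` an involution of `C(L) ∩ C(x)`: `O(C(x)) ∩ O(C(t)) ∩ O(C(xt)) = 1`.
-/

set_option autoImplicit false
set_option linter.unusedSectionVars false

open Cfsg Subgroup
open Cfsg.Agent.SignalizersComponents Cfsg.Agent.Lib
open Cfsg.Agent.SignalizersComponents.IntrinsicBasic
open Cfsg.Agent.Intrinsic.Basic Cfsg.Agent.Intrinsic.Cen
open Cfsg.Agent.McLLyComp.Act
open Cfsg.Agent.UGT.Triple Cfsg.Agent.UGT.TriBase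
open Cfsg.Agent.UGT.Res.Base Cfsg.Agent.UGT.Res.KFacts
open Cfsg.Agent.UGT.Res.WFun Cfsg.Agent.UGT.Res.WPair Cfsg.Agent.UGT.Res.WGlueA
open Cfsg.Agent.UGT.Res.WGlue Cfsg.Agent.UGT.Res.HonW Cfsg.Agent.UGT.Res.WOne
open Cfsg.Agent.UGT.ThE.Base (IsT IsS)

namespace Cfsg.Agent.UGT.Res.WDl

universe u

variable {G : Type u} [Group G] [Finite G]

/-- **`Δ(⟨x, t⟩) = 1`** -/
theorem dl (P : Pgl G) (O : Hon.One G) (TB : TwoBal G)
    (hB : ∀ v : G, orderOf v = 2 → HasBProperty ↥(centralizer ({v} : Set G))) (hW : WOne.WOne G)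
    {x t d : G} {L : Subgroup G} (h : HonW x L) (ht : IsT L x t)
    (hd : d ∈ core (centralizer ({x} : Set G))) (hdt : d ∈ core (centralizer ({t} : Set G)))
    (hdx : d ∈ core (centralizer ({x * t} : Set G))) : d = 1 := by
  obtain ⟨u, hu, hut, hc⟩ := h.partner ht
  have T := h.good ht
  have hou := Hon.order_isT hu
  have hfu : Fixes u L := Hon.fixes_of_comm hu.mem
  obtain ⟨W, H, h1, h2, h3, -⟩ := glue P O TB hB T hou hut hc hu.comm hfu
  have hW1 : W = ⊥ := hW T hou hut hc hu.comm hfu h3 (by rw [h2, h1])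
  subst hW1
  obtain ⟨s, A, hX⟩ := exists_fourX P O T hou hut hc hu.comm hfu
  have htR : t ∈ zpowers t ⊔ zpowers u := mem_sup_left (mem_zpowers t)
  have e1 := hX.toFour.Wd_of_le TB (hX.J_le TB) htR ht.ne (hX.AJ.trans (hX.toFour.le htR ht.ne))
    hX.sqA hX.cardA
  have e2 := h3.eq A (hX.AJ.trans (cen_le L u)) hX.sqA hX.cardA
  have e3 := hX.Wd_EE TB
  rw [← e1, e2] at e3
  have h4 := mem_Wd hX.el (mem_sup_right (mem_zpowers x))
    (mem_sup_left (mem_sup_left htR)) (ne_one_of_order h.ox) ht.ne (h.ne ht) hd hdt hdx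
  rw [e3, mem_bot] at h4
  exact h4

/-- **the world `W = 1`** -/
theorem world (P : Pgl G) (O : Hon.One G) (TB : TwoBal G)
    (hB : ∀ v : G, orderOf v = 2 → HasBProperty ↥(centralizer ({v} : Set G))) (hW : WOne.WOne G) :
    World G :=
  WOne.world P O TB hB hW fun h ht hd hdt hdx => dl P O TB hB hW h ht hd hdt hdx

end Cfsg.Agent.UGT.Res.WDl
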