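import Cfsg.Agent.UGT.FourA.Final
import Cfsg.Agent.UGT.Res.Setup
import Cfsg.Agent.UGT.Res.TwoBalOf
import Cfsg.Agent.UGT.Res.WDl
import Cfsg.Agent.UGT.Paired.OfBBS
import Cfsg.Agent.UGT.Blk.TopEnd
import Cfsg.Agent.UGT.CaseG.OfBBS
import Cfsg.Agent.UGT.InUList

/-!
# Assembly of the residual world

`Missing7`: the open leaves of `Nodes.NodeR`, with their literal types; `nodeR` is the assembly.
-/

set_option autoImplicit false
set_option linter.dupNamespace false

open Cfsg Subgroup
open Cfsg.Agent.SignalizersComponents Cfsg.Agent.Lib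
open Cfsg.Agent.SignalizersComponents.IntrinsicBasic
open Cfsg.Agent.Intrinsic.Basic
open Cfsg.Agent.FixBN.BTheorem
open Cfsg.Agent.UGT.Triple Cfsg.Agent.UGT.TriBase Cfsg.Agent.UGT.Iface Cfsg.Agent.UGT.Nodes
open Cfsg.Agent.UGT.InUList
open Cfsg.Agent.UGT.FourA.Hon (OneInv NoFld)
open Cfsg.Agent.UGT.Res.KFacts (Pgl)

namespace Cfsg.Agent.UGT.Res.TreeB

universe u

local notation "Fs" => generalizedFittingSubgroup

/-- The open leaves of the residual world. -/
structure Missing7 : Prop where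
  /-- `a` is the only involution of `C_{C(a) ∩ C(x)}(L / O(L))` for all triples, field type 2-elements exist -/
  fld : ∀ (G : Type u) [Group G] [Finite G], MinCex G → Pgl G → OneInv G → ¬ NoFld G →
    ¬ SectionalPRankLE 2 4 G → (∃ (x a : G) (L : Subgroup G), IsTriple x a L) → False
  /-- `G` simple: `W = 1` -/
  w : ∀ (G : Type u) [Group G] [Finite G], MinCex G → Pgl G → Fs G = ⊤ →
    TwoSup.WOne G ∧ (Hon.One G → WOne.WOne G)

/-- **N7** -/
theorem nodeR (k4 : PK4.{u}) (hE : Excl.{u} K4End) (hk : Known.{u})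
    (FT : ∀ (G : Type u) [Group G] [Finite G], Intrinsic.Functor.OddSol G) (m : Missing7.{u}) :
    NodeR.{u} := by
  intro G _ _ hG H hex
  have hr := InUList.rank k4 hE hG
  by_cases hO : OneInv G
  · obtain ⟨x, a, L, T⟩ := hex
    by_cases hN : NoFld G
    · exact FourA.Final.false_of hG H hN hO hr T
    · exact m.fld G hG H hO hN hr ⟨x, a, L, T⟩
  · obtain ⟨x, a, L, T, b, hbb, hba, hbx, hf, hb1, hne⟩ : ∃ (x a : G) (L : Subgroup G), IsTriple x a L ∧
        ∃ b : G, b * b = 1 ∧ b * a = a * b ∧ b * x = x * b ∧ Fixes b L ∧ b ≠ 1 ∧ b ≠ a := by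
      unfold OneInv at hO
      push Not at hO
      obtain ⟨x, a, L, T, b, h1, h2, h3, h4, h5, h6⟩ := hO
      exact ⟨x, a, L, T, b, h1, h2, h3, h4, h5, h6⟩
    have hb : orderOf b = 2 := orderOf_eq_prime (by rw [pow_two]; exact hbb) hb1
    have hB := TwoBalOf.hasB hk hG H T
    by_cases hx : x ∈ Fs G
    · have htop := Setup.fs_top hG H T hx
      have hs : IsSimpleGroup G := by
        have h1 : IsSimpleGroup ↥(Fs G) := hG.simple
        have e : (↥(⊤ : Subgroup G)) ≃* G := Subgroup.topEquiv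
        rw [htop] at h1
        exact e.symm.isSimpleGroup
      have TB := TwoBalOf.twoBal (FT G) H
      obtain ⟨hw1, hw2⟩ := m.w G hG H htop
      have O : Hon.One G := fun T T' =>
        Blk.TopEnd.one_W H Blk.TopEnd.isSimple_top (fun _ _ => mem_top _) hB hw1 T T'
      have S := HonW.bbs_honW (WDl.world H O TB hB (hw2 O))
        (Blk.TopEnd.np H Blk.TopEnd.isSimple_top (fun _ _ => mem_top _))
      exact Paired.OfBBS.false_of_simple S (WOne.hon_of H O TB hB (hw2 O) T hb hne hba hbx hf)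
    · obtain ⟨C, -⟩ := NodeCOne.cfx_of hG H T hx
      have O : Hon.One G := fun T T' => Blk.TopEnd.one_cfx H hG.simple hB C T T'
      exact CaseG.OfBBS.false_of hG H O T hx hb hne hba hbx hf

end Cfsg.Agent.UGT.Res.TreeB
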