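import Cfsg.Agent.UGT.Res.WGlueA

/-!
# The glue: one pair `(W, H)` for all involutions of `K0 W H ∩ C(x)`

World `One G`, `G` 2-balanced with the B-property: a triple `(x, a, L)` with an involution `t ≠ a` of `C(a) ∩ C(x)`
fixing `L` gives `(W, H)`, `O(H) = W`, `L W = H`, such that every involution `t` of `K0 W H ∩ C(x)` is good:
`(x, t, L_t)` is a triple, `t` is fine for `(W, L_t)` and `L_t W = H`.

* `Gd x W H t`: `t` is good.
* `Gd.step`, `Gd.all`; `Gd.mem_K0`, `Gd.x_mem`, `Gd.ff`.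
* `glue`: everything together.
-/

set_option autoImplicit false
set_option linter.unusedSectionVars false

open Cfsg Subgroup
open Cfsg.Agent.SignalizersComponents Cfsg.Agent.Lib
open Cfsg.Agent.SignalizersComponents.IntrinsicBasic
open Cfsg.Agent.SignalizersComponents.IntrinsicIntr
open Cfsg.Agent.SignalizersComponents.PLayerAut
open Cfsg.Agent.Intrinsic.Basic Cfsg.Agent.Intrinsic.Cen Cfsg.Agent.Intrinsic.Diag
open Cfsg.Agent.McLLyComp.Act
open Cfsg.Agent.UGT.Triple Cfsg.Agent.UGT.LemG Cfsg.Agent.UGT.PumpGen Cfsg.Agent.UGT.TriBase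
open Cfsg.Agent.UGT.Res.Base Cfsg.Agent.UGT.Res.KMax Cfsg.Agent.UGT.Res.KOne
open Cfsg.Agent.UGT.Res.Abel Cfsg.Agent.UGT.Res.CoreFree
open Cfsg.Agent.UGT.Res.KFacts Cfsg.Agent.UGT.Res.Hon
open Cfsg.Agent.UGT.Res.WFun Cfsg.Agent.UGT.Res.WPair Cfsg.Agent.UGT.Res.WStar
open Cfsg.Agent.UGT.Res.WGlueA
open Cfsg.Agent.UGT.Iface Cfsg.Agent.UGT.Nodes
open scoped commutatorElement

namespace Cfsg.Agent.UGT.Res.WGlue

universe u

variable {G : Type u} [Group G] [Finite G]

/-! ### generalities -/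

/-- a 2-component of `C` covering `H / O(H)` is normalized by `C ∩ N(H)` -/
theorem mem_normalizer_of_cover {C H L : Subgroup G} (hL : IsComp C L) (hs : L ⊔ core H = H) {c : G}
    (hc : c ∈ C) (hcH : c ∈ normalizer (H : Set G)) : c ∈ normalizer (L : Set G) := by
  rw [mem_normalizer_iff_cj]
  by_contra hne
  have hL' := isComp_cj_of_mem hL hc
  have hs' : cj c L ⊔ core H = H := by
    have h1 := congrArg (cj c) hs
    rw [cj_sup, ← core_cj, mem_normalizer_iff_cj.mp hcH] at h1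
    exact h1
  have h1 := hL.comm_le_core hL' (Ne.symm hne)
  have h2 : ⁅L, cj c L⁆ ≤ core H := h1.trans (inf_le_left.trans (core_le_of_sup hs))
  have hLH : L ≤ H := by
    rw [← hs]
    exact le_sup_left
  have hLH' : cj c L ≤ H := by
    rw [← hs']
    exact le_sup_left
  have h3 := comm_sup_le (hLH.trans (le_normalizer_core H)) (hLH'.trans (le_normalizer_core H))
  rw [hs, hs', sup_of_le_right h2] at h3
  have h4 : L ≤ core H := by
    rw [← hL.perfect]
    exact (commutator_mono hLH hLH).trans h3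
  exact hL.not_odd (odd_card_core H) h4

/-- `L` of a triple contains a four-group -/
theorem exists_B (P : Pgl G) {x a : G} {L : Subgroup G} (T : IsTriple x a L) :
    ∃ B ≤ L, (∀ b ∈ B, b * b = 1) ∧ Nat.card ↥B = 4 := by
  obtain ⟨F, _, _, -, R, -⟩ := P.exists_rep T
  have hs : L ⊔ core L = L := sup_of_le_left (core_le L)
  obtain ⟨c, d, h4⟩ := R.exists_four
  obtain ⟨s, -, hsL, -, hss, hsc⟩ := lift_inv (J := L) hs (v := 1) (one_mul 1) (one_mem _) (one_mem _)
    (k := c) (by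
      have : (⟨1, one_mem _⟩ : ↥(normalizer (L : Set G))) = 1 := rfl
      rw [this, map_one]
      rfl) h4.aa
  have hact : act L ⟨s, le_normalizer hsL⟩ d = d := by
    rw [act_of_mem hsL, hsc, MulAut.conj_apply, h4.comm, mul_inv_cancel_right]
  obtain ⟨b, -, hbL, hsb, hbb, hbd⟩ := lift_inv (J := L) hs hss (le_normalizer hsL)
    (le_normalizer hsL) hact h4.bb
  have hs1 : s ≠ 1 := by
    rintro rfl
    exact h4.a1 (hsc ▸ rfl)
  have hb1 : b ≠ 1 := by
    rintro rfl
    exact h4.b1 (hbd ▸ rfl)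
  have hsb' : s ≠ b := by
    rintro rfl
    exact h4.ne (hsc.symm.trans hbd)
  have hos : orderOf s = 2 := orderOf_eq_prime (by rw [pow_two]; exact hss) hs1
  have hob : orderOf b = 2 := orderOf_eq_prime (by rw [pow_two]; exact hbb) hb1
  refine ⟨zpowers s ⊔ zpowers b, sup_le (zpowers_le.mpr hsL) (zpowers_le.mpr hbL), ?_,
    card_four hos hob hsb' hsb⟩
  intro e he
  refine sq_of_el (el_sup (el_zpowers hss) (el_zpowers hbb) fun e he f hf => ?_) he
  rcases (mem_zpowers_of_sq hss).mp he with h | h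
  · rw [h, one_mul, mul_one]
  · rcases (mem_zpowers_of_sq hbb).mp hf with h' | h'
    · rw [h', one_mul, mul_one]
    · rw [h, h', hsb]

/-! ### good involutions -/

/-- `t` is good for `(W, H)` -/
def Gd (x : G) (W H : Subgroup G) (t : G) : Prop := ∃ L, IsTriple x t L ∧ Fine W t L ∧ L ⊔ W = H

section gd

variable {x : G} {W H : Subgroup G}

theorem Gd.cj {g t : G} (h : Gd x W H t) (hg : g ∈ M0 W H) (hgx : g * x = x * g) :
    Gd x W H (g * t * g⁻¹) := by
  obtain ⟨L, T, F, hL⟩ := h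
  have hW := mem_normalizer_iff_cj.mp hg.1
  have hH := mem_normalizer_iff_cj.mp hg.2
  refine ⟨IntrinsicBasic.cj g L, ?_, ?_, ?_⟩
  · have h1 := T.cj g
    rwa [hgx, mul_inv_cancel_right] at h1
  · have h1 := F.cj g
    rwa [hW] at h1
  · have h1 := congrArg (IntrinsicBasic.cj g) hL
    rwa [cj_sup, hW, hH] at h1

theorem sup_core (hc : core H = W) {L : Subgroup G} (hL : L ⊔ W = H) : L ⊔ core H = H := by
  rw [hc]
  exact hL

theorem Gd.mem_K0 (hc : core H = W) {t : G} (h : Gd x W H t) : t ∈ K0 W H := by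
  obtain ⟨L, T, F, hL⟩ := h
  have hW : t ∈ normalizer (W : Set G) := F.cent (mem_c rfl)
  have hf : Fixes t L := fixes_self' T.comp.le
  have hH : t ∈ normalizer (H : Set G) := by
    rw [mem_normalizer_iff_cj, ← hL, cj_sup, mem_normalizer_iff_cj.mp hf.1,
      mem_normalizer_iff_cj.mp hW]
  exact ⟨⟨hW, hH⟩, (fixes_iff_of_sup (sup_core hc hL) hf.1 hH).mp hf⟩

theorem Gd.x_mem {t : G} (h : Gd x W H t) : x ∈ M0 W H := by
  obtain ⟨L, T, F, hL⟩ := h
  have hW : x ∈ normalizer (W : Set G) := F.cent (mem_c T.comm.symm)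
  have hH : x ∈ normalizer (H : Set G) := by
    rw [mem_normalizer_iff_cj, ← hL, cj_sup, mem_normalizer_iff_cj.mp T.x_mem,
      mem_normalizer_iff_cj.mp hW]
  exact ⟨hW, hH⟩

/-- an involution of `C(t)` normalizing and fixing `L_t` -/
theorem mem_K0_of_fixes (hc : core H = W) {t u : G} {L : Subgroup G} (F : Fine W t L)
    (hL : L ⊔ W = H) (hut : u * t = t * u) (hf : Fixes u L) : u ∈ K0 W H := by
  have hW : u ∈ normalizer (W : Set G) := F.cent (mem_c hut)
  have hH : u ∈ normalizer (H : Set G) := by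
    rw [mem_normalizer_iff_cj, ← hL, cj_sup, mem_normalizer_iff_cj.mp hf.1,
      mem_normalizer_iff_cj.mp hW]
  exact ⟨⟨hW, hH⟩, (fixes_iff_of_sup (sup_core hc hL) hf.1 hH).mp hf⟩

/-- the elements of `K0 W H` commuting with `t` fix `L_t` -/
theorem fixes_of_K0 (hc : core H = W) {t u : G} {L : Subgroup G} (F : Fine W t L)
    (hL : L ⊔ W = H) (hut : u * t = t * u) (hu : u ∈ K0 W H) : Fixes u L := by
  have hn := mem_normalizer_of_cover F.comp (sup_core hc hL) (mem_c hut) hu.1.2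
  exact (fixes_iff_of_sup (sup_core hc hL) hn hu.1.2).mpr hu.2

variable (P : Pgl G) (O : Hon.One G) (TB : TwoBal G)
  (hB : ∀ v : G, orderOf v = 2 → HasBProperty ↥(centralizer ({v} : Set G)))

include P O TB hB

theorem Gd.step (hc : core H = W) {t u : G} (h : Gd x W H t) (hu : u ∈ K0 W H)
    (ou : orderOf u = 2) (hut : u * t = t * u) (hux : u * x = x * u) : Gd x W H u := by
  by_cases hne : u = t
  · rw [hne]
    exact h
  obtain ⟨L, T, F, hL⟩ := h
  have hf := fixes_of_K0 hc F hL hut hu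
  obtain ⟨W', h1, h2, -, h4⟩ := glue_one P O T ou hne hut hux hf TB hB
  obtain ⟨B, hBL, hB2, hB4⟩ := exists_B P T
  have hWW : W' = W := by rw [← h1.eq B hBL hB2 hB4, F.eq B hBL hB2 hB4]
  rw [hWW] at h2 h4
  refine ⟨tri x u, ?_, h2, by rw [h4, hL]⟩
  exact (pump_R P O T ou hne hut hux hf u (mem_sup_right (mem_zpowers u)) (ne_one_of_order ou)).1

/-- **all involutions of `K0 W H ∩ C(x)` are good if one is** -/
theorem Gd.all (hc : core H = W) {a : G} (h : Gd x W H a) {t : G} (ht : t ∈ K0 W H)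
    (ot : orderOf t = 2) (htx : t * x = x * t) : Gd x W H t := by
  have haK := h.mem_K0 hc
  obtain ⟨oa, hax⟩ : orderOf a = 2 ∧ a * x = x * a := by
    obtain ⟨L, T, -, -⟩ := h
    exact ⟨T.inva, T.comm⟩
  have haa := sq_of_order oa
  have htt := sq_of_order ot
  obtain ⟨C, hC⟩ : ∃ C, C = K0 W H ⊓ centralizer ({x} : Set G) := ⟨_, rfl⟩
  obtain ⟨Q, hQ, haQ⟩ := exists_isSyl (E := C) (isPGroup_of_el (el_zpowers haa)) (by
    rw [zpowers_le, hC]
    exact ⟨haK, mem_c hax⟩)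
  rw [zpowers_le] at haQ
  have hQ1 : Q ≠ ⊥ := by
    rintro rfl
    exact ne_one_of_order oa (mem_bot.mp haQ)
  have hmem : ∀ {g : G}, g ∈ C → g ∈ K0 W H ∧ g * x = x * g := fun {g} hg => by
    rw [hC] at hg
    exact ⟨hg.1, comm_c hg.2⟩
  obtain ⟨w, hw, hw2, hwc⟩ := exists_central hQ.two le_rfl le_normalizer hQ1
  have hwC := hmem (hQ.le hw)
  have hwG : Gd x W H w := h.step P O TB hB hc hwC.1 hw2 (hwc _ haQ).symm hwC.2
  obtain ⟨k, hk, htk⟩ := hQ.conj (isPGroup_of_el (el_zpowers htt)) (by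
    rw [zpowers_le, hC]
    exact ⟨ht, mem_c htx⟩)
  rw [zpowers_le, mem_cj] at htk
  have hkC := hmem hk
  obtain ⟨t', ht'⟩ : ∃ t', t' = k⁻¹ * t * k := ⟨_, rfl⟩
  rw [← ht'] at htk
  have htt' : k * t' * k⁻¹ = t := by rw [ht']; group
  have ht'C := hmem (hQ.le htk)
  have h1 : Gd x W H t' := by
    refine hwG.step P O TB hB hc ht'C.1 ?_ (hwc _ htk) ht'C.2
    rw [ht', ← ot]
    have := (MulAut.conj k⁻¹).orderOf_eq t
    rw [MulAut.conj_apply, inv_inv] at this
    exact this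
  have h2 := h1.cj (K0_le hkC.1) hkC.2
  rwa [htt'] at h2

end gd

/-- a fine involution is `FF` -/
theorem ff_of_fine {W H L : Subgroup G} {t : G} (hc : core H = W) (F : Fine W t L)
    (hL : L ⊔ W = H) : FF W H t := by
  have hWH : W ≤ H := hL ▸ le_sup_right
  have hLH : L ≤ H := hL ▸ le_sup_left
  have hHW : H ≤ normalizer (W : Set G) := by
    rw [← hc]
    exact le_normalizer_core H
  intro A hA hA2 hA4
  refine F.eq A ?_ hA2 hA4
  intro g hg
  obtain ⟨hgH, hgt⟩ := hA hg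
  rw [← hL] at hgH
  obtain ⟨l, hl, w, hw, hlw⟩ := (mem_sup_left_iff (hLH.trans hHW)).mp hgH
  have hwt : w ∈ centralizer ({t} : Set G) := by
    have h1 : w = l⁻¹ * g := by rw [← hlw]; group
    rw [h1]
    exact (centralizer ({t} : Set G)).mul_mem ((centralizer ({t} : Set G)).inv_mem (F.comp.le hl)) hgt
  have hwN := mem_normalizer_of_cover F.comp (sup_core hc hL) hwt (le_normalizer (hWH hw))
  have hwc : w ∈ core H := hc ▸ hw
  exact mem_of_pow (n := 1) hlw.symm hl hwN (odd_order_of_core hwc)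
    (by rw [pow_one, pow_two]; exact hA2 g hg)

/-- **The glue.** -/
theorem glue (P : Pgl G) (O : Hon.One G) (TB : TwoBal G)
    (hB : ∀ v : G, orderOf v = 2 → HasBProperty ↥(centralizer ({v} : Set G))) {x a t : G}
    {L : Subgroup G} (T : IsTriple x a L) (ot : orderOf t = 2) (hne : t ≠ a) (hta : t * a = a * t)
    (htx : t * x = x * t) (htL : Fixes t L) :
    ∃ W H : Subgroup G, core H = W ∧ L ⊔ W = H ∧ Fine W a L ∧ x ∈ M0 W H ∧ a ∈ K0 W H ∧
      t ∈ K0 W H ∧ FF W H a ∧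
      ∀ u ∈ K0 W H, orderOf u = 2 → u * x = x * u → Gd x W H u := by
  obtain ⟨W, h1, -, h3, -⟩ := glue_one P O T ot hne hta htx htL TB hB
  have hgd : Gd x W (L ⊔ W) a := ⟨L, T, h1, rfl⟩
  exact ⟨W, L ⊔ W, h3, rfl, h1, hgd.x_mem, hgd.mem_K0 h3, mem_K0_of_fixes h3 h1 rfl hta htL,
    ff_of_fine h3 h1 rfl, fun u hu ou hux => hgd.all P O TB hB h3 hu ou hux⟩

end Cfsg.Agent.UGT.Res.WGlue
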