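import Cfsg.Agent.UGT.Res.WSup

/-!
# R4: the PGL side, transport from `L` to `H = L O(H)`

* `tr R e`: transport of a representation along an isomorphism, `fld_tr`, `o1_tr`.
* `supply`: `(x, a, L)` a triple, `L O(H) = H`, `O(H) = W`, `x ∈ M0 W H`: `Pt W H` and a representation of
  `H / O(H)` with `lam x = -1`.
-/

set_option autoImplicit false

open Cfsg Subgroup
open Cfsg.Agent.SignalizersComponents Cfsg.Agent.Lib
open Cfsg.Agent.SignalizersComponents.IntrinsicBasic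
open Cfsg.Agent.Intrinsic.Basic Cfsg.Agent.Intrinsic.Cen Cfsg.Agent.Intrinsic.Diag
open Cfsg.Agent.McLLyComp.Act
open Cfsg.Agent.UGT.Triple Cfsg.Agent.UGT.PumpGen Cfsg.Agent.UGT.TriBase
open Cfsg.Agent.UGT.Res.Base Cfsg.Agent.UGT.Res.Abel Cfsg.Agent.UGT.Res.CoreFree
open Cfsg.Agent.UGT.Res.WFun Cfsg.Agent.UGT.Res.WPair Cfsg.Agent.UGT.Res.WStar
open Cfsg.Agent.UGT.Res.WSup Cfsg.Agent.UGT.Res.KFacts
open scoped commutatorElement

namespace Cfsg.Agent.UGT.Res.WSupB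

section tr

variable {F : Type*} [Field F] {L L' : Type*} [Group L] [Group L']

/-- transport of a representation -/
def tr (R : Cfsg.Agent.GH.L2Aut.Rep F L) (e : L ≃* L') : Cfsg.Agent.GH.L2Aut.Rep F L' where
  π := e.toMonoidHom.comp R.π
  surj := e.surjective.comp R.surj
  ker := fun x => by
    rw [← R.ker]
    exact e.map_eq_one_iff
  two := R.two

variable [Finite F]

theorem lift_tr (R : Cfsg.Agent.GH.L2Aut.Rep F L) (e : L ≃* L') {α : MulAut L} {α' : MulAut L'}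
    (h : ∀ l, α' (e l) = e (α l)) : (tr R e).lift α' = R.lift α :=
  (tr R e).lift_eq fun x => by
    change α' (e (R.π x)) = e (R.π (R.lift α x))
    rw [h, R.lift_apply]

theorem fld_tr (R : Cfsg.Agent.GH.L2Aut.Rep F L) (e : L ≃* L') {α : MulAut L} {α' : MulAut L'}
    (h : ∀ l, α' (e l) = e (α l)) : (tr R e).fld α' = R.fld α := by
  change Cfsg.Agent.Classification.QDW.TypeHom.typ ((tr R e).lift α') =
    Cfsg.Agent.Classification.QDW.TypeHom.typ (R.lift α)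
  rw [lift_tr R e h]

theorem o1_tr (R : Cfsg.Agent.GH.L2Aut.Rep F L) (e : L ≃* L') {α : MulAut L} {α' : MulAut L'}
    (h : ∀ l, α' (e l) = e (α l)) : (tr R e).o1 α' = R.o1 α := by
  obtain ⟨g, hg⟩ := R.exists_eq α
  obtain ⟨σ, hσ⟩ : ∃ σ, σ = R.fld α := ⟨_, rfl⟩
  rw [← hσ] at hg
  have h1 : α' = (tr R e).gl g * (tr R e).fa σ := by
    apply (tr R e).ext_π
    intro x
    rw [MulAut.mul_apply, (tr R e).fa_apply, (tr R e).gl_apply]
    change α' (e (R.π x)) = e (R.π _)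
    rw [h, hg, MulAut.mul_apply, R.fa_apply, R.gl_apply]
  rw [(tr R e).o1_eq h1, R.o1_eq hg]

end tr

universe u

variable {G : Type u} [Group G] [Finite G]

omit [Finite G] in
/-- the action on `H / O(H)` and on `L / O(L)`, `L O(H) = H` -/
theorem act_transfer {L H : Subgroup G} {x : G} (hxL : x ∈ normalizer (L : Set G))
    (hxH : x ∈ normalizer (H : Set G)) (hLH : L ≤ H) (e : (↥L ⧸ oddCore ↥L) ≃* (↥H ⧸ oddCore ↥H))
    (he : ∀ (j : G) (hj : j ∈ L) (hjX : j ∈ H),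
      e (QuotientGroup.mk ⟨j, hj⟩) = QuotientGroup.mk ⟨j, hjX⟩) (l : ↥L ⧸ oddCore ↥L) :
    act H ⟨x, hxH⟩ (e l) = e (act L ⟨x, hxL⟩ l) := by
  obtain ⟨⟨l, hl⟩, rfl⟩ := QuotientGroup.mk_surjective l
  rw [he l hl (hLH hl), act_mk hxL hl, act_mk hxH (hLH hl), he _ (conj_mem hxL hl)
    (conj_mem hxH (hLH hl))]

/-- a representation of `H / O(H)` with `x` of PGL type -/
theorem exists_rep (P : Pgl G) {x a : G} {L H : Subgroup G} (T : IsTriple x a L)
    (hs : L ⊔ core H = H) (hx : x ∈ normalizer (H : Set G)) :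
    ∃ (F : Type) (_ : Field F) (_ : Finite F) (R : Cfsg.Agent.GH.L2Aut.Rep F (↥H ⧸ oddCore ↥H)),
      5 ≤ Nat.card F ∧ R.o1 (act H ⟨x, hx⟩) = -1 := by
  obtain ⟨F, i1, i2, h5, R, ho⟩ := P.exists_rep T
  obtain ⟨e, he⟩ := exists_quotEquiv hs
  have hLH : L ≤ H := by
    rw [← hs]
    exact le_sup_left
  refine ⟨F, i1, i2, tr R e, h5, ?_⟩
  rw [o1_tr R e (act_transfer T.x_mem hx hLH e he), ho]

/-- **the supply of R4**: `(x, a, L)` a triple, `L W = H`, `O(H) = W`, `x ∈ M0 W H` -/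
theorem supply (P : Pgl G) {x a : G} {L W H : Subgroup G} (T : IsTriple x a L)
    (hc : core H = W) (hs : L ⊔ W = H) (hx : x ∈ M0 W H) :
    Pt W H ∧ ∃ (F : Type) (_ : Field F) (_ : Finite F)
      (R : Cfsg.Agent.GH.L2Aut.Rep F (↥H ⧸ oddCore ↥H)),
      5 ≤ Nat.card F ∧ lam R W ⟨x, hx⟩ = -1 := by
  obtain ⟨F, i1, i2, R, h5, ho⟩ := exists_rep P T (by rw [hc]; exact hs) hx.2
  have nW : H ≤ normalizer (W : Set G) := by
    rw [← hc]
    exact le_normalizer_core H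
  have hLH : L ≤ H := by
    rw [← hs]
    exact le_sup_left
  refine ⟨pt_of R (by omega) hc.ge nW ?_ ?_, F, i1, i2, R, h5, ho⟩
  · apply le_antisymm (sup_le ?_ ?_)
    · calc H = L ⊔ W := hs.symm
        _ = ⁅L, L⁆ ⊔ W := by rw [T.comp.perfect]
        _ ≤ ⁅H, H⁆ ⊔ W := sup_le_sup_right (commutator_mono hLH hLH) _
    · rw [commutator_le]
      intro a ha b hb
      rw [commutatorElement_def]
      exact mul_mem (mul_mem (mul_mem ha hb) (inv_mem ha)) (inv_mem hb)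
    · rw [← hs]
      exact le_sup_right
  · rw [commutator_le, ← hc]
    intro h hh c hcc
    rw [commutatorElement_def]
    exact mul_mem (conj_mem_core (le_normalizer hh) hcc) (inv_mem hcc)

end Cfsg.Agent.UGT.Res.WSupB
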