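import Cfsg.Agent.UGT.Res.WGlueA

/-!
# The functor from trivial pump-ups

As `WGlueA.lean`, for a triple `(x, a, L)` and an involution `t` such that the pump-ups of `L` to the involutions of
`R₀ = ⟨a, t⟩` are trivial (structure `PR`), and an element `y` as in LEMMA W (`YJ`).

* `exists_fourX`: `FourX x s R₀ A J Lr`.
* `comm_core`: LEMMA CK, `[J, O(C(r))] ≤ W_{R₀A}`.
* `glue_one`.
-/

set_option autoImplicit false
set_option linter.unusedSectionVars false

open Cfsg Subgroup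
open Cfsg.Agent.SignalizersComponents Cfsg.Agent.Lib
open Cfsg.Agent.SignalizersComponents.IntrinsicBasic
open Cfsg.Agent.SignalizersComponents.IntrinsicIntr
open Cfsg.Agent.SignalizersComponents.PLayerAut
open Cfsg.Agent.Intrinsic.Basic Cfsg.Agent.Intrinsic.Cen Cfsg.Agent.Intrinsic.Diag
open Cfsg.Agent.McLLyComp.Act
open Cfsg.Agent.UGT.Triple Cfsg.Agent.UGT.LemG Cfsg.Agent.UGT.PumpGen Cfsg.Agent.UGT.TriBase
open Cfsg.Agent.UGT.Res.Base Cfsg.Agent.UGT.Res.KMax Cfsg.Agent.UGT.Res.KOne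
open Cfsg.Agent.UGT.Res.Abel Cfsg.Agent.UGT.Res.CoreFree
open Cfsg.Agent.UGT.Res.KFacts Cfsg.Agent.UGT.Res.Hon
open Cfsg.Agent.UGT.Res.WFun Cfsg.Agent.UGT.Res.WPair Cfsg.Agent.UGT.Res.WStar
open Cfsg.Agent.UGT.Res.WGlueA (lift_J lift_inv le_of_cover mem_of_pow odd_order_of_core card_four
  cen_mul_eq simp_of rank_of)
open Cfsg.Agent.UGT.Iface Cfsg.Agent.UGT.Nodes
open scoped commutatorElement

namespace Cfsg.Agent.UGT.Res.WGlueP

universe u

variable {G : Type u} [Group G] [Finite G]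

/-- The pump-ups of `L` to the involutions of `⟨a, t⟩` are trivial. -/
structure PR (x a t : G) (L : Subgroup G) (Lr : G → Subgroup G) : Prop where
  T : IsTriple x a L
  ot : orderOf t = 2
  ne : t ≠ a
  ta : t * a = a * t
  tx : t * x = x * t
  tL : Fixes t L
  pump : ∀ r ∈ zpowers a ⊔ zpowers t, r ≠ 1 → IsTriple x r (Lr r) ∧ cen L t ⊔ core (Lr r) = Lr r
  La : Lr a = L

/-- the element for LEMMA CK -/
def YJ (x a t : G) (L : Subgroup G) : Prop :=
  ∃ y ∈ cen L t, y ∈ core (centralizer ({x} : Set G)) ∧ ¬ Fixes y L ∧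
    ∀ f ∈ zpowers a ⊔ zpowers t, y ∈ core (centralizer ({x * f} : Set G))

section cfg

variable {x a t : G} {L : Subgroup G} {Lr : G → Subgroup G} (H : Pgl G) (S : PR x a t L Lr)

include H S

/-- **the configuration** -/
theorem exists_fourX : ∃ (s : G) (A : Subgroup G),
    FourX x s (zpowers a ⊔ zpowers t) A (cen L t) Lr := by
  have T := S.T
  have ht := S.ot
  have hne := S.ne
  have hta := S.ta
  have htx := S.tx
  have htL := S.tL
  have ha2 := sq_of_order T.inva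
  have ht2 := sq_of_order ht
  have hx2 := sq_of_order T.invx
  have haa : ∀ z ∈ zpowers t, a * z = z * a := by
    intro z hz
    rcases (mem_zpowers_of_sq ht2).mp hz with rfl | rfl
    · rw [mul_one, one_mul]
    · exact hta.symm
  obtain ⟨hJ, hs⟩ := isComp_cen T.comp (mem_c hta) ht2 htL
  have hpump := S.pump
  obtain ⟨J, hJd⟩ : ∃ J, J = cen L t := ⟨_, rfl⟩
  rw [← hJd] at hJ hs hpump ⊢
  have hJL : J ≤ L := hJd ▸ cen_le L t
  have hxJ : x ∈ normalizer (J : Set G) := hJd ▸ mem_normalizer_cen T.x_mem htx.symm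
  have hJa : ∀ j ∈ J, a * j = j * a := fun j hj => (comm_c (T.comp.le (hJL hj))).symm
  have hJt : ∀ j ∈ J, t * j = j * t := fun j hj => (comm_of_mem_cen (hJd ▸ hj)).symm
  have hJR : ∀ r ∈ zpowers a ⊔ zpowers t, ∀ j ∈ J, r * j = j * r := by
    intro r hr j hj
    have h1 : zpowers a ⊔ zpowers t ≤ centralizer ({j} : Set G) :=
      sup_le (zpowers_le.mpr (mem_c (hJa j hj))) (zpowers_le.mpr (mem_c (hJt j hj)))
    exact comm_c (h1 hr)
  have hRx : ∀ r ∈ zpowers a ⊔ zpowers t, r * x = x * r := by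
    intro r hr
    have h1 : zpowers a ⊔ zpowers t ≤ centralizer ({x} : Set G) :=
      sup_le (zpowers_le.mpr (mem_c T.comm)) (zpowers_le.mpr (mem_c htx))
    exact comm_c (h1 hr)
  obtain ⟨F, _, _, h5, R, ho⟩ := H.exists_rep T
  obtain ⟨v, hv, hvv, hv1⟩ := OddHalf.D6.PglType.exists_fix_involution R (act_sq T) ho
  obtain ⟨s, hsJ, hsL, hxs, hss, hsv⟩ := lift_inv hs hx2 hxJ T.x_mem hv hvv
  have hs1 : s ≠ 1 := by
    rintro rfl
    exact hv1 (hsv ▸ rfl)
  have hos : orderOf s = 2 := orderOf_eq_prime (by rw [pow_two]; exact hss) hs1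
  obtain ⟨b, hbJ, hsb, hbb, hb1, hbs⟩ : ∃ b ∈ J, s * b = b * s ∧ b * b = 1 ∧ b ≠ 1 ∧ b ≠ s := by
    obtain ⟨c, d, h4⟩ := R.exists_four
    obtain ⟨g, hg⟩ := R.inv_conj h4.aa h4.a1 hvv hv1
    obtain ⟨b, hb⟩ : ∃ b, b = g * d * g⁻¹ := ⟨_, rfl⟩
    have hbv : v * b = b * v := by
      rw [← hg, hb]
      calc g * c * g⁻¹ * (g * d * g⁻¹) = g * (c * d) * g⁻¹ := by group
        _ = g * (d * c) * g⁻¹ := by rw [h4.comm]
        _ = _ := by group
    have hbb : b * b = 1 := by
      rw [hb]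
      calc g * d * g⁻¹ * (g * d * g⁻¹) = g * (d * d) * g⁻¹ := by group
        _ = 1 := by rw [h4.bb]; group
    have hact : act L ⟨s, le_normalizer hsL⟩ b = b := by
      rw [act_of_mem hsL, hsv, MulAut.conj_apply, hbv, mul_inv_cancel_right]
    obtain ⟨c', hc'J, hc'L, h6, h7, h8⟩ := lift_inv hs hss (le_normalizer hsJ) (le_normalizer hsL)
      hact hbb
    refine ⟨c', hc'J, h6, h7, ?_, ?_⟩
    · rintro rfl
      have h9 : b = 1 := h8 ▸ rfl
      apply h4.b1
      have : d = g⁻¹ * b * g := by rw [hb]; group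
      rw [this, h9]
      group
    · intro h9
      subst h9
      have h10 : v = b := hsv.symm.trans h8
      apply h4.ne
      have h11 : d = g⁻¹ * b * g := by rw [hb]; group
      rw [h11, ← h10, ← hg]
      group
  have hob : orderOf b = 2 := orderOf_eq_prime (by rw [pow_two]; exact hbb) hb1
  obtain ⟨A, hA⟩ : ∃ A, A = zpowers s ⊔ zpowers b := ⟨_, rfl⟩
  have hcomm : ∀ e ∈ zpowers s, ∀ f ∈ zpowers b, e * f = f * e := by
    intro e he f hf
    rcases (mem_zpowers_of_sq hss).mp he with rfl | rfl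
    · rw [one_mul, mul_one]
    · rcases (mem_zpowers_of_sq hbb).mp hf with rfl | rfl
      · rw [one_mul, mul_one]
      · exact hsb
  have elA : IsElementaryAbelian 2 A := hA ▸ el_sup (el_zpowers hss) (el_zpowers hbb) hcomm
  have hAJ : A ≤ J := hA ▸ sup_le (zpowers_le.mpr hsJ) (zpowers_le.mpr hbJ)
  have elR : IsElementaryAbelian 2 (zpowers a ⊔ zpowers t : Subgroup G) :=
    el_sup (el_zpowers ha2) (el_zpowers ht2) fun e he f hf => by
      rcases (mem_zpowers_of_sq ha2).mp he with rfl | rfl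
      · rw [one_mul, mul_one]
      · exact haa f hf
  have hfixR : ∀ r ∈ zpowers a ⊔ zpowers t, Fixes r L := by
    intro r hr
    rcases (mem_zpowers_sup ha2 haa).mp hr with h2 | h2
    · rcases (mem_zpowers_of_sq ht2).mp h2 with h3 | h3
      · rw [h3]; exact fixes_one L
      · rw [h3]; exact htL
    · have h6 : r = a * (a * r) := by rw [← mul_assoc, ha2, one_mul]
      rcases (mem_zpowers_of_sq ht2).mp h2 with h3 | h3
      · rw [h6, h3, mul_one]; exact fixes_self' T.comp.le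
      · rw [h6, h3]; exact fixes_mul (fixes_self' T.comp.le) htL
  have hxs2 : x * s * (x * s) = 1 := by
    calc x * s * (x * s) = x * (s * x) * s := by group
      _ = (x * x) * (s * s) := by rw [← hxs]; group
      _ = 1 := by rw [hx2, hss, one_mul]
  refine ⟨s, A, { cardR := card_four T.inva ht hne.symm hta.symm
                  sqR := fun r hr => sq_of_el elR hr
                  cardA := hA ▸ card_four hos hob hbs.symm hsb
                  sqA := fun r hr => sq_of_el elA hr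
                  AJ := hAJ
                  comm := fun j hj => mem_centralizer_iff.mpr fun r hr => hJR r hr j hj
                  comp := fun r hr h1 => (hpump r hr h1).1.comp
                  sup := fun r hr h1 => (hpump r hr h1).2
                  simp := fun r hr h1 => simp_of H (hpump r hr h1).1
                  rank := fun B hB => rank_of H T B (hB.trans hJL)
                  xx := hx2
                  xR := fun r hr => (hRx r hr).symm
                  sA := hA ▸ mem_sup_left (mem_zpowers s)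
                  s1 := hs1
                  xs := hxs
                  xout := ?_
                  gen := ?_ }⟩
  · intro hxm
    obtain ⟨r, hr, j, hj, hrj⟩ := (mem_sup_of_comm fun r hr j hj => hJR r hr j (hAJ hj)).mp hxm
    refine (H x a L T).2 ⟨j, hJL (hAJ hj), ?_⟩
    rw [← hrj, mul_inv_cancel_right]
    exact hfixR r hr
  · intro N h1 h2 h3
    refine le_of_cover hs h3 ?_
    obtain ⟨K, hK⟩ : ∃ K, K = ((J ⊓ N).subgroupOf L).map (QuotientGroup.mk' (oddCore ↥L)) := ⟨_, rfl⟩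
    have hmemK : ∀ (n : G) (hnL : n ∈ L), n ∈ J → n ∈ N →
        (QuotientGroup.mk ⟨n, hnL⟩ : ↥L ⧸ oddCore ↥L) ∈ K := by
      intro n hnL hnJ hnN
      rw [hK]
      exact ⟨⟨n, hnL⟩, ⟨hnJ, hnN⟩, rfl⟩
    have htop : K = ⊤ := by
      refine Gen.gen R (by omega) (act_sq T) ho hv hvv hv1 K ?_ ?_
      · intro k hk _
        obtain ⟨c, hcJ, hcL, hxc, rfl⟩ := lift_J hs hx2 hxJ T.x_mem hk
        exact hmemK c hcL hcJ (h1 ⟨hcJ, mem_c hxc.symm⟩)
      · intro k hk _
        have hxsL : x * s ∈ normalizer (L : Set G) := mul_mem T.x_mem (le_normalizer hsL)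
        have hk' : act L ⟨x * s, hxsL⟩ k = k := by
          have h6 : act L ⟨x * s, hxsL⟩ = act L ⟨x, T.x_mem⟩ * act L ⟨s, le_normalizer hsL⟩ := by
            rw [← map_mul]
            rfl
          rw [h6, MulAut.mul_apply, act_of_mem hsL, hsv, MulAut.conj_apply, map_mul, map_mul, map_inv,
            hv, hk]
          group
        obtain ⟨c, hcJ, hcL, hxc, rfl⟩ := lift_J hs hxs2 (mul_mem hxJ (le_normalizer hsJ)) hxsL hk'
        exact hmemK c hcL hcJ (h2 ⟨hcJ, mem_c hxc.symm⟩)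
    intro l hl
    have h6 : (QuotientGroup.mk ⟨l, hl⟩ : ↥L ⧸ oddCore ↥L) ∈ K := by rw [htop]; trivial
    rw [hK] at h6
    obtain ⟨⟨n, hnL⟩, ⟨hnJ, hnN⟩, h7⟩ := h6
    exact ⟨n, ⟨hnJ, hnN⟩, (mk_eq_iff hnL hl).mp h7⟩

/-- **LEMMA CK** -/
theorem comm_core (hY : YJ x a t L) (TB : TwoBal G)
    (hB : ∀ v : G, orderOf v = 2 → HasBProperty ↥(centralizer ({v} : Set G))) {s : G}
    {A : Subgroup G} (hX : FourX x s (zpowers a ⊔ zpowers t) A (cen L t) Lr) {r : G}
    (hr : r ∈ zpowers a ⊔ zpowers t) (h1 : r ≠ 1) : ∀ w ∈ core (centralizer ({r} : Set G)),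
      ∀ j ∈ cen L t, ⁅j, w⁆ ∈ Wd ((zpowers a ⊔ zpowers t) ⊔ A) := by
  have T := S.T
  have ht := S.ot
  have hne := S.ne
  have hta := S.ta
  have htx := S.tx
  have htL := S.tL
  have ha2 := sq_of_order T.inva
  have ht2 := sq_of_order ht
  obtain ⟨y, hyJ, hyx, hyf, hy⟩ := hY
  obtain ⟨hJ, hs⟩ := isComp_cen T.comp (mem_c hta) ht2 htL
  have hJL : cen L t ≤ L := cen_le L t
  have hcen : centralizer ((zpowers a ⊔ zpowers t : Subgroup G) : Set G) =
      centralizer ({a} : Set G) ⊓ centralizer ({t} : Set G) := by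
    ext g
    rw [mem_inf, mem_centralizer_iff]
    constructor
    · intro h
      exact ⟨mem_c (h a (mem_sup_left (mem_zpowers a))).symm,
        mem_c (h t (mem_sup_right (mem_zpowers t))).symm⟩
    · rintro ⟨h2, h3⟩ r hr
      have h4 : zpowers a ⊔ zpowers t ≤ centralizer ({g} : Set G) :=
        sup_le (zpowers_le.mpr (mem_c (comm_c h2).symm)) (zpowers_le.mpr (mem_c (comm_c h3).symm))
      exact comm_c (h4 hr)
  obtain ⟨F, _, _, h5, R, ho⟩ := H.exists_rep T
  have hsim := OddHalf.D6.SubFix.isSimple R (by omega)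
  refine hX.comm_core TB hB (hcen ▸ hJ) hyJ hy ?_ hr h1
  intro N hN hJN hyN
  -- the image of `N` is everything
  have hyL := hJL hyJ
  obtain ⟨K, hK⟩ : ∃ K, K = (N.subgroupOf L).map (QuotientGroup.mk' (oddCore ↥L)) := ⟨_, rfl⟩
  have hNL := hN.trans hJL
  have hKn : K.Normal := by
    refine ⟨fun k hk g => ?_⟩
    obtain ⟨⟨m, hm⟩, rfl⟩ := QuotientGroup.mk_surjective g
    obtain ⟨j, hj, hjm⟩ := exists_mul_of_sup hs hm
    have hmk : (QuotientGroup.mk ⟨m, hm⟩ : ↥L ⧸ oddCore ↥L) = QuotientGroup.mk ⟨j, hJL hj⟩ :=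
      ((mk_eq_iff (hJL hj) hm).mpr hjm).symm
    rw [hK] at hk ⊢
    obtain ⟨⟨n, hnL⟩, hnN, rfl⟩ := hk
    rw [hmk]
    exact ⟨⟨j * n * j⁻¹, L.mul_mem (L.mul_mem (hJL hj) hnL) (L.inv_mem (hJL hj))⟩,
      conj_mem (hJN hj) hnN, rfl⟩
  have hK1 : K ≠ ⊥ := by
    intro h2
    apply hyf
    rw [← act_eq_one_iff (le_normalizer hyL), act_of_mem hyL]
    have h3 : (QuotientGroup.mk ⟨y, hyL⟩ : ↥L ⧸ oddCore ↥L) ∈ K := by
      rw [hK]
      exact ⟨⟨y, hyL⟩, hyN, rfl⟩
    rw [h2, mem_bot] at h3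
    rw [h3, map_one]
  have htop : K = ⊤ := (hKn.eq_bot_or_eq_top).resolve_left hK1
  refine hJ.le_of_two fun j hj n hn => ?_
  -- `j` is a 2-element of `N O(J)`
  have h6 : (QuotientGroup.mk ⟨j, hJL hj⟩ : ↥L ⧸ oddCore ↥L) ∈ K := by rw [htop]; trivial
  rw [hK] at h6
  obtain ⟨⟨m, hmL⟩, hmN, h7⟩ := h6
  have h8 : m⁻¹ * j ∈ core (cen L t) := by
    rw [core_of_sup hs]
    exact ⟨(cen L t).mul_mem ((cen L t).inv_mem (hN hmN)) hj, (mk_eq_iff hmL (hJL hj)).mp h7⟩
  have hmN' : m ∈ N := hmN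
  exact mem_of_pow (c := m⁻¹ * j) (m := m) (by group) hmN' (hJN (core_le _ h8)) (odd_order_of_core h8) hn

/-- the 2-components `Lr r`, `r ∈ R₀#`, are congruent modulo `W` -/
theorem tri_le (hY : YJ x a t L) (TB : TwoBal G)
    (hB : ∀ v : G, orderOf v = 2 → HasBProperty ↥(centralizer ({v} : Set G))) {s : G}
    {A : Subgroup G} (hX : FourX x s (zpowers a ⊔ zpowers t) A (cen L t) Lr) {r : G}
    (hr : r ∈ zpowers a ⊔ zpowers t) (h1 : r ≠ 1) :
    Lr r ≤ cen L t ⊔ Wd ((zpowers a ⊔ zpowers t) ⊔ A) := by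
  have T := S.T
  have ht := S.ot
  have hne := S.ne
  have hta := S.ta
  have htx := S.tx
  have htL := S.tL
  have hck := comm_core H S hY TB hB hX hr h1
  obtain ⟨Tr, hs⟩ := S.pump r hr h1
  obtain ⟨W, hW⟩ : ∃ W, W = Wd ((zpowers a ⊔ zpowers t) ⊔ A) := ⟨_, rfl⟩
  have hcW := hX.centralizer_le' TB hr h1
  rw [← hW] at hck hcW ⊢
  refine Tr.comp.le_of_two fun g hg n hn => ?_
  obtain ⟨j, hj, hc⟩ := exists_mul_of_sup hs hg
  have hc' := Tr.comp.core_le_core hc
  refine mem_of_pow (c := j⁻¹ * g) (by group) (mem_sup_left hj) ?_ (odd_order_of_core hc) hn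
  obtain ⟨c, hcd⟩ : ∃ c, c = j⁻¹ * g := ⟨_, rfl⟩
  rw [← hcd] at hc hc' ⊢
  have hle : cj c (cen L t ⊔ W) ≤ cen L t ⊔ W := by
    rw [cj_sup]
    refine sup_le ?_ ?_
    · intro z hz
      rw [mem_cj] at hz
      obtain ⟨k, hk⟩ : ∃ k, k = c⁻¹ * z * c := ⟨_, rfl⟩
      rw [← hk] at hz
      have h2 : z = ⁅k, c⁆⁻¹ * k := by
        rw [commutatorElement_def, hk]
        group
      rw [h2]
      exact mul_mem (mem_sup_right (inv_mem (hck c hc' k hz))) (mem_sup_left hz)
    · rw [mem_normalizer_iff_cj.mp (hcW (core_le _ hc'))]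
      exact le_sup_right
  rw [mem_normalizer_iff_cj]
  exact Subgroup.eq_of_le_of_card_ge hle (by rw [card_cj])

/-- **(L2)** -/
theorem glue_one (hY : YJ x a t L) (TB : TwoBal G)
    (hB : ∀ v : G, orderOf v = 2 → HasBProperty ↥(centralizer ({v} : Set G))) :
    ∃ W, Fine W a L ∧ Fine W t (Lr t) ∧ core (L ⊔ W) = W ∧ Lr t ⊔ W = L ⊔ W := by
  have T := S.T
  have ht := S.ot
  have hne := S.ne
  have hta := S.ta
  have htx := S.tx
  have htL := S.tL
  obtain ⟨s, A, hX⟩ := exists_fourX H S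
  have hpump := S.pump
  have hck := fun r hr h1 => comm_core H S hY TB hB hX (r := r) hr h1
  have htri := fun r hr h1 => tri_le H S hY TB hB hX (r := r) hr h1
  obtain ⟨W, hW⟩ : ∃ W, W = Wd ((zpowers a ⊔ zpowers t) ⊔ A) := ⟨_, rfl⟩
  have hJM := hX.J_le TB
  have hcen := fun r hr h1 => hX.centralizer_le' TB (r := r) hr h1
  have hodd := odd_Wd TB hX.elA hX.card16
  have heq := fun r hr h1 B hB1 hB2 hB3 => hX.toFour.Wd_of_le TB (hX.J_le TB) (r := r) hr h1 (B := B)
    hB1 hB2 hB3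
  rw [← hW] at hck htri hJM hcen hodd heq
  have hle : ∀ r ∈ zpowers a ⊔ zpowers t, r ≠ 1 → cen L t ≤ Lr r := by
    intro r hr h1
    rw [← (hpump r hr h1).2]
    exact le_sup_left
  have hfine : ∀ r ∈ zpowers a ⊔ zpowers t, r ≠ 1 → Fine W r (Lr r) := by
    intro r hr h1
    have Tr := (hpump r hr h1).1
    refine ⟨Tr.inva, Tr.comp, simp_of H Tr, hcen r hr h1, ?_, fun B hB1 hB2 hB3 => heq r hr h1 B hB1 hB2 hB3⟩
    intro w hw l hl
    obtain ⟨j, hj, v, hv, hjv⟩ := (mem_sup_left_iff hJM).mp (htri r hr h1 hl)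
    have h2 : ⁅l, w⁆ = (j * (v * (w * v⁻¹ * w⁻¹)) * j⁻¹) * ⁅j, w⁆ := by
      rw [← hjv, commutatorElement_def, commutatorElement_def]
      group
    rw [h2]
    have hwW := hcen r hr h1 (core_le _ hw)
    exact mul_mem (conj_mem (hJM hj) (mul_mem hv (conj_mem hwW (inv_mem hv)))) (hck r hr h1 w hw j hj)
  have haR : a ∈ zpowers a ⊔ zpowers t := mem_sup_left (mem_zpowers a)
  have htR : t ∈ zpowers a ⊔ zpowers t := mem_sup_right (mem_zpowers t)
  have ha1 := ne_one_of_order T.inva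
  have ht1 := ne_one_of_order ht
  have hsup : ∀ r ∈ zpowers a ⊔ zpowers t, r ≠ 1 → Lr r ⊔ W = cen L t ⊔ W := by
    intro r hr h1
    exact le_antisymm (sup_le (htri r hr h1) le_sup_right) (sup_le_sup_right (hle r hr h1) W)
  have hLa : Lr a = L := S.La
  have hLW : L ⊔ W = cen L t ⊔ W := by rw [← hsup a haR ha1, hLa]
  refine ⟨W, hLa ▸ hfine a haR ha1, hfine t htR ht1, ?_, ?_⟩
  · rw [hLW]
    apply le_antisymm
    · -- `O(J W) ≤ W`
      intro c hc
      obtain ⟨j, hj, v, hv, hjv⟩ := (mem_sup_left_iff hJM).mp (core_le _ hc)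
      have hWc : W ≤ core (cen L t ⊔ W) := le_core le_sup_right
        (sup_le hJM le_normalizer) hodd
      have hjc : j ∈ core (cen L t ⊔ W) := by
        have : j = c * v⁻¹ := by rw [← hjv]; group
        rw [this]
        exact mul_mem hc (inv_mem (hWc hv))
      have hjJ : j ∈ core (cen L t) := by
        have h2 : cen L t ⊓ core (cen L t ⊔ W) ≤ core (cen L t) := by
          refine le_core inf_le_left ?_ (Odd.of_dvd_nat (odd_card_core _) (card_dvd_of_le inf_le_right))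
          intro z hz
          rw [mem_normalizer_iff_cj, cj_inf, cj_eq_self_of_mem hz,
            mem_normalizer_iff_cj.mp (le_normalizer_core (cen L t ⊔ W) (mem_sup_left hz))]
        exact h2 ⟨hj, hjc⟩
      rw [← hjv]
      refine mul_mem ?_ hv
      -- `O(J) ≤ Δ(R₀) ≤ W`
      have h3 : ∀ r ∈ zpowers a ⊔ zpowers t, r ≠ 1 → j ∈ core (centralizer ({r} : Set G)) := by
        intro r hr h1
        exact (hpump r hr h1).1.comp.core_le_core (core_le_of_sup (hpump r hr h1).2 hjJ)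
      have hat1 : a * t ≠ 1 := by
        intro h4
        apply hne
        rw [eq_inv_of_mul_eq_one_left h4]
        exact (inv_eq_of_mul_eq_one_left (sq_of_order ht)).symm
      rw [hW]
      exact mem_Wd hX.elA (mem_sup_left haR) (mem_sup_left htR) ha1 ht1 hne.symm (h3 a haR ha1)
        (h3 t htR ht1) (h3 _ (mul_mem haR htR) hat1)
    · exact le_core le_sup_right (sup_le hJM le_normalizer) hodd
  · rw [hLW, hsup t htR ht1]

end cfg

end Cfsg.Agent.UGT.Res.WGlueP
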