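import Cfsg.Agent.UGT.Res.PGLFacts

/-!
# Automorphisms of `PSL(2,F)` of odd order and the torus of an outer involution

`exists_larger`: `φ` an involution of PGL type, `δ` a `p`-element of `Aut L` commuting with `φ`, `fld δ ≠ 1`: there is a
prime `s > p` such that `δ` acts nontrivially on the Sylow `s`-subgroup of the torus `T` of `φ`. Reason (`arith`):
`|T| = (q + e) / 2`, the elements of `T` fixed by `δ` have order dividing `4 r (r² - 1)` (their squares have trace in the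
fixed field, of order `r`), and `(r^p + e) / (r + e)` is not a power of `p`.
-/


set_option autoImplicit false

namespace Cfsg.Agent.UGT.Res.FieldOdd

open Cfsg.Agent.OddCyclic.PGLTorus (mu)

/-- the quotient `(r^p - e) / (r - e)` is not a power of `p` -/
theorem exists_prime {p : ℕ} (hp : p.Prime) (hp2 : p ≠ 2) {r : ℕ} (hr : 3 ≤ r) {e : ℤ}
    (he : e = 1 ∨ e = -1) : ∃ N s : ℕ, (N : ℤ) * (r - e) = (r : ℤ) ^ p - e ∧ s.Prime ∧ s ≠ p ∧ s ∣ N := by
  have hodd : Odd p := hp.odd_of_ne_two hp2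
  have hp3 : 3 ≤ p := by
    have := hp.two_le
    omega
  have hep : e ^ p = e := by
    rcases he with rfl | rfl
    · exact one_pow _
    · exact hodd.neg_one_pow
  obtain ⟨M, hM⟩ : ∃ M : ℤ, M * (r - e) = (r : ℤ) ^ p - e := by
    refine ⟨_, (Commute.all (r : ℤ) e).geom_sum₂_mul p |>.trans ?_⟩
    rw [hep]
  have hr' : (3 : ℤ) ≤ r := by exact_mod_cast hr
  have hre : (0 : ℤ) < r - e := by rcases he with rfl | rfl <;> omega
  -- `M > p`
  have hbig : (p : ℤ) * (r - e) < (r : ℤ) ^ p - e := by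
    have h1 : ∀ k : ℕ, 3 * (k + 3 : ℤ) ≤ 3 ^ (k + 2) := by
      intro k
      induction k with
      | zero => norm_num
      | succ k ih =>
        have h2 : (3 : ℤ) ^ (k + 1 + 2) = 3 * 3 ^ (k + 2) := by ring
        rw [h2]
        push_cast
        nlinarith
    obtain ⟨k, rfl⟩ : ∃ k, p = k + 3 := ⟨p - 3, by omega⟩
    have h2 := h1 k
    have h3 : (3 : ℤ) ^ (k + 2) ≤ (r : ℤ) ^ (k + 2) := pow_le_pow_left₀ (by norm_num) hr' _
    have h4 : (r : ℤ) ^ (k + 3) = (r : ℤ) ^ (k + 2) * r := pow_succ _ _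
    have h5 : 3 * ((k : ℤ) + 3) * r ≤ (r : ℤ) ^ (k + 3) := by
      rw [h4]
      exact mul_le_mul_of_nonneg_right (h2.trans h3) (by omega)
    have hk : (0 : ℤ) ≤ k := Int.natCast_nonneg k
    push_cast
    rcases he with rfl | rfl
    · nlinarith
    · nlinarith
  have hMp : (p : ℤ) < M := by
    by_contra h
    push Not at h
    have h1 : M * (r - e) ≤ p * (r - e) := mul_le_mul_of_nonneg_right h hre.le
    rw [hM] at h1
    omega
  obtain ⟨N, rfl⟩ : ∃ N : ℕ, (N : ℤ) = M := ⟨M.toNat, Int.toNat_of_nonneg (by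
    have : (0 : ℤ) ≤ p := Int.natCast_nonneg p
    omega)⟩
  have hNp : p < N := by exact_mod_cast hMp
  refine ⟨N, ?_⟩
  by_contra hcon
  push Not at hcon
  have h1 : ∀ s : ℕ, s.Prime → s ∣ N → s = p := by
    intro s hs hd
    by_contra h
    exact hcon s hM hs h hd
  obtain ⟨j, hj⟩ : ∃ j, N = p ^ j := by
    refine ⟨N.primeFactorsList.length, ?_⟩
    exact Nat.eq_prime_pow_of_unique_prime_dvd (by omega) (fun {d} hd hd' => h1 d hd hd')
  have hj2 : 2 ≤ j := by
    rcases j with _ | _ | j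
    · simp at hj; omega
    · simp at hj; omega
    · omega
  have hpp : p ^ 2 ∣ N := hj ▸ pow_dvd_pow p hj2
  -- `p ∣ r - e`
  have hpr : (p : ℤ) ∣ r - e := by
    have h2 : (p : ℤ) ∣ (r : ℤ) ^ p - e := by
      rw [← hM]
      exact Dvd.dvd.mul_right (by exact_mod_cast (dvd_trans (dvd_pow_self p two_ne_zero) hpp)) _
    have hfact : Fact p.Prime := ⟨hp⟩
    have h3 : (p : ℤ) ∣ (r : ℤ) ^ p - r := by
      rw [← ZMod.intCast_zmod_eq_zero_iff_dvd]
      push_cast
      rw [ZMod.pow_card, sub_self]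
    have h4 := dvd_sub h2 h3
    have h5 : (r : ℤ) ^ p - e - ((r : ℤ) ^ p - r) = r - e := by ring
    rwa [h5] at h4
  have hpr' : ¬ (p : ℤ) ∣ r := by
    intro h
    have h2 : (p : ℤ) ∣ e := by
      have := dvd_sub h hpr
      have h5 : (r : ℤ) - (r - e) = e := by ring
      rwa [h5] at this
    have h3 : IsUnit e := by
      rcases he with rfl | rfl
      · exact isUnit_one
      · exact isUnit_one.neg
    have h4 := isUnit_of_dvd_unit h2 h3
    rw [Int.isUnit_iff] at h4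
    omega
  have hlte := Int.emultiplicity_pow_sub_pow hp hodd hpr hpr' p
  rw [hep, ← hM, emultiplicity_mul (Nat.prime_iff_prime_int.mp hp)] at hlte
  have hfin : FiniteMultiplicity (p : ℤ) (r - e) := by
    rw [Int.finiteMultiplicity_iff]
    refine ⟨?_, ?_⟩
    · rw [Int.natAbs_natCast]; omega
    · omega
  have h6 : emultiplicity (p : ℤ) N = emultiplicity p p := by
    rw [add_comm (emultiplicity (p : ℤ) (r - e)) _] at hlte
    exact (WithTop.add_right_inj (finiteMultiplicity_iff_emultiplicity_ne_top.mp hfin)).mp hlte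
  have h7 : ((2 : ℕ) : ℕ∞) ≤ emultiplicity (p : ℤ) N := by
    apply le_emultiplicity_of_pow_dvd
    exact_mod_cast hpp
  have h8 : emultiplicity p p < ((2 : ℕ) : ℕ∞) := by
    rw [emultiplicity_lt_iff_not_dvd]
    intro h
    have := Nat.le_of_dvd hp.pos h
    nlinarith
  rw [h6] at h7
  exact absurd h7 (not_le.mpr h8)

/-- the arithmetic of the torus of an outer involution under a field automorphism of odd prime order -/
theorem arith {p : ℕ} (hp : p.Prime) (hp2 : p ≠ 2) {r : ℕ} (hr : 3 ≤ r) (hro : r % 2 = 1) {c : ℕ}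
    (hc : 2 * c = mu (r ^ p)) : ∃ s : ℕ, s.Prime ∧ s ≠ p ∧ s ≠ 2 ∧ s ∣ c ∧
      ¬ s ^ c.factorization s ∣ 4 * (r * (r ^ 2 - 1)) := by
  have hodd : Odd p := hp.odd_of_ne_two hp2
  have hq4 : r ^ p % 4 = r % 4 := by
    obtain ⟨k, rfl⟩ := hodd
    have h1 : r ^ 2 % 4 = 1 := by
      have h2 : r % 4 = 1 ∨ r % 4 = 3 := by omega
      rcases h2 with h2 | h2 <;> rw [Nat.pow_mod, h2]
    have h3 : (r ^ 2) ^ k % 4 = 1 := by
      rw [Nat.pow_mod, h1, one_pow]; norm_num
    rw [pow_succ, pow_mul, Nat.mul_mod, h3, one_mul, Nat.mod_mod]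
  have hrp : 1 ≤ r ^ p := Nat.one_le_pow _ _ (by omega)
  obtain ⟨e, he, hmu, hb, hq2⟩ : ∃ e : ℤ, (e = 1 ∨ e = -1) ∧ 2 * (c : ℤ) = (r : ℤ) ^ p - e ∧
      (∃ b : ℕ, (r : ℤ) - e = 2 * b) ∧ c % 2 = 1 := by
    unfold mu at hc
    rw [hq4] at hc
    split_ifs at hc with h
    · refine ⟨-1, Or.inr rfl, ?_, ⟨(r + 1) / 2, ?_⟩, ?_⟩
      · have : ((2 * c : ℕ) : ℤ) = ((r ^ p + 1 : ℕ) : ℤ) := by rw [hc]
        push_cast at this
        linarith
      · omega
      · omega
    · refine ⟨1, Or.inl rfl, ?_, ⟨(r - 1) / 2, ?_⟩, ?_⟩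
      · have : ((2 * c : ℕ) : ℤ) = ((r ^ p - 1 : ℕ) : ℤ) := by rw [hc]
        rw [Nat.cast_sub hrp] at this
        push_cast at this
        linarith
      · omega
      · omega
  obtain ⟨b, hb⟩ := hb
  obtain ⟨N, s, hN, hs, hsp, hsN⟩ := exists_prime hp hp2 hr he
  have hcN : c = N * b := by
    have h1 : (2 : ℤ) * c = 2 * ((N * b : ℕ) : ℤ) := by
      push_cast
      rw [hmu, ← hN, hb]; ring
    have h2 : (c : ℤ) = ((N * b : ℕ) : ℤ) := by linarith
    exact_mod_cast h2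
  have hc0 : c ≠ 0 := by rintro rfl; omega
  have hN0 : N ≠ 0 := by rintro rfl; exact hc0 (by rw [hcN, zero_mul])
  have hb0 : b ≠ 0 := by rintro rfl; exact hc0 (by rw [hcN, mul_zero])
  have hs2 : s ≠ 2 := by
    rintro rfl
    have h1 : 2 ∣ c := by rw [hcN]; exact Dvd.dvd.mul_right hsN _
    omega
  have hsc : s ∣ c := by rw [hcN]; exact Dvd.dvd.mul_right hsN _
  refine ⟨s, hs, hsp, hs2, hsc, fun hdiv => ?_⟩
  have hsZ := Nat.prime_iff_prime_int.mp hs
  have hu : ∀ {z : ℤ}, (s : ℤ) ∣ z → (z = e ∨ z = 2 * e) → False := by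
    intro z h1 h2
    have h3 : (s : ℤ) ∣ 2 := by
      rcases h2 with rfl | rfl <;> rcases he with rfl | rfl
      · exact h1.trans (by norm_num)
      · exact h1.trans (by norm_num)
      · exact h1.trans (by norm_num)
      · exact h1.trans (by norm_num)
    have h4 : s ∣ 2 := by exact_mod_cast h3
    have h5 := Nat.le_of_dvd (by norm_num) h4
    have := hs.two_le
    omega
  have hsq : (s : ℤ) ∣ (r : ℤ) ^ p - e := by
    rw [← hmu]
    exact Dvd.dvd.mul_left (by exact_mod_cast hsc) _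
  -- `s ∤ r`
  have h1 : ¬ (s : ℤ) ∣ r := by
    intro h
    have h2 := dvd_sub (dvd_pow h hp.ne_zero) hsq
    have h3 : (r : ℤ) ^ p - ((r : ℤ) ^ p - e) = e := by ring
    rw [h3] at h2
    exact hu h2 (Or.inl rfl)
  -- `s ∤ r + e`
  have h2 : ¬ (s : ℤ) ∣ r + e := by
    intro h
    have h3 : (r : ℤ) - (-e) ∣ (r : ℤ) ^ p - (-e) ^ p := sub_dvd_pow_sub_pow _ _ _
    have h4 : (-e) ^ p = -e := by
      rcases he with rfl | rfl
      · exact hodd.neg_one_pow
      · rw [neg_neg, one_pow]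
    rw [h4, sub_neg_eq_add, sub_neg_eq_add] at h3
    have h5 := dvd_sub (h.trans h3) hsq
    have h6 : (r : ℤ) ^ p + e - ((r : ℤ) ^ p - e) = 2 * e := by ring
    rw [h6] at h5
    exact hu h5 (Or.inr rfl)
  have h3 : ¬ (s : ℤ) ∣ 2 := by
    intro h
    have h4 : s ∣ 2 := by exact_mod_cast h
    have h5 := Nat.le_of_dvd (by norm_num) h4
    have := hs.two_le
    omega
  -- the power of `s` divides `b`
  have he2 : e * e = 1 := by rcases he with rfl | rfl <;> norm_num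
  have hr1 : 1 ≤ r ^ 2 := Nat.one_le_pow _ _ (by omega)
  have h4 : ((s ^ c.factorization s : ℕ) : ℤ) ∣ ((4 * (r * (r ^ 2 - 1)) : ℕ) : ℤ) := by
    exact_mod_cast hdiv
  have h5 : ((4 * (r * (r ^ 2 - 1)) : ℕ) : ℤ) = 4 * (r * ((r + e) * (2 * b))) := by
    rw [← hb]
    push_cast [Nat.cast_sub hr1]
    linear_combination (4 * (r : ℤ)) * he2
  rw [h5] at h4
  push_cast at h4
  have hcop : ∀ {z : ℤ}, ¬ (s : ℤ) ∣ z → IsCoprime ((s : ℤ) ^ c.factorization s) z := fun {z} h =>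
    IsCoprime.pow_left ((Prime.coprime_iff_not_dvd hsZ).mpr h)
  have h3' : ¬ (s : ℤ) ∣ 4 := by
    intro h
    rw [show (4 : ℤ) = 2 * 2 by norm_num] at h
    rcases hsZ.dvd_or_dvd h with h | h <;> exact h3 h
  have h6 := (hcop h3').dvd_of_dvd_mul_left h4
  have h7 := (hcop h1).dvd_of_dvd_mul_left h6
  have h8 := (hcop h2).dvd_of_dvd_mul_left h7
  have h9 := (hcop h3).dvd_of_dvd_mul_left h8
  have h10 : s ^ c.factorization s ∣ b := by exact_mod_cast h9
  have h11 := (hs.pow_dvd_iff_le_factorization hb0).mp h10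
  have h12 : c.factorization s = N.factorization s + b.factorization s := by
    rw [hcN, Nat.factorization_mul hN0 hb0, Finsupp.add_apply]
  have h13 : 1 ≤ N.factorization s := (hs.dvd_iff_one_le_factorization hN0).mp hsN
  omega

/-! ### traces -/

open Cfsg.Agent.GH.L2Aut Cfsg.Agent.GH.L2Aut.Rep Cfsg.Agent.Lib.SL2Mat Cfsg.Agent.OddHalf.D6
open Cfsg.Agent.Lib.AutSL2 Cfsg.Agent.Lib.PSL2Inv Cfsg.Agent.OddCyclic
open Subgroup

variable {F : Type*} [Field F] [Finite F] {L : Type*} [Group L] (R : Cfsg.Agent.GH.L2Aut.Rep F L)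

local notation "SL2" => Matrix.SpecialLinearGroup (Fin 2) F

omit [Finite F] in
/-- an element of `SL(2,F)` whose trace lies in the subfield `K` -/
theorem pow_of_tr {K : Subfield F} {X : SL2} (h : X.1.trace ∈ K) :
    X ^ (2 * Nat.card (Matrix.SpecialLinearGroup (Fin 2) K)) = 1 := by
  by_cases hs : ∃ c : F, X.1 = c • (1 : Matrix (Fin 2) (Fin 2) F)
  · obtain ⟨c, hc⟩ := hs
    have h1 := X.2
    rw [hc, Matrix.det_smul, Matrix.det_one, mul_one, Fintype.card_fin] at h1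
    have h2 : X ^ 2 = 1 := by
      apply Subtype.ext
      rw [Matrix.SpecialLinearGroup.coe_pow, hc, smul_pow, one_pow, h1, one_smul]
      rfl
    rw [pow_mul, h2, one_pow]
  · push Not at hs
    obtain ⟨g, hg⟩ := exists_companion X.1 hs
    rw [X.2] at hg
    let C : Matrix.SpecialLinearGroup (Fin 2) K := ⟨!![0, -1; 1, ⟨X.1.trace, h⟩], by
      rw [Matrix.det_fin_two_of]; ring⟩
    have hC : (Rep.inc K C).1 = !![0, -1; 1, X.1.trace] := by
      ext i j
      fin_cases i <;> fin_cases j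
      · rfl
      · change ((-1 : K) : F) = -1
        simp
      · rfl
      · rfl
    have h1 : conjGL g (Rep.inc K C) = X := conjGL_eq_of (by rw [hC]; exact hg.symm)
    rw [← h1, ← map_pow, ← map_pow, mul_comm, pow_mul, pow_card_eq_one', one_pow, map_one, map_one]

/-- fixed points of automorphisms -/
theorem fixed_pow {δ : MulAut L} {K : Subfield F} (hK : ∀ a, a ∈ K ↔ R.fld δ a = a) {t : L}
    (ht : δ t = t) : t ^ (4 * (Nat.card K * (Nat.card K ^ 2 - 1))) = 1 := by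
  obtain ⟨X, rfl⟩ := R.surj t
  obtain ⟨g, hg⟩ := R.exists_eq δ
  have h1 : R.π (conjGL g (fieldAut (R.fld δ) X)) = R.π X := by
    rw [hg, MulAut.mul_apply, R.fa_apply, R.gl_apply] at ht
    exact ht
  have h2 : R.fld δ (tr X) = tr X ∨ R.fld δ (tr X) = -tr X := by
    rw [← tr_fieldAut, ← tr_conjGL g]
    rcases R.π_eq_iff.1 h1 with h | h
    · left; rw [h]
    · right
      rw [h, tr_eq, tr_eq, Matrix.SpecialLinearGroup.coe_neg, Matrix.trace_neg]
  have h3 : (X * X).1.trace = tr X * tr X - 2 := by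
    rw [tr_eq, Matrix.SpecialLinearGroup.coe_mul, Matrix.trace_fin_two, Matrix.trace_fin_two,
      mat_mul, mat_mul]
    have h4 := X.2
    rw [Matrix.det_fin_two] at h4
    linear_combination -2 * h4
  have h4 : (X * X).1.trace ∈ K := by
    rw [hK, h3, map_sub, map_mul, map_ofNat]
    rcases h2 with h | h
    · rw [h]
    · rw [h, neg_mul_neg]
  have h5 := pow_of_tr h4
  have := Fintype.ofFinite K
  have h6 := Cfsg.Agent.ClassicalGeometry.PSL2Basic.card_SL2 (F := K)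
  rw [← Nat.card_eq_fintype_card] at h6
  rw [h6, ← pow_two, ← pow_mul] at h5
  rw [← map_pow, show 4 * (Nat.card K * (Nat.card K ^ 2 - 1)) =
    2 * (2 * (Nat.card K * (Nat.card K ^ 2 - 1))) by ring, h5, map_one]

/-- an automorphism of `p`-power order of a cyclic group of order `s ^ v` -/
theorem lt_of_aut {Z : Type*} [Group Z] [Finite Z] [IsCyclic Z] {s v p : ℕ} (hs : s.Prime)
    (hp : p.Prime) (hne : s ≠ p) (hZ : Nat.card Z = s ^ v) {ρ : MulAut Z} {n : ℕ}
    (hρ : ρ ^ p ^ n = 1) (hρ1 : ρ ≠ 1) : p < s := by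
  have h1 : p ∣ orderOf ρ := by
    have h2 := orderOf_dvd_of_pow_eq_one hρ
    obtain ⟨k, -, hk⟩ := (Nat.dvd_prime_pow hp).mp h2
    rcases Nat.eq_zero_or_pos k with rfl | hk0
    · exact absurd (orderOf_eq_one_iff.mp (by rw [hk, pow_zero])) hρ1
    · rw [hk]; exact dvd_pow_self p (by omega)
  have h2 : orderOf ρ ∣ Nat.card (MulAut Z) := orderOf_dvd_natCard ρ
  rw [IsCyclic.card_mulAut, hZ] at h2
  have hv : v ≠ 0 := by
    rintro rfl
    rw [pow_zero] at hZ
    apply hρ1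
    have : Subsingleton Z := (Nat.card_eq_one_iff_unique.mp hZ).1
    exact MulEquiv.ext fun z => Subsingleton.elim _ _
  rw [Nat.totient_prime_pow hs (Nat.pos_of_ne_zero hv)] at h2
  have h3 := h1.trans h2
  rcases (Nat.Prime.dvd_mul hp).mp h3 with h | h
  · exact absurd ((Nat.prime_dvd_prime_iff_eq hp hs).mp (hp.dvd_of_dvd_pow h)).symm hne
  · have h4 := Nat.le_of_dvd (by have := hs.two_le; omega) h
    have := hs.two_le
    omega

/-- **A field automorphism of order `p^i` commuting with the involution `φ` of PGL type acts nontrivially on an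
`s`-subgroup of the torus of `φ`, `s > p` prime.** -/
theorem exists_larger {φ δ : MulAut L} (h : φ * φ = 1) (ho : R.o1 φ = -1) {p : ℕ} (hp : p.Prime)
    (hp2 : p ≠ 2) (hδ : ∃ n, δ ^ p ^ n = 1) (hf : R.fld δ ≠ 1) (hc : δ * φ = φ * δ) :
    ∃ s : ℕ, s.Prime ∧ p < s ∧ ∃ t : L, φ t = t ∧ δ t ≠ t ∧ ∃ n, (δ t * t⁻¹) ^ s ^ n = 1 := by
  have := R.finite
  obtain ⟨n, hn⟩ := hδ
  -- reduction to order `p`
  have h1 : orderOf (R.fld δ) ∣ p ^ n := orderOf_dvd_of_pow_eq_one (by rw [← map_pow, hn, map_one])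
  obtain ⟨i, -, hi⟩ := (Nat.dvd_prime_pow hp).mp h1
  have hi0 : i ≠ 0 := by
    rintro rfl
    exact hf (orderOf_eq_one_iff.mp (by rw [hi, pow_zero]))
  obtain ⟨j, rfl⟩ : ∃ j, i = j + 1 := ⟨i - 1, by omega⟩
  obtain ⟨ε, hε⟩ : ∃ ε, ε = δ ^ p ^ j := ⟨_, rfl⟩
  have hεord : orderOf (R.fld ε) = p := by
    rw [hε, map_pow, orderOf_pow' _ (pow_ne_zero _ hp.ne_zero), hi, Nat.gcd_eq_right (pow_dvd_pow p (by omega)),
      pow_succ, Nat.mul_div_cancel_left _ (pow_pos hp.pos _)]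
  obtain ⟨K, hK, hcard⟩ := Cfsg.Agent.GH.L2Aut.exists_fixed_field (R.fld ε)
  rw [hεord] at hcard
  have hKodd : Odd (Nat.card K) := Cfsg.Agent.GH.L2Aut.odd_card (Cfsg.Agent.GH.L2Aut.two_sub R.two K)
  have hK1 : 1 < Nat.card K := Finite.one_lt_card
  have hK3 : 3 ≤ Nat.card K := by
    obtain ⟨k, hk⟩ := hKodd
    omega
  -- the torus
  obtain ⟨hP, hI⟩ := PglType.pgl_of R h ho
  obtain ⟨g, rfl⟩ := R.mem_PGL.1 hP
  have htr := R.tr_of_inv (PglType.ne_one R ho) h
  have hcT := PGLTorus.card_Cp_not_inn R htr hI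
  rw [hcard] at hcT
  obtain ⟨T, hT⟩ : ∃ T, T = PGLTorus.Cp R g := ⟨_, rfl⟩
  rw [← hT] at hcT
  have hcyc : IsCyclic T := hT ▸ PGLTorus.isCyclic_Cp R htr
  obtain ⟨s, hs, hsp, hs2, hsc, hndvd⟩ := arith hp hp2 hK3 (Nat.odd_iff.mp hKodd) hcT
  obtain ⟨v, hv⟩ : ∃ v, v = (Nat.card T).factorization s := ⟨_, rfl⟩
  rw [← hv] at hndvd
  have hT0 : Nat.card T ≠ 0 := Nat.card_pos.ne'
  have hvd : s ^ v ∣ Nat.card T := hv ▸ Nat.ordProj_dvd _ _
  obtain ⟨w, hw⟩ := hvd
  obtain ⟨u, hu⟩ := hcyc.exists_generator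
  have huo : orderOf u = Nat.card T := orderOf_eq_card_of_forall_mem_zpowers hu
  obtain ⟨t, ht⟩ : ∃ t, t = u ^ w := ⟨_, rfl⟩
  have hw0 : w ≠ 0 := by
    rintro rfl
    exact hT0 (by rw [hw, mul_zero])
  have hto : orderOf t = s ^ v := by
    rw [ht, orderOf_pow' _ hw0, huo, hw, Nat.gcd_eq_right (dvd_mul_left _ _),
      Nat.mul_div_cancel _ (Nat.pos_of_ne_zero hw0)]
  have htoL : orderOf (t : L) = s ^ v := by rw [Subgroup.orderOf_coe, hto]
  have hφt : R.gl g t = t := PGLTorus.fix_of_mem_Cp R htr (PGLTorus.gl_mem_Tor R g) (hT ▸ t.2)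
  have hεt : ε t ≠ t := by
    intro h3
    apply hndvd
    rw [← htoL]
    exact orderOf_dvd_of_pow_eq_one (fixed_pow R hK h3)
  have hδt : δ t ≠ t := by
    intro h3
    apply hεt
    rw [hε]
    have : ∀ k : ℕ, (δ ^ k) (t : L) = t := by
      intro k
      induction k with
      | zero => rfl
      | succ k ih => rw [pow_succ, MulAut.mul_apply, h3, ih]
    exact this _
  -- `δ` normalizes the cyclic group `⟨t⟩`
  have hodd : Odd (s ^ v) := (hs.odd_of_ne_two hs2).pow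
  have hmemT : ∀ y : L, R.gl g y = y → orderOf y ∣ s ^ v → y ∈ T := by
    intro y hy hy'
    rcases PGLTorus.mem_Cp_or_sq R hy with h3 | h3
    · rw [hT]; exact h3
    · rw [PglType.eq_one_of_odd_sq h3 (Odd.of_dvd_nat hodd hy')]
      exact one_mem _
  have hmem : ∀ y : L, R.gl g y = y → y ^ s ^ v = 1 → y ∈ zpowers (t : L) := by
    intro y hy hy'
    have hyT := hmemT y hy (orderOf_dvd_of_pow_eq_one hy')
    obtain ⟨k, hk⟩ := Subgroup.mem_zpowers_iff.mp (hu ⟨y, hyT⟩)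
    have h3 : u ^ (k * (s ^ v : ℕ)) = 1 := by
      rw [zpow_mul, hk, zpow_natCast]
      exact Subtype.ext hy'
    have h4 := orderOf_dvd_iff_zpow_eq_one.mpr h3
    rw [huo, hw] at h4
    have h5 : (w : ℤ) ∣ k := by
      have h6 : (0 : ℤ) < (s ^ v : ℕ) := by exact_mod_cast pow_pos hs.pos v
      rw [mul_comm (s ^ v) w, Nat.cast_mul] at h4
      exact Int.dvd_of_mul_dvd_mul_right h6.ne' h4
    obtain ⟨k', rfl⟩ := h5
    refine Subgroup.mem_zpowers_iff.mpr ⟨k', ?_⟩
    have h6 : t ^ k' = ⟨y, hyT⟩ := by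
      rw [ht, ← hk, zpow_mul, zpow_natCast]
    rw [← Subgroup.coe_zpow, h6]
  have hδmem : ∀ y ∈ zpowers (t : L), δ y ∈ zpowers (t : L) := by
    intro y hy
    obtain ⟨k, rfl⟩ := Subgroup.mem_zpowers_iff.mp hy
    apply hmem
    · have e1 : R.gl g (δ ((t : L) ^ k)) = (R.gl g * δ) ((t : L) ^ k) := rfl
      rw [e1, ← hc, MulAut.mul_apply, map_zpow, hφt]
    · rw [← map_pow, ← zpow_natCast, ← zpow_mul, mul_comm, zpow_mul, zpow_natCast, ← htoL,
        pow_orderOf_eq_one, one_zpow, map_one]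
  refine ⟨s, hs, ?_, t, hφt, hδt, v, ?_⟩
  · -- the restriction
    have hinj : Function.Injective (fun y : zpowers (t : L) => (⟨δ y, hδmem y y.2⟩ : zpowers (t : L))) := by
      intro y z hyz
      exact Subtype.ext (δ.injective (congrArg Subtype.val hyz))
    let f : zpowers (t : L) →* zpowers (t : L) :=
      { toFun := fun y => ⟨δ y, hδmem y y.2⟩
        map_one' := Subtype.ext (map_one δ)
        map_mul' := fun y z => Subtype.ext (map_mul δ _ _) }
    let ρ : MulAut (zpowers (t : L)) := MulEquiv.ofBijective f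
      (Finite.injective_iff_bijective.mp hinj)
    have hρ : ∀ (k : ℕ) (y : zpowers (t : L)), (((ρ ^ k) y : zpowers (t : L)) : L) = (δ ^ k) (y : L) := by
      intro k
      induction k with
      | zero => intro y; rfl
      | succ k ih =>
        intro y
        rw [pow_succ, pow_succ, MulAut.mul_apply, MulAut.mul_apply, ih]
        rfl
    refine lt_of_aut (Z := zpowers (t : L)) (v := v) hs hp hsp ?_ (ρ := ρ) (n := n) ?_ ?_
    · rw [Nat.card_zpowers, htoL]
    · apply MulEquiv.ext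
      intro y
      apply Subtype.ext
      rw [hρ, hn]
      rfl
    · intro h3
      apply hδt
      have h4 := hρ 1 ⟨t, mem_zpowers _⟩
      rw [h3, one_pow, pow_one] at h4
      exact h4.symm
  · have h3 : δ t * (t : L)⁻¹ ∈ zpowers (t : L) :=
      mul_mem (hδmem _ (mem_zpowers _)) (inv_mem (mem_zpowers _))
    obtain ⟨k, hk⟩ := Subgroup.mem_zpowers_iff.mp h3
    rw [← hk, ← zpow_natCast, ← zpow_mul, mul_comm, zpow_mul, zpow_natCast, ← htoL,
      pow_orderOf_eq_one, one_zpow]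

end Cfsg.Agent.UGT.Res.FieldOdd
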