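import Cfsg.Agent.UGT.Res.EFacts
import Cfsg.Agent.UGT.Res.KFacts
import Cfsg.Agent.UGT.Res.FieldOdd
import Cfsg.Agent.UGT.Res.Gen

/-!
# The odd torus `T` of `C_L(x)`, `L ≅ PSL(2,F)`, `x` of PGL type

`T = {t ∈ L | t x = x t, t of odd order}`.

* `cen_tor` (T3): `C_{Aut L}(T) = T⟨x⟩`.
* `mem_tor_of_comm` (T4): `D ≤ C_{Aut L}(x)` of odd order, normalized by `C_L(x)`; an element of `D` commuting with `D ∩ T`
  lies in `T`.
* `mem_tor_of_derived` (T4'): the same for the elements of `D` commuting with `D'`; `commutator_mem`: `D' ≤ T`.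
-/

set_option autoImplicit false

open Subgroup Cfsg.Agent.GH.L2Aut Cfsg.Agent.OddHalf.D6

namespace Cfsg.Agent.UGT.Res.TorFacts

section aut

variable {F : Type*} [Field F] [Finite F] {L : Type*} [Group L] (R : Cfsg.Agent.GH.L2Aut.Rep F L)

theorem odd_of_no_inv {A : Type*} [Group A] [Finite A] {B : Subgroup A} (hB : ∀ x ∈ B, x * x = 1 → x = 1)
    {b : A} (hb : b ∈ B) : Odd (orderOf b) := by
  by_contra hn
  rw [Nat.not_odd_iff_even] at hn
  obtain ⟨k, hk⟩ := hn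
  have hpos := orderOf_pos b
  have h1 : b ^ k = 1 := by
    apply hB _ (pow_mem hb k)
    rw [← pow_add, ← hk, pow_orderOf_eq_one]
  have h2 := Nat.le_of_dvd (by omega) (orderOf_dvd_of_pow_eq_one h1)
  omega

/-- fixed points of `α` are in the torus or involutions -/
theorem tor_or {α : MulAut L} (h : α * α = 1) (ho : R.o1 α = -1) {y : L} (hy : α y = y) :
    Odd (orderOf y) ∨ y * y = 1 := by
  have := R.finite
  obtain ⟨B, -, -, h2, h3, -, -, -, -⟩ := PglType.fix_data R h ho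
  rcases h3 y hy with h4 | h4
  · exact Or.inl (odd_of_no_inv h2 h4)
  · exact Or.inr h4.1

theorem tor_mul {α : MulAut L} (h : α * α = 1) (ho : R.o1 α = -1) {y z : L} (hy : α y = y)
    (hyo : Odd (orderOf y)) (hz : α z = z) (hzo : Odd (orderOf z)) :
    Odd (orderOf (y * z)) ∧ y * z = z * y := by
  have := R.finite
  obtain ⟨B, -, hcomm, h2, h3, -, -, -, -⟩ := PglType.fix_data R h ho
  have hmem : ∀ {y : L}, α y = y → Odd (orderOf y) → y ∈ B := by
    intro y hy hyo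
    rcases h3 y hy with h4 | h4
    · exact h4
    · rw [PglType.eq_one_of_odd_sq h4.1 hyo]
      exact one_mem _
  exact ⟨odd_of_no_inv h2 (mul_mem (hmem hy hyo) (hmem hz hzo)), hcomm _ (hmem hy hyo) _ (hmem hz hzo)⟩

/-- a `p`-part of `β` moving the field -/
theorem exists_part {β : MulAut L} (hβ : Odd (orderOf β)) (hf : R.fld β ≠ 1) :
    ∃ (p m : ℕ), p.Prime ∧ p ≠ 2 ∧ (∃ n, (β ^ m) ^ p ^ n = 1) ∧ R.fld (β ^ m) ≠ 1 := by
  have := R.finite
  have := R.finite_aut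
  have h1 : orderOf (R.fld β) ≠ 1 := fun h => hf (orderOf_eq_one_iff.mp h)
  obtain ⟨p, hp, hpd⟩ := Nat.exists_prime_and_dvd h1
  have hN : orderOf β ≠ 0 := (orderOf_pos β).ne'
  have hdvd : orderOf (R.fld β) ∣ orderOf β := orderOf_map_dvd _ _
  refine ⟨p, orderOf β / p ^ (orderOf β).factorization p, hp, ?_, ⟨(orderOf β).factorization p, ?_⟩, ?_⟩
  · rintro rfl
    exact (Nat.not_even_iff_odd.mpr hβ) (even_iff_two_dvd.mpr (hpd.trans hdvd))
  · rw [← pow_mul, Nat.div_mul_cancel (Nat.ordProj_dvd _ _), pow_orderOf_eq_one]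
  · rw [map_pow]
    intro h2
    exact Nat.not_dvd_ordCompl hp hN (hpd.trans (orderOf_dvd_of_pow_eq_one h2))

theorem pow_apply {δ : MulAut L} {c t : L} (hc : δ c = c) (ht : δ t = c * t) (k : ℕ) :
    (δ ^ k) t = c ^ k * t := by
  have hcp : ∀ k : ℕ, δ (c ^ k) = c ^ k := by
    intro k
    rw [map_pow, hc]
  induction k with
  | zero => rw [pow_zero, pow_zero, one_mul]; rfl
  | succ k ih =>
    rw [pow_succ', MulAut.mul_apply, ih, map_mul, hcp, ht, pow_succ]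
    group

/-- a `p`-element `δ` centralizing the `s`-element `c = δ(t) t⁻¹`, `s ≠ p`: `c = 1` -/
theorem fix_of_coprime {δ : MulAut L} {t : L} {p s : ℕ} (hp : p.Prime) (hs : s.Prime) (hne : p ≠ s)
    (hδ : ∃ n, δ ^ p ^ n = 1) (hs2 : ∃ n, (δ t * t⁻¹) ^ s ^ n = 1) (hc : δ (δ t * t⁻¹) = δ t * t⁻¹) :
    δ t = t := by
  obtain ⟨n, hn⟩ := hδ
  obtain ⟨m, hm⟩ := hs2
  have h1 := pow_apply hc (by rw [inv_mul_cancel_right] : δ t = δ t * t⁻¹ * t) (p ^ n)
  rw [hn] at h1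
  have h2 : (δ t * t⁻¹) ^ p ^ n = 1 := by
    have h3 : t = (δ t * t⁻¹) ^ p ^ n * t := h1
    exact (mul_eq_right.mp h3.symm)
  have h3 : orderOf (δ t * t⁻¹) ∣ 1 := by
    rw [← Nat.Coprime.gcd_eq_one (Nat.Coprime.pow n m ((Nat.coprime_primes hp hs).mpr hne))]
    exact Nat.dvd_gcd (orderOf_dvd_of_pow_eq_one h2) (orderOf_dvd_of_pow_eq_one hm)
  have h4 := orderOf_eq_one_iff.mp (Nat.dvd_one.mp h3)
  exact mul_inv_eq_one.mp h4

theorem odd_of_prime_pow {A : Type*} [Group A] {c : A} {s : ℕ} (hs : s.Prime) (hs2 : s ≠ 2)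
    (h : ∃ n, c ^ s ^ n = 1) : Odd (orderOf c) := by
  obtain ⟨n, hn⟩ := h
  exact Odd.of_dvd_nat (hs.odd_of_ne_two hs2).pow (orderOf_dvd_of_pow_eq_one hn)

/-- an element of odd order of `PGL(2,F)` commuting with `α` is in `T` -/
theorem mem_tor_of_fld {α β : MulAut L} (hβ : Odd (orderOf β)) (hf : R.fld β = 1)
    (hc : β * α = α * β) : ∃ t : L, α t = t ∧ Odd (orderOf t) ∧ β = MulAut.conj t := by
  obtain ⟨t, rfl⟩ := R.mem_inn_iff.2 ⟨hf, L2Fact.o1_of_odd R hβ⟩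
  refine ⟨t, ?_, ?_, rfl⟩
  · exact R.conj_injective (Cfsg.Agent.GH.L2Aut.Rep.conj_comm_iff.mp hc)
  · rwa [orderOf_injective _ R.conj_injective t] at hβ

theorem exists_ne {α : MulAut L} (h5 : 4 < Nat.card F) (h : α * α = 1) (ho : R.o1 α = -1) :
    ∃ y : L, α y = y ∧ Odd (orderOf y) ∧ y ≠ 1 := by
  by_contra hcon
  push Not at hcon
  obtain ⟨s, hs, hss, hs1⟩ := PglType.exists_fix_involution R h ho
  obtain ⟨l, hl⟩ := Gen.exists_pair R h ho hs hss
  have hg := Gen.gen R h5 h ho hs hss hs1 ⊥ (fun t ht hto => mem_bot.mpr (hcon t ht hto)) (by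
    intro t ht hto
    rw [mem_bot]
    have h1 : (α * MulAut.conj s) t = t := by
      rw [MulAut.mul_apply, MulAut.conj_apply, map_mul, map_mul, map_inv, hs, ht]
      group
    rw [← hl, MulAut.mul_apply, MulAut.mul_apply, MulAut.conj_apply, ← map_inv,
      MulAut.conj_apply, inv_inv] at h1
    have h2 : α (l⁻¹ * t * l) = l⁻¹ * t * l := by
      have h3 : α (l⁻¹ * t * l) = l⁻¹ * (l * α (l⁻¹ * t * l) * l⁻¹) * l := by group
      rw [h3, h1]
    have h3 : orderOf (l⁻¹ * t * l) = orderOf t := by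
      have h4 : l⁻¹ * t * l = MulAut.conj l⁻¹ t := by rw [MulAut.conj_apply, inv_inv]
      rw [h4]
      exact orderOf_injective (MulAut.conj l⁻¹).toMonoidHom (MulAut.conj l⁻¹).injective t
    have h4 := hcon _ h2 (by rwa [h3])
    have h5 : t = l * (l⁻¹ * t * l) * l⁻¹ := by group
    rw [h5, h4]; group)
  exact hs1 (mem_bot.mp (hg ▸ mem_top s))

/-- **(T3)** -/
theorem cen_tor {α : MulAut L} (h5 : 4 < Nat.card F) (h : α * α = 1) (ho : R.o1 α = -1)
    {β : MulAut L} (hβ : ∀ t : L, α t = t → Odd (orderOf t) → β t = t) :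
    ∃ t : L, α t = t ∧ Odd (orderOf t) ∧ (β = MulAut.conj t ∨ β = MulAut.conj t * α) := by
  have := R.finite
  have := R.finite_aut
  obtain ⟨y, hy, hyo, hy1⟩ := exists_ne R h5 h ho
  have hα1 := PglType.ne_one R ho
  -- elements centralizing `T` commute with `α`
  have hcomm : ∀ γ : MulAut L, (∀ t : L, α t = t → Odd (orderOf t) → γ t = t) → γ * α = α * γ := by
    intro γ hγ
    have h1 : γ * α * γ⁻¹ = 1 ∨ γ * α * γ⁻¹ = α := by
      refine L2Fact.eq_of_fix R h ho hy1 hyo hy ⟨1, ?_⟩ ?_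
      · rw [pow_one, pow_two]
        have e : γ * α * γ⁻¹ * (γ * α * γ⁻¹) = γ * (α * α) * γ⁻¹ := by group
        rw [e, h, mul_one, mul_inv_cancel]
      · have h2 : γ⁻¹ y = y := by
          rw [MulAut.inv_apply, MulEquiv.symm_apply_eq]
          exact (hγ y hy hyo).symm
        rw [MulAut.mul_apply, MulAut.mul_apply, h2, hy, hγ y hy hyo]
    rcases h1 with h1 | h1
    · exfalso
      apply hα1
      have : α = γ⁻¹ * (γ * α * γ⁻¹) * γ := by group
      rw [this, h1]; group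
    · exact mul_inv_eq_iff_eq_mul.mp h1
  -- the odd case
  have hodd : ∀ γ : MulAut L, (∀ t : L, α t = t → Odd (orderOf t) → γ t = t) → Odd (orderOf γ) →
      ∃ t : L, α t = t ∧ Odd (orderOf t) ∧ γ = MulAut.conj t := by
    intro γ hγ hγo
    refine mem_tor_of_fld R hγo ?_ (hcomm γ hγ)
    by_contra hf
    obtain ⟨p, m, hp, hp2, hpn, hfm⟩ := exists_part R hγo hf
    have hδ : ∀ t : L, α t = t → Odd (orderOf t) → (γ ^ m) t = t := by
      intro t ht hto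
      have := pow_apply (δ := γ) (c := 1) (t := t) (map_one γ) (by rw [one_mul]; exact hγ t ht hto) m
      rwa [one_pow, one_mul] at this
    obtain ⟨s, hs, hps, t, ht, hδt, hsn⟩ := FieldOdd.exists_larger R h ho hp hp2 hpn hfm (hcomm _ hδ)
    apply hδt
    refine fix_of_coprime hp hs (by omega) hpn hsn (hδ _ ?_ (odd_of_prime_pow hs (by
      have := hp.two_le
      omega) hsn))
    rw [map_mul, map_inv, ht]
    congr 1
    have h3 := hcomm _ hδ
    calc α ((γ ^ m) t) = (α * γ ^ m) t := rfl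
      _ = (γ ^ m * α) t := by rw [h3]
      _ = (γ ^ m) t := by rw [MulAut.mul_apply, ht]
  -- the 2-part
  obtain ⟨N, k, hNk, hN⟩ : ∃ N k, orderOf β = 2 ^ k * N ∧ Odd N := by
    obtain ⟨k, N, hN, hNk⟩ := Nat.exists_eq_two_pow_mul_odd (orderOf_pos β).ne'
    exact ⟨N, k, hNk, hN⟩
  have hβN : β ^ N = 1 ∨ β ^ N = α := by
    refine L2Fact.eq_of_fix R h ho hy1 hyo hy ⟨k, ?_⟩ ?_
    · rw [← pow_mul, mul_comm, ← hNk, pow_orderOf_eq_one]
    · have := pow_apply (δ := β) (c := 1) (t := y) (map_one β) (by rw [one_mul]; exact hβ y hy hyo) N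
      rwa [one_pow, one_mul] at this
  rcases hβN with h1 | h1
  · obtain ⟨t, ht, hto, hβt⟩ := hodd β hβ (Odd.of_dvd_nat hN (orderOf_dvd_of_pow_eq_one h1))
    exact ⟨t, ht, hto, Or.inl hβt⟩
  · have hc : Commute β α := hcomm β hβ
    have h2 : (β * α) ^ N = 1 := by
      rw [hc.mul_pow, h1]
      obtain ⟨j, rfl⟩ := hN
      rw [← pow_succ', show 2 * j + 1 + 1 = 2 * (j + 1) by ring, pow_mul, pow_two, h, one_pow]
    obtain ⟨t, ht, hto, hβt⟩ := hodd (β * α) (fun t ht hto => by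
      rw [MulAut.mul_apply, ht, hβ t ht hto]) (Odd.of_dvd_nat hN (orderOf_dvd_of_pow_eq_one h2))
    refine ⟨t, ht, hto, Or.inr ?_⟩
    rw [← hβt, mul_assoc, h, mul_one]

variable {D : Subgroup (MulAut L)}

/-- **(T4)** -/
theorem mem_tor_of_comm {α : MulAut L} (h : α * α = 1) (ho : R.o1 α = -1) (hD : Odd (Nat.card D))
    (hDα : ∀ δ ∈ D, δ * α = α * δ)
    (hDn : ∀ k : L, α k = k → ∀ δ ∈ D, MulAut.conj k * δ * (MulAut.conj k)⁻¹ ∈ D) {g : MulAut L}
    (hg : g ∈ D) (hgc : ∀ t : L, α t = t → MulAut.conj t ∈ D → g t = t) :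
    ∃ t : L, α t = t ∧ Odd (orderOf t) ∧ g = MulAut.conj t := by
  have := R.finite
  have := R.finite_aut
  have hgo : Odd (orderOf g) := by
    refine Odd.of_dvd_nat hD ?_
    exact Subgroup.orderOf_dvd_natCard D hg
  refine mem_tor_of_fld R hgo ?_ (hDα g hg)
  by_contra hf
  obtain ⟨p, m, hp, hp2, hpn, hfm⟩ := exists_part R hgo hf
  obtain ⟨δ, hδ⟩ : ∃ δ, δ = g ^ m := ⟨_, rfl⟩
  rw [← hδ] at hpn hfm
  have hδD : δ ∈ D := by rw [hδ]; exact pow_mem hg m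
  obtain ⟨s, hs, hps, t, ht, hδt, hsn⟩ := FieldOdd.exists_larger R h ho hp hp2 hpn hfm (hDα δ hδD)
  apply hδt
  have hαc : α (δ t * t⁻¹) = δ t * t⁻¹ := by
    rw [map_mul, map_inv, ht]
    congr 1
    calc α (δ t) = (α * δ) t := rfl
      _ = (δ * α) t := by rw [hDα δ hδD]
      _ = δ t := by rw [MulAut.mul_apply, ht]
  have hcD : MulAut.conj (δ t * t⁻¹) ∈ D := PGLFacts.comm_mem (hDn t ht) hδD
  refine fix_of_coprime hp hs (by omega) hpn hsn ?_
  have := pow_apply (δ := g) (c := 1) (t := δ t * t⁻¹) (map_one g)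
    (by rw [one_mul]; exact hgc _ hαc hcD) m
  rwa [one_pow, one_mul, ← hδ] at this

/-- **(T4')** -/
theorem mem_tor_of_derived {α : MulAut L} (h : α * α = 1) (ho : R.o1 α = -1) (hD : Odd (Nat.card D))
    (hDα : ∀ δ ∈ D, δ * α = α * δ)
    (hDn : ∀ k : L, α k = k → ∀ δ ∈ D, MulAut.conj k * δ * (MulAut.conj k)⁻¹ ∈ D) {g : MulAut L}
    (hg : g ∈ D) (hgc : ∀ δ ∈ D, ∀ ε ∈ D, Commute g (δ * ε * δ⁻¹ * ε⁻¹)) :
    ∃ t : L, α t = t ∧ Odd (orderOf t) ∧ g = MulAut.conj t := by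
  have := R.finite
  have := R.finite_aut
  have hgo : Odd (orderOf g) := by
    refine Odd.of_dvd_nat hD ?_
    exact Subgroup.orderOf_dvd_natCard D hg
  refine mem_tor_of_fld R hgo ?_ (hDα g hg)
  by_contra hf
  obtain ⟨p, m, hp, hp2, hpn, hfm⟩ := exists_part R hgo hf
  obtain ⟨δ, hδ⟩ : ∃ δ, δ = g ^ m := ⟨_, rfl⟩
  rw [← hδ] at hpn hfm
  have hδD : δ ∈ D := by rw [hδ]; exact pow_mem hg m
  have hδc : ∀ c : L, MulAut.conj c ∈ D → δ (δ c * c⁻¹) = δ c * c⁻¹ := by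
    intro c hc
    have h1 : Commute (g ^ m) (δ * MulAut.conj c * δ⁻¹ * (MulAut.conj c)⁻¹) :=
      (hgc δ hδD _ hc).pow_left m
    have h2 : δ * MulAut.conj c * δ⁻¹ * (MulAut.conj c)⁻¹ = MulAut.conj (δ c * c⁻¹) := by
      rw [map_mul, map_inv, ← Cfsg.Agent.GH.L2Aut.conj_conj]
    rw [← hδ, h2] at h1
    exact R.conj_injective (Cfsg.Agent.GH.L2Aut.Rep.conj_comm_iff.mp h1.eq.symm)
  have hαδ : ∀ c : L, α c = c → α (δ c) = δ c := by
    intro c hc
    calc α (δ c) = (α * δ) c := rfl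
      _ = (δ * α) c := by rw [hDα δ hδD]
      _ = δ c := by rw [MulAut.mul_apply, hc]
  obtain ⟨s, hs, hps, t, ht, hδt, hsn⟩ := FieldOdd.exists_larger R h ho hp hp2 hpn hfm (hDα δ hδD)
  apply hδt
  have hs2 : s ≠ 2 := by
    have := hp.two_le
    omega
  obtain ⟨c, hc⟩ : ∃ c, c = δ t * t⁻¹ := ⟨_, rfl⟩
  have hαc : α c = c := by rw [hc, map_mul, map_inv, ht, hαδ t ht]
  have hco : Odd (orderOf c) := odd_of_prime_pow hs hs2 (hc ▸ hsn)
  have hδco : Odd (orderOf (δ c)) := by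
    have : orderOf (δ c) = orderOf c := orderOf_injective δ.toMonoidHom δ.injective c
    rwa [this]
  refine fix_of_coprime hp hs (by omega) hpn hsn ?_
  rw [← hc] at hsn ⊢
  refine fix_of_coprime hp hs (by omega) hpn ?_ (hδc c ?_)
  swap
  · rw [hc]
    exact PGLFacts.comm_mem (hDn t ht) hδD
  obtain ⟨n, hn⟩ := hsn
  refine ⟨n, ?_⟩
  have h1 : Commute (δ c) c⁻¹ :=
    Commute.inv_right (tor_mul R h ho (hαδ c hαc) hδco hαc hco).2
  rw [h1.mul_pow, ← map_pow, hn, map_one, inv_pow, hn, inv_one, mul_one]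

include R in
/-- `D' ≤ T` -/
theorem commutator_mem {α : MulAut L} (hD : Odd (Nat.card D)) (hDα : ∀ δ ∈ D, δ * α = α * δ)
    {δ ε : MulAut L} (hδ : δ ∈ D) (hε : ε ∈ D) :
    ∃ t : L, α t = t ∧ Odd (orderOf t) ∧ δ * ε * δ⁻¹ * ε⁻¹ = MulAut.conj t := by
  have := R.finite
  have := R.finite_aut
  have hm : δ * ε * δ⁻¹ * ε⁻¹ ∈ D := mul_mem (mul_mem (mul_mem hδ hε) (inv_mem hδ)) (inv_mem hε)
  refine mem_tor_of_fld R (Odd.of_dvd_nat hD (Subgroup.orderOf_dvd_natCard D hm)) ?_ (hDα _ hm)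
  rw [map_mul, map_mul, map_mul, map_inv, map_inv, EFacts.ringAut_comm (R.fld δ) (R.fld ε),
    mul_inv_cancel_right, mul_inv_cancel]

end aut

end Cfsg.Agent.UGT.Res.TorFacts
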