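import Cfsg.Agent.UGT.Res.WStar
import Cfsg.Agent.UGT.Res.KFacts
import Cfsg.Agent.UGT.Res.TorFacts

/-!
# R4: the PGL side

`R : Rep F (H / O(H))`, `M0 W H`, `K0 W H` of `WPair`.

* `four_of_comm`: an involution of `Aut L` commuting with `α` (PGL type) and `s` is in `⟨α, s⟩`.
* `inner_of_comm`: the product of two commuting non-inner involutions is inner or both are field/PGL.
* `lam`, `conj`, `gen`, `mem_four`, `inner_index`.
* `FourX.R_le`: `R₀ ≤ K0 W H`, `H = J W`.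
-/

set_option autoImplicit false
set_option linter.unusedSectionVars false

open Cfsg Subgroup
open Cfsg.Agent.SignalizersComponents Cfsg.Agent.Lib
open Cfsg.Agent.SignalizersComponents.IntrinsicBasic
open Cfsg.Agent.Intrinsic.Basic Cfsg.Agent.Intrinsic.Cen Cfsg.Agent.Intrinsic.Diag
open Cfsg.Agent.McLLyComp.Act
open Cfsg.Agent.UGT.Triple Cfsg.Agent.UGT.PumpGen Cfsg.Agent.UGT.TriBase
open Cfsg.Agent.UGT.Res.Base Cfsg.Agent.UGT.Res.Abel Cfsg.Agent.UGT.Res.CoreFree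
open Cfsg.Agent.UGT.Res.WFun Cfsg.Agent.UGT.Res.WPair Cfsg.Agent.UGT.Res.WStar

open scoped commutatorElement

namespace Cfsg.Agent.UGT.Res.WSup

/-! ### automorphisms of `PSL(2,F)` -/

section aut

variable {F : Type*} [Field F] [Finite F] {L : Type*} [Group L] (R : Cfsg.Agent.GH.L2Aut.Rep F L)

/-- An involution commuting with `α` (PGL type) and fixing the involution `s ∈ C_L(α)` is `α`, `s` or `α s`. -/
theorem four_of_comm {α : MulAut L} (h : α * α = 1) (ho : R.o1 α = -1) {s : L} (hs : α s = s)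
    (hss : s * s = 1) (hs1 : s ≠ 1) {β : MulAut L} (hβ : β * β = 1) (hc : β * α = α * β)
    (hcs : β s = s) : β = 1 ∨ β = α ∨ β = MulAut.conj s ∨ β = MulAut.conj s * α := by
  have hf : R.fld β = 1 := by
    by_contra hf
    have h3 := R.o1_of_comm hβ hf hc.symm
    rw [ho] at h3
    exact absurd h3 (by decide)
  have hf' : R.fld α = 1 := R.mem_PGL_iff_fld.1 (OddHalf.D6.PglType.pgl_of R h ho).1
  have key : ∀ γ : MulAut L, γ * γ = 1 → γ * α = α * γ → γ s = s → R.fld γ = 1 → R.o1 γ = 1 →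
      γ = 1 ∨ γ = MulAut.conj s := by
    intro γ h1 h2 h3 h4 h5
    obtain ⟨t, rfl⟩ := R.mem_inn_iff.2 ⟨h4, h5⟩
    by_cases ht1 : t = 1
    · left
      rw [ht1, map_one]
    · right
      have ht : α t = t := R.conj_injective (Cfsg.Agent.GH.L2Aut.Rep.conj_comm_iff.mp h2)
      have htt : t * t = 1 := R.conj_injective (by rw [map_mul, h1, map_one])
      have hts : t * s = s * t := by
        rw [MulAut.conj_apply] at h3
        exact mul_inv_eq_iff_eq_mul.mp h3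
      rw [OddHalf.D6.PglType.eq_of_two R h ho ht htt ht1 hs hss hs1 ⟨1, by
        rw [pow_one, pow_two]
        calc t * s * (t * s) = t * (s * t) * s := by group
          _ = t * (t * s) * s := by rw [hts]
          _ = (t * t) * (s * s) := by group
          _ = 1 := by rw [htt, hss, one_mul]⟩]
  rcases Int.units_eq_one_or (R.o1 β) with h1 | h1
  · rcases key β hβ hc hcs hf h1 with h2 | h2
    · exact Or.inl h2
    · exact Or.inr (Or.inr (Or.inl h2))
  · have h2 : (β * α) * (β * α) = 1 := by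
      calc (β * α) * (β * α) = β * (α * β) * α := by group
        _ = (β * β) * (α * α) := by rw [← hc]; group
        _ = 1 := by rw [hβ, h, one_mul]
    have h3 : β * α * α = α * (β * α) := by rw [← mul_assoc, ← hc]
    have h4 : (β * α) s = s := by rw [MulAut.mul_apply, hs, hcs]
    have h5 : β = β * α * α := by rw [mul_assoc, h, mul_one]
    rcases key (β * α) h2 h3 h4 (by rw [map_mul, hf, hf', one_mul])
      (by rw [map_mul, h1, ho]; decide) with h6 | h6
    · right; left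
      rw [h5, h6, one_mul]
    · right; right; right
      rw [h5, h6]

theorem cyc_two {C : Type*} [Group C] [Finite C] [IsCyclic C] {σ τ : C} (hσ : σ * σ = 1)
    (hτ : τ * τ = 1) (h1 : σ ≠ 1) (h2 : τ ≠ 1) : σ = τ := by
  classical
  have := Fintype.ofFinite C
  by_contra hne
  have h3 := IsCyclic.card_pow_eq_one_le (α := C) (n := 2) (by norm_num)
  have h4 : ({1, σ, τ} : Finset C) ⊆ Finset.univ.filter fun a : C => a ^ 2 = 1 := by
    intro a ha
    rw [Finset.mem_filter]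
    refine ⟨Finset.mem_univ _, ?_⟩
    simp only [Finset.mem_insert, Finset.mem_singleton] at ha
    rcases ha with rfl | rfl | rfl
    · exact one_pow 2
    · rw [pow_two, hσ]
    · rw [pow_two, hτ]
  have h5 := Finset.card_le_card h4
  have h6 : ({1, σ, τ} : Finset C).card = 3 := by
    rw [Finset.card_eq_three]
    exact ⟨1, σ, τ, h1.symm, h2.symm, hne, rfl⟩
  omega

include R in
/-- the product of two commuting non-inner involutions is inner -/
theorem inner_of_comm {α β : MulAut L} (h : α * α = 1) (hβ : β * β = 1) (hc : β * α = α * β)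
    (h1 : α ∉ (MulAut.conj : L →* MulAut L).range) (h2 : β ∉ (MulAut.conj : L →* MulAut L).range) :
    α * β ∈ (MulAut.conj : L →* MulAut L).range := by
  rw [R.mem_inn_iff] at h1 h2 ⊢
  rw [map_mul, map_mul]
  by_cases hfa : R.fld α = 1
  · have hoa : R.o1 α = -1 := (Int.units_eq_one_or _).resolve_left fun h3 => h1 ⟨hfa, h3⟩
    by_cases hfb : R.fld β = 1
    · have hob : R.o1 β = -1 := (Int.units_eq_one_or _).resolve_left fun h3 => h2 ⟨hfb, h3⟩
      rw [hfa, hfb, hoa, hob]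
      exact ⟨one_mul _, by decide⟩
    · have h3 := R.o1_of_comm hβ hfb hc.symm
      rw [hoa] at h3
      exact absurd h3 (by decide)
  · have hob := R.o1_of_comm h hfa hc
    have hoa := R.o1_of_sq h hfa
    have hfb : R.fld β ≠ 1 := fun h3 => h2 ⟨h3, hob⟩
    rw [hoa, hob]
    refine ⟨?_, one_mul _⟩
    have hc : IsCyclic (F ≃+* F) := Cfsg.Agent.LieRecognition.FieldSemilinear.isCyclic_ringAut F
    have hfin : Finite (F ≃+* F) := Finite.of_injective (fun σ : F ≃+* F => (σ : F → F)) DFunLike.coe_injective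
    rw [cyc_two (by rw [← map_mul, h, map_one]) (by rw [← map_mul, hβ, map_one]) hfa hfb,
      ← map_mul, hβ, map_one]

end aut

/-! ### `M0`, `K0` -/

variable {G : Type*} [Group G] {W H : Subgroup G} {F : Type*} [Field F] [Finite F]
  (R : Cfsg.Agent.GH.L2Aut.Rep F (↥H ⧸ oddCore ↥H))

/-- the sign of the PGL part of the action on `H / O(H)` -/
noncomputable def lam (W : Subgroup G) : ↥(M0 W H) →* ℤˣ :=
  R.o1.comp ((act H).comp (Subgroup.inclusion inf_le_right))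

theorem lam_mk {m : G} (hm : m ∈ M0 W H) : lam R W ⟨m, hm⟩ = R.o1 (act H ⟨m, hm.2⟩) := rfl

theorem act_sq {m : G} (hm : m ∈ normalizer (H : Set G)) (h : m * m = 1) :
    act H ⟨m, hm⟩ * act H ⟨m, hm⟩ = 1 := by
  rw [← act_mul hm hm, act_congr (mul_mem hm hm) h]
  exact map_one _

theorem mem_K0_iff {m : G} (hm : m ∈ M0 W H) : m ∈ K0 W H ↔ act H ⟨m, hm.2⟩ = 1 := by
  rw [act_eq_one_iff]
  exact ⟨fun h => h.2, fun h => ⟨hm, h⟩⟩

/-- **(L2)** involutions with `lam = -1` are conjugate modulo `K0` -/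
theorem conj (hH : H ≤ M0 W H) {x x' : G} (hx : x ∈ M0 W H) (hx' : x' ∈ M0 W H) (hxx : x * x = 1)
    (hxx' : x' * x' = 1) (hl : lam R W ⟨x, hx⟩ = -1) (hl' : lam R W ⟨x', hx'⟩ = -1) :
    ∃ m ∈ H, ∃ k ∈ K0 W H, m * x' * m⁻¹ = x * k := by
  rw [lam_mk] at hl hl'
  obtain ⟨h1, h2⟩ := OddHalf.D6.PglType.pgl_of R (act_sq hx.2 hxx) hl
  obtain ⟨h3, h4⟩ := OddHalf.D6.PglType.pgl_of R (act_sq hx'.2 hxx') hl'
  obtain ⟨y, hy⟩ := R.dtype_conj h3 h4 (act_sq hx'.2 hxx') h1 h2 (act_sq hx.2 hxx)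
  obtain ⟨⟨m, hm⟩, rfl⟩ := QuotientGroup.mk_surjective y
  have hmM := hH hm
  refine ⟨m, hm, x⁻¹ * (m * x' * m⁻¹), ?_, by group⟩
  have hmem : x⁻¹ * (m * x' * m⁻¹) ∈ M0 W H :=
    mul_mem (inv_mem hx) (mul_mem (mul_mem hmM hx') (inv_mem hmM))
  rw [mem_K0_iff hmem, act_mul (inv_mem hx.2) (mul_mem (mul_mem hmM.2 hx'.2) (inv_mem hmM.2)),
    act_inv hx.2, act_mul (mul_mem hmM.2 hx'.2) (inv_mem hmM.2), act_mul hmM.2 hx'.2, act_inv hmM.2]
  have h5 : act H ⟨m, hmM.2⟩ = MulAut.conj (QuotientGroup.mk ⟨m, hm⟩) := act_of_mem hm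
  rw [h5, hy, inv_mul_cancel]

/-- **(L4)** an involution of `M0` commuting with `x` and `s` is in `⟨x, s⟩ K0` -/
theorem mem_four [Finite G] (hH : H ≤ M0 W H) {x s v : G} (hx : x ∈ M0 W H) (hxx : x * x = 1)
    (hl : lam R W ⟨x, hx⟩ = -1) (hs : s ∈ H) (hss : s * s = 1) (hs1 : s ≠ 1) (hxs : x * s = s * x)
    (hv : v ∈ M0 W H) (hvv : v * v = 1) (hvx : v * x = x * v) (hvs : v * s = s * v) :
    v ∈ K0 W H ∨ v * x ∈ K0 W H ∨ v * s ∈ K0 W H ∨ v * (s * x) ∈ K0 W H := by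
  rw [lam_mk] at hl
  have hsM := hH hs
  have hfix : ∀ (m : G) (hm : m ∈ normalizer (H : Set G)), m * s = s * m →
      act H ⟨m, hm⟩ (QuotientGroup.mk ⟨s, hs⟩) = QuotientGroup.mk ⟨s, hs⟩ := by
    intro m hm h
    rw [act_mk hm hs]
    congr 1
    apply Subtype.ext
    change m * s * m⁻¹ = s
    rw [h, mul_inv_cancel_right]
  have hs' : (QuotientGroup.mk ⟨s, hs⟩ : ↥H ⧸ oddCore ↥H) ≠ 1 := by
    intro h
    exact hs1 (eq_one_of_mem_core_sq ((mk_eq_one_iff hs).mp h) hss)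
  have hss' : (QuotientGroup.mk ⟨s, hs⟩ : ↥H ⧸ oddCore ↥H) * QuotientGroup.mk ⟨s, hs⟩ = 1 := by
    rw [← QuotientGroup.mk_mul]
    have : (⟨s, hs⟩ : ↥H) * ⟨s, hs⟩ = 1 := Subtype.ext hss
    rw [this]
    rfl
  have hcomm : act H ⟨v, hv.2⟩ * act H ⟨x, hx.2⟩ = act H ⟨x, hx.2⟩ * act H ⟨v, hv.2⟩ := by
    rw [← act_mul hv.2 hx.2, ← act_mul hx.2 hv.2]
    exact act_congr _ hvx
  have key := four_of_comm R (act_sq hx.2 hxx) hl (hfix x hx.2 hxs) hss' hs' (act_sq hv.2 hvv) hcomm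
    (hfix v hv.2 hvs)
  rw [← act_of_mem hs] at key
  have hsq : act H ⟨s, le_normalizer hs⟩ * act H ⟨s, le_normalizer hs⟩ = 1 :=
    act_sq (le_normalizer hs) hss
  rcases key with h | h | h | h
  · exact Or.inl ((mem_K0_iff hv).mpr h)
  · right; left
    rw [mem_K0_iff (mul_mem hv hx), act_mul hv.2 hx.2, h, act_sq hx.2 hxx]
  · right; right; left
    rw [mem_K0_iff (mul_mem hv hsM), act_mul hv.2 hsM.2, h, hsq]
  · right; right; right
    rw [mem_K0_iff (mul_mem hv (mul_mem hsM hx)), act_mul hv.2 (mul_mem hsM.2 hx.2),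
      act_mul hsM.2 hx.2, h]
    have h2 : act H ⟨x, hx.2⟩ * act H ⟨s, le_normalizer hs⟩ =
        act H ⟨s, le_normalizer hs⟩ * act H ⟨x, hx.2⟩ := by
      rw [← act_mul hx.2 (le_normalizer hs), ← act_mul (le_normalizer hs) hx.2]
      exact act_congr _ hxs
    calc act H ⟨s, le_normalizer hs⟩ * act H ⟨x, hx.2⟩ *
          (act H ⟨s, le_normalizer hs⟩ * act H ⟨x, hx.2⟩) =
        act H ⟨s, le_normalizer hs⟩ * (act H ⟨x, hx.2⟩ * act H ⟨s, le_normalizer hs⟩) *
          act H ⟨x, hx.2⟩ := by group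
      _ = (act H ⟨s, le_normalizer hs⟩ * act H ⟨s, le_normalizer hs⟩) *
          (act H ⟨x, hx.2⟩ * act H ⟨x, hx.2⟩) := by rw [h2]; group
      _ = 1 := by rw [hsq, act_sq hx.2 hxx, one_mul]

/-! ### `pgl` -/

theorem range_le {G' : Type*} [Group G'] {F : Type*} [Field F] [Finite F] {L : Type*} [Group L]
    (R : Cfsg.Agent.GH.L2Aut.Rep F L) (V : Subgroup (MulAut L)) (hV : ∀ v ∈ V, v * v = 1)
    {α : MulAut L} (hα : α ∈ V) (ho : R.o1 α = -1) :
    ∃ γ : MulAut L, ∀ β ∈ V, β = 1 ∨ β = α ∨ β = γ ∨ β = γ * α := by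
  have hcomm : ∀ β ∈ V, β * α = α * β := by
    intro β hβ
    have h1 := hV _ (mul_mem hβ hα)
    have h2 : β * α * (β * α) = 1 := h1
    calc β * α = β * α * 1 := by rw [mul_one]
      _ = β * α * ((α * α) * (β * β)) := by rw [hV α hα, hV β hβ, one_mul]
      _ = (β * (α * α)) * (α * β) * β := by group
      _ = (β * 1) * (α * β) * β := by rw [hV α hα]
      _ = (β * (α * β) * β) := by group
      _ = (β * α * (β * α)) * (α⁻¹ * β) := by group
      _ = α * β := by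
        rw [h2, one_mul, inv_eq_of_mul_eq_one_left (hV α hα)]
  have hf' : R.fld α = 1 := R.mem_PGL_iff_fld.1 (OddHalf.D6.PglType.pgl_of R (hV α hα) ho).1
  have hf : ∀ β ∈ V, R.fld β = 1 := by
    intro β hβ
    by_contra hf
    have h3 := R.o1_of_comm (hV β hβ) hf (hcomm β hβ).symm
    rw [ho] at h3
    exact absurd h3 (by decide)
  by_cases h : ∃ t : L, t ≠ 1 ∧ MulAut.conj t ∈ V
  · obtain ⟨t, ht1, ht⟩ := h
    have htt : t * t = 1 := R.conj_injective (by rw [map_mul, hV _ ht, map_one])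
    have htα : α t = t := R.conj_injective (Cfsg.Agent.GH.L2Aut.Rep.conj_comm_iff.mp (hcomm _ ht))
    refine ⟨MulAut.conj t, fun β hβ => ?_⟩
    have hβt : β * MulAut.conj t = MulAut.conj t * β := by
      have h1 := hV _ (mul_mem hβ ht)
      have h2 : β * MulAut.conj t = (β * MulAut.conj t)⁻¹ := (inv_eq_of_mul_eq_one_left h1).symm
      rw [h2, mul_inv_rev, inv_eq_of_mul_eq_one_left (hV _ hβ), inv_eq_of_mul_eq_one_left (hV _ ht)]
    exact four_of_comm R (hV α hα) ho htα htt ht1 (hV β hβ) (hcomm β hβ)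
      (R.conj_injective (Cfsg.Agent.GH.L2Aut.Rep.conj_comm_iff.mp hβt.symm))
  · push Not at h
    refine ⟨1, fun β hβ => ?_⟩
    have key : ∀ γ ∈ V, R.o1 γ = 1 → γ = 1 := by
      intro γ hγ h5
      obtain ⟨t, rfl⟩ := R.mem_inn_iff.2 ⟨hf γ hγ, h5⟩
      by_cases ht1 : t = 1
      · rw [ht1, map_one]
      · exact absurd hγ (h t ht1)
    rcases Int.units_eq_one_or (R.o1 β) with h1 | h1
    · exact Or.inl (key β hβ h1)
    · right; left
      have h2 := key _ (mul_mem hβ hα) (by rw [map_mul, h1, ho]; decide)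
      calc β = β * α * α := by rw [mul_assoc, hV α hα, mul_one]
        _ = α := by rw [h2, one_mul]

/-- **`pgl`** -/
theorem pgl [Finite G] (U : Subgroup G) (hU : U ≤ M0 W H) (elU : IsElementaryAbelian 2 U) (x : G)
    (hx : x ∈ M0 W H) (hxU : x ∈ U) (hl : lam R W ⟨x, hx⟩ = -1) :
    Nat.card ↥U ≤ 4 * Nat.card ↥(U ⊓ K0 W H : Subgroup G) := by
  classical
  obtain ⟨f, hf⟩ : ∃ f : ↥U →* MulAut (↥H ⧸ oddCore ↥H), f =
      (act H).comp (Subgroup.inclusion (fun u hu => (hU hu).2)) := ⟨_, rfl⟩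
  have hfm : ∀ (u : G) (hu : u ∈ U), f ⟨u, hu⟩ = act H ⟨u, (hU hu).2⟩ := fun u hu => by
    rw [hf]; rfl
  obtain ⟨γ, hγ⟩ := range_le (G' := G) R f.range (by
    rintro _ ⟨⟨u, hu⟩, rfl⟩
    rw [← map_mul]
    have : (⟨u, hu⟩ : ↥U) * ⟨u, hu⟩ = 1 := Subtype.ext (sq_of_el elU hu)
    rw [this, map_one]) (α := act H ⟨x, hx.2⟩) ⟨⟨x, hxU⟩, hfm x hxU⟩ hl
  have h4 : Nat.card f.range ≤ 4 := by
    have h5 : (f.range : Set (MulAut (↥H ⧸ oddCore ↥H))) ⊆
        (({1, act H ⟨x, hx.2⟩, γ, γ * act H ⟨x, hx.2⟩} : Finset (MulAut (↥H ⧸ oddCore ↥H))) :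
          Set (MulAut (↥H ⧸ oddCore ↥H))) := by
      intro β hβ
      simp only [Finset.coe_insert, Finset.coe_singleton, Set.mem_insert_iff,
        Set.mem_singleton_iff]
      exact hγ β hβ
    have h6 := Nat.card_mono (Finset.finite_toSet _) h5
    refine h6.trans ?_
    rw [Nat.card_coe_set_eq, Set.ncard_coe_finset]
    exact Finset.card_le_four
  have hker : Nat.card f.ker = Nat.card ↥(U ⊓ K0 W H : Subgroup G) := by
    have h5 : f.ker.map U.subtype = U ⊓ K0 W H := by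
      ext z
      constructor
      · rintro ⟨⟨u, hu⟩, h6, rfl⟩
        refine ⟨hu, ?_⟩
        change u ∈ K0 W H
        rw [mem_K0_iff (hU hu), ← hfm u hu]
        exact h6
      · rintro ⟨h6, h7⟩
        refine ⟨⟨z, h6⟩, ?_, rfl⟩
        change f ⟨z, h6⟩ = 1
        rw [hfm z h6]
        exact (mem_K0_iff (hU h6)).mp h7
    rw [← h5, card_map_of_injective U.subtype_injective]
  have h7 := Subgroup.card_mul_index f.ker
  rw [Subgroup.index_ker, hker] at h7
  rw [← h7, mul_comm]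
  exact Nat.mul_le_mul_right _ h4

/-! ### `Pt` -/

/-- lifting a 2-group of exponent two of `H / O(H)` -/
theorem exists_lift_el [Finite G] {V : Subgroup (↥H ⧸ oddCore ↥H)} (hV : ∀ v ∈ V, v * v = 1) {s : G}
    (hs : s ∈ H) (hss : s * s = 1) (hsV : QuotientGroup.mk ⟨s, hs⟩ ∈ V) :
    ∃ A ≤ H, (∀ a ∈ A, a * a = 1) ∧ Nat.card ↥A = Nat.card ↥V ∧ s ∈ A := by
  have hp : Fact (Nat.Prime 2) := ⟨Nat.prime_two⟩
  obtain ⟨X, hX⟩ : ∃ X : Subgroup G, X =
      (V.comap (QuotientGroup.mk' (oddCore ↥H))).map H.subtype := ⟨_, rfl⟩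
  have hXH : X ≤ H := by
    rw [hX]
    exact map_subtype_le _
  have hmem : ∀ (z : G) (hz : z ∈ H), z ∈ X ↔ (QuotientGroup.mk ⟨z, hz⟩ : ↥H ⧸ oddCore ↥H) ∈ V := by
    intro z hz
    rw [hX]
    constructor
    · rintro ⟨⟨y, hy⟩, h1, rfl⟩
      exact h1
    · intro h1
      exact ⟨⟨z, hz⟩, h1, rfl⟩
  obtain ⟨A, hA, hsA⟩ := exists_isSyl (E := X) (isPGroup_of_el (el_zpowers hss)) (by
    rw [zpowers_le]
    exact (hmem s hs).mpr hsV)
  rw [zpowers_le] at hsA
  have hAH := hA.le.trans hXH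
  -- `A → V` is injective
  obtain ⟨f, hf⟩ : ∃ f : ↥A →* ↥V, ∀ (a : G) (ha : a ∈ A), ((f ⟨a, ha⟩ : ↥V) : ↥H ⧸ oddCore ↥H) =
      QuotientGroup.mk ⟨a, hAH ha⟩ :=
    ⟨((QuotientGroup.mk' (oddCore ↥H)).comp (Subgroup.inclusion hAH)).codRestrict V
      (fun a => (hmem a.1 (hAH a.2)).mp (hA.le a.2)), fun a ha => rfl⟩
  have hinj : Function.Injective f := by
    rw [injective_iff_map_eq_one]
    rintro ⟨a, ha⟩ h1
    have h2 := hf a ha
    rw [h1] at h2
    have h3 := (mk_eq_one_iff (hAH ha)).mp h2.symm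
    obtain ⟨n, hn⟩ := hA.two ⟨a, ha⟩
    apply Subtype.ext
    change a = 1
    have h4 : a ^ 2 ^ n = 1 := congrArg Subtype.val hn
    have h5 := orderOf_dvd_natCard (⟨a, h3⟩ : ↥(core H))
    rw [Subgroup.orderOf_mk] at h5
    have h6 : (orderOf a).Coprime (2 ^ n) :=
      Nat.Coprime.pow_right n (Nat.coprime_two_right.mpr (Odd.of_dvd_nat (odd_card_core H) h5))
    exact orderOf_eq_one_iff.mp (Nat.Coprime.eq_one_of_dvd h6 (orderOf_dvd_of_pow_eq_one h4))
  have hle : Nat.card ↥A ≤ Nat.card ↥V := Nat.card_le_card_of_injective f hinj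
  have hVp : IsPGroup 2 ↥V := isPGroup_of_el (el_of_sq hV)
  obtain ⟨k, hk⟩ := hVp.exists_card_eq
  have hdvd : 2 ^ k ∣ Nat.card ↥X := by
    rw [hX, card_map_of_injective H.subtype_injective]
    rw [← hk]
    exact Subgroup.card_dvd_of_surjective _
      (MonoidHom.subgroupComap_surjective_of_surjective (QuotientGroup.mk' (oddCore ↥H)) V
        (QuotientGroup.mk'_surjective _))
  have h8 := hA.dvd_card hdvd
  refine ⟨A, hAH, ?_, le_antisymm hle ?_, hsA⟩
  · intro a ha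
    have h1 : f (⟨a, ha⟩ * ⟨a, ha⟩) = 1 := by
      rw [map_mul]
      exact Subtype.ext (hV _ (f ⟨a, ha⟩).2)
    have h2 := (injective_iff_map_eq_one f).mp hinj _ h1
    exact congrArg Subtype.val h2
  · rw [hk]
    exact Nat.le_of_dvd Nat.card_pos h8

theorem card_four {Q : Type*} [Group Q] [Finite Q] {t u : Q} (h : Cfsg.Agent.GH.L2Aut.Four t u) :
    IsElementaryAbelian 2 (zpowers t ⊔ zpowers u : Subgroup Q) ∧
      Nat.card ↥(zpowers t ⊔ zpowers u : Subgroup Q) = 4 := by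
  obtain ⟨V, hV⟩ : ∃ V, V = zpowers t ⊔ zpowers u := ⟨_, rfl⟩
  rw [← hV]
  have elV : IsElementaryAbelian 2 V := by
    rw [hV]
    refine el_sup (el_zpowers h.aa) (el_zpowers h.bb) fun e he f hf => ?_
    rcases (mem_zpowers_of_sq h.aa).mp he with rfl | rfl
    · rw [one_mul, mul_one]
    · rcases (mem_zpowers_of_sq h.bb).mp hf with rfl | rfl
      · rw [one_mul, mul_one]
      · exact h.comm
  refine ⟨elV, ?_⟩
  have hcard : ∀ {v : Q}, v * v = 1 → v ≠ 1 → Nat.card ↥(zpowers v) = 2 := by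
    intro v h1 h2
    rw [Nat.card_zpowers]
    exact orderOf_eq_prime (by rw [pow_two]; exact h1) h2
  have h1 : Nat.card ↥V ∣ Nat.card ↥(zpowers t) * Nat.card ↥(zpowers u) := by
    rw [hV]
    refine CoprimeBasic.card_sup_dvd ?_
    rw [zpowers_le]
    refine centralizer_le_normalizer' _ ?_
    rw [mem_centralizer_iff]
    intro z hz
    rcases (mem_zpowers_of_sq h.aa).mp hz with rfl | rfl
    · rw [one_mul, mul_one]
    · exact h.comm
  have h2 := two_mul_card_le (A := zpowers t) (E := V) (hV ▸ le_sup_left) (fun h' => h.ne (by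
    have h3 : u ∈ zpowers t := by
      rw [h', hV]
      exact mem_sup_right (mem_zpowers u)
    rcases (mem_zpowers_of_sq h.aa).mp h3 with h4 | h4
    · exact absurd h4 h.b1
    · exact h4.symm))
  rw [hcard h.aa h.a1] at h1 h2
  rw [hcard h.bb h.b1] at h1
  exact le_antisymm (Nat.le_of_dvd (by norm_num) h1) h2

variable [Finite G]

include R in
/-- every involution of `H` lies in a four-group of `H` -/
theorem inFour {s : G} (hs : s ∈ H) (hss : s * s = 1) (hs1 : s ≠ 1) :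
    ∃ A ≤ H, (∀ a ∈ A, a * a = 1) ∧ Nat.card ↥A = 4 ∧ s ∈ A := by
  obtain ⟨a, b, hab⟩ := R.exists_four
  have hs' : (QuotientGroup.mk ⟨s, hs⟩ : ↥H ⧸ oddCore ↥H) ≠ 1 := by
    intro h
    exact hs1 (eq_one_of_mem_core_sq ((mk_eq_one_iff hs).mp h) hss)
  have hss' : (QuotientGroup.mk ⟨s, hs⟩ : ↥H ⧸ oddCore ↥H) * QuotientGroup.mk ⟨s, hs⟩ = 1 := by
    rw [← QuotientGroup.mk_mul]
    have : (⟨s, hs⟩ : ↥H) * ⟨s, hs⟩ = 1 := Subtype.ext hss
    rw [this]
    rfl
  obtain ⟨g, hg⟩ := R.inv_conj hab.aa hab.a1 hss' hs'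
  have h4 := hab.map (MulAut.conj g)
  rw [MulAut.conj_apply, hg] at h4
  obtain ⟨elV, hV4⟩ := card_four h4
  obtain ⟨A, h1, h2, h3, h5⟩ := exists_lift_el (V := zpowers _ ⊔ zpowers _)
    (fun v hv => sq_of_el elV hv) hs hss (mem_sup_left (mem_zpowers _))
  exact ⟨A, h1, h2, by rw [h3, hV4], h5⟩

include R in
theorem simp_of (h3 : 3 < Nat.card F) (N : Subgroup G) (hN : N ≤ H)
    (hn : H ≤ normalizer (N : Set G)) : N ≤ core H ∨ N ⊔ core H = H := by
  have := OddHalf.D6.SubFix.isSimple R h3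
  obtain ⟨M, hM⟩ : ∃ M : Subgroup (↥H ⧸ oddCore ↥H),
      M = (N.subgroupOf H).map (QuotientGroup.mk' (oddCore ↥H)) := ⟨_, rfl⟩
  have hnorm : M.Normal := by
    have h1 : (N.subgroupOf H).Normal := by
      refine ⟨fun n hn' g => ?_⟩
      rw [mem_subgroupOf] at hn' ⊢
      exact (mem_normalizer_iff.mp (hn g.2) _).mp hn'
    rw [hM]
    exact h1.map _ (QuotientGroup.mk'_surjective _)
  rcases hnorm.eq_bot_or_eq_top with h | h
  · left
    exact KFacts.le_core_of_image hN (by rw [← hM, h])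
  · right
    refine le_antisymm (sup_le hN (core_le H)) fun z hz => ?_
    have h1 : (QuotientGroup.mk ⟨z, hz⟩ : ↥H ⧸ oddCore ↥H) ∈ M := by
      rw [h]; trivial
    rw [hM] at h1
    obtain ⟨⟨n, hnH⟩, hn', h2⟩ := h1
    have h3 := (mk_eq_iff hnH hz).mp h2
    have h4 : z = n * (n⁻¹ * z) := by group
    rw [h4]
    exact mul_mem (mem_sup_left hn') (mem_sup_right h3)

include R in
/-- `Out(PSL(2,F))` is abelian -/
theorem out_of {a b : G} (ha : a ∈ M0 W H) (hb : b ∈ M0 W H) (hH : H ≤ M0 W H) :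
    ⁅a, b⁆ ∈ H ⊔ K0 W H := by
  have hab : ⁅a, b⁆ ∈ M0 W H := by
    rw [commutatorElement_def]
    exact mul_mem (mul_mem (mul_mem ha hb) (inv_mem ha)) (inv_mem hb)
  have h1 : act H ⟨⁅a, b⁆, hab.2⟩ = ⁅act H ⟨a, ha.2⟩, act H ⟨b, hb.2⟩⁆ := by
    rw [← map_commutatorElement]
    rfl
  have h2 : act H ⟨⁅a, b⁆, hab.2⟩ ∈ (MulAut.conj : (↥H ⧸ oddCore ↥H) →* _).range := by
    rw [R.mem_inn_iff, h1, map_commutatorElement, map_commutatorElement]
    constructor
    · rw [commutatorElement_eq_one_iff_mul_comm]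
      exact EFacts.ringAut_comm _ _
    · rw [commutatorElement_eq_one_iff_mul_comm]
      exact mul_comm _ _
  obtain ⟨k, hk⟩ := h2
  obtain ⟨⟨h, hh⟩, rfl⟩ := QuotientGroup.mk_surjective k
  have hhM := hH hh
  have h3 : h⁻¹ * ⁅a, b⁆ ∈ K0 W H := by
    rw [mem_K0_iff (mul_mem (inv_mem hhM) hab), act_mul (inv_mem hhM.2) hab.2, act_inv hhM.2, ← hk]
    have h5 : act H ⟨h, hhM.2⟩ = MulAut.conj (QuotientGroup.mk ⟨h, hh⟩) := act_of_mem hh
    rw [h5, inv_mul_cancel]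
  have h4 : ⁅a, b⁆ = h * (h⁻¹ * ⁅a, b⁆) := by group
  rw [h4]
  exact mul_mem (mem_sup_left hh) (mem_sup_right h3)

/-- `H / W` perfect, `core H / W` central: a supplement of `core H` is a supplement of `W` -/
theorem quasi_of (hW : W ≤ core H) (nW : H ≤ normalizer (W : Set G)) (hperf : ⁅H, H⁆ ⊔ W = H)
    (hcc : ⁅H, core H⁆ ≤ W) (D : Subgroup G) (hD : D ≤ H) (hs : D ⊔ core H = H) : D ⊔ W = H := by
  have hWH := hW.trans (core_le H)
  have hDW : D ⊔ W ≤ H := sup_le hD hWH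
  refine le_antisymm hDW ?_
  rw [← hperf]
  refine sup_le ?_ le_sup_right
  -- modulo `W`: `[D c, D c'] ≤ D`
  have hn : H ≤ normalizer ((D ⊔ W : Subgroup G) : Set G) := by
    intro h hh
    rw [← hs] at hh
    obtain ⟨d, hd, c, hc, rfl⟩ := (mem_sup_left_iff (hD.trans (le_normalizer_core H))).mp hh
    refine mul_mem (le_normalizer (mem_sup_left hd)) ?_
    have hcH := core_le H hc
    rw [mem_normalizer_iff_cj, cj_sup, mem_normalizer_iff_cj.mp (nW hcH)]
    have key : ∀ c ∈ core H, cj c D ≤ D ⊔ W := by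
      intro c hc z hz
      rw [mem_cj] at hz
      obtain ⟨z', hz'⟩ : ∃ z', z' = c⁻¹ * z * c := ⟨_, rfl⟩
      rw [← hz'] at hz
      have h1 : z = z' * (z'⁻¹ * c * z' * c⁻¹) := by rw [hz']; group
      have h2 : z'⁻¹ * c * z' * c⁻¹ ∈ W := by
        have h3 := hcc (commutator_mem_commutator (H.inv_mem (hD hz)) hc)
        rw [commutatorElement_def, inv_inv] at h3
        exact h3
      rw [h1]
      exact mul_mem (mem_sup_left hz) (mem_sup_right h2)
    apply le_antisymm (sup_le (key c hc) le_sup_right)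
    refine sup_le ?_ le_sup_right
    have h1 := cj_mono (g := c) (key c⁻¹ (inv_mem hc))
    rw [cj_cj_inv, cj_sup, mem_normalizer_iff_cj.mp (nW hcH)] at h1
    exact h1
  rw [commutator_le]
  intro a ha b hb
  have hab : ∀ h ∈ H, ∃ d ∈ D, ∃ c ∈ core H, d * c = h := by
    intro h hh
    rw [← hs] at hh
    exact (mem_sup_left_iff (hD.trans (le_normalizer_core H))).mp hh
  obtain ⟨d, hd, c, hc, rfl⟩ := hab a ha
  -- `[d c, b] = d [c, b] d⁻¹ [d, b]`
  have h1 : ⁅d * c, b⁆ = d * ⁅c, b⁆ * d⁻¹ * ⁅d, b⁆ := by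
    rw [commutatorElement_def, commutatorElement_def, commutatorElement_def]
    group
  have h2 : ⁅c, b⁆ ∈ W := by
    have h3 := hcc (commutator_mem_commutator hb hc)
    have h4 := inv_mem h3
    rwa [commutatorElement_inv] at h4
  have h3 : d * ⁅c, b⁆ * d⁻¹ ∈ W := (mem_normalizer_iff.mp (nW (hD hd)) _).mp h2
  have h4 : ⁅d, b⁆ ∈ D ⊔ W := by
    have h5 : ⁅d, b⁆ = d * (b * d⁻¹ * b⁻¹) := by
      rw [commutatorElement_def]; group
    rw [h5]
    exact mul_mem (mem_sup_left hd) ((mem_normalizer_iff.mp (hn hb) _).mp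
      (inv_mem (mem_sup_left hd)))
  rw [h1]
  exact mul_mem (mem_sup_right h3) h4

include R in
/-- **`Pt W H`** -/
theorem pt_of (h3 : 3 < Nat.card F) (hW : W ≤ core H) (nW : H ≤ normalizer (W : Set G))
    (hperf : ⁅H, H⁆ ⊔ W = H) (hcc : ⁅H, core H⁆ ≤ W) : Pt W H where
  Wc := hW
  nW := nW
  simp := simp_of R h3
  perf := by
    apply le_antisymm (sup_le ?_ (core_le H))
    · calc H = ⁅H, H⁆ ⊔ W := hperf.symm
        _ ≤ ⁅H, H⁆ ⊔ core H := sup_le_sup_left hW _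
    · rw [commutator_le]
      intro a ha b hb
      rw [commutatorElement_def]
      exact mul_mem (mul_mem (mul_mem ha hb) (inv_mem ha)) (inv_mem hb)
  quasi := quasi_of hW nW hperf hcc
  four := by
    obtain ⟨a, b, hab⟩ := R.exists_four
    obtain ⟨elV, hV4⟩ := card_four hab
    obtain ⟨A, h1, h2, h3, -⟩ := exists_lift_el (V := zpowers a ⊔ zpowers b)
      (fun v hv => sq_of_el elV hv) (one_mem H) (mul_one 1) (one_mem _)
    exact ⟨A, h1, h2, by rw [h3, hV4]⟩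
  out := fun a ha b hb => out_of R ha hb (le_inf nW le_normalizer)
  inFour := fun s hs hss hs1 => inFour R hs hss hs1

end Cfsg.Agent.UGT.Res.WSup
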