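import Cfsg.Agent.UGT.Res.TFour
import Cfsg.Agent.UGT.Res.WGlueP
import Cfsg.Agent.UGT.Res.WSup

/-!
# The element for LEMMA CK, for every `PR`

`S : PR x a t L Lr`, `R₀ = ⟨a, t⟩`. There is `y ∈ cen L t` moving `L` with `y ∈ O(C(x f))` for all `f ∈ R₀`.

* `exists_fix`: an involution of a 2-component fixed by a 2-group.
* `comm_y`: `d ∈ O(C(x)) ∩ C(R₀)` moves `L`: a commutator `y = [d, c]`, `c ∈ cen L t ∩ C(x)`, moves `L`.
* `main`: `y ∈ O(C(x f))`, or `[y, k]` is such an element which still moves `L`.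
* `yj`: `YJ x a t L`.
-/

set_option autoImplicit false
set_option linter.unusedSectionVars false

open Cfsg Subgroup
open Cfsg.Agent.SignalizersComponents Cfsg.Agent.Lib
open Cfsg.Agent.SignalizersComponents.IntrinsicBasic
open Cfsg.Agent.SignalizersComponents.PLayerAut
open Cfsg.Agent.Intrinsic.Basic Cfsg.Agent.Intrinsic.Cen Cfsg.Agent.Intrinsic.Diag
open Cfsg.Agent.McLLyComp.Act
open Cfsg.Agent.UGT.Triple Cfsg.Agent.UGT.LemG Cfsg.Agent.UGT.PumpGen Cfsg.Agent.UGT.TriBase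
open Cfsg.Agent.UGT.Res.Base Cfsg.Agent.UGT.Res.KFacts Cfsg.Agent.UGT.Res.WFun
open Cfsg.Agent.UGT.Res.CoreFree Cfsg.Agent.UGT.Res.WPair
open Cfsg.Agent.UGT.Res.TFour Cfsg.Agent.UGT.Res.WGlueP
open scoped commutatorElement

namespace Cfsg.Agent.UGT.Res.YJP

universe u

variable {G : Type u} [Group G] [Finite G]

/-- an involution of `K` fixed by the 2-group `Q` -/
theorem exists_fix {X K Q : Subgroup G} (hK : IsComp X K) (hQ : IsPGroup 2 ↥Q)
    (hn : Q ≤ normalizer (K : Set G)) : ∃ k ∈ K, orderOf k = 2 ∧ ∀ q ∈ Q, q * k = k * q := by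
  obtain ⟨T, hT, hQT⟩ := exists_isSyl hQ (le_sup_left : Q ≤ Q ⊔ K)
  have hEn : Q ⊔ K ≤ normalizer (K : Set G) := sup_le hn le_normalizer
  have hTK := hT.inf (le_sup_right : K ≤ Q ⊔ K) hEn
  have hne : T ⊓ K ≠ ⊥ := by
    intro h
    have h1 : 2 ^ 1 ∣ Nat.card ↥K := by
      rw [pow_one]
      by_contra h2
      refine hK.not_odd (N := K) ?_ le_rfl
      rwa [← Nat.not_even_iff_odd, even_iff_two_dvd]
    have h3 := hTK.dvd_card h1
    rw [h, card_bot] at h3
    omega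
  obtain ⟨k, hk, hk2, hkc⟩ := exists_central hT.two (inf_le_left : T ⊓ K ≤ T) (fun g hg => by
    rw [mem_normalizer_iff_cj, cj_inf, cj_eq_self_of_mem hg,
      mem_normalizer_iff_cj.mp (hEn (hT.le hg))]) hne
  exact ⟨k, hk.2, hk2, fun q hq => hkc q (hQT hq)⟩

theorem odd_of_core {X : Subgroup G} {c : G} (h : c ∈ core X) : Odd (orderOf c) := by
  have h1 := orderOf_dvd_natCard (⟨c, h⟩ : ↥(core X))
  rw [Subgroup.orderOf_mk] at h1
  exact Odd.of_dvd_nat (odd_card_core X) h1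

/-- `[g, k] ∈ O(K)` if `g` fixes `k O(K)` -/
theorem comm_core_of_act {K : Subgroup G} {g k : G} (hg : g ∈ normalizer (K : Set G)) (hk : k ∈ K)
    (h : act K ⟨g, hg⟩ (QuotientGroup.mk ⟨k, hk⟩) = QuotientGroup.mk ⟨k, hk⟩) :
    g * k * g⁻¹ * k⁻¹ ∈ core K := by
  rw [act_mk hg hk, mk_eq_iff] at h
  have h1 := conj_mem_core (le_normalizer hk) ((core K).inv_mem h)
  convert h1 using 1
  group

theorem act_of_comm {K : Subgroup G} {g k : G} (hg : g ∈ normalizer (K : Set G)) (hk : k ∈ K)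
    (h : g * k = k * g) :
    act K ⟨g, hg⟩ (QuotientGroup.mk ⟨k, hk⟩) = QuotientGroup.mk ⟨k, hk⟩ := by
  rw [act_mk hg hk, mk_eq_iff]
  have : (g * k * g⁻¹)⁻¹ * k = 1 := by
    rw [h]
    group
  rw [this]
  exact one_mem _

section cfg

variable {x a t : G} {L : Subgroup G} {Lr : G → Subgroup G} (P : Pgl G) (S : PR x a t L Lr)

include P S

/-- a commutator moving `L` -/
theorem comm_y {d : G} (hd : d ∈ core (centralizer ({x} : Set G))) (hda : d * a = a * d)
    (hdt : d * t = t * d) (hdf : ¬ Fixes d L) : ∃ c ∈ cen L t, c * x = x * c ∧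
      d * c * d⁻¹ * c⁻¹ ∈ cen L t ∧ ¬ Fixes (d * c * d⁻¹ * c⁻¹) L := by
  have T := S.T
  have hx2 := sq_of_order T.invx
  have ht2 := sq_of_order S.ot
  obtain ⟨hJ, hs⟩ := isComp_cen T.comp (mem_c S.ta) ht2 S.tL
  have hxJ : x ∈ normalizer (cen L t : Set G) := mem_normalizer_cen T.x_mem S.tx.symm
  obtain ⟨F, _, _, h5, R, ho⟩ := P.exists_rep T
  have hdN : d ∈ normalizer (L : Set G) := T.mem_normalizer_of_core hd (mem_c hda)
  have hodd : Odd (orderOf (act L ⟨d, hdN⟩)) := by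
    have h3 : orderOf (act L ⟨d, hdN⟩) ∣ orderOf (⟨d, hdN⟩ : ↥(normalizer (L : Set G))) :=
      orderOf_map_dvd _ _
    rw [Subgroup.orderOf_mk] at h3
    exact Odd.of_dvd_nat (odd_of_core hd) h3
  obtain ⟨k, hk, hdk⟩ := L2Fact.exists_moved R (KFacts.act_sq T) ho hodd
    (fun h => hdf ((act_eq_one_iff hdN).mp h)) (KFacts.act_comm hdN T.x_mem (comm_c (core_le _ hd)))
  obtain ⟨c, hcJ, hc, hcx, rfl⟩ := WGlueA.lift_J hs hx2 hxJ T.x_mem hk
  have hdJ : d ∈ normalizer (cen L t : Set G) := mem_normalizer_cen hdN hdt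
  refine ⟨c, hcJ, hcx.symm, mul_mem (conj_mem hdJ hcJ) (inv_mem hcJ), fun h => hdk ?_⟩
  have hdc : d * c * d⁻¹ ∈ L := conj_mem hdN hc
  have hyL : d * c * d⁻¹ * c⁻¹ ∈ L := mul_mem hdc (inv_mem hc)
  have h1 := (act_eq_one_iff (le_normalizer hyL)).mpr h
  rw [act_of_mem hyL] at h1
  have h2 : (QuotientGroup.mk ⟨d * c * d⁻¹ * c⁻¹, hyL⟩ : ↥L ⧸ oddCore ↥L) = 1 :=
    R.conj_injective (by rw [h1, map_one])
  have h3 := (mk_eq_one_iff hyL).mp h2
  rw [act_mk hdN hc, mk_eq_iff]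
  have h4 := conj_core (L.inv_mem hdc) (inv_mem h3)
  convert h4 using 1
  group

/-- **the step** -/
theorem main {d c f y : G} (hd : d ∈ core (centralizer ({x} : Set G))) (hda : d * a = a * d)
    (hdt : d * t = t * d) (hcJ : c ∈ cen L t) (hcx : c * x = x * c)
    (hyd : y = d * c * d⁻¹ * c⁻¹) (hyJ : y ∈ cen L t) (hyf : ¬ Fixes y L)
    (hf : f ∈ zpowers a ⊔ zpowers t) (hf1 : f ≠ 1) :
    y ∈ core (centralizer ({x * f} : Set G)) ∨ ∃ k : G, k * a = a * k ∧ k * t = t * k ∧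
      k * x = x * k ∧ y * k * y⁻¹ * k⁻¹ ∈ core (centralizer ({x * f} : Set G)) ∧
      ¬ Fixes (y * k * y⁻¹ * k⁻¹) L := by
  have T := S.T
  have ha2 := sq_of_order T.inva
  have ht2 := sq_of_order S.ot
  have hx2 := sq_of_order T.invx
  obtain ⟨hJ, hs⟩ := isComp_cen T.comp (mem_c S.ta) ht2 S.tL
  have hpump := S.pump
  obtain ⟨R₀, hR₀⟩ : ∃ R₀, R₀ = zpowers a ⊔ zpowers t := ⟨_, rfl⟩
  rw [← hR₀] at hpump hf
  have haR : a ∈ R₀ := hR₀ ▸ mem_sup_left (mem_zpowers a)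
  have htR : t ∈ R₀ := hR₀ ▸ mem_sup_right (mem_zpowers t)
  have hcR : ∀ g : G, g * a = a * g → g * t = t * g → ∀ r ∈ R₀, r * g = g * r := by
    intro g hga hgt r hr
    have h1 : zpowers a ⊔ zpowers t ≤ centralizer ({g} : Set G) :=
      sup_le (zpowers_le.mpr (mem_c hga.symm)) (zpowers_le.mpr (mem_c hgt.symm))
    exact comm_c (h1 (hR₀ ▸ hr))
  have el : IsElementaryAbelian 2 R₀ := by
    rw [hR₀]
    refine el_sup (el_zpowers ha2) (el_zpowers ht2) fun e he g hg => ?_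
    rcases (mem_zpowers_of_sq ha2).mp he with rfl | rfl
    · rw [one_mul, mul_one]
    · rcases (mem_zpowers_of_sq ht2).mp hg with rfl | rfl
      · rw [one_mul, mul_one]
      · exact S.ta.symm
  have hR2 : ∀ r ∈ R₀, r * r = 1 := fun r hr => sq_of_el el hr
  have hRc : ∀ r ∈ R₀, ∀ s ∈ R₀, r * s = s * r := fun r hr s hs => comm_of_el el hr hs
  have hRx : ∀ r ∈ R₀, r * x = x * r := hcR x T.comm.symm S.tx.symm
  have hJa : ∀ j ∈ cen L t, j * a = a * j := fun j hj => comm_c (T.comp.le (cen_le L t hj))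
  have hRJ : ∀ r ∈ R₀, ∀ j ∈ cen L t, r * j = j * r := fun r hr j hj =>
    hcR j (hJa j hj) (comm_of_mem_cen hj) r hr
  have hyr : ∀ r ∈ R₀, r ≠ 1 → y ∈ Lr r := fun r hr h1 => by
    rw [← (hpump r hr h1).2]
    exact mem_sup_left hyJ
  have hfix : ∀ r ∈ R₀, r ≠ 1 → ∀ u ∈ R₀, Fixes u (Lr r) := fun r hr h1 u hu =>
    TwoPair.fixes_of_cover (hpump r hr h1).1.comp hJ (hpump r hr h1).2 (mem_c (hRc u hu r hr))
      (hRJ u hu)
  have ha1 := ne_one_of_order T.inva
  have ht1 := ne_one_of_order S.ot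
  have hfL : Fixes f L := S.La ▸ hfix a haR ha1 f hf
  have hyL : y ∈ L := cen_le L t hyJ
  have hyx : y ∈ core (centralizer ({x} : Set G)) := by
    have e : y = d * (c * d⁻¹ * c⁻¹) := by rw [hyd]; group
    rw [e]
    exact (core (centralizer ({x} : Set G))).mul_mem hd
      (conj_core (mem_c hcx) ((core (centralizer ({x} : Set G))).inv_mem hd))
  have cyx : Commute y x := comm_c (core_le _ hyx)
  have cyf : Commute y f := (hRJ f hf y hyJ).symm
  have cfx : Commute f x := hRx f hf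
  -- `v`
  have hff := hR2 f hf
  have hxf : x ≠ f := by
    rintro rfl
    exact T.not_fixes hfL
  obtain ⟨v, hv⟩ : ∃ v, v = x * f := ⟨_, rfl⟩
  have hvo : orderOf v = 2 := hv ▸ order_mul hx2 hff cfx.symm.eq hxf
  have hv2 := sq_of_order hvo
  have cvx : Commute v x := hv ▸ (Commute.refl x).mul_left cfx
  have cyv : Commute y v := hv ▸ cyx.mul_right cyf
  have hRv : ∀ r ∈ R₀, Commute r v := fun r hr =>
    hv ▸ (show Commute r x from hRx r hr).mul_right (hRc r hr f hf)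
  have cfv : v * x⁻¹ = f := by rw [hv, ← cfx.eq, mul_inv_cancel_right]
  rw [← hv]
  by_cases hn : y ∈ core (centralizer ({v} : Set G))
  · exact Or.inl hn
  right
  -- a 2-component `K` of `C(v)`, `y` not inner on `K`
  obtain ⟨K, T', hyK, hni⟩ : ∃ K, IsTriple x v K ∧ ¬ Fixes y K ∧ ¬ Inn y K := by
    by_contra hcon
    push Not at hcon
    apply hn
    have hin : ∀ K, IsTriple x (x * f) K → Inn y K := by
      intro K hK
      by_cases h : Fixes y K
      · refine ⟨1, one_mem K, ?_⟩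
        rwa [inv_one, mul_one]
      · exact hcon K (hv ▸ hK) h
    have hat : a * t ≠ 1 := by
      intro h
      apply S.ne
      rw [eq_inv_of_mul_eq_one_right h]
      exact inv_eq_of_mul_eq_one_left ha2
    have hatR := mul_mem haR htR
    have h1 := hpump a haR ha1
    rw [hv]
    exact lemmaW_core P.rworld hin hyx cfx.eq cyf.symm.eq (hv ▸ hvo) (hRc f hf a haR)
      (hRc f hf t htR) (hpump a haR ha1).1 (hpump t htR ht1).1 (hpump _ hatR hat).1
      (hyr a haR ha1) (hyr t htR ht1) (hyr _ hatR hat) (hfix a haR ha1 f hf)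
      (hfix t htR ht1 f hf) (hfix _ hatR hat f hf)
  have hkill : ∀ r ∈ R₀, r ≠ 1 → ∀ M,
      IsComp (centralizer ({v} : Set G) ⊓ centralizer ({r} : Set G)) M → Fixes y M := by
    intro r hr h1 M hM
    rw [inf_comm] at hM
    exact kill P.rworld (hpump r hr h1).1 hv2 (hRv r hr).symm.eq (mem_c cyv) (hyr r hr h1)
      (by rw [cfv]; exact hfix r hr h1 f hf) hM
  have hyN : y ∈ normalizer (K : Set G) := T'.mem_normalizer_of_core hyx (mem_c cyv)
  -- `R₀` normalizes `K`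
  have hRK : ∀ r ∈ R₀, r ∈ normalizer (K : Set G) := by
    intro r hr
    by_contra hrK
    have h1 : r ≠ 1 := by
      rintro rfl
      exact hrK (one_mem _)
    have hne : cj r K ≠ K := fun h => hrK (mem_normalizer_iff_cj.mpr h)
    have hrC : r ∈ centralizer ({v} : Set G) := mem_c (hRv r hr)
    obtain ⟨h2, -, -, h4, -⟩ := exists_diag T'.comp hrC (hR2 r hr) hne
    apply hyK
    refine fixes_of_comm_diag T'.comp hrC (hR2 r hr) hne (mem_c cyv) hyN ?_ fun m hm => ?_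
    · rw [mem_normalizer_iff_cj, ← cj_mul, ← hRJ r hr y hyJ, cj_mul, mem_normalizer_iff_cj.mp hyN]
    · have h6 := (hkill r hr h1 _ h2).2 m hm
      rw [h4] at h6
      exact h6.2
  have hno : ∀ r ∈ R₀, r ≠ 1 → ¬ Fixes r K := by
    intro r hr h1 hfr
    obtain ⟨h2, h3⟩ := isComp_cen T'.comp (mem_c (hRv r hr)) (hR2 r hr) hfr
    have h4 := hkill r hr h1 _ h2
    exact hyK ((fixes_iff_of_sup h3 h4.1 hyN).mp h4)
  -- `k`
  have elQ : IsElementaryAbelian 2 (R₀ ⊔ zpowers x : Subgroup G) := by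
    refine el_sup el (el_zpowers hx2) fun e he g hg => ?_
    rcases (mem_zpowers_of_sq hx2).mp hg with rfl | rfl
    · rw [one_mul, mul_one]
    · exact hRx e he
  obtain ⟨k, hkK, hko, hkQ⟩ := exists_fix T'.comp (isPGroup_of_el elQ)
    (sup_le hRK (zpowers_le.mpr T'.x_mem))
  have hkk := sq_of_order hko
  have hRk : ∀ r ∈ R₀, Commute r k := fun r hr => hkQ r (mem_sup_left hr)
  have cxk : Commute x k := hkQ x (mem_sup_right (mem_zpowers x))
  have cvk : Commute v k := hv ▸ cxk.mul_left (hRk f hf)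
  have cka : Commute k a := (hRk a haR).symm
  have ckt : Commute k t := (hRk t htR).symm
  obtain ⟨F, _, _, -, R, ho⟩ := P.exists_rep T'
  obtain ⟨kb, hkb⟩ : ∃ kb : ↥K ⧸ oddCore ↥K, kb = QuotientGroup.mk ⟨k, hkK⟩ := ⟨_, rfl⟩
  have hkb2 : kb * kb = 1 := by
    rw [hkb, ← QuotientGroup.mk_mul]
    have : (⟨k, hkK⟩ : ↥K) * ⟨k, hkK⟩ = 1 := Subtype.ext hkk
    rw [this]
    rfl
  have hkb1 : kb ≠ 1 := fun h => ne_one_of_order hko
    (eq_one_of_mem_core_sq ((mk_eq_one_iff hkK).mp (hkb ▸ h)) hkk)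
  have hαk : act K ⟨x, T'.x_mem⟩ kb = kb := by
    rw [hkb]
    exact act_of_comm T'.x_mem hkK cxk.eq
  have hvK : Fixes v K := fixes_self' T'.comp.le
  have hkN : k ∈ normalizer (K : Set G) := le_normalizer hkK
  have hactk : act K ⟨k, hkN⟩ = MulAut.conj kb := by
    rw [hkb]
    exact act_of_mem hkK
  -- an element of `R₀` acting as `k`
  obtain ⟨r', hr', hrk⟩ : ∃ r' ∈ R₀, Fixes (r' * k⁻¹) K := by
    obtain ⟨r, hr, hr1, hrf⟩ : ∃ r ∈ R₀, r ≠ 1 ∧ r ≠ f := by
      by_cases h : a = f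
      · exact ⟨t, htR, ht1, fun h1 => S.ne (h1.trans h.symm)⟩
      · exact ⟨a, haR, ha1, h⟩
    have hβ := WSup.act_sq (hRK r hr) (hR2 r hr)
    have hrfR := mul_mem hr hf
    have hrf1 : r * f ≠ 1 := by
      intro h
      apply hrf
      rw [eq_inv_of_mul_eq_one_left h]
      exact inv_eq_of_mul_eq_one_left hff
    rcases WSup.four_of_comm R (KFacts.act_sq T') ho hαk hkb2 hkb1 hβ
      (KFacts.act_comm (hRK r hr) T'.x_mem (hRx r hr))
      (by rw [hkb]; exact act_of_comm (hRK r hr) hkK (hRk r hr)) with h | h | h | h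
    · exact absurd ((act_eq_one_iff _).mp h) (hno r hr hr1)
    · exfalso
      apply hno _ hrfR hrf1
      have h1 := fixes_mul ((act_eq_iff _ _).mp h) hvK
      have h2 : r * x⁻¹ * v = r * f := by rw [hv]; group
      rwa [h2] at h1
    · rw [← hactk] at h
      exact ⟨r, hr, (act_eq_iff _ _).mp h⟩
    · refine ⟨r * f, hrfR, ?_⟩
      rw [← hactk, ← act_mul hkN T'.x_mem] at h
      have h1 := fixes_mul ((act_eq_iff (hRK r hr) _).mp h) hvK
      have h2 : r * (k * x)⁻¹ * v = r * f * k⁻¹ := by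
        have h3 : v = k * v * k⁻¹ := by rw [cvk.symm.eq, mul_inv_cancel_right]
        calc r * (k * x)⁻¹ * v = r * (k * x)⁻¹ * (k * v * k⁻¹) := by rw [← h3]
          _ = r * x⁻¹ * (v * k⁻¹) := by group
          _ = r * f * k⁻¹ := by rw [hv]; group
      rwa [h2] at h1
  -- `[y, k] ∈ O(K)`
  have hyk : act K ⟨y, hyN⟩ kb = kb := by
    have e1 : act K ⟨r', hRK r' hr'⟩ = MulAut.conj kb := by
      rw [← hactk]
      exact (act_eq_iff _ _).mpr hrk
    apply R.conj_injective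
    rw [← Cfsg.Agent.GH.L2Aut.conj_conj, ← e1,
      KFacts.act_comm hyN (hRK r' hr') (hRJ r' hr' y hyJ).symm, mul_inv_cancel_right]
  have he : y * k * y⁻¹ * k⁻¹ ∈ core K := comm_core_of_act hyN hkK (by rw [← hkb]; exact hyk)
  refine ⟨k, cka.eq, ckt.eq, cxk.symm.eq, T'.comp.core_le_core he, fun hfe => ?_⟩
  -- `k` normalizes `L`
  have hkL : k ∈ normalizer (L : Set G) := by
    by_contra hkL
    have hne : cj k L ≠ L := fun h => hkL (mem_normalizer_iff_cj.mpr h)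
    apply hyf
    have h1 := T.comp.fixes_of_mem (isComp_cj_of_mem T.comp (mem_c cka)) (Ne.symm hne)
      (conj_mem_cj (g := k) (L.inv_mem hyL))
    have h2 := fixes_mul hfe (fixes_inv h1)
    have h3 : y * k * y⁻¹ * k⁻¹ * (k * y⁻¹ * k⁻¹)⁻¹ = y := by group
    rwa [h3] at h2
  obtain ⟨F', _, _, -, R', ho'⟩ := P.exists_rep T
  have heL : y * k * y⁻¹ * k⁻¹ ∈ L := by
    have h1 : k * y⁻¹ * k⁻¹ ∈ L := conj_mem hkL (L.inv_mem hyL)
    have h2 : y * k * y⁻¹ * k⁻¹ = y * (k * y⁻¹ * k⁻¹) := by group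
    rw [h2]
    exact mul_mem hyL h1
  have hecL := zt_of P T _ heL hfe
  have hyb1 : (QuotientGroup.mk ⟨y, hyL⟩ : ↥L ⧸ oddCore ↥L) ≠ 1 := fun h =>
    hyf (fixes_of_mem_core ((mk_eq_one_iff hyL).mp h))
  have hybo : Odd (orderOf (QuotientGroup.mk ⟨y, hyL⟩ : ↥L ⧸ oddCore ↥L)) := by
    have h1 : orderOf (QuotientGroup.mk' (oddCore ↥L) ⟨y, hyL⟩) ∣ orderOf (⟨y, hyL⟩ : ↥L) :=
      orderOf_map_dvd _ _
    rw [Subgroup.orderOf_mk] at h1
    exact Odd.of_dvd_nat (odd_of_core hyx) h1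
  have hxy := act_of_comm T.x_mem hyL cyx.symm.eq
  have hky : act L ⟨k, hkL⟩ (QuotientGroup.mk ⟨y, hyL⟩) = QuotientGroup.mk ⟨y, hyL⟩ := by
    rw [act_mk hkL hyL, mk_eq_iff]
    have h1 := conj_mem_core (le_normalizer (L.inv_mem hyL)) hecL
    convert h1 using 1
    group
  have hcL := cen_le L t hcJ
  have hkc : act L ⟨k, hkL⟩ (QuotientGroup.mk ⟨c, hcL⟩) = QuotientGroup.mk ⟨c, hcL⟩ := by
    rcases L2Fact.eq_of_fix R' (KFacts.act_sq T) ho' hyb1 hybo hxy
      ⟨1, by rw [pow_one, pow_two]; exact WSup.act_sq hkL hkk⟩ hky with h | h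
    · rw [h]
      rfl
    · rw [h]
      exact act_of_comm T.x_mem hcL hcx.symm
  have hg := comm_core_of_act hkL hcL hkc
  -- `c` normalizes `K`
  have cxc : Commute c x := hcx
  have cvc : Commute c v := hv ▸ cxc.mul_right (hRJ f hf c hcJ).symm
  have hcK : c ∈ normalizer (K : Set G) := by
    by_contra hcK
    have hne : cj c K ≠ K := fun h => hcK (mem_normalizer_iff_cj.mpr h)
    have h1 := T'.comp.fixes_of_mem (isComp_cj_of_mem T'.comp (mem_c cvc)) (Ne.symm hne)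
      (conj_mem_cj (g := c) (K.inv_mem hkK))
    have h2 : k * c * k⁻¹ * c⁻¹ = k * (c * k⁻¹ * c⁻¹) := by group
    have hgN : k * (c * k⁻¹ * c⁻¹) ∈ normalizer (K : Set G) := mul_mem hkN h1.1
    have h3 : act K ⟨k * (c * k⁻¹ * c⁻¹), hgN⟩ = MulAut.conj kb := by
      rw [act_mul hkN h1.1, (act_eq_one_iff h1.1).mpr h1, mul_one, hactk]
    have h4 : Odd (orderOf (MulAut.conj kb)) := by
      rw [← h3]
      have h5 : orderOf (act K ⟨k * (c * k⁻¹ * c⁻¹), hgN⟩) ∣
          orderOf (⟨k * (c * k⁻¹ * c⁻¹), hgN⟩ : ↥(normalizer (K : Set G))) := orderOf_map_dvd _ _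
      rw [Subgroup.orderOf_mk] at h5
      refine Odd.of_dvd_nat ?_ h5
      rw [← h2]
      exact odd_of_core hg
    have h6 := OddHalf.D6.PglType.eq_one_of_odd_sq (by rw [← map_mul, hkb2, map_one]) h4
    exact hkb1 (R.conj_injective (by rw [h6, map_one]))
  apply hni
  rw [hyd]
  have cdx : Commute d x := comm_c (core_le _ hd)
  have cdf : Commute d f := (hcR d hda hdt f hf).symm
  exact Hon.inn_comm P T' (T'.mem_normalizer_of_core hd (mem_c (hv ▸ cdx.mul_right cdf))) hcK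

/-- one more `f` -/
theorem step {d f : G} (hd : d ∈ core (centralizer ({x} : Set G))) (hda : d * a = a * d)
    (hdt : d * t = t * d) (hdf : ¬ Fixes d L) (hf : f ∈ zpowers a ⊔ zpowers t) (hf1 : f ≠ 1) :
    ∃ d' ∈ core (centralizer ({x} : Set G)), d' * a = a * d' ∧ d' * t = t * d' ∧ ¬ Fixes d' L ∧
      d' ∈ core (centralizer ({x * f} : Set G)) ∧
      ∀ u ∈ zpowers a ⊔ zpowers t, d ∈ core (centralizer ({x * u} : Set G)) →
        d' ∈ core (centralizer ({x * u} : Set G)) := by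
  obtain ⟨c, hcJ, hcx, hyJ, hyf⟩ := comm_y P S hd hda hdt hdf
  have hcL := cen_le L t hcJ
  have cca : Commute c a := comm_c (S.T.comp.le hcL)
  have cct : Commute c t := comm_of_mem_cen hcJ
  have cda : Commute d a := hda
  have cdt : Commute d t := hdt
  obtain ⟨y, hy⟩ : ∃ y, y = d * c * d⁻¹ * c⁻¹ := ⟨_, rfl⟩
  have cya : Commute y a := hy ▸ ((cda.mul_left cca).mul_left cda.inv_left).mul_left cca.inv_left
  have cyt : Commute y t := hy ▸ ((cdt.mul_left cct).mul_left cdt.inv_left).mul_left cct.inv_left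
  have hcu : ∀ g : G, g * a = a * g → g * t = t * g → g * x = x * g →
      ∀ u ∈ zpowers a ⊔ zpowers t, g ∈ centralizer ({x * u} : Set G) := by
    intro g hga hgt hgx u hu
    have h1 : zpowers a ⊔ zpowers t ≤ centralizer ({g} : Set G) :=
      sup_le (zpowers_le.mpr (mem_c hga.symm)) (zpowers_le.mpr (mem_c hgt.symm))
    have h2 : Commute g u := (comm_c (h1 hu)).symm
    exact mem_c ((show Commute g x from hgx).mul_right h2)
  have hyu : ∀ u ∈ zpowers a ⊔ zpowers t, d ∈ core (centralizer ({x * u} : Set G)) →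
      y ∈ core (centralizer ({x * u} : Set G)) := by
    intro u hu hdu
    have e : y = d * (c * d⁻¹ * c⁻¹) := by rw [hy]; group
    rw [e]
    exact (core (centralizer ({x * u} : Set G))).mul_mem hdu
      (conj_core (hcu c cca.eq cct.eq hcx u hu) ((core (centralizer ({x * u} : Set G))).inv_mem hdu))
  have hyx : y ∈ core (centralizer ({x} : Set G)) := by
    have h1 := hyu 1 (one_mem _) (by rwa [mul_one])
    rwa [mul_one] at h1
  rw [← hy] at hyJ hyf
  rcases main P S hd hda hdt hcJ hcx hy hyJ hyf hf hf1 with h | ⟨k, hka, hkt, hkx, h1, h2⟩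
  · exact ⟨y, hyx, cya.eq, cyt.eq, hyf, h, hyu⟩
  · have cka : Commute k a := hka
    have ckt : Commute k t := hkt
    have key : ∀ u ∈ zpowers a ⊔ zpowers t, y ∈ core (centralizer ({x * u} : Set G)) →
        y * k * y⁻¹ * k⁻¹ ∈ core (centralizer ({x * u} : Set G)) := by
      intro u hu hyu
      have e : y * k * y⁻¹ * k⁻¹ = y * (k * y⁻¹ * k⁻¹) := by group
      rw [e]
      exact (core (centralizer ({x * u} : Set G))).mul_mem hyu
        (conj_core (hcu k hka hkt hkx u hu) ((core (centralizer ({x * u} : Set G))).inv_mem hyu))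
    refine ⟨y * k * y⁻¹ * k⁻¹, ?_,
      (((cya.mul_left cka).mul_left cya.inv_left).mul_left cka.inv_left).eq,
      (((cyt.mul_left ckt).mul_left cyt.inv_left).mul_left ckt.inv_left).eq, h2, h1,
      fun u hu hdu => key u hu (hyu u hu hdu)⟩
    have h3 := key 1 (one_mem _) (by rwa [mul_one])
    rwa [mul_one] at h3

/-- **the element for LEMMA CK**, for every `PR` -/
theorem yj : YJ x a t L := by
  have T := S.T
  have ha2 := sq_of_order T.inva
  have ht2 := sq_of_order S.ot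
  have haR : a ∈ zpowers a ⊔ zpowers t := mem_sup_left (mem_zpowers a)
  have htR : t ∈ zpowers a ⊔ zpowers t := mem_sup_right (mem_zpowers t)
  have ha1 := ne_one_of_order T.inva
  have ht1 := ne_one_of_order S.ot
  have hat : a * t ≠ 1 := by
    intro h
    apply S.ne
    rw [eq_inv_of_mul_eq_one_right h]
    exact inv_eq_of_mul_eq_one_left ha2
  obtain ⟨d₀, hd₀, hd₀a, hd₀t, hd₀f⟩ := T.exists_bad S.ot S.ta S.tx S.tL
  obtain ⟨d₁, a₁, a₂, a₃, a₄, a₅, -⟩ := step P S hd₀ (comm_c hd₀a) (comm_c hd₀t) hd₀f haR ha1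
  obtain ⟨d₂, b₁, b₂, b₃, b₄, b₅, b₆⟩ := step P S a₁ a₂ a₃ a₄ htR ht1
  obtain ⟨d₃, c₁, c₂, c₃, c₄, c₅, c₆⟩ := step P S b₁ b₂ b₃ b₄ (mul_mem haR htR) hat
  have hall : ∀ f ∈ zpowers a ⊔ zpowers t, d₃ ∈ core (centralizer ({x * f} : Set G)) := by
    intro f hf
    rcases (mem_zpowers_sup ha2 (fun z hz => by
      rcases (mem_zpowers_of_sq ht2).mp hz with rfl | rfl
      · rw [mul_one, one_mul]
      · exact S.ta.symm)).mp hf with h3 | h3
    · rcases (mem_zpowers_of_sq ht2).mp h3 with h4 | h4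
      · rwa [h4, mul_one]
      · rw [h4]
        exact c₆ t htR b₅
    · rcases (mem_zpowers_of_sq ht2).mp h3 with h4 | h4
      · have h5 : f = a := by
          rw [eq_inv_of_mul_eq_one_right h4]
          exact inv_eq_of_mul_eq_one_left ha2
        rw [h5]
        exact c₆ a haR (b₆ a haR a₅)
      · have h5 : f = a * t := by rw [← h4, ← mul_assoc, ha2, one_mul]
        rw [h5]
        exact c₅
  obtain ⟨c, hcJ, hcx, hyJ, hyf⟩ := comm_y P S c₁ c₂ c₃ c₄
  have hcL := cen_le L t hcJ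
  have cca : Commute c a := comm_c (T.comp.le hcL)
  have cct : Commute c t := comm_of_mem_cen hcJ
  have hyu : ∀ f ∈ zpowers a ⊔ zpowers t,
      d₃ * c * d₃⁻¹ * c⁻¹ ∈ core (centralizer ({x * f} : Set G)) := by
    intro u hu
    have h1 : zpowers a ⊔ zpowers t ≤ centralizer ({c} : Set G) :=
      sup_le (zpowers_le.mpr (mem_c cca.symm)) (zpowers_le.mpr (mem_c cct.symm))
    have h2 : Commute c u := (comm_c (h1 hu)).symm
    have h3 : c ∈ centralizer ({x * u} : Set G) :=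
      mem_c ((show Commute c x from hcx).mul_right h2)
    have e : d₃ * c * d₃⁻¹ * c⁻¹ = d₃ * (c * d₃⁻¹ * c⁻¹) := by group
    rw [e]
    exact (core (centralizer ({x * u} : Set G))).mul_mem (hall u hu)
      (conj_core h3 ((core (centralizer ({x * u} : Set G))).inv_mem (hall u hu)))
  refine ⟨_, hyJ, ?_, hyf, hyu⟩
  have h3 := hyu 1 (one_mem _)
  rwa [mul_one] at h3

end cfg

end Cfsg.Agent.UGT.Res.YJP
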