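import Cfsg.Agent.UGT.PumpGen
import Cfsg.Agent.UGT.TriBase

/-!
# The residual world: the basic lemmas

* `exists_moved`, `exists_triple` (TR): `y ∈ O(C(x)) ∩ C(e)`, `y ∉ O(C(e))` moves a 2-component `J` of `C(e)`, so
  `(x, e, J)` is a triple.
* `RWorld`: the two facts on the types `A₅`, `L₂(7)`, `A₆`, `L₃(4)`.
* `act_as`: all involutions `e ∈ C(x, t)` with `y ∈ O(C(e))` act on `K` as `x`, `(x, t, K)` a triple moved by `y`.
* `bad_mul`, `exists_coset` (CL): the involutions `e` of an elementary abelian group `E ≤ C(y)` with `y ∈ O(C(e))`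
  form a coset of a subgroup.
* `kill`, `act_of_pump`, `lemmaW_core`, `lemmaW`: LEMMA W.
-/

set_option autoImplicit false

open Cfsg Subgroup
open Cfsg.Agent.SignalizersComponents Cfsg.Agent.Lib
open Cfsg.Agent.SignalizersComponents.IntrinsicBasic
open Cfsg.Agent.SignalizersComponents.IntrinsicIntr
open Cfsg.Agent.SignalizersComponents.PLayerAut
open Cfsg.Agent.Intrinsic.Basic Cfsg.Agent.Intrinsic.Cen Cfsg.Agent.Intrinsic.Diag
open Cfsg.Agent.McLLyComp.Act
open Cfsg.Agent.UGT.Triple Cfsg.Agent.UGT.LemG Cfsg.Agent.UGT.PumpGen Cfsg.Agent.UGT.TriBase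
open scoped commutatorElement

namespace Cfsg.Agent.UGT.Res.Base

variable {G : Type*} [Group G]

theorem order_mul {a b : G} (ha : a * a = 1) (hb : b * b = 1) (hab : a * b = b * a) (hne : a ≠ b) :
    orderOf (a * b) = 2 := by
  refine orderOf_eq_prime ?_ ?_
  · rw [pow_two]
    calc a * b * (a * b) = a * (b * a) * b := by group
      _ = a * (a * b) * b := by rw [hab]
      _ = (a * a) * (b * b) := by group
      _ = 1 := by rw [ha, hb, one_mul]
  · intro h
    apply hne
    calc a = a * (b * b) := by rw [hb, mul_one]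
      _ = (a * b) * b := by group
      _ = b := by rw [h, one_mul]

variable [Finite G]

/-- `y ∈ O(C_H(x))` fixing all 2-components of `H` lies in `O(H)`. -/
theorem exists_moved {H : Subgroup G} {x y : G} (hxH : x ∈ H) (hx : orderOf x = 2)
    (hy : y ∈ core (H ⊓ centralizer ({x} : Set G))) (hn : y ∉ core H) :
    ∃ J, IsComp H J ∧ ¬ Fixes y J := by
  have h2 : Fact (Nat.Prime 2) := ⟨Nat.prime_two⟩
  by_contra hcon
  push Not at hcon
  have hyH : y ∈ H := (core_le _ hy).1
  have h1 := mk_mem_core hxH hx hy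
  have h3 : zpowers (QuotientGroup.mk' (pPrimeCore 2 ↥H) ⟨y, hyH⟩) = ⊥ := by
    apply BalanceAux.eq_bot_of_le_centralizer_components 2
      (Lib.Cores.pPrimeCore_quotient_pPrimeCore (G := ↥H) 2)
    · exact Nat.Coprime.coprime_dvd_left (card_dvd_of_le (zpowers_le.mpr h1))
        (CoreOfCentralizer.card_centralizerPPrimeCore_coprime 2 _)
    · rw [zpowers_le]
      exact BalanceAux.core_le_centralizer_pCore 2 _ (by
        refine orderOf_eq_prime ?_ ?_
        · rw [← map_pow]
          have : (⟨x, hxH⟩ : ↥H) ^ 2 = 1 := Subtype.ext (by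
            change x ^ 2 = 1
            rw [← hx, pow_orderOf_eq_one])
          rw [this, map_one]
        · intro h
          have h3 : x ∈ core H := (mem_core_iff hxH).mpr ((QuotientGroup.eq_one_iff _).mp h)
          exact ne_one_of_order hx (eq_one_of_mem_core_sq h3 (sq_of_order hx))) h1
    · intro K hK
      obtain ⟨K', hK', rfl⟩ := PComponents.exists_pcomp hK
      have h4 : IsComp H (K'.map H.subtype) := isComp_of_subtype hK'
      have h5 := hcon _ h4
      rw [zpowers_le, mem_centralizer_iff]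
      rintro _ ⟨k, hk, rfl⟩
      have h6 : ⁅y, (k : G)⁆ ∈ core (K'.map H.subtype) := h5.2 k ⟨k, hk, rfl⟩
      have h7 := (commutator_mem_core_iff hyH k.2).mp (h4.core_le_core h6)
      exact h7.symm
  rw [zpowers_eq_bot] at h3
  exact hn ((mem_core_iff hyH).mpr ((QuotientGroup.eq_one_iff _).mp h3))

/-- **(TR)** -/
theorem exists_triple {x e y : G} (hx : orderOf x = 2) (he : orderOf e = 2) (hex : e * x = x * e)
    (hy : y ∈ core (centralizer ({x} : Set G))) (hye : y ∈ centralizer ({e} : Set G))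
    (hn : y ∉ core (centralizer ({e} : Set G))) : ∃ J, IsTriple x e J ∧ ¬ Fixes y J := by
  obtain ⟨J, hJ, hf⟩ := exists_moved (mem_c hex.symm) hx (inf_le_core hy hye) hn
  exact ⟨J, ⟨hx, he, hex, hJ, y, hy, hye, hf⟩, hf⟩

/-- `y` acts as an inner automorphism on `L / O(L)` -/
def Inn {G : Type*} [Group G] (y : G) (L : Subgroup G) : Prop := ∃ r ∈ L, Fixes (y * r⁻¹) L

/-- `y ∈ O(C(x)) ∩ C(a)` acts as an inner automorphism (possibly trivially) on `L / O(L)`, for all triples
`(x, a, L)`. -/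
def Tame {G : Type*} [Group G] (y : G) : Prop := ∀ {x a : G} {L : Subgroup G}, IsTriple x a L →
  y ∈ core (centralizer ({x} : Set G)) → y ∈ centralizer ({a} : Set G) → Inn y L

/-- The residual world: `solv`: `C_{L/O(L)}(x)` has no perfect subgroups; `cent`: an involution `w` commuting with
`x`, `y` acts on `L / O(L)` as `x`, or `y` moves a 2-component of `C_L(w)` (for instance `w` fixes `L`). -/
structure RWorld (G : Type*) [Group G] : Prop where
  solv : ∀ {x a : G} {L M : Subgroup G}, IsTriple x a L → M ≤ L → (∀ m ∈ M, ⁅x, m⁆ ∈ core L) →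
    ⁅M, M⁆ = M → M ≤ core L
  cent : ∀ {x a y w : G} {L : Subgroup G}, Inn y L → IsTriple x a L →
    y ∈ core (centralizer ({x} : Set G)) → y ∈ centralizer ({a} : Set G) → ¬ Fixes y L → orderOf w = 2 → w ∈ normalizer (L : Set G) →
    w * a = a * w → w * x = x * w → w * y = y * w →
    (∃ M, M ≤ L ∧ IsComp (centralizer ({a} : Set G) ⊓ centralizer ({w} : Set G)) M ∧ ¬ Fixes y M) ∨
      Fixes (w * x⁻¹) L

/-- An involution `e ∈ C(x, t)` with `y ∈ O(C(e))` acts on `K` as `x`. -/
theorem act_as (W : RWorld G) {x t y e : G} {K : Subgroup G} (hty : Inn y K) (T : IsTriple x t K)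
    (hy : y ∈ core (centralizer ({x} : Set G))) (hyt : y ∈ centralizer ({t} : Set G))
    (hf : ¬ Fixes y K) (he : orderOf e = 2) (het : e * t = t * e) (hex : e * x = x * e)
    (hye : y ∈ core (centralizer ({e} : Set G))) : Fixes (e * x⁻¹) K := by
  have h1 := inf_le_core hye hyt
  have h2 := of_not_fixes T.comp (mem_c het) he h1 hf
  have hye' : e * y = y * e := (comm_c (core_le _ hye)).symm
  rcases W.cent hty T hy hyt hf he h2.1 het hex hye' with ⟨M, -, hM, hfM⟩ | h
  · exact absurd (hM.fixes_of_core h1) hfM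
  · exact h

/-- If `x`, `e`, `f` are commuting involutions with `y` in all three cores, then `x e f = 1` or `y ∈ O(C(x e f))`. -/
theorem bad_mul (W : RWorld G) {x e f y : G} (hty : Tame y) (hx : orderOf x = 2) (he : orderOf e = 2)
    (hf : orderOf f = 2) (hex : e * x = x * e) (hfx : f * x = x * f) (hef : e * f = f * e)
    (hyx : y ∈ core (centralizer ({x} : Set G))) (hye : y ∈ core (centralizer ({e} : Set G)))
    (hyf : y ∈ core (centralizer ({f} : Set G))) (hne : x * (e * f) ≠ 1) :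
    y ∈ core (centralizer ({x * (e * f)} : Set G)) := by
  by_contra hn
  have hx2 := sq_of_order hx
  have he2 := sq_of_order he
  have hf2 := sq_of_order hf
  have hyx' := comm_c (core_le _ hyx)
  have hye' := comm_c (core_le _ hye)
  have hyf' := comm_c (core_le _ hyf)
  obtain ⟨t, ht⟩ : ∃ t, t = x * (e * f) := ⟨_, rfl⟩
  rw [← ht] at hne hn
  have cxe : Commute x e := hex.symm
  have cxf : Commute x f := hfx.symm
  have cef : Commute e f := hef
  have cxt : Commute x t := ht ▸ (Commute.refl x).mul_right (cxe.mul_right cxf)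
  have cet : Commute e t := ht ▸ cxe.symm.mul_right ((Commute.refl e).mul_right cef)
  have cft : Commute f t := ht ▸ cxf.symm.mul_right (cef.symm.mul_right (Commute.refl f))
  have cyt : Commute y t := ht ▸ Commute.mul_right hyx' (Commute.mul_right hye' hyf')
  have ht2 : orderOf t = 2 := by
    refine orderOf_eq_prime ?_ hne
    rw [pow_two]
    have h1 : t * t = x * x * ((e * f) * (e * f)) := by
      nth_rewrite 1 [ht]
      calc x * (e * f) * t = x * ((e * f) * t) := by group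
        _ = x * (t * (e * f)) := by rw [(cet.mul_left cft).eq]
        _ = (x * t) * (e * f) := by group
        _ = x * (x * (e * f)) * (e * f) := by rw [← ht]
        _ = _ := by group
    rw [h1, hx2, one_mul]
    calc e * f * (e * f) = e * (f * e) * f := by group
      _ = e * (e * f) * f := by rw [hef]
      _ = (e * e) * (f * f) := by group
      _ = 1 := by rw [he2, hf2, one_mul]
  obtain ⟨K, T, hfK⟩ := exists_triple hx ht2 cxt.symm hyx (mem_c cyt) hn
  have hin := hty T hyx (mem_c cyt)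
  have h1 := act_as W hin T hyx (mem_c cyt) hfK he cet hex hye
  have h2 := act_as W hin T hyx (mem_c cyt) hfK hf cft hfx hyf
  have h3 : Fixes (e * f) K := by
    have h4 := fixes_mul h1 (fixes_inv h2)
    have h5 : e * x⁻¹ * (f * x⁻¹)⁻¹ = e * f⁻¹ := by group
    rw [h5, inv_eq_of_mul_eq_one_left hf2] at h4
    exact h4
  have h4 : Fixes t K := fixes_self' T.comp.le
  apply T.not_fixes
  have h5 := fixes_mul h4 (fixes_inv h3)
  rw [ht] at h5
  rwa [mul_inv_cancel_right] at h5

/-- The product of two bad involutions is not bad if there is a good one. -/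
theorem not_bad_mul (W : RWorld G) {x e t y : G} (hty : Tame y) (hx : orderOf x = 2) (he : orderOf e = 2)
    (ht : orderOf t = 2) (hex : e * x = x * e) (htx : t * x = x * t) (hte : t * e = e * t)
    (hyx : y ∈ core (centralizer ({x} : Set G))) (hye : y ∈ core (centralizer ({e} : Set G)))
    (hyt : y ∈ centralizer ({t} : Set G)) (hn : y ∉ core (centralizer ({t} : Set G))) (hne : x ≠ e) :
    y ∉ core (centralizer ({x * e} : Set G)) := by
  intro hbad
  have hx2 := sq_of_order hx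
  have he2 := sq_of_order he
  obtain ⟨K, T, hfK⟩ := exists_triple hx ht htx hyx hyt hn
  have cxe : Commute x e := hex.symm
  have ctx : Commute t x := htx
  have cte : Commute t e := hte
  have h1 := act_as W (hty T hyx hyt) T hyx hyt hfK he hte.symm hex hye
  have h2 := act_as W (hty T hyx hyt) T hyx hyt hfK (order_mul hx2 he2 hex.symm hne) (ctx.mul_right cte).symm
    ((Commute.refl x).mul_left cxe.symm) hbad
  apply T.not_fixes
  have h3 := fixes_mul (fixes_inv h1) h2
  have h4 : (e * x⁻¹)⁻¹ * (x * e * x⁻¹) = x * (e⁻¹ * x * e) * x⁻¹ := by group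
  have h5 : e⁻¹ * x * e = x := by
    rw [mul_assoc, hex.symm, inv_mul_cancel_left]
  rw [h4, h5, mul_inv_cancel_right] at h3
  exact h3

/-- **(CL), COSET LEMMA.** -/
theorem exists_coset (W : RWorld G) {E : Subgroup G} {x t y : G} (hty : Tame y) (hE2 : ∀ e ∈ E, e * e = 1)
    (hyE : E ≤ centralizer ({y} : Set G)) (hxE : x ∈ E) (hx1 : x ≠ 1)
    (hyx : y ∈ core (centralizer ({x} : Set G))) (htE : t ∈ E) (ht1 : t ≠ 1)
    (hn : y ∉ core (centralizer ({t} : Set G))) :
    ∃ F : Subgroup G, F ≤ E ∧ x ∉ F ∧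
      (∀ e ∈ E, e ≠ 1 → (y ∈ core (centralizer ({e} : Set G)) ↔ x * e ∈ F)) ∧
      (∀ t' ∈ E, t' ≠ 1 → y ∉ core (centralizer ({t'} : Set G)) → ∀ K,
        IsComp (centralizer ({t'} : Set G)) K → ¬ Fixes y K → ∀ f ∈ F, Fixes f K) := by
  have ho : ∀ e ∈ E, e ≠ 1 → orderOf e = 2 := fun e he h1 =>
    orderOf_eq_prime (by rw [pow_two]; exact hE2 e he) h1
  have hcomm : ∀ e ∈ E, ∀ f ∈ E, e * f = f * e := by
    intro e he f hf
    have h1 := hE2 _ (mul_mem he hf)
    have h2 := hE2 e he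
    have h3 := hE2 f hf
    calc e * f = (e * e) * (e * f) * (f * f) := by rw [h2, h3, one_mul, mul_one]
      _ = e * (e * e) * f * f * f := by group
      _ = e * f := by rw [h2, mul_one, mul_assoc e f f, h3, mul_one]
      _ = (f * e) * ((e * f) * (e * f)) := by
          rw [h1, mul_one]
          calc e * f = (f * f) * (e * f) * (e * e) := by rw [h2, h3, one_mul, mul_one]
            _ = f * ((f * e) * (f * e)) * e := by group
            _ = f * e := by rw [hE2 _ (mul_mem hf he), mul_one]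
      _ = f * e := by rw [h1, mul_one]
  have hyc : ∀ e ∈ E, y ∈ centralizer ({e} : Set G) := fun e he => mem_c (comm_c (hyE he)).symm
  -- the key closure property
  have key : ∀ e ∈ E, e ≠ 1 → y ∈ core (centralizer ({e} : Set G)) → ∀ f ∈ E, f ≠ 1 →
      y ∈ core (centralizer ({f} : Set G)) → x * (e * f) ≠ 1 := by
    intro e he he1 hye f hf hf1 hyf h
    have hef : e * f = x := by
      have := eq_inv_of_mul_eq_one_right h
      rw [this]
      exact inv_eq_of_mul_eq_one_left (hE2 x hxE)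
    have hne : e ≠ f := by
      rintro rfl
      rw [hE2 e he] at hef
      exact hx1 hef.symm
    exact not_bad_mul W hty (ho e he he1) (ho f hf hf1) (ho t htE ht1) (hcomm f hf e he)
      (hcomm t htE e he) (hcomm t htE f hf) hye hyf (hyc t htE) hn hne (hef ▸ hyx)
  refine ⟨{ carrier := {g | g ∈ E ∧ x * g ≠ 1 ∧ y ∈ core (centralizer ({x * g} : Set G))}
            mul_mem' := ?_
            one_mem' := ⟨one_mem _, by rwa [mul_one], by rwa [mul_one]⟩
            inv_mem' := ?_ }, fun g hg => hg.1, ?_, ?_, ?_⟩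
  · rintro g h ⟨hg, hg1, hyg⟩ ⟨hh, hh1, hyh⟩
    have h1 : x * ((x * g) * (x * h)) = x * (g * h) := by
      calc x * ((x * g) * (x * h)) = (x * x) * (g * x) * h := by group
        _ = (x * x) * (x * g) * h := by rw [hcomm g hg x hxE]
        _ = _ := by rw [hE2 x hxE]; group
    have h2 := key _ (mul_mem hxE hg) hg1 hyg _ (mul_mem hxE hh) hh1 hyh
    rw [h1] at h2
    refine ⟨mul_mem hg hh, h2, ?_⟩
    have h3 := bad_mul W hty (ho x hxE hx1) (ho _ (mul_mem hxE hg) hg1) (ho _ (mul_mem hxE hh) hh1)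
      (hcomm _ (mul_mem hxE hg) x hxE) (hcomm _ (mul_mem hxE hh) x hxE)
      (hcomm _ (mul_mem hxE hg) _ (mul_mem hxE hh)) hyx hyg hyh (by rwa [h1])
    rwa [h1] at h3
  · rintro g ⟨hg, hg1, hyg⟩
    rw [inv_eq_of_mul_eq_one_left (hE2 g hg)]
    exact ⟨hg, hg1, hyg⟩
  · rintro ⟨-, h, -⟩
    exact h (hE2 x hxE)
  · intro e he he1
    have h1 : x * (x * e) = e := by rw [← mul_assoc, hE2 x hxE, one_mul]
    constructor
    · intro h
      exact ⟨mul_mem hxE he, by rwa [h1], by rwa [h1]⟩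
    · rintro ⟨-, -, h⟩
      rwa [h1] at h
  · rintro t' ht' ht1' hn' K hK hfK g ⟨hg, hg1, hyg⟩
    have T : IsTriple x t' K := ⟨ho x hxE hx1, ho t' ht' ht1', hcomm t' ht' x hxE, hK, y, hyx,
      hyc t' ht', hfK⟩
    have h1 := act_as W (hty T hyx (hyc t' ht')) T hyx (hyc t' ht') hfK (ho _ (mul_mem hxE hg) hg1)
      (hcomm _ (mul_mem hxE hg) _ ht') (hcomm _ (mul_mem hxE hg) x hxE) hyg
    have h2 : x * g * x⁻¹ = g := by
      rw [hcomm x hxE g hg, mul_inv_cancel_right]
    rwa [h2] at h1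

/-! ### LEMMA W -/

/-- `e` acts on `N` as `x`, `y ∈ N`: there is no 2-component of `C(e, w)` moved by `y`, `(x, w, N)` a triple. -/
theorem kill (W : RWorld G) {x e w y : G} {M N : Subgroup G} (T : IsTriple x w N)
    (he : e * e = 1) (hew : e * w = w * e) (hye : y ∈ centralizer ({e} : Set G))
    (hyN : y ∈ N) (hact : Fixes (e * x⁻¹) N)
    (hM : IsComp (centralizer ({w} : Set G) ⊓ centralizer ({e} : Set G)) M) : Fixes y M := by
  by_contra hf
  obtain ⟨N', hN', -, hor⟩ := McLLyComp.PumpT.exists_pump (mem_c hew) he hM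
  have hfN' : ¬ Fixes y N' := fun h => hf (fixes_of_pump he hew.symm hM hN' (T.comp.le hyN) hye h (by
    rcases hor with ⟨-, h⟩ | h
    · exact Or.inl h
    · exact Or.inr h))
  have hNN : N' = N := by
    by_contra hne
    exact hfN' (hN'.fixes_of_mem T.comp hne hyN)
  rw [hNN] at hor
  have heN : e ∈ normalizer (N : Set G) := by
    have h1 := mul_mem hact.1 T.x_mem
    rwa [inv_mul_cancel_right] at h1
  rcases hor with ⟨-, hMN⟩ | ⟨hne, -⟩
  · have h1 : M ≤ core N := by
      refine W.solv T hMN (fun m hm => ?_) hM.perfect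
      have h2 := (act_eq_iff heN T.x_mem).mpr hact
      have h3 := DFunLike.congr_fun h2 (QuotientGroup.mk ⟨m, hMN hm⟩)
      rw [act_mk heN (hMN hm), act_mk T.x_mem (hMN hm)] at h3
      have h4 := (mk_eq_iff _ _).mp h3
      have h5 : e * m * e⁻¹ = m := by
        rw [← comm_c (hM.le hm).2, mul_inv_cancel_right]
      rw [h5] at h4
      -- `m⁻¹ * (x m x⁻¹) ∈ core N`
      have h6 := conj_mem_core (le_normalizer (hMN hm)) h4
      convert h6 using 1
      rw [commutatorElement_def]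
      group
    exact hM.not_odd (odd_card_core N) h1
  · exact hne (mem_normalizer_iff_cj.mp heN)

/-- `w` acts on `J` as `x`, `(x, e, J)` a triple moved by `y`, if `y ∈ N`, `(x, w, N)` a triple on which `e` acts
as `x`. -/
theorem act_of_pump (W : RWorld G) {x e w y : G} {J N : Subgroup G} (hty : Inn y J) (T : IsTriple x e J)
    (hy : y ∈ core (centralizer ({x} : Set G))) (hye : y ∈ centralizer ({e} : Set G))
    (hf : ¬ Fixes y J) (S : IsTriple x w N) (hwe : w * e = e * w) (hyN : y ∈ N)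
    (hact : Fixes (e * x⁻¹) N) : Fixes (w * x⁻¹) J := by
  have he2 := sq_of_order T.inva
  have hw2 := sq_of_order S.inva
  have hyw : y ∈ centralizer ({w} : Set G) := S.comp.le hyN
  have hkill : ∀ M, IsComp (centralizer ({e} : Set G) ⊓ centralizer ({w} : Set G)) M → Fixes y M := by
    intro M hM
    rw [inf_comm] at hM
    exact kill W S he2 hwe.symm hye hyN hact hM
  by_cases hwJ : w ∈ normalizer (J : Set G)
  · rcases W.cent hty T hy hye hf S.inva hwJ hwe S.comm (comm_c hyw).symm with ⟨M, -, hM, hfM⟩ | h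
    · exact absurd (hkill M hM) hfM
    · exact h
  · exfalso
    have hne : IntrinsicBasic.cj w J ≠ J := fun h => hwJ (mem_normalizer_iff_cj.mpr h)
    have hwH : w ∈ centralizer ({e} : Set G) := mem_c hwe
    obtain ⟨h1, -, -, h4, -⟩ := exists_diag T.comp hwH hw2 hne
    have hyJ := T.mem_normalizer_of_core hy hye
    apply hf
    refine fixes_of_comm_diag T.comp hwH hw2 hne hye hyJ ?_ fun m hm => ?_
    · have h5 : y * w = w * y := comm_c hyw
      rw [mem_normalizer_iff_cj, ← cj_mul, h5, cj_mul, mem_normalizer_iff_cj.mp hyJ]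
    · have h6 := (hkill _ h1).2 m hm
      rw [h4] at h6
      exact h6.2

/-- **LEMMA W**, the core of the proof. -/
theorem lemmaW_core (W : RWorld G) {x f y w₁ w₂ : G} {N₁ N₂ N₃ : Subgroup G}
    (hin : ∀ J, IsTriple x (x * f) J → Inn y J)
    (hy : y ∈ core (centralizer ({x} : Set G))) (hfx : f * x = x * f) (hfy : f * y = y * f)
    (he : orderOf (x * f) = 2) (hf₁ : f * w₁ = w₁ * f) (hf₂ : f * w₂ = w₂ * f)
    (h₁ : IsTriple x w₁ N₁) (h₂ : IsTriple x w₂ N₂) (h₃ : IsTriple x (w₁ * w₂) N₃)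
    (hy₁ : y ∈ N₁) (hy₂ : y ∈ N₂) (hy₃ : y ∈ N₃) (hfN₁ : Fixes f N₁) (hfN₂ : Fixes f N₂)
    (hfN₃ : Fixes f N₃) : y ∈ core (centralizer ({x * f} : Set G)) := by
  by_contra hn
  have hyx : y * x = x * y := comm_c (core_le _ hy)
  have cyx : Commute y x := hyx
  have cfx : Commute f x := hfx
  have cw₁x : Commute w₁ x := h₁.comm
  have cw₂x : Commute w₂ x := h₂.comm
  have hye : y ∈ centralizer ({x * f} : Set G) := mem_c (cyx.mul_right hfy.symm)
  have hfe : x * f * x⁻¹ = f := by rw [← hfx, mul_inv_cancel_right]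
  obtain ⟨J, T, hfJ⟩ := exists_triple h₁.invx he ((Commute.refl x).mul_left cfx) hy hye hn
  have a₁ := act_of_pump W (hin J T) T hy hye hfJ h₁ (cw₁x.mul_right hf₁.symm) hy₁ (by rwa [hfe])
  have a₂ := act_of_pump W (hin J T) T hy hye hfJ h₂ (cw₂x.mul_right hf₂.symm) hy₂ (by rwa [hfe])
  have a₃ := act_of_pump W (hin J T) T hy hye hfJ h₃
    ((cw₁x.mul_right hf₁.symm).mul_left (cw₂x.mul_right hf₂.symm)) hy₃ (by rwa [hfe])
  apply T.not_fixes
  have hw₂ := sq_of_order h₂.inva
  have b₁ := fixes_mul a₁ (fixes_inv a₂)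
  have b₂ : w₁ * x⁻¹ * (w₂ * x⁻¹)⁻¹ = w₁ * w₂ := by
    rw [mul_inv_rev, inv_inv, inv_eq_of_mul_eq_one_left hw₂]
    group
  rw [b₂] at b₁
  have b₃ := fixes_mul (fixes_inv a₃) b₁
  have b₄ : (w₁ * w₂ * x⁻¹)⁻¹ * (w₁ * w₂) = x := by group
  rwa [b₄] at b₃

/-- A trivial pump-up of `(x, a, L)` to `C(w)`. -/
def Triv (x : G) (L : Subgroup G) (w : G) (N : Subgroup G) : Prop :=
  IsTriple x w N ∧ cen L w ≤ N ∧ cen L w ⊔ core N = N

/-- an element fixing `L` and commuting with `w` fixes the trivial pump-up -/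
theorem Triv.fixes {x a w f : G} {L N : Subgroup G} (T : IsTriple x a L) (h : Triv x L w N)
    (hwa : w * a = a * w) (hwL : Fixes w L) (hfw : f * w = w * f) (hfL : Fixes f L) :
    Fixes f N := by
  obtain ⟨hN, hle, hsup⟩ := h
  have hw2 := sq_of_order hN.inva
  obtain ⟨hM, hMsup⟩ := isComp_cen T.comp (mem_c hwa) hw2 hwL
  have hfM : f ∈ normalizer (cen L w : Set G) := mem_normalizer_cen hfL.1 hfw
  have hfN : f ∈ normalizer (N : Set G) := by
    have hcN := isComp_cj_of_mem hN.comp (mem_c hfw)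
    rw [mem_normalizer_iff_cj]
    refine hM.unique hcN hN.comp ?_ hle
    rw [← mem_normalizer_iff_cj.mp hfM]
    exact cj_mono hle
  rw [← fixes_iff_of_sup hsup hfM hfN, fixes_iff_of_sup hMsup hfM hfL.1]
  exact hfL

/-- **LEMMA W.** `V = ⟨w₁, w₂⟩` a four-group fixing `L`, with trivial pump-ups, `y ∈ C_L(V)^∞ ∩ O(C(x))`. Then
`y ∈ O(C(x f))` for all involutions `x f`, `f ∈ C(V, x, y)` fixing `L`. -/
theorem lemmaW_inn (W : RWorld G) {x a f y w₁ w₂ : G} {L N₁ N₂ N₃ : Subgroup G}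
    (hin : ∀ J, IsTriple x (x * f) J → Inn y J)
    (T : IsTriple x a L)
    (hy : y ∈ core (centralizer ({x} : Set G)))
    (hw₁a : w₁ * a = a * w₁) (hw₂a : w₂ * a = a * w₂) (hw₁L : Fixes w₁ L) (hw₂L : Fixes w₂ L)
    (h₁ : Triv x L w₁ N₁) (h₂ : Triv x L w₂ N₂) (h₃ : Triv x L (w₁ * w₂) N₃)
    (hy₁ : y ∈ cen L w₁) (hy₂ : y ∈ cen L w₂) (hy₃ : y ∈ cen L (w₁ * w₂))
    (hfx : f * x = x * f) (hfy : f * y = y * f) (hf₁ : f * w₁ = w₁ * f) (hf₂ : f * w₂ = w₂ * f)
    (hfL : Fixes f L) (he : orderOf (x * f) = 2) : y ∈ core (centralizer ({x * f} : Set G)) := by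
  have c₁ : Commute w₁ a := hw₁a
  have c₂ : Commute w₂ a := hw₂a
  have d₁ : Commute f w₁ := hf₁
  have d₂ : Commute f w₂ := hf₂
  exact lemmaW_core W hin hy hfx hfy he hf₁ hf₂ h₁.1 h₂.1 h₃.1 (h₁.2.1 hy₁) (h₂.2.1 hy₂) (h₃.2.1 hy₃)
    (h₁.fixes T hw₁a hw₁L hf₁ hfL) (h₂.fixes T hw₂a hw₂L hf₂ hfL)
    (h₃.fixes T (c₁.mul_left c₂) (fixes_mul hw₁L hw₂L) (d₁.mul_right d₂) hfL)

/-- **LEMMA W** for tame elements. -/
theorem lemmaW (W : RWorld G) {x a f y w₁ w₂ : G} {L N₁ N₂ N₃ : Subgroup G} (hty : Tame y)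
    (T : IsTriple x a L)
    (hy : y ∈ core (centralizer ({x} : Set G)))
    (hw₁a : w₁ * a = a * w₁) (hw₂a : w₂ * a = a * w₂) (hw₁L : Fixes w₁ L) (hw₂L : Fixes w₂ L)
    (h₁ : Triv x L w₁ N₁) (h₂ : Triv x L w₂ N₂) (h₃ : Triv x L (w₁ * w₂) N₃)
    (hy₁ : y ∈ cen L w₁) (hy₂ : y ∈ cen L w₂) (hy₃ : y ∈ cen L (w₁ * w₂))
    (hfx : f * x = x * f) (hfy : f * y = y * f) (hf₁ : f * w₁ = w₁ * f) (hf₂ : f * w₂ = w₂ * f)
    (hfL : Fixes f L) (he : orderOf (x * f) = 2) : y ∈ core (centralizer ({x * f} : Set G)) := by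
  have cyx : Commute y x := comm_c (core_le _ hy)
  have cyf : Commute y f := hfy.symm
  exact lemmaW_inn W (fun J T => hty T hy (mem_c (cyx.mul_right cyf))) T hy hw₁a hw₂a hw₁L hw₂L h₁ h₂ h₃
    hy₁ hy₂ hy₃ hfx hfy hf₁ hf₂ hfL he

end Cfsg.Agent.UGT.Res.Base
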