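import Cfsg.Agent.UGT.Res.WLeaf
import Cfsg.Agent.UGT.Res.W1.Of
import Cfsg.Agent.UGT.Res.W1.Step1

/-!
# The field `w` of `TreeB.Missing7`
-/

set_option autoImplicit false
set_option linter.unusedSectionVars false

open Cfsg Subgroup
open Cfsg.Agent.SignalizersComponents Cfsg.Agent.Lib
open Cfsg.Agent.SignalizersComponents.IntrinsicBasic
open Cfsg.Agent.Intrinsic.Basic
open Cfsg.Agent.FixBN.BTheorem
open Cfsg.Agent.UGT.Triple Cfsg.Agent.UGT.TriBase
open Cfsg.Agent.UGT.Res.KFacts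
open Cfsg.Agent.UGT.Res.WFun Cfsg.Agent.UGT.Res.TFour
open Cfsg.Agent.UGT.Res.WMany
open Cfsg.Agent.UGT.Iface Cfsg.Agent.UGT.Nodes

namespace Cfsg.Agent.UGT.Res.WPlug

universe u

local notation "Fs" => generalizedFittingSubgroup

variable {G : Type u} [Group G] [Finite G]

theorem faith (FA : U2.FOne.All.FAll.{u})
    (heK : ∀ (K : Type u) [Group K] [Finite K], Spor.IsoHe K → NodeHeG.HF K) (hG : MinCex G) (P : Pgl G)
    (htop : Fs G = ⊤) : W1.Of.Faith G := by
  intro x y R₀ J M N Lr hM S hR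
  refine S.false_of_faithful FA heK P hG hR ?_
  refine lt_of_le_of_lt (Subgroup.card_le_of_le S.comp.le) ?_
  rw [htop, Subgroup.card_top]
  refine lt_of_le_of_ne (Subgroup.card_le_card_group M) fun h => hM ?_
  exact Subgroup.eq_top_of_card_eq M h

/-- **the field `w`** -/
theorem w (FA : U2.FOne.All.FAll.{u})
    (heK : ∀ (K : Type u) [Group K] [Finite K], Spor.IsoHe K → NodeHeG.HF K) (hk : Known.{u})
    (FT : Intrinsic.Functor.OddSol G) (hcrit : IsSimpleGroup G → Crit G) (hG : MinCex G) (P : Pgl G)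
    (htop : Fs G = ⊤) : TwoSup.WOne G ∧ (Hon.One G → WOne.WOne G) := by
  have hs := WLeaf.isSimple_of_top hG htop
  have TB := TwoBalOf.twoBal FT P
  have hF : W1.Of.Faith G := faith FA heK hG P htop
  have hc := hcrit hs
  by_cases hex : ∃ (x a : G) (L : Subgroup G), IsTriple x a L
  · obtain ⟨x, a, L, T⟩ := hex
    have hB := TwoBalOf.hasB hk hG P T
    refine ⟨?_, ?_⟩
    · intro x a L₁ L₂ F F₁ C
      obtain ⟨x₀, e, t, L, B, S, hBL, hB2, hB4, hW⟩ := TConf.tconf P TB C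
      rw [← hW]
      exact (W1.Of.bot_of P TB hB hc hF S).eq B hBL hB2 hB4
    · intro O x a t L W T ot hne hta htx htL F _
      have S : TF x a t L := ⟨T, ot, hne, hta, htx, htL, fun r hr h1 =>
        ⟨_, WGlueA.pump_R P O T ot hne hta htx htL r hr h1⟩⟩
      obtain ⟨B, hBL, hB2, hB4⟩ := WGlue.exists_B P T
      rw [← F.eq B hBL hB2 hB4]
      exact (W1.Of.bot_of P TB hB hc hF S).eq B hBL hB2 hB4
  · push Not at hex
    exact ⟨fun x a L₁ L₂ F F₁ C => absurd C.T₁ (hex x a L₁), fun _ {x a t L W} T _ _ _ _ _ _ _ =>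
      absurd T (hex x a L)⟩

end Cfsg.Agent.UGT.Res.WPlug
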