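import Cfsg.Agent.UGT.Res.ThH
import Cfsg.Agent.S0215

/-!
# The full torus lies in `O(C(e))`

Hypotheses as in Theorem H (`ThH.Data`), but `Y ≤ L` may be smaller than the torus `T` of `C_L(e)`: instead of
`aut` and `pair` only: 2-elements of `N(L) ∩ C(Y)` act on `L` as `1` or `e` (`aut`), `e` is not inner on `L`
(`out`). If `s ∈ C_L(e)` is an involution inverting `Y`, then every element of odd order of
`C_L(e) ∩ C(Y)` inverted by `s` lies in `O(C(e))`.

Proof: `s` is isolated in `C(e,Y)⟨s⟩`; Glauberman's Z*-theorem.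
-/

set_option autoImplicit false

open Subgroup
open Cfsg.Agent.SignalizersComponents.IntrinsicBasic
open Cfsg.Agent.Intrinsic.Basic
open Cfsg.Agent.UGT.TriBase
open Cfsg.Agent.UGT.Res.ThH

namespace Cfsg.Agent.UGT.Res.Torus

variable {G : Type*} [Group G]

/-! ### `R⟨s⟩` -/

/-- `R ∪ R s` -/
def dbl (R : Subgroup G) (s : G) (hn : ∀ r ∈ R, s * r * s⁻¹ ∈ R) (hs : s * s = 1) : Subgroup G where
  carrier := {g | g ∈ R ∨ g * s ∈ R}
  one_mem' := Or.inl R.one_mem
  mul_mem' := by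
    have hs' : s⁻¹ = s := inv_eq_of_mul_eq_one_left hs
    rintro g h (hg | hg) (hh | hh)
    · exact Or.inl (R.mul_mem hg hh)
    · right
      rw [mul_assoc]
      exact R.mul_mem hg hh
    · right
      have h1 := R.mul_mem hg (hn h hh)
      have e : g * s * (s * h * s⁻¹) = g * h * s := by
        rw [hs']
        calc g * s * (s * h * s) = g * (s * s) * h * s := by group
          _ = g * h * s := by rw [hs, mul_one]
      rwa [e] at h1
    · left
      have h1 := R.mul_mem hg (hn _ hh)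
      have e : g * s * (s * (h * s) * s⁻¹) = g * h := by
        rw [hs']
        calc g * s * (s * (h * s) * s) = g * (s * s) * h * (s * s) := by group
          _ = g * h := by rw [hs, mul_one, mul_one]
      rwa [e] at h1
  inv_mem' := by
    have hs' : s⁻¹ = s := inv_eq_of_mul_eq_one_left hs
    rintro g (hg | hg)
    · exact Or.inl (R.inv_mem hg)
    · right
      have h1 := hn _ (R.inv_mem hg)
      have e : s * (g * s)⁻¹ * s⁻¹ = g⁻¹ * s := by
        rw [mul_inv_rev, hs']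
        calc s * (s * g⁻¹) * s = (s * s) * g⁻¹ * s := by group
          _ = g⁻¹ * s := by rw [hs, one_mul]
      rwa [e] at h1

variable {R : Subgroup G} {s : G} {hn : ∀ r ∈ R, s * r * s⁻¹ ∈ R} {hs : s * s = 1}

theorem mem_dbl {g : G} : g ∈ dbl R s hn hs ↔ g ∈ R ∨ g * s ∈ R := Iff.rfl

theorem le_dbl : R ≤ dbl R s hn hs := fun _ h => Or.inl h

theorem self_mem_dbl : s ∈ dbl R s hn hs := by
  right
  rw [hs]
  exact R.one_mem

theorem sq_mem_dbl {g : G} (hg : g ∈ dbl R s hn hs) : g * g ∈ R := by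
  have hs' : s⁻¹ = s := inv_eq_of_mul_eq_one_left hs
  rcases hg with hg | hg
  · exact R.mul_mem hg hg
  · have h1 := R.mul_mem hg (hn _ hg)
    have e : g * s * (s * (g * s) * s⁻¹) = g * g := by
      rw [hs']
      calc g * s * (s * (g * s) * s) = g * (s * s) * g * (s * s) := by group
        _ = g * g := by rw [hs, mul_one, mul_one]
    rwa [e] at h1

theorem isPGroup_dbl (hR : IsPGroup 2 ↥R) : IsPGroup 2 ↥(dbl R s hn hs) := by
  have hs' : s⁻¹ = s := inv_eq_of_mul_eq_one_left hs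
  rintro ⟨g, hg⟩
  have h1 : g * g ∈ R := by
    rcases hg with hg | hg
    · exact R.mul_mem hg hg
    · have h1 := R.mul_mem hg (hn _ hg)
      have e : g * s * (s * (g * s) * s⁻¹) = g * g := by
        rw [hs']
        calc g * s * (s * (g * s) * s) = g * (s * s) * g * (s * s) := by group
          _ = g * g := by rw [hs, mul_one, mul_one]
      rwa [e] at h1
  obtain ⟨k, hk⟩ := hR ⟨g * g, h1⟩
  refine ⟨k + 1, Subtype.ext ?_⟩
  have h2 : (g * g) ^ 2 ^ k = 1 := congrArg Subtype.val hk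
  change g ^ 2 ^ (k + 1) = 1
  rw [pow_succ', pow_mul, pow_two]
  exact h2

variable [Finite G]

/-- normalizers grow in 2-groups -/
theorem exists_norm {T U : Subgroup G} (hU : IsPGroup 2 ↥U) (hle : T ≤ U)
    (hne : ¬ U ≤ T) : ∃ y ∈ U, y ∉ T ∧ y ∈ normalizer (T : Set G) := by
  have : Fact (Nat.Prime 2) := ⟨Nat.prime_two⟩
  have hnil : Group.IsNilpotent U := hU.isNilpotent
  have hlt : T.subgroupOf U < ⊤ := by
    rw [lt_top_iff_ne_top]
    intro h
    exact hne (Subgroup.subgroupOf_eq_top.1 h)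
  have h1 := Group.normalizerCondition_of_isNilpotent (T.subgroupOf U) hlt
  obtain ⟨y, hy, hyT⟩ := Set.exists_of_ssubset h1
  refine ⟨y, y.2, fun h => hyT h, ?_⟩
  apply mem_normalizer_of_le
  intro g hg
  exact (Subgroup.mem_normalizer_iff.1 hy ⟨g, hle hg⟩).1 hg

omit [Finite G] in
theorem isSyl_dbl {E P : Subgroup G} (h : IsSyl E P) {s : G} (hs : s * s = 1)
    (hP : ∀ r ∈ P, s * r * s⁻¹ ∈ P) (hE : ∀ r ∈ E, s * r * s⁻¹ ∈ E) :
    IsSyl (dbl E s hE hs) (dbl P s hP hs) := by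
  refine ⟨isPGroup_dbl h.two, ?_, fun S' h1 h2 h3 => le_antisymm ?_ h3⟩
  · rintro g (hg | hg)
    · exact Or.inl (h.le hg)
    · exact Or.inr (h.le hg)
  · have h4 : S' ⊓ E = P := h.max _ (h1.to_le inf_le_left) inf_le_right
      (le_inf (le_dbl.trans h3) h.le)
    intro g hg
    rcases h2 hg with hgE | hgE
    · left
      rw [← h4]
      exact ⟨hg, hgE⟩
    · right
      rw [← h4]
      exact ⟨mul_mem hg (h3 self_mem_dbl), hgE⟩

/-! ### the hypotheses -/

/-- The hypotheses of Theorem H, without `aut` and `pair`, which are replaced by `aut`, `out`, `cen`. -/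
structure Pre (O : G → Subgroup G) (L Y : Subgroup G) (B : G → Prop) : Prop where
  Ocj : ∀ g t a : G, a ∈ O t → g * a * g⁻¹ ∈ O (g * t * g⁻¹)
  YL : Y ≤ L
  Yodd : Odd (Nat.card ↥Y)
  Ynn : ¬ L ≤ normalizer (Y : Set G)
  gen : ∀ H : Subgroup G, (∀ l ∈ L, ∀ a ∈ Y, l * a * l⁻¹ ∈ H) → L ≤ H
  inv : ∀ {e : G}, B e → orderOf e = 2
  mem : ∀ {e : G}, B e → e ∈ normalizer (L : Set G)
  core : ∀ {e : G}, B e → O e = Y
  comm : ∀ {e : G}, B e → ∀ a ∈ Y, e * a = a * e
  mul : ∀ {e t : G}, B e → t ∈ centralizer (L : Set G) → orderOf t = 2 → t * e = e * t → B (e * t)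
  one : ∀ {e : G}, B e → ∃ t : G, t ∈ centralizer (L : Set G) ∧ orderOf t = 2 ∧ t * e = e * t
  good : ∀ {e t : G}, B e → t ∈ centralizer (L : Set G) → orderOf t = 2 → t * e = e * t → Good L Y t
  aut : ∀ {e c : G}, B e → c ∈ normalizer (L : Set G) → c ∈ centralizer (Y : Set G) →
    (∃ n, c ^ 2 ^ n = 1) → c ∈ centralizer (L : Set G) ∨ c * e ∈ centralizer (L : Set G)
  out : ∀ {e l : G}, B e → l ∈ L → l * e ∉ centralizer (L : Set G)
  cen : ∀ l ∈ L, l ∈ centralizer (L : Set G) → Odd (orderOf l)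

variable {O : G → Subgroup G} {L Y : Subgroup G} {B : G → Prop}

theorem Pre.norm_O (D : Pre O L Y B) {c t : G} (h : c * t = t * c) :
    c ∈ normalizer (O t : Set G) := by
  apply mem_normalizer_of_le
  intro a ha
  have := D.Ocj c _ _ ha
  rwa [h, mul_inv_cancel_right] at this

theorem Pre.not_core (D : Pre O L Y B) {t : G} (h : t ∈ centralizer (L : Set G)) : O t ≠ Y := by
  intro h1
  apply D.Ynn
  intro l hl
  have := D.norm_O (mem_cen.mp h l hl)
  rwa [h1] at this

theorem Pre.mem_of_le (D : Pre O L Y B) {n w : G} (hn : n ∈ normalizer (Y : Set G))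
    (hw : Good L Y w) (h : ∀ l ∈ L, n * l * n⁻¹ * w = w * (n * l * n⁻¹)) :
    n ∈ normalizer (L : Set G) := by
  have h1 : ∀ l ∈ L, n * l * n⁻¹ ∈ normalizer (L : Set G) := by
    have := D.gen ((normalizer (L : Set G)).comap (MulAut.conj n).toMonoidHom) (by
      intro l hl a ha
      rw [mem_comap]
      change n * (l * a * l⁻¹) * n⁻¹ ∈ _
      have h2 := hw.move _ (h l hl) _ (conj_mem hn ha)
      convert h2 using 1
      group)
    intro l hl
    exact this hl
  apply mem_normalizer_of_le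
  have := D.gen (L.comap (MulAut.conj n).toMonoidHom) (by
    intro l hl a ha
    rw [mem_comap]
    change n * (l * a * l⁻¹) * n⁻¹ ∈ _
    have h2 := conj_mem (h1 l hl) (D.YL (conj_mem hn ha))
    convert h2 using 1
    group)
  intro l hl
  exact this hl

/-- an involution `w` of `K⟨e⟩ ∩ C(e)` that is `C(Y)`-conjugate to an element of `K` lies in `K` -/
theorem Pre.mem_K (D : Pre O L Y B) {e w z g : G} (he : B e) (hw : w * w = 1)
    (hwe : w * e = e * w) (hwK : w ∈ centralizer (L : Set G) ∨ w * e ∈ centralizer (L : Set G))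
    (hg : g ∈ centralizer (Y : Set G)) (hz : z ∈ centralizer (L : Set G)) (h : w = g * z * g⁻¹) :
    w ∈ centralizer (L : Set G) := by
  rcases hwK with h1 | h1
  · exact h1
  · exfalso
    have he2 := sq (D.inv he)
    have hBw : B w := by
      by_cases h2 : w * e = 1
      · have : w = e := by
          calc w = w * e * e := by rw [mul_assoc, he2, mul_one]
            _ = e := by rw [h2, one_mul]
        rwa [this]
      · have h3 : w * e * (w * e) = 1 := by
          calc w * e * (w * e) = w * (e * w) * e := by group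
            _ = (w * w) * (e * e) := by rw [← hwe]; group
            _ = 1 := by rw [hw, he2, one_mul]
        have h4 := D.mul he h1 (order_two h3 h2) (by
          calc w * e * e = w * (e * e) := by group
            _ = e * e * w := by rw [he2, mul_one, one_mul]
            _ = e * (w * e) := by rw [hwe]; group)
        have e1 : e * (w * e) = w := by rw [hwe, ← mul_assoc, he2, one_mul]
        rwa [e1] at h4
    apply D.not_core hz
    have h5 := D.core hBw
    have hgn : g⁻¹ ∈ normalizer (Y : Set G) := inv_mem (cen_le_norm Y hg)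
    have e2 : z = g⁻¹ * w * g⁻¹⁻¹ := by rw [h]; group
    ext a
    rw [e2]
    constructor
    · intro ha
      have h6 := D.Ocj g _ _ ha
      have e3 : g * (g⁻¹ * w * g⁻¹⁻¹) * g⁻¹ = w := by group
      rw [e3, h5] at h6
      have h7 := conj_mem hgn h6
      convert h7 using 1
      group
    · intro ha
      have h6 := conj_mem (inv_mem hgn) ha
      rw [inv_inv] at h6
      rw [← h5] at h6
      have h7 := D.Ocj g⁻¹ _ _ h6
      convert h7 using 1
      group

/-- `C(e) ∩ C(Y)` -/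
def C1 (Y : Subgroup G) (e : G) : Subgroup G :=
  centralizer ({e} : Set G) ⊓ centralizer (Y : Set G)

omit [Finite G] in
theorem mem_C1 {e c : G} : c ∈ C1 Y e ↔ c * e = e * c ∧ c ∈ centralizer (Y : Set G) := by
  rw [C1, mem_inf, mem_centralizer_singleton_iff]

/-- **(A)** `C_K(e)⟨e⟩` contains a Sylow 2-subgroup of `C(e) ∩ C(Y)` -/
theorem Pre.sylow (D : Pre O L Y B) {e : G} (he : B e) : ∃ P : Subgroup G, IsSyl (C1 Y e) P ∧
    (∀ p ∈ P, p ∈ centralizer (L : Set G) ∨ p * e ∈ centralizer (L : Set G)) ∧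
    ∃ z ∈ P, z ∈ centralizer (L : Set G) ∧ orderOf z = 2 ∧ ∀ p ∈ P, p * z = z * p := by
  have he2 := sq (D.inv he)
  have hei : e⁻¹ = e := inv_eq_of_mul_eq_one_left he2
  set K : Subgroup G := centralizer (L : Set G) with hK
  have hKY : K ≤ centralizer (Y : Set G) := centralizer_le D.YL
  obtain ⟨t, htK, ht2, hte⟩ := D.one he
  have hz2 : IsPGroup 2 ↥(zpowers t) :=
    Cfsg.Agent.SignalizersComponents.BalanceAux.isPGroup_zpowers_of_orderOf ht2
  obtain ⟨R, hR, htR⟩ := exists_isSyl (E := K ⊓ centralizer ({e} : Set G)) hz2 (by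
    rw [zpowers_le]
    exact ⟨htK, mem_centralizer_singleton_iff.mpr hte⟩)
  have hRK : ∀ r ∈ R, r ∈ K := fun r hr => (hR.le hr).1
  have hRe : ∀ r ∈ R, r * e = e * r := fun r hr => mem_centralizer_singleton_iff.mp (hR.le hr).2
  have hnR : ∀ r ∈ R, e * r * e⁻¹ ∈ R := by
    intro r hr
    rw [← hRe r hr, mul_inv_cancel_right]
    exact hr
  set P₀ := dbl R e hnR he2 with hP₀
  have hP₀2 : IsPGroup 2 ↥P₀ := isPGroup_dbl hR.two
  have heY : e ∈ centralizer (Y : Set G) := mem_cen.mpr fun a ha => (D.comm he a ha).symm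
  have hP₀e : ∀ p ∈ P₀, p * e = e * p := by
    rintro p (hp | hp)
    · exact hRe p hp
    · have h1 := hRe _ hp
      have h2 : p * e * e = e * p * e := by rw [h1, mul_assoc]
      exact mul_right_cancel h2
  have hP₀K : ∀ p ∈ P₀, p ∈ K ∨ p * e ∈ K := by
    rintro p (hp | hp)
    · exact Or.inl (hRK p hp)
    · exact Or.inr (hRK _ hp)
  have hP₀le : P₀ ≤ C1 Y e := by
    intro p hp
    rw [mem_C1]
    refine ⟨hP₀e p hp, ?_⟩
    rcases hP₀K p hp with h1 | h1
    · exact hKY h1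
    · have h2 := mul_mem (hKY h1) heY
      rwa [mul_assoc, he2, mul_one] at h2
  -- the subgroup `Ω₁(Z(P₀) ∩ K)`
  let E : Subgroup G :=
    { carrier := {z | z ∈ P₀ ∧ z ∈ K ∧ z * z = 1 ∧ ∀ p ∈ P₀, p * z = z * p}
      one_mem' := ⟨P₀.one_mem, K.one_mem, one_mul _, fun p _ => by rw [mul_one, one_mul]⟩
      mul_mem' := by
        rintro a b ⟨ha1, ha2, ha3, ha4⟩ ⟨hb1, hb2, hb3, hb4⟩
        refine ⟨P₀.mul_mem ha1 hb1, K.mul_mem ha2 hb2, ?_, fun p hp => ?_⟩
        · calc a * b * (a * b) = a * (b * a) * b := by group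
            _ = (a * a) * (b * b) := by rw [hb4 a ha1 |>.symm]; group
            _ = 1 := by rw [ha3, hb3, one_mul]
        · rw [← mul_assoc, ha4 p hp, mul_assoc, hb4 p hp, mul_assoc]
      inv_mem' := by
        rintro a ⟨ha1, ha2, ha3, ha4⟩
        have : a⁻¹ = a := inv_eq_of_mul_eq_one_left ha3
        rw [this]
        exact ⟨ha1, ha2, ha3, ha4⟩ }
  have hEmem : ∀ z, z ∈ E ↔ z ∈ P₀ ∧ z ∈ K ∧ z * z = 1 ∧ ∀ p ∈ P₀, p * z = z * p := fun z => Iff.rfl
  have hEne : E ≠ ⊥ := by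
    have hRne : R ≠ ⊥ := by
      intro h
      have h1 : t ∈ R := htR (mem_zpowers t)
      rw [h, mem_bot] at h1
      exact ne_one ht2 h1
    obtain ⟨z, hz1, hz2, hz3⟩ := exists_central hR.two le_rfl le_normalizer hRne
    intro h
    have h1 : z ∈ E := by
      rw [hEmem]
      refine ⟨le_dbl hz1, hRK z hz1, sq hz2, ?_⟩
      rintro p (hp | hp)
      · exact hz3 p hp
      · have h2 := hz3 _ hp
        have h3 : p * z * e = z * p * e := by
          calc p * z * e = p * (z * e) := by group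
            _ = p * e * z := by rw [hRe z hz1]; group
            _ = z * p * e := by rw [h2]; group
        exact mul_right_cancel h3
    rw [h, mem_bot] at h1
    exact ne_one hz2 h1
  -- elements of `C(e) ∩ C(Y)` normalizing `P₀` normalize `E`
  have hnE : ∀ n ∈ C1 Y e, n ∈ normalizer (P₀ : Set G) → ∀ z ∈ E, n * z * n⁻¹ ∈ E := by
    intro n hn hnP z hz
    rw [mem_C1] at hn
    rw [hEmem] at hz ⊢
    have h1 : n * z * n⁻¹ ∈ P₀ := conj_mem hnP hz.1
    have h2 : n * z * n⁻¹ * (n * z * n⁻¹) = 1 := conj_mul_self hz.2.2.1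
    refine ⟨h1, ?_, h2, ?_⟩
    · exact D.mem_K he h2 (hP₀e _ h1) (hP₀K _ h1) hn.2 hz.2.1 rfl
    · intro p hp
      have h4 := hz.2.2.2 _ (conj_mem' hnP hp)
      calc p * (n * z * n⁻¹) = n * ((n⁻¹ * p * n) * z) * n⁻¹ := by group
        _ = n * (z * (n⁻¹ * p * n)) * n⁻¹ := by rw [h4]
        _ = n * z * n⁻¹ * p := by group
  obtain ⟨P, hP, hP₀P⟩ := exists_isSyl hP₀2 hP₀le
  have hPP₀ : P ≤ P₀ := by
    by_contra hne
    obtain ⟨n, hnP, hn0, hnn⟩ := exists_norm hP.two hP₀P hne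
    -- the 2-group `T = N_P(P₀)`
    obtain ⟨T, hT⟩ : ∃ T, T = P ⊓ normalizer (P₀ : Set G) := ⟨_, rfl⟩
    have hT2 : IsPGroup 2 ↥T := by rw [hT]; exact hP.two.to_le inf_le_left
    have hP₀T : P₀ ≤ T := by rw [hT]; exact le_inf hP₀P le_normalizer
    have hET : E ≤ T := fun z hz => hP₀T ((hEmem z).mp hz).1
    have hTE : T ≤ normalizer (E : Set G) := by
      intro y hy
      rw [hT] at hy
      exact mem_normalizer_of_le (hnE y (hP.le hy.1) hy.2)
    obtain ⟨z, hzE, hz2, hzT⟩ := exists_central hT2 hET hTE hEne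
    have hzE' := (hEmem z).mp hzE
    have hgood := D.good he hzE'.2.1 hz2 (hP₀e z hzE'.1)
    have hnT : n ∈ T := by rw [hT]; exact ⟨hnP, hnn⟩
    have hnC := mem_C1.mp (hP.le hnP)
    have hnL : n ∈ normalizer (L : Set G) :=
      hgood.norm n (hzT n hnT) (cen_le_norm Y hnC.2)
    have hn2 : ∃ k, n ^ 2 ^ k = 1 := by
      obtain ⟨k, hk⟩ := hP.two ⟨n, hnP⟩
      exact ⟨k, congrArg Subtype.val hk⟩
    have hPK : P ⊓ (K ⊓ centralizer ({e} : Set G)) = R := by
      refine hR.max _ (hP.two.to_le inf_le_left) inf_le_right (le_inf (le_dbl.trans hP₀P) hR.le)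
    apply hn0
    rcases D.aut he hnL hnC.2 hn2 with h1 | h1
    · left
      rw [← hPK]
      exact ⟨hnP, h1, mem_centralizer_singleton_iff.mpr hnC.1⟩
    · right
      rw [← hPK]
      exact ⟨mul_mem hnP (hP₀P self_mem_dbl), h1, mul_mem (mem_centralizer_singleton_iff.mpr hnC.1)
        (mem_centralizer_singleton_iff.mpr rfl)⟩
  have hPeq : P = P₀ := le_antisymm hPP₀ hP₀P
  subst hPeq
  obtain ⟨z, hzE, hz2, -⟩ := exists_central (T := P₀) (N := E) hP₀2
    (fun z hz => ((hEmem z).mp hz).1) (by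
      intro y hy
      exact mem_normalizer_of_le (hnE y (hP.le hy) (le_normalizer hy))) hEne
  have hzE' := (hEmem z).mp hzE
  exact ⟨P₀, hP, hP₀K, z, hzE'.1, hzE'.2.1, hz2, hzE'.2.2.2⟩

omit [Finite G] in
theorem Pre.not_inv (D : Pre O L Y B) {w : G} (hw : w ∈ centralizer (Y : Set G))
    (h : ∀ a ∈ Y, w * a * w⁻¹ = a⁻¹) : False := by
  apply D.Ynn
  have hY : Y = ⊥ := by
    rw [eq_bot_iff]
    intro y hy
    rw [mem_bot]
    have h1 := h y hy
    have h2 : w * y * w⁻¹ = y := by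
      rw [← commYK hy hw, mul_inv_cancel_right]
    rw [h2] at h1
    have h3 : y * y = 1 := by
      nth_rewrite 1 [h1]
      exact inv_mul_cancel y
    exact eq_one_of_mem_odd D.Yodd hy (n := 1) (by rw [pow_one, pow_two]; exact h3)
  intro l _
  rw [hY, mem_normalizer_iff]
  intro y
  rw [mem_bot, mem_bot]
  constructor
  · rintro rfl
    group
  · intro h1
    have : y = l⁻¹ * (l * y * l⁻¹) * l := by group
    rw [this, h1]; group

/-- **(C)** `s` is isolated -/
theorem Pre.isolated (D : Pre O L Y B) {e s : G} (he : B e) (hs : s ∈ L) (hs2 : orderOf s = 2)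
    (hinv : ∀ a ∈ Y, s * a * s⁻¹ = a⁻¹) {P : Subgroup G}
    (hP : IsSyl (C1 Y e) P)
    (hPK : ∀ p ∈ P, p ∈ centralizer (L : Set G) ∨ p * e ∈ centralizer (L : Set G)) {z : G}
    (hz : z ∈ P) (hzK : z ∈ centralizer (L : Set G)) (hz2 : orderOf z = 2)
    (hzP : ∀ p ∈ P, p * z = z * p) (hPs : ∀ r ∈ P, s * r = r * s) {g : G} (hg : g ∈ C1 Y e)
    (h : g * s * g⁻¹ ∈ P ∨ g * s * g⁻¹ * s ∈ P) : g * s * g⁻¹ = s := by
  have hss := sq hs2
  have hsi : s⁻¹ = s := inv_eq_of_mul_eq_one_left hss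
  have hgC := mem_C1.mp hg
  obtain ⟨s', hs'⟩ : ∃ s', s' = g * s * g⁻¹ := ⟨_, rfl⟩
  rw [← hs'] at h ⊢
  have hinv' : ∀ a ∈ Y, s' * a * s'⁻¹ = a⁻¹ := by
    intro a ha
    have h1 : g⁻¹ * a * g = a := by
      rw [mul_assoc, commYK ha hgC.2, ← mul_assoc, inv_mul_cancel, one_mul]
    have h2 : g * a⁻¹ * g⁻¹ = a⁻¹ := by
      rw [← commYK (inv_mem ha) hgC.2, mul_inv_cancel_right]
    calc s' * a * s'⁻¹ = g * (s * (g⁻¹ * a * g) * s⁻¹) * g⁻¹ := by rw [hs']; group
      _ = a⁻¹ := by rw [h1, hinv a ha, h2]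
  rcases h with h | h
  · exact (D.not_inv (mem_C1.mp (hP.le h)).2 hinv').elim
  · -- `z` commutes with `s'`
    have hzs : s * z = z * s := hPs z hz
    have hzs' : s' * z = z * s' := by
      have e1 : s' = s' * s * s := by rw [mul_assoc, hss, mul_one]
      rw [e1, mul_assoc, hzs, ← mul_assoc, hzP _ h, mul_assoc]
    have hw0s : g⁻¹ * z * g * s = s * (g⁻¹ * z * g) := by
      have e1 : s = g⁻¹ * s' * g := by rw [hs']; group
      calc g⁻¹ * z * g * s = g⁻¹ * (z * s') * g := by rw [hs']; group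
        _ = g⁻¹ * (s' * z) * g := by rw [hzs']
        _ = s * (g⁻¹ * z * g) := by rw [hs']; group
    have hw0C : g⁻¹ * z * g ∈ C1 Y e := mul_mem (mul_mem (inv_mem hg) (hP.le hz)) hg
    have hX : IsSyl (C1 Y e ⊓ centralizer ({s} : Set G)) P := by
      refine ⟨hP.two, fun r hr => ⟨hP.le hr, mem_centralizer_singleton_iff.mpr (hPs r hr).symm⟩, ?_⟩
      intro R' h1 h2 h3
      exact hP.max R' h1 (h2.trans inf_le_left) h3
    have hw02 : orderOf (g⁻¹ * z * g) = 2 := by
      have := order_conj g⁻¹ hz2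
      rwa [inv_inv] at this
    obtain ⟨c, hc, hcw⟩ := hX.conj (R' := zpowers (g⁻¹ * z * g))
      (Cfsg.Agent.SignalizersComponents.BalanceAux.isPGroup_zpowers_of_orderOf hw02) (by
        rw [zpowers_le]
        exact ⟨hw0C, mem_centralizer_singleton_iff.mpr hw0s⟩)
    have hw := hcw (mem_zpowers _)
    rw [mem_cj] at hw
    have hcC := mem_C1.mp hc.1
    have hcs : c * s = s * c := mem_centralizer_singleton_iff.mp hc.2
    obtain ⟨n, hn⟩ : ∃ n, n = (g * c)⁻¹ := ⟨_, rfl⟩
    have hwn : c⁻¹ * (g⁻¹ * z * g) * c = n * z * n⁻¹ := by rw [hn]; group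
    rw [hwn] at hw
    have hnY : n ∈ centralizer (Y : Set G) := by
      rw [hn]; exact inv_mem (mul_mem hgC.2 hcC.2)
    have hwC := mem_C1.mp (hP.le hw)
    have hwK : n * z * n⁻¹ ∈ centralizer (L : Set G) :=
      D.mem_K he (conj_mul_self (sq hz2)) hwC.1 (hPK _ hw) hnY hzK rfl
    have hgood := D.good he hwK (order_conj n hz2) hwC.1
    have hnL : n ∈ normalizer (L : Set G) := by
      refine D.mem_of_le (cen_le_norm Y hnY) hgood ?_
      intro l hl
      have h3 := mem_cen.mp hzK l hl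
      calc n * l * n⁻¹ * (n * z * n⁻¹) = n * (l * z) * n⁻¹ := by group
        _ = n * (z * l) * n⁻¹ := by rw [h3]
        _ = n * z * n⁻¹ * (n * l * n⁻¹) := by group
    have hgcL : g * c ∈ normalizer (L : Set G) := by
      have := inv_mem hnL
      rwa [hn, inv_inv] at this
    have hs'L : s' ∈ L := by
      have h3 := conj_mem hgcL hs
      have e1 : g * c * s * (g * c)⁻¹ = s' := by
        rw [hs']
        calc g * c * s * (g * c)⁻¹ = g * (c * s) * c⁻¹ * g⁻¹ := by group
          _ = g * s * g⁻¹ := by rw [hcs]; group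
      rwa [e1] at h3
    have hpL : s' * s ∈ L := L.mul_mem hs'L hs
    have hp2 : ∃ k, (s' * s) ^ 2 ^ k = 1 := by
      obtain ⟨k, hk⟩ := hP.two ⟨_, h⟩
      exact ⟨k, congrArg Subtype.val hk⟩
    have hpK : s' * s ∈ centralizer (L : Set G) := by
      rcases D.aut he (le_normalizer hpL) (mem_C1.mp (hP.le h)).2 hp2 with h3 | h3
      · exact h3
      · exact absurd h3 (D.out he hpL)
    have hodd := D.cen _ hpL hpK
    have h1 : s' * s = 1 := by
      obtain ⟨k, hk⟩ := hp2
      have h3 : Odd (Nat.card ↥(zpowers (s' * s))) := by rwa [Nat.card_zpowers]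
      exact eq_one_of_mem_odd h3 (mem_zpowers _) hk
    calc s' = s' * s * s := by rw [mul_assoc, hss, mul_one]
      _ = s := by rw [h1, one_mul]

/-- **STEP 0** the elements of odd order of `C(e) ∩ C(Y)` inverted by `s` lie in `O(C(e))` -/
theorem Pre.mem_core (D : Pre O L Y B) {e s : G} (he : B e) (hs : s ∈ L) (hs2 : orderOf s = 2)
    (hse : s * e = e * s) (hinv : ∀ a ∈ Y, s * a * s⁻¹ = a⁻¹) {t : G} (hte : t * e = e * t)
    (htY : t ∈ centralizer (Y : Set G)) (hst : s * t * s⁻¹ = t⁻¹) (hto : Odd (orderOf t)) :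
    t ∈ Cfsg.Agent.Intrinsic.Basic.core (centralizer ({e} : Set G)) := by
  have hss := sq hs2
  have he2 := sq (D.inv he)
  have hsi : s⁻¹ = s := inv_eq_of_mul_eq_one_left hss
  obtain ⟨P, hP, hPK, z, hz, hzK, hz2, hzP⟩ := D.sylow he
  have hPs : ∀ r ∈ P, s * r = r * s := by
    intro r hr
    rcases hPK r hr with h | h
    · exact mem_cen.mp h s hs
    · have h1 := mem_cen.mp h s hs
      have h2 : s * r * e = r * s * e := by
        calc s * r * e = s * (r * e) := by group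
          _ = r * (e * s) := by rw [h1]; group
          _ = r * s * e := by rw [← hse]; group
      exact mul_right_cancel h2
  have hnP : ∀ r ∈ P, s * r * s⁻¹ ∈ P := by
    intro r hr
    rw [hPs r hr, mul_inv_cancel_right]
    exact hr
  have hnC : ∀ r ∈ C1 Y e, s * r * s⁻¹ ∈ C1 Y e := by
    intro r hr
    rw [mem_C1] at hr ⊢
    refine ⟨?_, mem_cen.mpr fun a ha => ?_⟩
    · rw [hsi]
      calc s * r * s * e = s * r * (s * e) := by group
        _ = s * (r * e) * s := by rw [hse]; group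
        _ = (s * e) * r * s := by rw [hr.1]; group
        _ = e * (s * r * s) := by rw [hse]; group
    · -- `a s r s⁻¹ = s r s⁻¹ a`
      have h1 : s⁻¹ * a * s = a⁻¹ := by
        rw [hsi]
        have := hinv a ha
        rwa [hsi] at this
      have h2 : s * a⁻¹ * s⁻¹ = a := by
        have := hinv _ (inv_mem ha)
        rwa [inv_inv] at this
      have h3 := commYK (inv_mem ha) hr.2
      calc a * (s * r * s⁻¹) = s * (s⁻¹ * a * s) * r * s⁻¹ := by group
        _ = s * (a⁻¹ * r) * s⁻¹ := by rw [h1]; group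
        _ = s * r * (s⁻¹ * (s * a⁻¹ * s⁻¹)) := by rw [h3]; group
        _ = s * r * s⁻¹ * a := by rw [h2]; group
  obtain ⟨Γ, hΓ⟩ : ∃ Γ, Γ = dbl (C1 Y e) s hnC hss := ⟨_, rfl⟩
  obtain ⟨S, hS⟩ : ∃ S, S = dbl P s hnP hss := ⟨_, rfl⟩
  have hSyl : IsSyl Γ S := by rw [hΓ, hS]; exact isSyl_dbl hP hss hnP hnC
  have hsΓ : s ∈ Γ := by rw [hΓ]; exact self_mem_dbl
  have hC1Γ : C1 Y e ≤ Γ := by rw [hΓ]; exact le_dbl
  have hsq : ∀ g ∈ Γ, g * g ∈ C1 Y e := by
    intro g hg
    rw [hΓ] at hg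
    exact sq_mem_dbl hg
  -- Z*
  obtain ⟨Q, hQ⟩ := hSyl.exists_sylow
  have hSQ : ∀ x : ↥Γ, x ∈ (Q : Subgroup ↥Γ) → (x : G) ∈ S := by
    intro x hx
    rw [← hQ]
    exact ⟨x, hx, rfl⟩
  have hQS : ∀ x : ↥Γ, (x : G) ∈ S → x ∈ (Q : Subgroup ↥Γ) := by
    intro x hx
    rw [← hQ] at hx
    obtain ⟨y, hy, hyx⟩ := hx
    rwa [show x = y from Subtype.ext hyx.symm]
  have hsS : s ∈ S := by rw [hS]; exact self_mem_dbl
  obtain ⟨N, hN, hNodd, hNc⟩ := Cfsg.Agent.S0215.result Q ⟨s, hsΓ⟩ (by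
      rw [← Subgroup.orderOf_coe]; exact hs2) (hQS _ hsS) (by
      rintro ⟨g, hg⟩ h
      have h1 := hSQ _ h
      change g * s * g⁻¹ ∈ S at h1
      apply Subtype.ext
      change g * s * g⁻¹ = s
      rw [hS] at h1
      rw [hΓ] at hg
      rcases hg with hg | hg
      · exact D.isolated he hs hs2 hinv hP hPK hz hzK hz2 hzP hPs hg h1
      · have e1 : g * s * s * (g * s)⁻¹ = g * s * g⁻¹ := by group
        have := D.isolated he hs hs2 hinv hP hPK hz hzK hz2 hzP hPs hg
        rw [e1] at this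
        exact this h1)
  have hNle : N.map Γ.subtype ≤ Cfsg.Agent.Intrinsic.Basic.core Γ := by
    apply le_core
    · rintro _ ⟨x, -, rfl⟩
      exact x.2
    · intro g hg
      apply mem_normalizer_of_le
      rintro _ ⟨x, hx, rfl⟩
      exact ⟨_, hN.conj_mem x hx ⟨g, hg⟩, rfl⟩
    · rw [card_map_of_injective Γ.subtype_injective]
      exact hNodd
  have htC : t ∈ C1 Y e := mem_C1.mpr ⟨hte, htY⟩
  have htcore : t ∈ Cfsg.Agent.Intrinsic.Basic.core Γ := by
    have h1 : s * t * s⁻¹ * t⁻¹ ∈ Cfsg.Agent.Intrinsic.Basic.core Γ := by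
      apply hNle
      exact ⟨_, hNc ⟨t, hC1Γ htC⟩, rfl⟩
    rw [hst] at h1
    have h2 : t * t ∈ Cfsg.Agent.Intrinsic.Basic.core Γ := by
      have := inv_mem h1
      rwa [mul_inv_rev, inv_inv] at this
    obtain ⟨k, hk⟩ := hto
    have h3 := pow_mem h2 (k + 1)
    have h4 : (t * t) ^ (k + 1) = t := by
      rw [← pow_two, ← pow_mul]
      have : 2 * (k + 1) = (2 * k + 1) + 1 := by ring
      rw [this, ← hk, pow_succ, pow_orderOf_eq_one, one_mul]
    rwa [h4] at h3
  have hcoreC : Cfsg.Agent.Intrinsic.Basic.core Γ ≤ C1 Y e := by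
    intro g hg
    have h1 := hsq g (core_le _ hg)
    have h2 : Odd (orderOf g) := by
      have h3 := odd_card_core Γ
      refine Odd.of_dvd_nat h3 ?_
      have := orderOf_dvd_natCard (⟨g, hg⟩ : ↥(Cfsg.Agent.Intrinsic.Basic.core Γ))
      rwa [← Subgroup.orderOf_coe] at this
    obtain ⟨k, hk⟩ := h2
    have h3 := pow_mem h1 (k + 1)
    have h4 : (g * g) ^ (k + 1) = g := by
      rw [← pow_two, ← pow_mul]
      have : 2 * (k + 1) = (2 * k + 1) + 1 := by ring
      rw [this, ← hk, pow_succ, pow_orderOf_eq_one, one_mul]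
    rwa [h4] at h3
  have h5 : Cfsg.Agent.Intrinsic.Basic.core Γ ≤ Cfsg.Agent.Intrinsic.Basic.core (C1 Y e) :=
    le_core hcoreC (hC1Γ.trans (le_normalizer_core Γ)) (odd_card_core Γ)
  have h6 : Cfsg.Agent.Intrinsic.Basic.core (C1 Y e) ≤ Cfsg.Agent.Intrinsic.Basic.core (centralizer ({e} : Set G)) := by
    apply le_core ((core_le _).trans inf_le_left) ?_ (odd_card_core _)
    refine le_trans ?_ (normalizer_le_normalizer_core (C1 Y e))
    intro c hc
    have hce : c * e = e * c := mem_centralizer_singleton_iff.mp hc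
    have hcY : c ∈ normalizer (Y : Set G) := by
      have := D.norm_O hce
      rwa [D.core he] at this
    apply mem_normalizer_of_le
    intro r hr
    rw [mem_C1] at hr ⊢
    constructor
    · have hci : c⁻¹ * e = e * c⁻¹ := by
        rw [inv_mul_eq_iff_eq_mul, ← mul_assoc, hce, mul_inv_cancel_right]
      calc c * r * c⁻¹ * e = c * r * (c⁻¹ * e) := by group
        _ = c * (r * e) * c⁻¹ := by rw [hci]; group
        _ = (c * e) * r * c⁻¹ := by rw [hr.1]; group
        _ = e * (c * r * c⁻¹) := by rw [hce]; group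
    · rw [mem_cen]
      intro a ha
      have h7 := commYK (conj_mem' hcY ha) hr.2
      calc a * (c * r * c⁻¹) = c * ((c⁻¹ * a * c) * r) * c⁻¹ := by group
        _ = c * (r * (c⁻¹ * a * c)) * c⁻¹ := by rw [h7]
        _ = c * r * c⁻¹ * a := by group
  exact h6 (h5 htcore)

end Cfsg.Agent.UGT.Res.Torus
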