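import Cfsg.Agent.UGT.Res.DiagTools
import Cfsg.Agent.UGT.Res.Hon
import Cfsg.Agent.UGT.Res.WFun

/-!
# Two triples `(x, a, L₁)`, `(x, a, L₂)`

World (`World G Q`, for the triples of type `Q`): pump-ups are of type `Q`, trivial or diagonal, the B-property of the
`C(v)`, `Δ(V) = 1` for the four-groups `V ≤ ⟨a⟩ L₂`. For `Pgl G` and `Q = True` see `TwoSup.lean`.

* `honest`: `O(L₁) = 1`, `L₁` centralizes `O(C(a))` and `L₂`.
* `exists_pair`: there are triples `(x', e, N)`, `(x', e, N')`, `N ≠ N'`, such that `N` is a component of `C(t)` for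
  all involutions `t` of `N'` and conversely.
-/

set_option autoImplicit false

open Cfsg Subgroup
open Cfsg.Agent.SignalizersComponents Cfsg.Agent.Lib
open Cfsg.Agent.SignalizersComponents.IntrinsicBasic
open Cfsg.Agent.SignalizersComponents.PLayerAut
open Cfsg.Agent.Intrinsic.Basic Cfsg.Agent.Intrinsic.Cen Cfsg.Agent.Intrinsic.Diag
open Cfsg.Agent.McLLyComp.Act
open Cfsg.Agent.UGT.Triple Cfsg.Agent.UGT.LemG Cfsg.Agent.UGT.PumpGen Cfsg.Agent.UGT.TriBase
open Cfsg.Agent.UGT.Res.Base Cfsg.Agent.UGT.Res.Abel Cfsg.Agent.UGT.Res.KFacts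
open Cfsg.Agent.UGT.Res.CoreFree Cfsg.Agent.UGT.Res.WFun
open Cfsg.Agent.UGT.Res.DiagTools
open Cfsg.Agent.UGT.Res.Hon (comm_of_fixes)
open scoped commutatorElement

namespace Cfsg.Agent.UGT.Res.TwoPair

universe u

/-- a triple of type `Q` -/
structure Tri {G : Type*} [Group G] (Q : Subgroup G → Prop) (x a : G) (L : Subgroup G) : Prop extends
    IsTriple x a L where
  q : Q L

/-- The hypotheses, for the triples of type `Q`. -/
structure World (G : Type u) [Group G] (Q : Subgroup G → Prop) : Prop where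
  Qcj : ∀ {L : Subgroup G} (g : G), Q L → Q (IntrinsicBasic.cj g L)
  /-- an involution of `L` fixed by `x` -/
  ex : ∀ {x a : G} {L : Subgroup G}, Tri Q x a L → ∃ s ∈ L, orderOf s = 2 ∧ s * x = x * s
  four : ∀ {x a s : G} {L : Subgroup G}, Tri Q x a L → s ∈ L → orderOf s = 2 →
    ∃ f ∈ L, orderOf f = 2 ∧ f ≠ s ∧ s * f = f * s
  simp : ∀ {x a l : G} {L : Subgroup G}, Tri Q x a L → l ∈ L → l * l = 1 → Fixes l L → l = 1
  /-- pump-ups are of type `Q`, trivial or diagonal -/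
  pump : ∀ {x a c : G} {L : Subgroup G}, Tri Q x a L → orderOf c = 2 → c * a = a * c → c * x = x * c →
    Fixes c L → ∃ N, Tri Q x c N ∧ (cen L c ⊔ core N = N ∨
      (IntrinsicBasic.cj a N ≠ N ∧ cen L c = diag (centralizer ({c} : Set G)) N a))
  /-- the involutions of `L` are conjugate if `O(L) = 1` -/
  conj : ∀ {x a f g : G} {L : Subgroup G}, Tri Q x a L → core L = ⊥ → f ∈ L → g ∈ L → orderOf f = 2 →
    orderOf g = 2 → ∃ l ∈ L, l * f * l⁻¹ = g
  B : ∀ v : G, orderOf v = 2 → HasBProperty ↥(centralizer ({v} : Set G))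
  D : ∀ {x a : G} {L₁ L₂ F : Subgroup G}, Tri Q x a L₁ → Tri Q x a L₂ → L₁ ≠ L₂ →
    IsElementaryAbelian 2 F → 8 ≤ Nat.card ↥F → a ∈ F → (∀ f ∈ F, f ∈ L₂ ∨ a * f ∈ L₂) →
    ∀ u ∈ F, u ≠ 1 → ∀ v ∈ F, v ≠ 1 → u ≠ v → DTriv u v

variable {G : Type u} [Group G] [Finite G] {Q : Subgroup G → Prop}

omit [Finite G] in
theorem World.cj (W : World G Q) {x a : G} {L : Subgroup G} (T : Tri Q x a L) (g : G) :
    Tri Q (g * x * g⁻¹) (g * a * g⁻¹) (IntrinsicBasic.cj g L) := ⟨T.toIsTriple.cj g, W.Qcj g T.q⟩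

/-! ### tools -/

section tools

variable {X P J : Subgroup G}

/-- an element of `X` commuting with `J ≤ P` normalizes the 2-component `P` of `X` (`J` a 2-component of some
group) -/
theorem norm_of_comm {Y : Subgroup G} (hP : IsComp X P) (hJ : IsComp Y J) (hJP : J ≤ P) {f : G}
    (hf : f ∈ X) (hfJ : ∀ j ∈ J, f * j = j * f) : f ∈ normalizer (P : Set G) := by
  rw [mem_normalizer_iff_cj]
  refine hJ.unique (isComp_cj_of_mem hP hf) hP ?_ hJP
  intro j hj
  rw [mem_cj]
  have h1 : f⁻¹ * j * f = j := by rw [mul_assoc, ← hfJ j hj, inv_mul_cancel_left]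
  rw [h1]
  exact hJP hj

/-- and fixes `P` if `J` covers `P / O(P)` -/
theorem fixes_of_cover {Y : Subgroup G} (hP : IsComp X P) (hJ : IsComp Y J) (hs : J ⊔ core P = P) {f : G}
    (hf : f ∈ X) (hfJ : ∀ j ∈ J, f * j = j * f) : Fixes f P := by
  have hJP : J ≤ P := by rw [← hs]; exact le_sup_left
  have h1 := norm_of_comm hP hJ hJP hf hfJ
  have h2 : Fixes f J := fixes_self' fun j hj => mem_c (hfJ j hj).symm
  exact (fixes_iff_of_sup hs h2.1 h1).mp h2

/-- `P = J` if `P` centralizes `O(X)` and `O(J) = 1` -/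
theorem eq_of_honest (hP : IsComp X P) (hs : J ⊔ core P = P) (hJ : core J = ⊥)
    (hc : P ≤ centralizer (core X : Set G)) : P = J := by
  have hJP : J ≤ P := by rw [← hs]; exact le_sup_left
  refine le_antisymm (hP.le_of_two fun l hl n hn => ?_) hJP
  obtain ⟨j, hj, hjl⟩ := exists_mul_of_sup hs hl
  obtain ⟨c, hc'⟩ : ∃ c, c = j⁻¹ * l := ⟨_, rfl⟩
  rw [← hc'] at hjl
  have hl' : l = j * c := by rw [hc']; group
  have hcj : Commute j c := (mem_centralizer_iff.mp (hc (hJP hj)) c (hP.core_le_core hjl)).symm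
  have h1 : j ^ 2 ^ n * c ^ 2 ^ n = 1 := by rw [← hcj.mul_pow, ← hl', hn]
  have h2 : j ^ 2 ^ n ∈ core J := by
    rw [core_of_sup hs]
    refine ⟨pow_mem hj _, ?_⟩
    rw [eq_inv_of_mul_eq_one_left h1]
    exact (core P).inv_mem (pow_mem hjl _)
  rw [hJ, mem_bot] at h2
  rw [h2, one_mul] at h1
  rw [hl', eq_one_of_mem_core hjl h1, mul_one]
  exact hj

omit [Finite G] in
/-- `Δ` is symmetric -/
theorem DTriv.symm {u v : G} (h : DTriv u v) (huv : u * v = v * u) : DTriv v u := fun c h1 h2 h3 =>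
  h c h2 h1 (by rwa [huv])

end tools

/-! ### the group `⟨a⟩ F₂` -/

/-- `F = ⟨a⟩ F₂`, `F₂` a four-group of `L` containing `s` -/
structure FF (a s : G) (L F : Subgroup G) : Prop where
  el : IsElementaryAbelian 2 F
  card : 8 ≤ Nat.card ↥F
  aF : a ∈ F
  sF : s ∈ F
  or : ∀ f ∈ F, f ∈ L ∨ a * f ∈ L

theorem exists_FF (W : World G Q) {x a s : G} {L : Subgroup G} (T : Tri Q x a L) (hs : s ∈ L)
    (ho : orderOf s = 2) : ∃ F, FF a s L F := by
  obtain ⟨f, hf, hfo, hfs, hsf⟩ := W.four T hs ho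
  have haa := sq_of_order T.inva
  have hss := sq_of_order ho
  have hff := sq_of_order hfo
  have hc1 : ∀ e ∈ zpowers s, ∀ b ∈ zpowers f, e * b = b * e := by
    intro e he b hb
    obtain ⟨m, rfl⟩ := mem_zpowers_iff.mp he
    obtain ⟨n, rfl⟩ := mem_zpowers_iff.mp hb
    exact ((show Commute s f from hsf).zpow_zpow m n).eq
  obtain ⟨A, hA⟩ : ∃ A, A = zpowers s ⊔ zpowers f := ⟨_, rfl⟩
  have hAL : A ≤ L := hA ▸ sup_le (zpowers_le.mpr hs) (zpowers_le.mpr hf)
  have elA : IsElementaryAbelian 2 A := hA ▸ el_sup (el_zpowers hss) (el_zpowers hff) hc1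
  have hc2 : ∀ e ∈ A, a * e = e * a := fun e he => (comm_c (T.comp.le (hAL he))).symm
  have hcA : 4 ≤ Nat.card ↥A := by
    have h2 := two_mul_card_le (A := zpowers s) (E := A) (hA ▸ le_sup_left) (fun h => by
      have h3 : f ∈ zpowers s := by
        rw [h, hA]
        exact mem_sup_right (mem_zpowers f)
      rcases (mem_zpowers_of_sq hss).mp h3 with h4 | h4
      · exact ne_one_of_order hfo h4
      · exact hfs h4)
    have h3 : Nat.card ↥(zpowers s) = 2 := by rw [Nat.card_zpowers, ho]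
    omega
  have hc3 : ∀ e ∈ zpowers a, ∀ b ∈ A, e * b = b * e := by
    intro e he b hb
    rcases (mem_zpowers_of_sq haa).mp he with rfl | rfl
    · rw [one_mul, mul_one]
    · exact hc2 b hb
  refine ⟨zpowers a ⊔ A, el_sup (el_zpowers haa) elA hc3, ?_, mem_sup_left (mem_zpowers a),
    mem_sup_right (hA ▸ mem_sup_left (mem_zpowers s)), fun z hz => ?_⟩
  · have h2 := two_mul_card_le (A := A) (E := zpowers a ⊔ A) le_sup_right (fun h => by
      have h3 : a ∈ A := by
        rw [h]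
        exact mem_sup_left (mem_zpowers a)
      exact ne_one_of_order T.inva (W.simp T (hAL h3) haa (fixes_self' T.comp.le)))
    omega
  · rcases (mem_zpowers_sup haa hc2).mp hz with h | h
    · exact Or.inl (hAL h)
    · exact Or.inr (hAL h)

section two

variable {x a s : G} {L₁ L₂ F : Subgroup G}

omit [Finite G] in
theorem FF.comm (h : FF a s L₂ F) {e f : G} (he : e ∈ F) (hf : f ∈ F) : e * f = f * e :=
  comm_of_el h.el he hf

/-- the elements of `F` fix `L₁` -/
theorem FF.fixes (h : FF a s L₂ F) (T₁ : Tri Q x a L₁) (T₂ : Tri Q x a L₂) (hne : L₁ ≠ L₂)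
    {f : G} (hf : f ∈ F) : Fixes f L₁ := by
  have ha : Fixes a L₁ := fixes_self' T₁.comp.le
  rcases h.or f hf with h1 | h1
  · exact T₁.comp.fixes_of_mem T₂.comp hne h1
  · have h2 := fixes_mul ha (T₁.comp.fixes_of_mem T₂.comp hne h1)
    rwa [← mul_assoc, sq_of_order T₁.inva, one_mul] at h2

/-- the core of `L` in the core of `C(c)` -/
theorem core_le_of_pump (W : World G Q) (T : Tri Q x a L₁) {c : G} (hc : orderOf c = 2)
    (hca : c * a = a * c) (hcx : c * x = x * c) (hcL : L₁ ≤ centralizer ({c} : Set G)) :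
    core L₁ ≤ core (centralizer ({c} : Set G)) := by
  have hf : Fixes c L₁ := fixes_self' hcL
  have hcen : cen L₁ c = L₁ := CoreFree.cen_eq T.comp hcL
  obtain ⟨N, S, hor⟩ := W.pump T hc hca hcx hf
  rcases hor with h3 | ⟨h1, h2⟩
  · rw [hcen] at h3
    exact (core_le_of_sup h3).trans S.comp.core_le_core
  · obtain ⟨-, -, -, h4, -⟩ := exists_diag S.comp (mem_c hca.symm) (sq_of_order T.inva) h1
    rw [hcen] at h2
    rw [h2, h4]
    exact inf_le_right

/-- `L₁` centralizes `F` and `O(C(a))` -/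
theorem le_cent (W : World G Q) (T₁ : Tri Q x a L₁) (T₂ : Tri Q x a L₂) (hne : L₁ ≠ L₂)
    (h : FF a s L₂ F) : L₁ ≤ centralizer (F : Set G) ∧
      L₁ ≤ centralizer (core (centralizer ({a} : Set G)) : Set G) :=
  comp_le W.B h.el h.card h.aF T₁.inva
    (fun e he h1 h2 => W.D T₁ T₂ hne h.el h.card h.aF h.or a h.aF (ne_one_of_order T₁.inva) e he h1 h2.symm)
    T₁.comp fun _ hf => h.fixes T₁ T₂ hne hf

/-- (B): the 2-components `L₁` is a simple component of `C(a)` -/
theorem honest (W : World G Q) (T₁ : Tri Q x a L₁) (T₂ : Tri Q x a L₂) (hne : L₁ ≠ L₂) :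
    core L₁ = ⊥ := by
  obtain ⟨s, hs, ho, hsx⟩ := W.ex T₂
  obtain ⟨F, h⟩ := exists_FF W T₂ hs ho
  obtain ⟨h1, h2⟩ := le_cent W T₁ T₂ hne h
  have has := h.comm h.aF h.sF
  have hne' : a ≠ s := by
    rintro rfl
    exact ne_one_of_order ho (W.simp T₂ hs (sq_of_order ho) (fixes_self' T₂.comp.le))
  have hle : ∀ f ∈ F, L₁ ≤ centralizer ({f} : Set G) := fun f hf l hl =>
    mem_c (mem_centralizer_iff.mp (h1 hl) f hf).symm
  have hax : a * x = x * a := T₁.comm
  rw [eq_bot_iff]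
  intro c hc
  rw [mem_bot]
  have hasF : a * s ∈ F := mul_mem h.aF h.sF
  have hao := order_mul (sq_of_order T₁.inva) (sq_of_order ho) has hne'
  refine W.D T₁ T₂ hne h.el h.card h.aF h.or a h.aF (ne_one_of_order T₁.inva) s h.sF (ne_one_of_order ho) hne' c
    (T₁.comp.core_le_core hc) (core_le_of_pump W T₁ ho has.symm hsx (hle s h.sF) hc)
    (core_le_of_pump W T₁ hao (h.comm hasF h.aF) ?_ (hle _ hasF) hc)
  have c1 : Commute a x := hax
  have c2 : Commute s x := hsx
  exact (c1.mul_left c2).eq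

/-- `L₁` and `L₂` commute -/
theorem comm₁₂ (W : World G Q) (T₁ : Tri Q x a L₁) (T₂ : Tri Q x a L₂) (hne : L₁ ≠ L₂) {l m : G}
    (hl : l ∈ L₁) (hm : m ∈ L₂) : l * m = m * l := by
  have h1 := (T₁.comp.comm_le_core T₂.comp hne) (commutator_mem_commutator hl hm)
  rw [honest W T₁ T₂ hne, bot_inf_eq, mem_bot, commutatorElement_eq_one_iff_mul_comm] at h1
  exact h1

/-- the involutions of `L₂` are conjugate -/
theorem conj₂ (W : World G Q) (T₁ : Tri Q x a L₁) (T₂ : Tri Q x a L₂) (hne : L₁ ≠ L₂) {f g : G}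
    (hf : f ∈ L₂) (hg : g ∈ L₂) (hfo : orderOf f = 2) (hgo : orderOf g = 2) :
    ∃ l ∈ L₂, l * f * l⁻¹ = g := W.conj T₂ (honest W T₂ T₁ hne.symm) hf hg hfo hgo

omit [Finite G] in
theorem cj_eq_of_comm {L : Subgroup G} {g : G} (h : ∀ l ∈ L, g * l = l * g) :
    IntrinsicBasic.cj g L = L := by
  ext y
  rw [mem_cj]
  constructor
  · intro hy
    have h1 := h _ hy
    have h2 : g * (g⁻¹ * y * g) = y * g := by group
    rw [h2] at h1
    rwa [← mul_right_cancel h1] at hy
  · intro hy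
    rw [mul_assoc, ← h y hy, inv_mul_cancel_left]
    exact hy

/-- `P = L₁` for a 2-component `P = L₁ O(P)` of `C(s)`, `s ∈ L₂` -/
theorem triv_honest (W : World G Q) (T₁ : Tri Q x a L₁) (T₂ : Tri Q x a L₂) (hne : L₁ ≠ L₂)
    (hs : s ∈ L₂) (ho : orderOf s = 2) {P : Subgroup G}
    (hP : IsComp (centralizer ({s} : Set G)) P) (hsup : L₁ ⊔ core P = P) : P = L₁ := by
  obtain ⟨F, h⟩ := exists_FF W T₂ hs ho
  obtain ⟨h1, -⟩ := le_cent W T₁ T₂ hne h
  refine eq_of_honest hP hsup (honest W T₁ T₂ hne) ?_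
  refine (comp_le W.B h.el h.card h.sF ho (fun e he h1 h2 =>
    W.D T₁ T₂ hne h.el h.card h.aF h.or s h.sF (ne_one_of_order ho) e he h1 h2.symm) hP fun f hf => ?_).2
  exact fixes_of_cover hP T₁.comp hsup (mem_c (h.comm hf h.sF)) fun j hj =>
    mem_centralizer_iff.mp (h1 hj) f hf

/-- if `L₁` is a component of `C(s)` for one involution `s` of `L₂`, then for all -/
theorem comp_all (W : World G Q) (T₁ : Tri Q x a L₁) (T₂ : Tri Q x a L₂) (hne : L₁ ≠ L₂)
    (hs : s ∈ L₂) (ho : orderOf s = 2) (hc : IsComp (centralizer ({s} : Set G)) L₁) {t : G}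
    (ht : t ∈ L₂) (hto : orderOf t = 2) : IsComp (centralizer ({t} : Set G)) L₁ := by
  obtain ⟨l, hl, rfl⟩ := conj₂ W T₁ T₂ hne hs ht ho hto
  have h1 := hc.cj l
  rwa [cj_centralizer, cj_eq_of_comm fun m hm => (comm₁₂ W T₁ T₂ hne hm hl).symm] at h1

/-- a triple for `L₁` and `L₂` whose involution commutes with `w ∈ F` -/
theorem exists_bad (W : World G Q) (T₁ : Tri Q x a L₁) (T₂ : Tri Q x a L₂) (hne : L₁ ≠ L₂)
    (hs : s ∈ L₂) (ho : orderOf s = 2) (hsx : s * x = x * s) (h : FF a s L₂ F) {w : G}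
    (hw : w ∈ F) (h1 : w ≠ 1) (ha : w ≠ a) :
    ∃ x', Tri Q x' a L₁ ∧ Tri Q x' a L₂ ∧ w * x' = x' * w := by
  have haa := sq_of_order T₁.inva
  have key : ∀ f ∈ F, f ∈ L₂ → f ≠ 1 →
      ∃ x', Tri Q x' a L₁ ∧ Tri Q x' a L₂ ∧ f * x' = x' * f := by
    intro f hf hfL hf1
    obtain ⟨l, hl, hlf⟩ := conj₂ W T₁ T₂ hne hs hfL ho (order_of_el h.el hf hf1)
    have hla : l * a = a * l := comm_c (T₂.comp.le hl)
    have e1 : l * a * l⁻¹ = a := by rw [hla, mul_inv_cancel_right]
    refine ⟨l * x * l⁻¹, ?_, ?_, ?_⟩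
    · have h2 := W.cj T₁ l
      rwa [e1, cj_eq_of_comm fun m hm => (comm₁₂ W T₁ T₂ hne hm hl).symm] at h2
    · have h2 := W.cj T₂ l
      rwa [e1, cj_eq_self_of_mem hl] at h2
    · rw [← hlf]
      calc l * s * l⁻¹ * (l * x * l⁻¹) = l * (s * x) * l⁻¹ := by group
        _ = l * (x * s) * l⁻¹ := by rw [hsx]
        _ = _ := by group
  rcases h.or w hw with h2 | h2
  · exact key w hw h2 h1
  · have hne' : a * w ≠ 1 := by
      intro h3
      apply ha
      rw [eq_inv_of_mul_eq_one_right h3, inv_eq_of_mul_eq_one_left haa]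
    obtain ⟨x', t1, t2, h3⟩ := key _ (mul_mem h.aF hw) h2 hne'
    refine ⟨x', t1, t2, ?_⟩
    have c1 : Commute (a * w) x' := h3
    have c2 : Commute a x' := t1.comm
    have c3 := c2.mul_left c1
    rwa [← mul_assoc, haa, one_mul] at c3

/-- the pump-up of `L₁` in `C(w)`, `w ∈ F ∖ ⟨a⟩` -/
theorem pump_w (W : World G Q) (T₁ : Tri Q x a L₁) (T₂ : Tri Q x a L₂) (hne : L₁ ≠ L₂)
    (hs : s ∈ L₂) (ho : orderOf s = 2) (hsx : s * x = x * s) (h : FF a s L₂ F) {w : G}
    (hw : w ∈ F) (h1 : w ≠ 1) (ha : w ≠ a) :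
    ∃ x' P, Tri Q x' a L₁ ∧ Tri Q x' w P ∧ w * x' = x' * w ∧
      (L₁ ⊔ core P = P ∨ (cj a P ≠ P ∧ L₁ = diag (centralizer ({w} : Set G)) P a)) := by
  obtain ⟨x', t1, -, hc⟩ := exists_bad W T₁ T₂ hne hs ho hsx h hw h1 ha
  obtain ⟨h2, -⟩ := le_cent W T₁ T₂ hne h
  have hwo := order_of_el h.el hw h1
  have hfix := h.fixes T₁ T₂ hne hw
  have hcen : cen L₁ w = L₁ := CoreFree.cen_eq T₁.comp fun l hl =>
    mem_c (mem_centralizer_iff.mp (h2 hl) w hw).symm
  obtain ⟨P, S, hor⟩ := W.pump t1 hwo (h.comm hw h.aF) hc hfix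
  rw [hcen] at hor
  exact ⟨x', P, t1, S, hc, hor⟩

end two

/-! ### the diagonal case -/

/-- `L₁` is the diagonal of `N N^a` in `C(e)` -/
structure Dg (Q : Subgroup G → Prop) (x a e : G) (L N F : Subgroup G) : Prop where
  T : Tri Q x e N
  T' : Tri Q x e (cj a N)
  ne : cj a N ≠ N
  dia : L = diag (centralizer ({e} : Set G)) N a
  aa : a * a = 1
  el : IsElementaryAbelian 2 F
  card : 8 ≤ Nat.card ↥F
  aF : a ∈ F
  eF : e ∈ F
  ea : e ≠ a
  LF : L ≤ centralizer (F : Set G)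

section dg

variable {x a e : G} {L N F : Subgroup G}

omit [Finite G] in
theorem Dg.e1 (D : Dg Q x a e L N F) : e ≠ 1 := ne_one_of_order D.T.inva

omit [Finite G] in
theorem Dg.mem (D : Dg Q x a e L N F) {u : G} (hu : u ∈ F) : u ∈ centralizer ({e} : Set G) :=
  mem_c (comm_of_el D.el hu D.eF)

omit [Finite G] in
theorem Dg.hM (D : Dg Q x a e L N F) {u : G} (hu : u ∈ F) :
    ∀ m ∈ diag (centralizer ({e} : Set G)) N a, u * m = m * u := fun m hm =>
  mem_centralizer_iff.mp (D.LF (by rw [D.dia]; exact hm)) u hu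

/-- `u ∈ F` normalizing `N` centralizes `N` -/
theorem Dg.comm_N (W : World G Q) (D : Dg Q x a e L N F) {u : G} (hu : u ∈ F) (huN : cj u N = N) :
    N ≤ centralizer ({u} : Set G) := by
  have h1 := fixes_of_norm D.T.comp (D.mem D.aF) D.aa D.ne (D.mem hu) (comm_of_el D.el hu D.aF)
    (D.hM hu) huN
  have h2 := comm_of_fixes (honest W D.T D.T' D.ne.symm) h1
  intro n hn
  exact mem_c (mem_centralizer_iff.mp h2 n hn)

/-- and `N ^ a` -/
theorem Dg.comm_N' (W : World G Q) (D : Dg Q x a e L N F) {u : G} (hu : u ∈ F) (huN : cj u N = N) :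
    cj a N ≤ centralizer ({u} : Set G) := by
  have h1 := cj_mono (g := a) (D.comm_N W hu huN)
  rwa [cj_centralizer, comm_of_el D.el D.aF hu, mul_inv_cancel_right] at h1

omit [Finite G] in
theorem Dg.eN (D : Dg Q x a e L N F) : N ≤ centralizer ({e} : Set G) := D.T.comp.le

/-- `L` is not contained in a 2-component of `C(e) ∩ C(u)` if `u ∈ F` normalizes `N` -/
theorem Dg.not_le (D : Dg Q x a e L N F) {u : G} (hu : u ∈ F) (huN : cj u N = N)
    {B : Subgroup G} (hB : IsComp (centralizer ({e} : Set G) ⊓ centralizer ({u} : Set G)) B) :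
    ¬ L ≤ B := by
  have h1 := not_le_comp D.T.comp (D.mem D.aF) D.aa D.ne (D.mem hu) (sq_of_el D.el hu)
    (comm_of_el D.el hu D.aF) (D.hM hu) huN hB
  rwa [← D.dia] at h1

/-- `u ∈ F` is good: `N` lies in a 2-component of `C(u)` moved by `a` -/
def Good (a : G) (N F : Subgroup G) (u : G) : Prop :=
  u ∈ F ∧ orderOf u = 2 ∧ N ≤ centralizer ({u} : Set G) ∧ cj a N ≤ centralizer ({u} : Set G) ∧
    ∃ P, IsComp (centralizer ({u} : Set G)) P ∧ cj a P ≠ P ∧ N ≤ P

/-- `x'` -/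
structure PumpW (a : G) (L F : Subgroup G) : Prop where
  comp : ∃ Y, IsComp Y L
  pump : ∀ u ∈ F, u ≠ 1 → u ≠ a → ∃ P, IsComp (centralizer ({u} : Set G)) P ∧
    (L ⊔ core P = P ∨ (cj a P ≠ P ∧ L = diag (centralizer ({u} : Set G)) P a))

theorem Dg.good (W : World G Q) (D : Dg Q x a e L N F) (hP : PumpW a L F) {u : G} (hu : u ∈ F)
    (h1 : u ≠ 1) (ha : u ≠ a) (huN : cj u N = N) : Good a N F u := by
  have huu := sq_of_el D.el hu
  have huo := order_of_el D.el hu h1
  have hee := sq_of_order D.T.inva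
  have hue := comm_of_el D.el hu D.eF
  have hNu := D.comm_N W hu huN
  have hN'u := D.comm_N' W hu huN
  have haU : a ∈ centralizer ({u} : Set G) := mem_c (comm_of_el D.el D.aF hu)
  have heU : e ∈ centralizer ({u} : Set G) := mem_c hue.symm
  have hLF : ∀ f ∈ F, ∀ l ∈ L, f * l = l * f := fun f hf l hl =>
    mem_centralizer_iff.mp (D.LF hl) f hf
  obtain ⟨Y, hY⟩ := hP.comp
  refine ⟨hu, huo, hNu, hN'u, ?_⟩
  obtain ⟨P, hPc, hor⟩ := hP.pump u hu h1 ha
  rcases hor with hsup | ⟨hne, hdia⟩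
  · -- the trivial case is impossible
    exfalso
    have hf : Fixes e P := fixes_of_cover hPc hY hsup heU (hLF e D.eF)
    obtain ⟨c1, -⟩ := isComp_cen hPc heU hee hf
    rw [inf_comm] at c1
    refine D.not_le hu huN c1 (hY.le_of_two fun l hl n hn => ?_)
    refine mem_cen ?_ (hLF e D.eF l hl).symm hn
    rw [← hsup]
    exact mem_sup_left hl
  · have hf : Fixes e P := by
      refine fixes_of hPc haU D.aa hne heU hee (comm_of_el D.el D.eF D.aF) (fun m hm => ?_)
        fun B hB => ?_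
      · rw [← hdia] at hm
        exact hLF e D.eF m hm
      · rw [← hdia]
        rw [inf_comm] at hB
        exact D.not_le hu huN hB
    obtain ⟨c1, c2⟩ := isComp_cen hPc heU hee hf
    have hN0 := honest W D.T D.T' D.ne.symm
    have hfN : Fixes u N := fixes_self' hNu
    have hfN' : Fixes u (cj a N) := fixes_self' hN'u
    have b1 := (isComp_cen D.T.comp (D.mem hu) huu hfN).1
    have b2 := (isComp_cen D.T'.comp (D.mem hu) huu hfN').1
    rw [CoreFree.cen_eq D.T.comp hNu, inf_comm] at b1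
    rw [CoreFree.cen_eq D.T'.comp hN'u, inf_comm] at b2
    obtain ⟨m, hm, hmf⟩ : ∃ m ∈ L, ¬ Fixes m (cen P e) := by
      by_contra hcon
      push Not at hcon
      refine diag_not_fixes hPc haU D.aa hne fun m hm => ?_
      have h3 := hcon m (by rw [hdia]; exact hm)
      exact (fixes_iff_of_sup c2 h3.1 (mem_normalizer_of_diag hPc haU D.aa hne hm)).mp h3
    obtain ⟨d1, d2, -⟩ := exists_diag D.T.comp (D.mem D.aF) D.aa D.ne
    obtain ⟨k, hk, hmk⟩ := d2 m (by rw [← D.dia]; exact hm)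
    have hk' : a * k * a⁻¹ ∈ cj a N := conj_mem_cj hk
    have hmU : m ∈ centralizer ({u} : Set G) := mem_c (hLF u hu m hm).symm
    have h4 : m⁻¹ * (k * (a * k * a⁻¹)) ∈ core (centralizer ({u} : Set G) ⊓ centralizer ({e} : Set G)) :=
      inf_le_core' hmk (mul_mem (inv_mem hmU) (mul_mem (hNu hk) (hN'u hk')))
    rcases ident c1 b1 b2 hk hk' h4 hmf with h5 | h5
    · exact ⟨P, hPc, hne, h5 ▸ cen_le P e⟩
    · refine ⟨cj a P, isComp_cj_of_mem hPc haU, ?_, ?_⟩
      · rw [← cj_mul, D.aa, cj_one]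
        exact hne.symm
      · have h6 : cj a N ≤ P := h5 ▸ cen_le P e
        have h7 := cj_mono (g := a) h6
        rwa [← cj_mul, D.aa, cj_one] at h7

/-- two good elements -/
theorem Dg.exists_good (W : World G Q) (D : Dg Q x a e L N F) (hP : PumpW a L F) :
    ∃ w, Good a N F w ∧ Good a N F (e * w) ∧ cj w N = N := by
  obtain ⟨w₀, hw, h1, h2, h3, h4⟩ : ∃ w ∈ F, w ≠ 1 ∧ w ≠ a ∧ w ≠ e ∧ w ≠ a * e := by
    by_contra hcon
    push Not at hcon
    have h6 : (F : Set G) ⊆ {1, a, e, a * e} := by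
      intro f hf
      by_cases h1 : f = 1
      · left; exact h1
      by_cases h2 : f = a
      · right; left; exact h2
      by_cases h3 : f = e
      · right; right; left; exact h3
      · right; right; right; exact hcon f hf h1 h2 h3
    have h7 := Set.ncard_le_ncard h6 (Set.toFinite _)
    have h8 : ({1, a, e, a * e} : Set G).ncard ≤ 4 := by
      refine (Set.ncard_insert_le _ _).trans ?_
      have := Set.ncard_insert_le a ({e, a * e} : Set G)
      have := Set.ncard_insert_le e ({a * e} : Set G)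
      have := Set.ncard_singleton (a * e)
      omega
    have h9 : (F : Set G).ncard = Nat.card ↥F := rfl
    have := D.card
    omega
  have haa := D.aa
  have hee := sq_of_el D.el D.eF
  have hae := comm_of_el D.el D.aF D.eF
  have heN : cj e N = N := cj_eq_of_comm fun n hn => (comm_c (D.eN hn)).symm
  have key : ∀ w ∈ F, w ≠ 1 → w ≠ a → w ≠ e → w ≠ a * e → cj w N = N →
      ∃ w, Good a N F w ∧ Good a N F (e * w) ∧ cj w N = N := by
    intro w hw h1 h2 h3 h4 hwN
    refine ⟨w, D.good W hP hw h1 h2 hwN, D.good W hP (mul_mem D.eF hw) ?_ ?_ ?_, hwN⟩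
    · intro h
      apply h3
      rw [eq_inv_of_mul_eq_one_right h, inv_eq_of_mul_eq_one_left hee]
    · intro h
      apply h4
      rw [hae, ← h, ← mul_assoc, hee, one_mul]
    · rw [cj_mul, hwN, heN]
  rcases perm D.T.comp (D.mem D.aF) haa D.ne (D.mem hw) (comm_of_el D.el hw D.aF) (D.hM hw)
    with h | h
  · exact key w₀ hw h1 h2 h3 h4 h
  · refine key (a * w₀) (mul_mem D.aF hw) ?_ ?_ ?_ ?_ ?_
    · intro h'
      apply h2
      rw [eq_inv_of_mul_eq_one_right h', inv_eq_of_mul_eq_one_left haa]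
    · intro h'
      apply h1
      exact mul_eq_left.mp h'
    · intro h'
      apply h4
      rw [← h', ← mul_assoc, haa, one_mul]
    · intro h'
      exact h3 (mul_left_cancel h')
    · rw [cj_mul, h, ← cj_mul, haa, cj_one]

/-- **(A5)** `N ^ a` is a component of `C(s)`, `s` an involution of `N` -/
theorem Dg.comp (W : World G Q) (D : Dg Q x a e L N F) (hP : PumpW a L F) {t : G} (ht : t ∈ N)
    (hto : orderOf t = 2) : IsComp (centralizer ({t} : Set G)) (cj a N) := by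
  obtain ⟨w, hw, hew, hwN⟩ := D.exists_good W hP
  obtain ⟨s, hs, hso, hsx⟩ := W.ex D.T
  refine comp_all W D.T' D.T D.ne hs hso ?_ ht hto
  have hss := sq_of_order hso
  have hee := sq_of_el D.el D.eF
  have hse : s * e = e * s := comm_c (D.eN hs)
  have hsN' : ∀ l ∈ cj a N, s * l = l * s := fun l hl => comm₁₂ W D.T D.T' D.ne.symm hs hl
  have hle : cj a N ≤ centralizer ({s} : Set G) := fun l hl => mem_c (hsN' l hl).symm
  have hfs : Fixes s (cj a N) := fixes_self' hle
  have hcen : cen (cj a N) s = cj a N := CoreFree.cen_eq D.T'.comp hle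
  obtain ⟨P, S, hor⟩ := W.pump D.T' hso hse hsx hfs
  rw [hcen] at hor
  have heS : e ∈ centralizer ({s} : Set G) := mem_c hse.symm
  rcases hor with h3 | ⟨h1, h2⟩
  · rw [← triv_honest W D.T' D.T D.ne hs hso S.comp h3]
    exact S.comp
  · exfalso
    -- `u ∈ {w, e w}` normalizing `P`
    have key : ∀ u, Good a N F u → cj u P = P → False := by
      rintro u ⟨huF, huo, hNu, hN'u, Q, hQ, hQne, hNQ⟩ huP
      have hQ' := isComp_cj_of_mem hQ (v := a) (mem_c (comm_of_el D.el D.aF huF))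
      have hsQ : Fixes s (cj a Q) := hQ'.fixes_of_mem hQ hQne (hNQ hs)
      have hsU : s ∈ centralizer ({u} : Set G) := hNu hs
      obtain ⟨c1, -⟩ := isComp_cen hQ' hsU hss hsQ
      rw [inf_comm] at c1
      have hle' : cj a N ≤ cen (cj a Q) s := D.T'.comp.le_of_two fun l hl n hn =>
        mem_cen ((show cj a N ≤ cj a Q from cj_mono hNQ) hl) (hsN' l hl).symm hn
      refine not_le_comp S.comp heS hee h1 (mem_c (comm_c hsU).symm) (sq_of_order huo)
        (comm_of_el D.el huF D.eF) (fun m hm => ?_) huP c1 (by rw [← h2]; exact hle')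
      rw [← h2] at hm
      exact (comm_c (hN'u hm)).symm
    have hwS : w ∈ centralizer ({s} : Set G) := mem_c (comm_c (hw.2.2.1 hs)).symm
    rcases perm S.comp heS hee h1 hwS (comm_of_el D.el hw.1 D.eF) (fun m hm => by
      rw [← h2] at hm
      exact (comm_c (hw.2.2.2.1 hm)).symm) with h | h
    · exact key w hw h
    · refine key (e * w) hew ?_
      rw [cj_mul, h, ← cj_mul, hee, cj_one]

end dg

/-! ### the main theorem -/

/-- a pair of simple components -/
structure Pair (Q : Subgroup G → Prop) (x e : G) (N N' : Subgroup G) : Prop where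
  T : Tri Q x e N
  T' : Tri Q x e N'
  ne : N ≠ N'
  bot : core N = ⊥
  bot' : core N' = ⊥
  comm : ∀ n ∈ N, ∀ n' ∈ N', n * n' = n' * n
  left : ∀ t ∈ N', orderOf t = 2 → IsComp (centralizer ({t} : Set G)) N
  right : ∀ t ∈ N, orderOf t = 2 → IsComp (centralizer ({t} : Set G)) N'

section main

variable {x a : G} {L₁ L₂ : Subgroup G}

/-- `L₁` is a component of `C(t)` for all involutions `t` of `L₂`, or there is a pair. -/
theorem alt (W : World G Q) (T₁ : Tri Q x a L₁) (T₂ : Tri Q x a L₂) (hne : L₁ ≠ L₂) :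
    (∀ t ∈ L₂, orderOf t = 2 → IsComp (centralizer ({t} : Set G)) L₁) ∨
      ∃ (x' e : G) (N N' : Subgroup G), Pair Q x' e N N' := by
  obtain ⟨s, hs, hso, hsx⟩ := W.ex T₂
  obtain ⟨F, h⟩ := exists_FF W T₂ hs hso
  have haa := sq_of_order T₁.inva
  have hsa : s ≠ a := by
    rintro rfl
    exact ne_one_of_order hso (W.simp T₂ hs (sq_of_order hso) (fixes_self' T₂.comp.le))
  obtain ⟨x', P, t1, S, hc, hor⟩ := pump_w W T₁ T₂ hne hs hso hsx h h.sF (ne_one_of_order hso) hsa
  rcases hor with hsup | ⟨hneP, hdia⟩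
  · left
    intro t ht hto
    refine comp_all W T₁ T₂ hne hs hso ?_ ht hto
    rw [← triv_honest W T₁ T₂ hne hs hso S.comp hsup]
    exact S.comp
  · right
    have hS' : Tri Q x' s (cj a P) := by
      have h1 := W.cj S a
      rwa [t1.comm, mul_inv_cancel_right, h.comm h.aF h.sF, mul_inv_cancel_right] at h1
    have D : Dg Q x' a s L₁ P F := ⟨S, hS', hneP, hdia, haa, h.el, h.card, h.aF, h.sF, hsa,
      (le_cent W T₁ T₂ hne h).1⟩
    have hPW : PumpW a L₁ F := ⟨⟨_, T₁.comp⟩, fun u hu h1 h2 => by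
      obtain ⟨x₂, Q, -, S', -, hor⟩ := pump_w W T₁ T₂ hne hs hso hsx h hu h1 h2
      exact ⟨Q, S'.comp, hor⟩⟩
    have hr : ∀ t ∈ P, orderOf t = 2 → IsComp (centralizer ({t} : Set G)) (cj a P) :=
      fun t ht hto => D.comp W hPW ht hto
    refine ⟨x', s, P, cj a P, S, hS', hneP.symm, honest W S hS' hneP.symm, honest W hS' S hneP,
      fun n hn n' hn' => comm₁₂ W S hS' hneP.symm hn hn', fun t ht hto => ?_, hr⟩
    have h1 : a⁻¹ * t * a ∈ P := (mem_cj (g := a) (K := P)).mp ht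
    have h2 : orderOf (a⁻¹ * t * a) = 2 := by
      have h3 := (MulAut.conj a⁻¹).orderOf_eq t
      rw [hto] at h3
      rw [← h3]
      simp
    have h3 := (hr _ h1 h2).cj a
    rw [cj_centralizer, ← cj_mul, haa, cj_one] at h3
    have h4 : a * (a⁻¹ * t * a) * a⁻¹ = t := by group
    rwa [h4] at h3

/-- **Existence of a `~`-pair** if there are two triples `(x, a, L₁)`, `(x, a, L₂)`. -/
theorem exists_pair (W : World G Q) (T₁ : Tri Q x a L₁) (T₂ : Tri Q x a L₂) (hne : L₁ ≠ L₂) :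
    ∃ (x' e : G) (N N' : Subgroup G), Pair Q x' e N N' := by
  rcases alt W T₁ T₂ hne with h1 | h1
  · rcases alt W T₂ T₁ hne.symm with h2 | h2
    · exact ⟨x, a, L₁, L₂, T₁, T₂, hne, honest W T₁ T₂ hne, honest W T₂ T₁ hne.symm,
        fun n hn n' hn' => comm₁₂ W T₁ T₂ hne hn hn', h1, h2⟩
    · exact h2
  · exact h1

end main

end Cfsg.Agent.UGT.Res.TwoPair
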