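import Cfsg.Agent.UGT.Res.DiagCore
import Cfsg.Agent.UGT.Res.TwoPair
import Cfsg.Agent.UGT.Res.TwoFacts

/-!
# Two triples `(x, a, L₁)`, `(x, a, L₂)`, with cores

As `TwoPair.lean`, without any hypothesis on the cores.

* `TP Q e N N'`: the pump-up of `N` in `C(s)` is trivial, `s` an involution of `N'`.
* `exists_tp`: there are `e`, `N ≠ N'` with `TP Q e N N'` and `TP Q e N' N`.
* `lemmaX`: then the pump-up of `N` in `C(e t)` is trivial, too, `t` an involution of `N'`.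
* `exists_two`: everything together.
-/

set_option autoImplicit false
set_option linter.dupNamespace false

open Cfsg Subgroup
open Cfsg.Agent.SignalizersComponents Cfsg.Agent.Lib
open Cfsg.Agent.SignalizersComponents.IntrinsicBasic
open Cfsg.Agent.SignalizersComponents.PLayerAut
open Cfsg.Agent.Intrinsic.Basic Cfsg.Agent.Intrinsic.Cen Cfsg.Agent.Intrinsic.Diag
open Cfsg.Agent.McLLyComp.Act
open Cfsg.Agent.UGT.Triple Cfsg.Agent.UGT.LemG Cfsg.Agent.UGT.PumpGen Cfsg.Agent.UGT.TriBase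
open Cfsg.Agent.UGT.Res.Base Cfsg.Agent.UGT.Res.Abel Cfsg.Agent.UGT.Res.KFacts
open Cfsg.Agent.UGT.Res.CoreFree Cfsg.Agent.UGT.Res.WFun
open Cfsg.Agent.UGT.Res.TwoPair (Tri FF)
open Cfsg.Agent.UGT.Res.DiagCore
open scoped commutatorElement

namespace Cfsg.Agent.UGT.Res.TwoCore

universe u

/-- The hypotheses, for the triples of type `Q`. -/
structure World (G : Type u) [Group G] (Q : Subgroup G → Prop) : Prop where
  Qcj : ∀ {L : Subgroup G} (g : G), Q L → Q (IntrinsicBasic.cj g L)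
  /-- an involution of `L` fixed by `x` -/
  ex : ∀ {x a : G} {L : Subgroup G}, Tri Q x a L → ∃ s ∈ L, orderOf s = 2 ∧ s * x = x * s
  four : ∀ {x a s : G} {L : Subgroup G}, Tri Q x a L → s ∈ L → orderOf s = 2 →
    ∃ f ∈ L, orderOf f = 2 ∧ f ≠ s ∧ s * f = f * s
  simp : ∀ {x a l : G} {L : Subgroup G}, Tri Q x a L → l ∈ L → l * l = 1 → Fixes l L → l = 1
  /-- pump-ups are of type `Q`, trivial or diagonal -/
  pump : ∀ {x a c : G} {L : Subgroup G}, Tri Q x a L → orderOf c = 2 → c * a = a * c → c * x = x * c →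
    Fixes c L → ∃ N, Tri Q x c N ∧ (cen L c ⊔ core N = N ∨
      (IntrinsicBasic.cj a N ≠ N ∧ cen L c = diag (centralizer ({c} : Set G)) N a))
  /-- the involutions of `L` are conjugate -/
  conj : ∀ {x a f g : G} {L : Subgroup G}, Tri Q x a L → f ∈ L → g ∈ L → orderOf f = 2 →
    orderOf g = 2 → ∃ l ∈ L, l * f * l⁻¹ = g

variable {G : Type u} [Group G] [Finite G] {Q : Subgroup G → Prop}

omit [Finite G] in
theorem World.cj (W : World G Q) {x a : G} {L : Subgroup G} (T : Tri Q x a L) (g : G) :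
    Tri Q (g * x * g⁻¹) (g * a * g⁻¹) (IntrinsicBasic.cj g L) := ⟨T.toIsTriple.cj g, W.Qcj g T.q⟩

/-! ### tools -/

theorem exists_FF (W : World G Q) {x a s : G} {L : Subgroup G} (T : Tri Q x a L) (hs : s ∈ L)
    (ho : orderOf s = 2) : ∃ F, FF a s L F := by
  obtain ⟨f, hf, hfo, hfs, hsf⟩ := W.four T hs ho
  have haa := sq_of_order T.inva
  have hss := sq_of_order ho
  have hff := sq_of_order hfo
  have hc1 : ∀ e ∈ zpowers s, ∀ b ∈ zpowers f, e * b = b * e := by
    intro e he b hb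
    obtain ⟨m, rfl⟩ := mem_zpowers_iff.mp he
    obtain ⟨n, rfl⟩ := mem_zpowers_iff.mp hb
    exact ((show Commute s f from hsf).zpow_zpow m n).eq
  obtain ⟨A, hA⟩ : ∃ A, A = zpowers s ⊔ zpowers f := ⟨_, rfl⟩
  have hAL : A ≤ L := hA ▸ sup_le (zpowers_le.mpr hs) (zpowers_le.mpr hf)
  have elA : IsElementaryAbelian 2 A := hA ▸ el_sup (el_zpowers hss) (el_zpowers hff) hc1
  have hc2 : ∀ e ∈ A, a * e = e * a := fun e he => (comm_c (T.comp.le (hAL he))).symm
  have hcA : 4 ≤ Nat.card ↥A := by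
    have h2 := two_mul_card_le (A := zpowers s) (E := A) (hA ▸ le_sup_left) (fun h => by
      have h3 : f ∈ zpowers s := by
        rw [h, hA]
        exact mem_sup_right (mem_zpowers f)
      rcases (mem_zpowers_of_sq hss).mp h3 with h4 | h4
      · exact ne_one_of_order hfo h4
      · exact hfs h4)
    have h3 : Nat.card ↥(zpowers s) = 2 := by rw [Nat.card_zpowers, ho]
    omega
  have hc3 : ∀ e ∈ zpowers a, ∀ b ∈ A, e * b = b * e := by
    intro e he b hb
    rcases (mem_zpowers_of_sq haa).mp he with rfl | rfl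
    · rw [one_mul, mul_one]
    · exact hc2 b hb
  refine ⟨zpowers a ⊔ A, el_sup (el_zpowers haa) elA hc3, ?_, mem_sup_left (mem_zpowers a),
    mem_sup_right (hA ▸ mem_sup_left (mem_zpowers s)), fun z hz => ?_⟩
  · have h2 := two_mul_card_le (A := A) (E := zpowers a ⊔ A) le_sup_right (fun h => by
      have h3 : a ∈ A := by
        rw [h]
        exact mem_sup_left (mem_zpowers a)
      exact ne_one_of_order T.inva (W.simp T (hAL h3) haa (fixes_self' T.comp.le)))
    omega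
  · rcases (mem_zpowers_sup haa hc2).mp hz with h | h
    · exact Or.inl (hAL h)
    · exact Or.inr (hAL h)

section two

variable {x a s : G} {L₁ L₂ F : Subgroup G}

/-- distinct 2-components of `C(a)` normalize each other -/
theorem cj_eq_of_mem (T₁ : Tri Q x a L₁) (T₂ : Tri Q x a L₂) (hne : L₁ ≠ L₂) {l : G} (hl : l ∈ L₂) :
    cj l L₁ = L₁ := mem_normalizer_iff_cj.mp (T₁.comp.fixes_of_mem T₂.comp hne hl).1

/-- conjugation with an element of `L₂` -/
theorem tri_conj (W : World G Q) (T₁ : Tri Q x a L₁) (T₂ : Tri Q x a L₂) (hne : L₁ ≠ L₂) {l : G}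
    (hl : l ∈ L₂) : Tri Q (l * x * l⁻¹) a L₁ ∧ Tri Q (l * x * l⁻¹) a L₂ := by
  have hla : l * a = a * l := comm_c (T₂.comp.le hl)
  have e1 : l * a * l⁻¹ = a := by rw [hla, mul_inv_cancel_right]
  constructor
  · have h2 := W.cj T₁ l
    rwa [e1, cj_eq_of_mem T₁ T₂ hne hl] at h2
  · have h2 := W.cj T₂ l
    rwa [e1, cj_eq_self_of_mem hl] at h2

/-- a triple for `L₁` and `L₂` whose involution commutes with `w ∈ F` -/
theorem exists_bad (W : World G Q) (T₁ : Tri Q x a L₁) (T₂ : Tri Q x a L₂) (hne : L₁ ≠ L₂)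
    (hs : s ∈ L₂) (ho : orderOf s = 2) (hsx : s * x = x * s) (h : FF a s L₂ F) {w : G}
    (hw : w ∈ F) (h1 : w ≠ 1) (ha : w ≠ a) :
    ∃ x', Tri Q x' a L₁ ∧ Tri Q x' a L₂ ∧ w * x' = x' * w := by
  have haa := sq_of_order T₁.inva
  have key : ∀ f ∈ F, f ∈ L₂ → f ≠ 1 →
      ∃ x', Tri Q x' a L₁ ∧ Tri Q x' a L₂ ∧ f * x' = x' * f := by
    intro f hf hfL hf1
    obtain ⟨l, hl, hlf⟩ := W.conj T₂ hs hfL ho (order_of_el h.el hf hf1)
    obtain ⟨t1, t2⟩ := tri_conj W T₁ T₂ hne hl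
    refine ⟨l * x * l⁻¹, t1, t2, ?_⟩
    rw [← hlf]
    calc l * s * l⁻¹ * (l * x * l⁻¹) = l * (s * x) * l⁻¹ := by group
      _ = l * (x * s) * l⁻¹ := by rw [hsx]
      _ = _ := by group
  rcases h.or w hw with h2 | h2
  · exact key w hw h2 h1
  · have hne' : a * w ≠ 1 := by
      intro h3
      apply ha
      rw [eq_inv_of_mul_eq_one_right h3, inv_eq_of_mul_eq_one_left haa]
    obtain ⟨x', t1, t2, h3⟩ := key _ (mul_mem h.aF hw) h2 hne'
    refine ⟨x', t1, t2, ?_⟩
    have c1 : Commute (a * w) x' := h3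
    have c2 : Commute a x' := t1.comm
    have c3 := c2.mul_left c1
    rwa [← mul_assoc, haa, one_mul] at c3

end two

/-! ### the diagonal case -/

/-- `cen L e` is the diagonal of `N N^a` in `C(e)` -/
structure Dg (Q : Subgroup G → Prop) (x a e : G) (L N F : Subgroup G) : Prop where
  T : Tri Q x e N
  T' : Tri Q x e (cj a N)
  ne : cj a N ≠ N
  C : IsComp (centralizer ({a} : Set G)) L
  dia : cen L e = diag (centralizer ({e} : Set G)) N a
  aa : a * a = 1
  el : IsElementaryAbelian 2 F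
  card : 8 ≤ Nat.card ↥F
  aF : a ∈ F
  eF : e ∈ F
  ea : e ≠ a
  LF : ∀ u ∈ F, Fixes u L

/-- the pump-ups of `L` -/
def PumpW (a : G) (L F : Subgroup G) : Prop :=
  ∀ u ∈ F, u ≠ 1 → u ≠ a → ∃ P, IsComp (centralizer ({u} : Set G)) P ∧
    (cen L u ⊔ core P = P ∨ (cj a P ≠ P ∧ cen L u = diag (centralizer ({u} : Set G)) P a))

/-- `u ∈ F` is good: `cen N u` lies in a 2-component of `C(u)` moved by `a` -/
def Good (a : G) (N F : Subgroup G) (u : G) : Prop :=
  u ∈ F ∧ orderOf u = 2 ∧ Fixes u N ∧ Fixes u (cj a N) ∧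
    ∃ P, IsComp (centralizer ({u} : Set G)) P ∧ cj a P ≠ P ∧ cen N u ≤ P

section dg

variable {x a e : G} {L N F : Subgroup G}

omit [Finite G] in
theorem Dg.mem (D : Dg Q x a e L N F) {u v : G} (hu : u ∈ F) (hv : v ∈ F) :
    u ∈ centralizer ({v} : Set G) := mem_c (comm_of_el D.el hu hv)

theorem Dg.fix_cen (D : Dg Q x a e L N F) {u v : G} (hu : u ∈ F) (hv : v ∈ F) :
    Fixes u (cen L v) :=
  fixes_cen D.C (D.mem hv D.aF) (sq_of_el D.el hv) (D.LF v hv) (D.LF u hu) (comm_of_el D.el hu hv)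

theorem Dg.hM (D : Dg Q x a e L N F) {u : G} (hu : u ∈ F) :
    Fixes u (diag (centralizer ({e} : Set G)) N a) := by
  rw [← D.dia]
  exact D.fix_cen hu D.eF

/-- `u ∈ F` normalizing `N` fixes `N` -/
theorem Dg.fix_N (D : Dg Q x a e L N F) {u : G} (hu : u ∈ F) (huN : cj u N = N) : Fixes u N :=
  DiagCore.fixes_of_norm D.T.comp (D.mem D.aF D.eF) D.aa D.ne (D.mem hu D.eF)
    (comm_of_el D.el hu D.aF) (D.hM hu) huN

/-- and `N ^ a` -/
theorem Dg.fix_N' (D : Dg Q x a e L N F) {u : G} (hu : u ∈ F) (huN : cj u N = N) :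
    Fixes u (cj a N) := by
  have h1 := (D.fix_N hu huN).cj a
  rwa [comm_of_el D.el D.aF hu, mul_inv_cancel_right] at h1

omit [Finite G] in
theorem cen_comm {K : Subgroup G} {v w : G} : cen (cen K v) w = cen (cen K w) v :=
  le_antisymm cen_cen_le cen_cen_le

/-- `M = cen (cen L v) u` covers `cen L v` -/
theorem Dg.cover (D : Dg Q x a e L N F) {u v : G} (hu : u ∈ F) (hv : v ∈ F) :
    (∃ Y, IsComp Y (cen (cen L v) u)) ∧ cen (cen L v) u ⊔ core (cen L v) = cen L v := by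
  have h1 := (isComp_cen D.C (D.mem hv D.aF) (sq_of_el D.el hv) (D.LF v hv)).1
  obtain ⟨h2, h3⟩ := isComp_cen h1 (v := u) ⟨D.mem hu D.aF, D.mem hu hv⟩ (sq_of_el D.el hu)
    (D.fix_cen hu hv)
  exact ⟨⟨_, h2⟩, h3⟩

/-- `cen (cen L e) u` is not contained in a 2-component of `C(e) ∩ C(u)` if `u ∈ F` normalizes `N` -/
theorem Dg.not_le (D : Dg Q x a e L N F) {u : G} (hu : u ∈ F) (huN : cj u N = N)
    {B : Subgroup G} (hB : IsComp (centralizer ({e} : Set G) ⊓ centralizer ({u} : Set G)) B) :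
    ¬ cen (cen L e) u ≤ B := by
  obtain ⟨⟨Y, h1⟩, h2⟩ := D.cover hu D.eF
  refine DiagCore.not_le_comp D.T.comp (D.mem D.aF D.eF) D.aa D.ne (D.mem hu D.eF)
    (sq_of_el D.el hu) (D.fix_N hu huN) h1 ?_ hB
  rwa [← D.dia]

theorem Dg.good (D : Dg Q x a e L N F) (hP : PumpW a L F) {u : G} (hu : u ∈ F)
    (h1 : u ≠ 1) (ha : u ≠ a) (huN : cj u N = N) : Good a N F u := by
  have huu := sq_of_el D.el hu
  have huo := order_of_el D.el hu h1
  have hee := sq_of_order D.T.inva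
  have hfN := D.fix_N hu huN
  have hfN' := D.fix_N' hu huN
  have haU := D.mem D.aF hu
  have heU := D.mem D.eF hu
  refine ⟨hu, huo, hfN, hfN', ?_⟩
  obtain ⟨⟨Y, hY⟩, hYs⟩ := D.cover D.eF hu
  have hcu := D.fix_cen D.eF hu
  have hJc := (isComp_cen D.C (D.mem hu D.aF) huu (D.LF u hu)).1
  obtain ⟨P, hPc, hor⟩ := hP u hu h1 ha
  rcases hor with hsup | ⟨hne, hdia⟩
  · -- the trivial case is impossible
    exfalso
    have hle : cen L u ≤ P := by
      rw [← hsup]
      exact le_sup_left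
    have heP : e ∈ normalizer (P : Set G) := by
      rw [mem_normalizer_iff_cj]
      refine hJc.unique (isComp_cj_of_mem hPc heU) hPc ?_ hle
      rw [← mem_normalizer_iff_cj.mp hcu.1]
      exact cj_mono hle
    have hf : Fixes e P := (fixes_iff_of_sup hsup hcu.1 heP).mp hcu
    obtain ⟨c1, -⟩ := isComp_cen hPc heU hee hf
    rw [inf_comm] at c1
    refine D.not_le hu huN c1 ?_
    rw [cen_comm]
    exact cen_mono hle
  · have hf : Fixes e P := by
      refine DiagCore.fixes_of hPc haU D.aa hne heU hee (comm_of_el D.el D.eF D.aF)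
        (by rw [← hdia]; exact hcu) fun B hB => ?_
      rw [← hdia, cen_comm]
      rw [inf_comm] at hB
      exact D.not_le hu huN hB
    obtain ⟨c1, c2⟩ := isComp_cen hPc heU hee hf
    obtain ⟨b1, b1s⟩ := isComp_cen D.T.comp (D.mem hu D.eF) huu hfN
    have b2 := (isComp_cen D.T'.comp (D.mem hu D.eF) huu hfN').1
    rw [inf_comm] at b1 b2
    obtain ⟨-, -, -, u4, -⟩ := exists_diag hPc haU D.aa hne
    obtain ⟨m, hm, hmf⟩ : ∃ m ∈ cen (cen L u) e, ¬ Fixes m (cen P e) := by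
      by_contra hcon
      push Not at hcon
      refine DiagTools.diag_not_fixes hPc haU D.aa hne fun m hm => ?_
      rw [← hdia] at hm
      obtain ⟨j, hj, hjm⟩ := exists_mul_of_sup hYs hm
      have h3 := hcon j hj
      have hjd : j ∈ diag (centralizer ({u} : Set G)) P a := hdia ▸ cen_le _ _ hj
      have h4 := (fixes_iff_of_sup c2 h3.1
        (DiagTools.mem_normalizer_of_diag hPc haU D.aa hne hjd)).mp h3
      have h5 : Fixes (j⁻¹ * m) P := by
        rw [hdia, u4] at hjm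
        exact hPc.fixes_of_core hjm.2
      have h6 := fixes_mul h4 h5
      rwa [mul_inv_cancel_left] at h6
    obtain ⟨d1, d2, -⟩ := exists_diag D.T.comp (D.mem D.aF D.eF) D.aa D.ne
    have hme : m ∈ cen (cen L e) u := by rwa [cen_comm]
    have hmd : m ∈ diag (centralizer ({e} : Set G)) N a := D.dia ▸ cen_le _ _ hme
    obtain ⟨k, hk, hmk⟩ := d2 m hmd
    obtain ⟨j, hj, hjk⟩ := exists_mul_of_sup b1s hk
    have hj' : a * j * a⁻¹ ∈ cen (cj a N) u := by
      have h2 := conj_mem_cj (g := a) hj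
      rwa [cj_cen, comm_of_el D.el D.aF hu, mul_inv_cancel_right] at h2
    have hmU : m ∈ centralizer ({u} : Set G) := cen_le_centralizer _ _ hme
    obtain ⟨c, hc⟩ : ∃ c, c = j⁻¹ * k := ⟨_, rfl⟩
    rw [← hc] at hjk
    have hkc : k = j * c := by rw [hc]; group
    have hjX : j ∈ centralizer ({e} : Set G) := D.T.comp.le (cen_le _ _ hj)
    have haX := D.mem D.aF D.eF
    have hcX := D.T.comp.core_le_core hjk
    have h3 : m⁻¹ * (j * (a * j * a⁻¹)) ∈ core (centralizer ({e} : Set G)) := by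
      have e1 : m⁻¹ * (j * (a * j * a⁻¹)) = m⁻¹ * (k * (a * k * a⁻¹)) *
          ((a * c * a⁻¹)⁻¹ * ((a * j * a⁻¹)⁻¹ * c⁻¹ * (a * j * a⁻¹)⁻¹⁻¹)) := by
        rw [hkc]; group
      rw [e1]
      refine mul_mem hmk (mul_mem (inv_mem (conj_core haX hcX)) ?_)
      exact conj_core (inv_mem (mul_mem (mul_mem haX hjX) (inv_mem haX))) (inv_mem hcX)
    have h4 : m⁻¹ * (j * (a * j * a⁻¹)) ∈
        core (centralizer ({u} : Set G) ⊓ centralizer ({e} : Set G)) :=
      inf_le_core' h3 (mul_mem (inv_mem hmU) (mul_mem (cen_le_centralizer _ _ hj)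
        (cen_le_centralizer _ _ hj')))
    rcases DiagTools.ident c1 b1 b2 hj hj' h4 hmf with h5 | h5
    · exact ⟨P, hPc, hne, h5 ▸ cen_le P e⟩
    · refine ⟨cj a P, isComp_cj_of_mem hPc haU, ?_, ?_⟩
      · rw [← cj_mul, D.aa, cj_one]
        exact hne.symm
      · have h6 : cen (cj a N) u ≤ P := h5 ▸ cen_le P e
        have h7 := cj_mono (g := a) h6
        rwa [cj_cen, ← cj_mul, D.aa, cj_one, comm_of_el D.el D.aF hu, mul_inv_cancel_right] at h7

/-- two good elements -/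
theorem Dg.exists_good (D : Dg Q x a e L N F) (hP : PumpW a L F) :
    ∃ w, Good a N F w ∧ Good a N F (e * w) ∧ cj w N = N := by
  obtain ⟨w₀, hw, h1, h2, h3, h4⟩ : ∃ w ∈ F, w ≠ 1 ∧ w ≠ a ∧ w ≠ e ∧ w ≠ a * e := by
    by_contra hcon
    push Not at hcon
    have h6 : (F : Set G) ⊆ {1, a, e, a * e} := by
      intro f hf
      by_cases h1 : f = 1
      · left; exact h1
      by_cases h2 : f = a
      · right; left; exact h2
      by_cases h3 : f = e
      · right; right; left; exact h3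
      · right; right; right; exact hcon f hf h1 h2 h3
    have h7 := Set.ncard_le_ncard h6 (Set.toFinite _)
    have h8 : ({1, a, e, a * e} : Set G).ncard ≤ 4 := by
      refine (Set.ncard_insert_le _ _).trans ?_
      have := Set.ncard_insert_le a ({e, a * e} : Set G)
      have := Set.ncard_insert_le e ({a * e} : Set G)
      have := Set.ncard_singleton (a * e)
      omega
    have h9 : (F : Set G).ncard = Nat.card ↥F := rfl
    have := D.card
    omega
  have haa := D.aa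
  have hee := sq_of_el D.el D.eF
  have hae := comm_of_el D.el D.aF D.eF
  have heN : cj e N = N := TwoPair.cj_eq_of_comm fun n hn => (comm_c (D.T.comp.le hn)).symm
  have key : ∀ w ∈ F, w ≠ 1 → w ≠ a → w ≠ e → w ≠ a * e → cj w N = N →
      ∃ w, Good a N F w ∧ Good a N F (e * w) ∧ cj w N = N := by
    intro w hw h1 h2 h3 h4 hwN
    refine ⟨w, D.good hP hw h1 h2 hwN, D.good hP (mul_mem D.eF hw) ?_ ?_ ?_, hwN⟩
    · intro h
      apply h3
      rw [eq_inv_of_mul_eq_one_right h, inv_eq_of_mul_eq_one_left hee]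
    · intro h
      apply h4
      rw [hae, ← h, ← mul_assoc, hee, one_mul]
    · rw [cj_mul, hwN, heN]
  rcases DiagCore.perm D.T.comp (D.mem D.aF D.eF) haa D.ne (D.mem hw D.eF)
    (comm_of_el D.el hw D.aF) (D.hM hw).1 with h | h
  · exact key w₀ hw h1 h2 h3 h4 h
  · refine key (a * w₀) (mul_mem D.aF hw) ?_ ?_ ?_ ?_ ?_
    · intro h'
      apply h2
      rw [eq_inv_of_mul_eq_one_right h', inv_eq_of_mul_eq_one_left haa]
    · intro h'
      apply h1
      exact mul_eq_left.mp h'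
    · intro h'
      apply h4
      rw [← h', ← mul_assoc, haa, one_mul]
    · intro h'
      exact h3 (mul_left_cancel h')
    · rw [cj_mul, h, ← cj_mul, haa, cj_one]

end dg

/-! ### trivial pump-ups -/

/-- the pump-up of `N` in `C(s)` is trivial, `s` an involution of `N'` commuting with `x` -/
def TP (Q : Subgroup G → Prop) (e : G) (N N' : Subgroup G) : Prop :=
  ∃ x s, Tri Q x e N ∧ Tri Q x e N' ∧ s ∈ N' ∧ orderOf s = 2 ∧ s * x = x * s ∧
    ∃ P, Tri Q x s P ∧ cen N s ⊔ core P = P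

omit [Finite G] in
theorem order_conj (g t : G) : orderOf (g * t * g⁻¹) = orderOf t := (MulAut.conj g).orderOf_eq t

omit [Finite G] in
theorem conj_comm' {g s x : G} (h : s * x = x * s) :
    g * s * g⁻¹ * (g * x * g⁻¹) = g * x * g⁻¹ * (g * s * g⁻¹) := by
  calc g * s * g⁻¹ * (g * x * g⁻¹) = g * (s * x) * g⁻¹ := by group
    _ = g * (x * s) * g⁻¹ := by rw [h]
    _ = _ := by group

omit [Finite G] in
theorem cj_tp {N P : Subgroup G} {s : G} (h : cen N s ⊔ core P = P) (g : G) :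
    cen (cj g N) (g * s * g⁻¹) ⊔ core (cj g P) = cj g P := by
  rw [← cj_cen, core_cj]
  exact (Subgroup.map_sup (cen N s) (core P) _).symm.trans (congrArg (cj g) h)

omit [Finite G] in
theorem TP.cj (W : World G Q) {e : G} {N N' : Subgroup G} (h : TP Q e N N') (g : G) :
    TP Q (g * e * g⁻¹) (IntrinsicBasic.cj g N) (IntrinsicBasic.cj g N') := by
  obtain ⟨x, s, T, T', hs, ho, hc, P, S, h1⟩ := h
  refine ⟨g * x * g⁻¹, g * s * g⁻¹, W.cj T g, W.cj T' g, conj_mem_cj hs, ?_, conj_comm' hc,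
    IntrinsicBasic.cj g P, W.cj S g, cj_tp h1 g⟩
  rw [order_conj, ho]

/-- the same for all involutions `t` of `N'` -/
theorem TP.all (W : World G Q) {e : G} {N N' : Subgroup G} (hne : N ≠ N') (h : TP Q e N N') {t : G}
    (ht : t ∈ N') (hto : orderOf t = 2) : ∃ x, Tri Q x e N ∧ Tri Q x e N' ∧ t * x = x * t ∧
      ∃ P, Tri Q x t P ∧ cen N t ⊔ core P = P := by
  obtain ⟨x, s, T, T', hs, ho, hc, P, S, h1⟩ := h
  obtain ⟨l, hl, rfl⟩ := W.conj T' hs ht ho hto
  obtain ⟨t1, t2⟩ := tri_conj W T T' hne hl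
  refine ⟨l * x * l⁻¹, t1, t2, conj_comm' hc, IntrinsicBasic.cj l P, W.cj S l, ?_⟩
  have h2 := cj_tp h1 l
  rwa [cj_eq_of_mem T T' hne hl] at h2

section dg

variable {x a e : G} {L N F : Subgroup G}

/-- **(A5)** the pump-up of `N ^ a` in `C(s)` is trivial -/
theorem Dg.tp (W : World G Q) (D : Dg Q x a e L N F) (hP : PumpW a L F) : TP Q e (cj a N) N := by
  obtain ⟨w, hw, hew, hwN⟩ := D.exists_good hP
  obtain ⟨s₀, hs₀, hso₀, hsx₀⟩ := W.ex D.T
  have hee := sq_of_el D.el D.eF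
  -- `s ∈ C_N(w)`
  have hfw := hw.2.2.1
  obtain ⟨-, hcov⟩ := isComp_cen D.T.comp (D.mem hw.1 D.eF) (sq_of_order hw.2.1) hfw
  obtain ⟨j, hj, hjs⟩ := exists_mul_of_sup hcov hs₀
  have hjN := cen_le _ _ hj
  obtain ⟨c, hc⟩ : ∃ c, c = j⁻¹ * s₀ := ⟨_, rfl⟩
  rw [← hc] at hjs
  have hsj : j = s₀ * c⁻¹ := by rw [hc]; group
  have hss₀ := sq_of_order hso₀
  have hcoreN := le_normalizer_core N
  have hj2 : j * j ∈ core N := by
    have e1 : j * j = s₀ * c⁻¹ * s₀⁻¹ * (s₀ * s₀) * c⁻¹ := by rw [hsj]; group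
    rw [e1, hss₀, mul_one]
    exact mul_mem (conj_mem (hcoreN hs₀) (inv_mem hjs)) (inv_mem hjs)
  have hj1 : j ∉ core N := by
    intro h
    have h1 : s₀ ∈ core N := by
      have : s₀ = j * c := by rw [hc]; group
      rw [this]
      exact mul_mem h hjs
    exact ne_one_of_order hso₀ (eq_one_of_mem_core_sq h1 hss₀)
  obtain ⟨n, hn1, hn2, -⟩ := TwoFacts.exists_inv_pow hjN hj2 hj1
  obtain ⟨s, hsd⟩ : ∃ s, s = j ^ n := ⟨_, rfl⟩
  rw [← hsd] at hn1 hn2
  have hsw : s * w = w * s := by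
    have h1 : Commute j w := comm_of_mem_cen hj
    rw [hsd]
    exact (h1.pow_left n).eq
  obtain ⟨l, hl, hls⟩ := W.conj D.T hs₀ hn1 hso₀ hn2
  obtain ⟨t1', t1⟩ := tri_conj W D.T' D.T D.ne hl
  obtain ⟨x', hx'⟩ : ∃ x', x' = l * x * l⁻¹ := ⟨_, rfl⟩
  rw [← hx'] at t1 t1'
  have hsx' : s * x' = x' * s := by
    rw [hx', ← hls]
    exact conj_comm' hsx₀
  have hso := hn2
  have hss := sq_of_order hso
  have hsN := hn1
  have hse : s * e = e * s := comm_c (D.T.comp.le hsN)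
  have hfs : Fixes s (cj a N) := D.T'.comp.fixes_of_mem D.T.comp D.ne hsN
  have heS : e ∈ centralizer ({s} : Set G) := mem_c hse.symm
  have hsE : s ∈ centralizer ({e} : Set G) := mem_c hse
  obtain ⟨P, S, hor⟩ := W.pump t1' hso hse hsx' hfs
  refine ⟨x', s, t1', t1, hsN, hso, hsx', P, S, ?_⟩
  rcases hor with h1 | ⟨h1, h2⟩
  · exact h1
  · exfalso
    obtain ⟨k1, k2⟩ := isComp_cen D.T'.comp hsE hss hfs
    -- `u ∈ {w, e w}` normalizing `P`
    have hfu : ∀ u, Good a N F u → s * u = u * s → Fixes u (cen (cj a N) s) := fun u hu hsu =>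
      fixes_cen D.T'.comp hsE hss hfs hu.2.2.2.1 hsu.symm
    have key : ∀ u, Good a N F u → s * u = u * s → cj u P = P → False := by
      rintro u hu hsu huP
      have hfu' := hfu u hu hsu
      obtain ⟨huF, huo, hNu, hN'u, R, hR, hRne, hNR⟩ := hu
      have huu := sq_of_order huo
      have hR' := isComp_cj_of_mem hR (v := a) (D.mem D.aF huF)
      have hsR : s ∈ R := hNR (mem_cen_of_sq hsN hsu hss)
      have hsfR : Fixes s (cj a R) := hR'.fixes_of_mem hR hRne hsR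
      have hsU : s ∈ centralizer ({u} : Set G) := mem_c hsu
      obtain ⟨c1, -⟩ := isComp_cen hR' hsU hss hsfR
      rw [inf_comm] at c1
      have huS : u ∈ centralizer ({s} : Set G) := mem_c hsu.symm
      obtain ⟨m1, m2⟩ := isComp_cen k1 (v := u) ⟨D.mem huF D.eF, huS⟩ huu hfu'
      have hle : cen (cen (cj a N) s) u ≤ cen (cj a R) s := by
        rw [cen_comm]
        refine cen_mono ?_
        have h3 := cj_mono (g := a) hNR
        rwa [cj_cen, comm_of_el D.el D.aF huF, mul_inv_cancel_right] at h3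
      have hfuP : Fixes u P := DiagCore.fixes_of_norm S.comp heS hee h1 huS
        (comm_of_el D.el huF D.eF) (by rw [← h2]; exact hfu') huP
      refine DiagCore.not_le_comp S.comp heS hee h1 huS huu hfuP m1 ?_ c1 hle
      rw [← h2]
      exact m2
    have hsew : s * (e * w) = e * w * s := by
      rw [← mul_assoc, hse, mul_assoc, hsw, mul_assoc]
    rcases DiagCore.perm S.comp heS hee h1 (mem_c hsw.symm) (comm_of_el D.el hw.1 D.eF)
      (by rw [← h2]; exact (hfu w hw hsw).1) with h | h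
    · exact key w hw hsw h
    · refine key (e * w) hew hsew ?_
      rw [cj_mul, h, ← cj_mul, hee, cj_one]

end dg

/-! ### the main theorem -/

section main

variable {x a : G} {L₁ L₂ : Subgroup G}

/-- the pump-up of `L₁` in `C(s)`, `s ∈ L₂`, is trivial, or there is a pair -/
theorem alt (W : World G Q) (T₁ : Tri Q x a L₁) (T₂ : Tri Q x a L₂) (hne : L₁ ≠ L₂) :
    TP Q a L₁ L₂ ∨ ∃ (e : G) (N N' : Subgroup G), N ≠ N' ∧ TP Q e N N' ∧ TP Q e N' N := by
  obtain ⟨s, hs, hso, hsx⟩ := W.ex T₂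
  obtain ⟨F, h⟩ := exists_FF W T₂ hs hso
  have haa := sq_of_order T₁.inva
  have hsa : s ≠ a := by
    rintro rfl
    exact ne_one_of_order hso (W.simp T₂ hs (sq_of_order hso) (fixes_self' T₂.comp.le))
  have hsa' := h.comm h.sF h.aF
  obtain ⟨P, S, hor⟩ := W.pump T₁ hso hsa' hsx (h.fixes T₁ T₂ hne h.sF)
  rcases hor with hsup | ⟨hneP, hdia⟩
  · exact Or.inl ⟨x, s, T₁, T₂, hs, hso, hsx, P, S, hsup⟩
  · right
    have hS' : Tri Q x s (cj a P) := by
      have h1 := W.cj S a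
      rwa [T₁.comm, mul_inv_cancel_right, h.comm h.aF h.sF, mul_inv_cancel_right] at h1
    have D : Dg Q x a s L₁ P F := ⟨S, hS', hneP, T₁.comp, hdia, haa, h.el, h.card, h.aF, h.sF, hsa,
      fun u hu => h.fixes T₁ T₂ hne hu⟩
    have hPW : PumpW a L₁ F := by
      intro u hu h1 h2
      obtain ⟨x', t1, -, hux⟩ := exists_bad W T₁ T₂ hne hs hso hsx h hu h1 h2
      obtain ⟨R, S', hor⟩ := W.pump t1 (order_of_el h.el hu h1) (h.comm hu h.aF) hux
        (h.fixes T₁ T₂ hne hu)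
      exact ⟨R, S'.comp, hor⟩
    have h1 := D.tp W hPW
    refine ⟨s, P, cj a P, hneP.symm, ?_, h1⟩
    have h2 := TP.cj W h1 a
    rwa [h.comm h.aF h.sF, mul_inv_cancel_right, ← cj_mul, haa, cj_one] at h2

/-- **Existence of a pair, modulo cores.** -/
theorem exists_tp (W : World G Q) (T₁ : Tri Q x a L₁) (T₂ : Tri Q x a L₂) (hne : L₁ ≠ L₂) :
    ∃ (e : G) (N N' : Subgroup G), N ≠ N' ∧ TP Q e N N' ∧ TP Q e N' N := by
  rcases alt W T₁ T₂ hne with h1 | h1
  · rcases alt W T₂ T₁ hne.symm with h2 | h2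
    · exact ⟨a, L₁, L₂, hne, h1, h2⟩
    · exact h2
  · exact h1

end main

/-! ### Lemma X -/

omit [Finite G] in
/-- a conjugate `k` of `s` in `⟨s, e⟩` with `k k^e = k^e k`, if `[s, s^e] ∈ O`, `|O|` odd -/
theorem exists_commuting_conj [Finite G] {O : Subgroup G} (hO : Odd (Nat.card ↥O)) {s e : G}
    (hs : s * s = 1) (he : e * e = 1) (h : s * (e * s * e) * (s * (e * s * e)) ∈ O) :
    ∃ c ∈ O, c * s * c⁻¹ * (e * (c * s * c⁻¹) * e) = e * (c * s * c⁻¹) * e * (c * s * c⁻¹) := by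
  have hsi : s⁻¹ = s := inv_eq_of_mul_eq_one_left hs
  have hei : e⁻¹ = e := inv_eq_of_mul_eq_one_left he
  obtain ⟨g, hg⟩ : ∃ g, g = s * e := ⟨_, rfl⟩
  have hgi : g⁻¹ = e * s := by rw [hg, mul_inv_rev, hsi, hei]
  have hg4 : g ^ 4 ∈ O := by
    have : g ^ 4 = s * (e * s * e) * (s * (e * s * e)) := by
      rw [hg]
      simp only [pow_succ, pow_zero, one_mul, mul_assoc]
    rw [this]
    exact h
  -- `s g s = g⁻¹`, `e g e = g⁻¹`
  have h1 : s * g * s⁻¹ = g⁻¹ := by rw [hgi, hg, hsi, ← mul_assoc, hs, one_mul]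
  have h2 : e * g * e⁻¹ = g⁻¹ := by rw [hgi, hg, hei, mul_assoc, mul_assoc, he, mul_one]
  have h1' : ∀ n : ℕ, s * g ^ n * s⁻¹ = (g ^ n)⁻¹ := by
    intro n
    have := conj_pow (i := n) (a := s) (b := g)
    rw [← this, h1, inv_pow]
  have h2' : ∀ n : ℕ, e * g ^ n * e⁻¹ = (g ^ n)⁻¹ := by
    intro n
    have := conj_pow (i := n) (a := e) (b := g)
    rw [← this, h2, inv_pow]
  have h3' : ∀ n : ℕ, s * (g ^ n)⁻¹ = g ^ n * s := by
    intro n
    have h8 := congrArg (fun z => z⁻¹) (h1' n)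
    simp only [mul_inv_rev, inv_inv] at h8
    calc s * (g ^ n)⁻¹ = s * ((g ^ n)⁻¹ * s⁻¹) * s := by group
      _ = g ^ n * s := by rw [h8]
  -- `i` with `m ∣ 8 i + 1`
  obtain ⟨m, hm⟩ : ∃ m, m = Nat.card ↥O := ⟨_, rfl⟩
  obtain ⟨i, hi⟩ : ∃ i, m ∣ 8 * i + 1 := by
    rw [← hm] at hO
    obtain ⟨r, hr⟩ := hO
    obtain ⟨t, ht⟩ := Nat.even_mul_succ_self r
    refine ⟨t, ?_⟩
    have : 8 * t + 1 = m * m := by
      rw [hr]
      have : 4 * (r * (r + 1)) = 8 * t := by rw [ht]; ring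
      nlinarith
    rw [this]
    exact dvd_mul_right m m
  have hone : (g ^ 4) ^ (8 * i + 1) = 1 := by
    obtain ⟨q, hq⟩ := hi
    have h3 := pow_card_eq_one' (x := (⟨g ^ 4, hg4⟩ : ↥O))
    have h4 : (g ^ 4) ^ m = 1 := by
      rw [hm]
      exact congrArg Subtype.val h3
    rw [hq, pow_mul, h4, one_pow]
  obtain ⟨c, hc⟩ : ∃ c, c = (g ^ 4) ^ i := ⟨_, rfl⟩
  refine ⟨c, hc ▸ pow_mem hg4 i, ?_⟩
  have hcg : c = g ^ (4 * i) := by rw [hc, pow_mul]
  -- `c s c⁻¹ = g ^ (8 i) s`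
  have h5 : c * s * c⁻¹ = g ^ (8 * i) * s := by
    rw [hcg, mul_assoc, h3', ← mul_assoc, ← pow_add]
    congr 2
    ring
  have h6 : e * (c * s * c⁻¹) * e = (g ^ (8 * i + 2))⁻¹ * s := by
    rw [h5]
    have h7 := h2' (8 * i)
    have h8 : e * s * e = (g ^ 2)⁻¹ * s := by
      rw [pow_two, mul_inv_rev, hgi]
      simp only [mul_assoc, hs, mul_one]
    calc e * (g ^ (8 * i) * s) * e = (e * g ^ (8 * i) * e⁻¹) * (e * s * e) := by group
      _ = (g ^ (8 * i))⁻¹ * ((g ^ 2)⁻¹ * s) := by rw [h7, h8]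
      _ = (g ^ (8 * i + 2))⁻¹ * s := by
        rw [← mul_assoc, ← mul_inv_rev, ← pow_add, Nat.add_comm 2]
  rw [h6, h5]
  have h7 := h3' (8 * i + 2)
  have h7' : s * g ^ (8 * i) = (g ^ (8 * i))⁻¹ * s := by
    rw [← h1' (8 * i)]
    group
  have e1 : g ^ (8 * i) * s * ((g ^ (8 * i + 2))⁻¹ * s) = g ^ (16 * i + 2) := by
    calc g ^ (8 * i) * s * ((g ^ (8 * i + 2))⁻¹ * s) = g ^ (8 * i) * (s * (g ^ (8 * i + 2))⁻¹) * s := by
          group
      _ = g ^ (8 * i) * (g ^ (8 * i + 2) * s) * s := by rw [h7]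
      _ = g ^ (8 * i) * g ^ (8 * i + 2) * (s * s) := by group
      _ = g ^ (16 * i + 2) := by
        rw [hs, mul_one, ← pow_add]
        congr 1
        ring
  have e2 : (g ^ (8 * i + 2))⁻¹ * s * (g ^ (8 * i) * s) = (g ^ (16 * i + 2))⁻¹ := by
    calc (g ^ (8 * i + 2))⁻¹ * s * (g ^ (8 * i) * s) = (g ^ (8 * i + 2))⁻¹ * (s * g ^ (8 * i)) * s := by
          group
      _ = (g ^ (8 * i + 2))⁻¹ * ((g ^ (8 * i))⁻¹ * s) * s := by rw [h7']
      _ = (g ^ (8 * i + 2))⁻¹ * (g ^ (8 * i))⁻¹ * (s * s) := by group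
      _ = (g ^ (16 * i + 2))⁻¹ := by
        rw [hs, mul_one, ← mul_inv_rev, ← pow_add]
        congr 2
        ring
  rw [e1, e2, eq_inv_iff_mul_eq_one, ← pow_add]
  have : 16 * i + 2 + (16 * i + 2) = 4 * (8 * i + 1) := by ring
  rw [this, pow_mul, hone]

/-- **Lemma X**: the pump-up of `N` in `C(e t)` is trivial, `t` an involution of `N'` -/
theorem lemmaX (W : World G Q) {x e t : G} {N N' : Subgroup G} (hne : N ≠ N') (h' : TP Q e N' N)
    (T : Tri Q x e N) (T' : Tri Q x e N') (ht : t ∈ N') (hto : orderOf t = 2) (htx : t * x = x * t) :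
    ∃ P, Tri Q x (e * t) P ∧ cen N (e * t) ⊔ core P = P := by
  have hee := sq_of_order T.inva
  have htt := sq_of_order hto
  have het : e * t = t * e := (comm_c (T'.comp.le ht)).symm
  have hne' : e ≠ t := by
    rintro rfl
    exact ne_one_of_order hto (W.simp T' ht htt (fixes_self' T'.comp.le))
  have ho := order_mul hee htt het hne'
  have hoo := sq_of_order ho
  have hfe : Fixes e N := fixes_self' T.comp.le
  have hft : Fixes t N := T.comp.fixes_of_mem T'.comp hne ht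
  have c1 : e * t * e = e * (e * t) := by rw [mul_assoc, ← het]
  have c2 : e * t * x = x * (e * t) := by
    have h1 : Commute e x := T.comm
    have h2 : Commute t x := htx
    exact (h1.mul_left h2).eq
  obtain ⟨S, TS, hor⟩ := W.pump T ho c1 c2 (fixes_mul hfe hft)
  refine ⟨S, TS, ?_⟩
  rcases hor with h1 | ⟨h1, h2⟩
  · exact h1
  exfalso
  obtain ⟨X, hX⟩ : ∃ X, X = centralizer ({e * t} : Set G) := ⟨_, rfl⟩
  have heX : e ∈ X := hX ▸ mem_c c1.symm
  have hSX : IsComp X S := hX ▸ TS.comp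
  have hSe := isComp_cj_of_mem hSX heX
  -- `k ∈ S` with `k k^e = k^e k`
  obtain ⟨s₀, hs₀, hso₀, -⟩ := W.ex TS
  have hss₀ := sq_of_order hso₀
  have hei : e⁻¹ = e := inv_eq_of_mul_eq_one_left hee
  have hs₀e : e * s₀ * e ∈ cj e S := by
    have := conj_mem_cj (g := e) hs₀
    rwa [hei] at this
  have hcom : ⁅s₀, e * s₀ * e⁆ ∈ core X :=
    hSX.core_le_core ((hSX.comm_le_core hSe (Ne.symm h1)) (commutator_mem_commutator hs₀ hs₀e)).1
  have hsi : s₀⁻¹ = s₀ := inv_eq_of_mul_eq_one_left hss₀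
  have hcom' : s₀ * (e * s₀ * e) * (s₀ * (e * s₀ * e)) ∈ core X := by
    have e1 : (e * s₀ * e)⁻¹ = e * s₀ * e := by
      rw [mul_inv_rev, mul_inv_rev, hei, hsi, mul_assoc]
    have e2 : ⁅s₀, e * s₀ * e⁆ = s₀ * (e * s₀ * e) * (s₀ * (e * s₀ * e)) := by
      rw [commutatorElement_def, e1, hsi]
      group
    rwa [← e2]
  obtain ⟨c, hc, hcomm⟩ := exists_commuting_conj (odd_card_core X) hss₀ hee hcom'
  obtain ⟨k, hk⟩ : ∃ k, k = c * s₀ * c⁻¹ := ⟨_, rfl⟩
  rw [← hk] at hcomm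
  have hkS : k ∈ S := by
    have h3 := (hSX.fixes_of_core hc).1
    rw [hk]
    exact (mem_normalizer_iff.mp h3 s₀).mp hs₀
  have hkk : k * k = 1 := by
    rw [hk]
    calc c * s₀ * c⁻¹ * (c * s₀ * c⁻¹) = c * (s₀ * s₀) * c⁻¹ := by group
      _ = 1 := by rw [hss₀]; group
  have hk1 : k ≠ 1 := by
    intro h3
    apply ne_one_of_order hso₀
    have h4 : s₀ = c⁻¹ * k * c := by rw [hk]; group
    rw [h4, h3]
    group
  obtain ⟨n, hn⟩ : ∃ n, n = k * (e * k * e) := ⟨_, rfl⟩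
  have hkX : k ∈ X := hSX.le hkS
  have hek : e * k * e ∈ cj e S := by
    have := conj_mem_cj (g := e) hkS
    rwa [hei] at this
  have hekk : e * k * e * (e * k * e) = 1 := by
    calc e * k * e * (e * k * e) = e * k * (e * e) * k * e := by group
      _ = e * (k * k) * e := by rw [hee]; group
      _ = 1 := by rw [hkk, mul_one, hee]
  have hnn : n * n = 1 := by
    calc n * n = k * (e * k * e) * (k * (e * k * e)) := by rw [hn]
      _ = k * ((e * k * e) * k) * (e * k * e) := by group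
      _ = k * (k * (e * k * e)) * (e * k * e) := by rw [hcomm]
      _ = (k * k) * ((e * k * e) * (e * k * e)) := by group
      _ = 1 := by rw [hkk, hekk, one_mul]
  have hn1 : n ≠ 1 := by
    intro h3
    apply hk1
    refine W.simp TS hkS hkk ?_
    have h4 : k = e * k * e := by
      rw [hn] at h3
      rw [← inv_eq_of_mul_eq_one_right h3, inv_eq_of_mul_eq_one_left hkk]
    rw [h4]
    exact hSX.fixes_of_mem hSe (Ne.symm h1) hek
  have hno : orderOf n = 2 := orderOf_eq_prime (by rw [pow_two]; exact hnn) hn1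
  have hne2 : n * e = e * n := by
    calc n * e = k * (e * k * e) * e := by rw [hn]
      _ = (e * k * e) * k * e := by rw [hcomm]
      _ = e * (k * (e * k * e)) := by group
      _ = e * n := by rw [hn]
  have hnX : n ∈ X := hn ▸ mul_mem hkX (hSe.le hek)
  have hnc : n ∈ cen N (e * t) := by
    rw [h2, ← hX]
    refine mem_diag (k := k) (n := 1) hnX hne2 hkS ?_ (by rw [pow_one, pow_two]; exact hnn)
    rw [hei, hn, inv_mul_cancel]
    exact one_mem _
  have hnN := cen_le _ _ hnc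
  obtain ⟨x₂, -, -, -, P₂, S₂, h3⟩ := h'.all W hne.symm hnN hno
  -- `t ∈ P₂`
  have hnt : t * n = n * t := by
    have h4 : Commute n (e * t) := comm_of_mem_cen hnc
    have h5 : Commute n e := hne2
    have h6 := h5.mul_right h4
    rw [← mul_assoc, hee, one_mul] at h6
    exact h6.eq.symm
  have hP₂ : cen N' n ≤ P₂ := by
    rw [← h3]
    exact le_sup_left
  have htP : t ∈ P₂ := hP₂ (mem_cen_of_sq ht hnt htt)
  -- `t ^ k = n t`
  have hkn : k * n = n * k := by
    calc k * n = k * (k * (e * k * e)) := by rw [hn]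
      _ = k * (e * k * e * k) := by rw [hcomm]
      _ = n * k := by rw [hn]; group
  have hki : k⁻¹ = k := inv_eq_of_mul_eq_one_left hkk
  have hket : k * (e * t) = e * t * k := by
    rw [hX] at hkX
    exact comm_c hkX
  have hkt : k * t * k⁻¹ = n * t := by
    have e3 : k * (e * t) * k⁻¹ = e * t := by rw [hket, mul_inv_cancel_right]
    have e4 : k * e * k⁻¹ = n * e := by
      rw [hki, hn]
      calc k * e * k = k * (e * k * (e * e)) := by rw [hee]; group
        _ = k * (e * k * e) * e := by group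
    calc k * t * k⁻¹ = k * (e * e * t) * k⁻¹ := by rw [hee, one_mul]
      _ = (k * e * k⁻¹) * (k * (e * t) * k⁻¹) := by group
      _ = n * e * (e * t) := by rw [e3, e4]
      _ = n * (e * e) * t := by group
      _ = n * t := by rw [hee, mul_one]
  have hkn' : k ∈ centralizer ({n} : Set G) := mem_c hkn
  have hPk := isComp_cj_of_mem S₂.comp hkn'
  have hntP : n * t ∈ cj k P₂ := by
    rw [← hkt]
    exact conj_mem_cj htP
  have hfn : Fixes n P₂ := fixes_self' S₂.comp.le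
  by_cases h4 : cj k P₂ = P₂
  · rw [h4] at hntP
    have h5 : n ∈ P₂ := by
      have := mul_mem hntP (inv_mem htP)
      rwa [mul_inv_cancel_right] at this
    exact hn1 (W.simp S₂ h5 hnn hfn)
  · have h5 := S₂.comp.fixes_of_mem hPk (Ne.symm h4) hntP
    have h6 := fixes_mul (fixes_inv hfn) h5
    rw [inv_mul_cancel_left] at h6
    exact ne_one_of_order hto (W.simp S₂ htP htt h6)

/-- **The pair, modulo cores.** -/
theorem exists_two (W : World G Q) {x a : G} {L₁ L₂ : Subgroup G} (T₁ : Tri Q x a L₁)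
    (T₂ : Tri Q x a L₂) (hne : L₁ ≠ L₂) :
    ∃ (x e t : G) (N N' : Subgroup G), N ≠ N' ∧ TP Q e N N' ∧ TP Q e N' N ∧ Tri Q x e N ∧
      Tri Q x e N' ∧ t ∈ N' ∧ orderOf t = 2 ∧ t * x = x * t ∧
      (∃ P, Tri Q x t P ∧ cen N t ⊔ core P = P) ∧
      ∃ P, Tri Q x (e * t) P ∧ cen N (e * t) ⊔ core P = P := by
  obtain ⟨e, N, N', hne', h, h'⟩ := exists_tp W T₁ T₂ hne
  obtain ⟨x', t, T, T', ht, hto, htx, hP⟩ := id h
  exact ⟨x', e, t, N, N', hne', h, h', T, T', ht, hto, htx, hP, lemmaX W hne' h' T T' ht hto htx⟩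

end Cfsg.Agent.UGT.Res.TwoCore
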