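import Cfsg.Agent.OddHalf.D6.SubFix
import Cfsg.Agent.GH.L2AutF
import Cfsg.Agent.OddHalf.D6.PumpDown

/-!
# Facts on `Aut(L)`, `L ≅ PSL(2,F)`, for the residual world

* `odd_normal`: `L` has no nontrivial normal subgroup of odd order (also for `|F| = 3`).
* `o1_of_unbal`: `φ` a non inner involution, `D ≠ 1` of odd order, centralised by `φ` and normalised by `C_L(φ)`: `φ` is
  of PGL type (`o1 φ = -1`).
* `eq_of_fix`: a 2-element fixing `b ≠ 1` of odd order, `φ b = b`, `φ` of PGL type, is `1` or `φ`.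
* `fld_eq_one`: automorphisms of odd order are in `PGL` for `|F| ≤ 9`; `inn_of_odd`.
-/

set_option autoImplicit false

namespace Cfsg.Agent.UGT.Res.L2Fact

open Matrix Cfsg.Agent.GH.L2Aut Cfsg.Agent.OddHalf.D6 Cfsg.Agent.Lib.SL2Mat

variable {F : Type*} [Field F] [Finite F] {L : Type*} [Group L] (R : Cfsg.Agent.GH.L2Aut.Rep F L)

include R

/-- `L` has no nontrivial normal subgroup of odd order -/
theorem odd_normal (hF : 3 ≤ Nat.card F) {N : Subgroup L} (hN : N.Normal) (ho : Odd (Nat.card N)) :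
    N = ⊥ := by
  have := R.finite
  obtain ⟨a, b, hab⟩ := R.exists_four
  obtain ⟨-, y, -, -, -, -, -, hyy, hy1, hya, -⟩ := R.exists_frame hab
  -- `N` has no involution
  have hno : ∀ z ∈ N, z * z = 1 → z = 1 := by
    intro z hz hzz
    refine PglType.eq_one_of_odd_sq hzz (Odd.of_dvd_nat ho ?_)
    have h1 := orderOf_dvd_natCard (⟨z, hz⟩ : N)
    rwa [Subgroup.orderOf_mk] at h1
  rcases Nat.lt_or_ge 3 (Nat.card F) with h3 | h3
  · have hs : IsSimpleGroup L := SubFix.isSimple R h3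
    rcases hN.eq_bot_or_eq_top with h | h
    · exact h
    · exfalso
      exact hab.a1 (hno a (by rw [h]; trivial) hab.aa)
  · by_contra hne
    have hF3 : Nat.card F = 3 := le_antisymm h3 hF
    have hcard : Nat.card L * 2 = 24 := by
      rw [R.card_mul_two, hF3]; norm_num
    have hcard' : Nat.card L = 12 := by omega
    have hNd : Nat.card N ∣ 12 := hcard' ▸ Subgroup.card_subgroup_dvd_card N
    have hN1 : Nat.card N ≠ 1 := fun h => hne (Subgroup.card_eq_one.mp h)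
    have hN3 : Nat.card N = 3 := by
      have h4 : Nat.card N ≤ 12 := Nat.le_of_dvd (by norm_num) hNd
      obtain ⟨k, hk⟩ := ho
      have h5 : Nat.card N ∈ ({1, 2, 3, 4, 6, 12} : Finset ℕ) := by
        have : Nat.card N ∈ Nat.divisors 12 := Nat.mem_divisors.mpr ⟨hNd, by norm_num⟩
        exact this
      simp only [Finset.mem_insert, Finset.mem_singleton] at h5
      omega
    -- `y ∈ N`
    have hyN : y ∈ N := by
      have h6 := N.card_mul_index
      rw [hN3, hcard'] at h6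
      have h7 : N.index = 4 := by omega
      have h8 := N.pow_index_mem y
      rw [h7] at h8
      have h9 : y ^ 4 = y := by
        rw [pow_succ, pow_succ, pow_two, hyy, one_mul]
      rwa [h9] at h8
    -- the commutator
    have h6 : a * y * a⁻¹ * y⁻¹ ∈ N := mul_mem (hN.conj_mem y hyN a) (inv_mem hyN)
    have h7 : a * y * a⁻¹ * y⁻¹ = a * b := by
      have h8 : a⁻¹ = a := inv_eq_of_mul_eq_one_left hab.aa
      rw [← hya, h8]; group
    rw [h7] at h6
    exact hab.ne (by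
      have h9 := hno _ h6 (by
        calc a * b * (a * b) = a * (b * a) * b := by group
          _ = a * (a * b) * b := by rw [hab.comm]
          _ = (a * a) * (b * b) := by group
          _ = 1 := by rw [hab.aa, hab.bb, one_mul])
      calc a = a * (b * b) := by rw [hab.bb, mul_one]
        _ = a * b * b := by group
        _ = b := by rw [h9, one_mul])

omit R in
/-- `R.sub K` is normalized by the fixed points of the field automorphism -/
theorem sub_normal (R' : Cfsg.Agent.GH.L2Aut.Rep F L) {K : Subfield F} {σ : F ≃+* F}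
    (hm : Even (orderOf σ)) (hK : ∀ a, a ∈ K ↔ σ a = a)
    (hcard : Nat.card F = Nat.card K ^ orderOf σ) {c m : L} (hc : R'.fa σ c = c)
    (hmK : m ∈ R'.sub K) : c * m * c⁻¹ ∈ R'.sub K := by
  obtain ⟨w, hw, hwn, hwx⟩ := R'.exists_outer hm hK hcard
  by_cases h1 : c ∈ R'.sub K
  · exact mul_mem (mul_mem h1 hmK) (inv_mem h1)
  · have hfm : R'.fa σ m = m := R'.sub_le_fix hK hmK
    have h3 : c * m ∉ R'.sub K := fun h4 => h1 (by
      have := mul_mem h4 (inv_mem hmK)
      rwa [mul_inv_cancel_right] at this)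
    have h4 : R'.fa σ (c * m) = c * m := by rw [map_mul, hc, hfm]
    have h5 := hwx c hc h1
    have h6 := hwx (c * m) h4 h3
    -- `w c, w c m ∈ K`; `c m c⁻¹ = (w⁻¹) ... `
    have h7 : c⁻¹ ∉ R'.sub K := fun h => h1 (inv_mem_iff.1 h)
    have h8 := hwx c⁻¹ (by rw [Cfsg.Agent.GH.L2Aut.mem_fixSub, map_inv, hc]) h7
    -- index two: products of two outer elements are inner
    have key : ∀ u v : L, R'.fa σ u = u → R'.fa σ v = v → u ∉ R'.sub K → v ∉ R'.sub K →
        u * v ∈ R'.sub K := by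
      intro u v hu hv hu' hv'
      have e1 := hwx u⁻¹ (by rw [Cfsg.Agent.GH.L2Aut.mem_fixSub, map_inv, hu])
        (fun h => hu' (inv_mem_iff.1 h))
      have e2 := hwx v hv hv'
      have e3 : u * v = (w * u⁻¹)⁻¹ * (w * v) := by group
      rw [e3]
      exact mul_mem (inv_mem e1) e2
    exact key (c * m) c⁻¹ h4 (by rw [map_inv, hc]) h3 h7

/-- an unbalancing non inner involution is of PGL type -/
theorem o1_of_unbal {φ : MulAut L} (h2 : φ * φ = 1) (hI : φ ∉ (MulAut.conj : L →* MulAut L).range)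
    {D : Subgroup (MulAut L)} (hD : Odd (Nat.card D)) (hDφ : ∀ δ ∈ D, δ * φ = φ * δ)
    (hDn : ∀ k : L, φ k = k → ∀ δ ∈ D, MulAut.conj k * δ * (MulAut.conj k)⁻¹ ∈ D) (hD1 : D ≠ ⊥) :
    R.o1 φ = -1 := by
  have := R.finite
  by_contra ho
  have ho' : R.o1 φ = 1 := by
    rcases Int.units_eq_one_or (R.o1 φ) with h | h
    · exact h
    · exact absurd h ho
  obtain ⟨σ, hσ⟩ : ∃ σ, σ = R.fld φ := ⟨_, rfl⟩
  have hf : σ ≠ 1 := fun h => hI (R.mem_inn_iff.2 ⟨hσ ▸ h, ho'⟩)
  have hσ2 : σ * σ = 1 := by rw [hσ, ← map_mul, h2, map_one]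
  have hord : orderOf σ = 2 := by
    rw [orderOf_eq_prime_iff]
    exact ⟨by rw [sq]; exact hσ2, hf⟩
  obtain ⟨R', -, -, hR'⟩ := R.exists_rep φ (by rw [← hσ, hord, sq, h2])
  rw [← hσ] at hR'
  obtain ⟨K, hK, hcard⟩ := Cfsg.Agent.GH.L2Aut.exists_fixed_field σ
  have heven : Even (orderOf σ) := by rw [hord]; decide
  -- orders in `D`
  have hodd : ∀ δ ∈ D, Odd (orderOf δ) := by
    intro δ hδ
    refine Odd.of_dvd_nat hD ?_
    have h1 := orderOf_dvd_natCard (⟨δ, hδ⟩ : D)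
    rwa [Subgroup.orderOf_mk] at h1
  have hfix : ∀ m ∈ R'.sub K, φ m = m := by
    intro m hm
    rw [hR']
    exact R'.sub_le_fix hK hm
  have hnorm : ∀ c, φ c = c → ∀ m ∈ R'.sub K, c * m * c⁻¹ ∈ R'.sub K := by
    intro c hc m hm
    rw [hR'] at hc
    exact sub_normal R' heven hK hcard hc hm
  have hone : ∀ δ ∈ D, (∀ m ∈ R'.sub K, δ m = m) → δ = 1 := fun δ hδ h =>
    SubFix.eq_one_of_sub R' hσ2 hf hK (hodd δ hδ) h
  have hK3 : 3 ≤ Nat.card K := by
    have h3 : Odd (Nat.card K) := Cfsg.Agent.GH.L2Aut.odd_card (Cfsg.Agent.GH.L2Aut.two_sub R'.two K)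
    have h4 : 1 < Nat.card K := Finite.one_lt_card
    obtain ⟨k, hk⟩ := h3
    omega
  -- the normal subgroup `N` of `C(φ)`
  have hconj : ∀ (δ : MulAut L) (k : L), MulAut.conj (δ k) = δ * MulAut.conj k * δ⁻¹ := by
    intro δ k
    ext z
    simp only [MulAut.conj_apply, MulAut.mul_apply, map_mul, map_inv, MulAut.apply_inv_self]
  have hδfix : ∀ δ ∈ D, ∀ k, φ k = k → φ (δ k) = δ k := by
    intro δ hδ k hk
    have h1 := DFunLike.congr_fun (hDφ δ hδ) k
    simp only [MulAut.mul_apply] at h1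
    rw [← h1, hk]
  have hN1 : ∀ n, φ n = n → MulAut.conj n ∈ D → n = 1 := by
    -- `N ∩ sub K = 1`
    let A : Subgroup (R'.sub K) := (D.comap (MulAut.conj : L →* MulAut L)).subgroupOf (R'.sub K)
    have hA : A = ⊥ := by
      refine odd_normal (R'.subRep K) hK3 ⟨?_⟩ ?_
      · rintro ⟨n, hn⟩ hnA ⟨g, hg⟩
        change MulAut.conj (g * n * g⁻¹) ∈ D
        rw [map_mul, map_mul, map_inv]
        exact hDn g (hfix g hg) _ hnA
      · refine Odd.of_dvd_nat hD ?_
        have hinj : Function.Injective ((MulAut.conj : L →* MulAut L).comp (R'.sub K).subtype) :=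
          R.conj_injective.comp (Subgroup.subtype_injective _)
        have e1 : Nat.card A = Nat.card (A.map ((MulAut.conj : L →* MulAut L).comp
            (R'.sub K).subtype)) := (Subgroup.card_map_of_injective hinj).symm
        rw [e1]
        apply Subgroup.card_dvd_of_le
        rintro _ ⟨n, hn, rfl⟩
        exact hn
    intro n hn hnD
    apply R.conj_injective
    rw [map_one]
    refine hone _ hnD fun m hm => ?_
    have h1 : n * m * n⁻¹ * m⁻¹ ∈ R'.sub K := mul_mem (hnorm n hn m hm) (inv_mem hm)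
    have h3 : (⟨n * m * n⁻¹ * m⁻¹, h1⟩ : R'.sub K) ∈ A := by
      change MulAut.conj (n * m * n⁻¹ * m⁻¹) ∈ D
      have e : n * m * n⁻¹ * m⁻¹ = n * (m * n⁻¹ * m⁻¹) := by group
      rw [e, map_mul]
      refine mul_mem hnD ?_
      rw [map_mul, map_mul, map_inv, map_inv]
      exact hDn m (hfix m hm) _ (inv_mem hnD)
    rw [hA, Subgroup.mem_bot] at h3
    have h4 : n * m * n⁻¹ * m⁻¹ = 1 := congrArg Subtype.val h3
    rw [MulAut.conj_apply]
    exact mul_inv_eq_one.mp h4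
  apply hD1
  rw [Subgroup.eq_bot_iff_forall]
  intro δ hδ
  refine hone δ hδ fun k hk => ?_
  have hkf := hfix k hk
  have h1 : MulAut.conj (k * (δ k)⁻¹) ∈ D := by
    rw [map_mul, map_inv, hconj]
    have e : MulAut.conj k * (δ * MulAut.conj k * δ⁻¹)⁻¹ =
        MulAut.conj k * δ * (MulAut.conj k)⁻¹ * δ⁻¹ := by group
    rw [e]
    exact mul_mem (hDn k hkf δ hδ) (inv_mem hδ)
  have h3 := hN1 (k * (δ k)⁻¹) (by rw [map_mul, map_inv, hkf, hδfix δ hδ k hkf]) h1
  exact (mul_inv_eq_one.mp h3).symm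

/-- two involutions of `PGL` fixing an element `b ≠ 1` of odd order are equal -/
theorem pgl_eq_of_fix {φ φ' : MulAut L} (h1 : φ ∈ R.PGL) (hne : φ ≠ 1) (h2 : φ * φ = 1)
    (h1' : φ' ∈ R.PGL) (hne' : φ' ≠ 1) (h2' : φ' * φ' = 1) {b : L} (hb1 : b ≠ 1)
    (hbo : Odd (orderOf b)) (hb : φ b = b) (hb' : φ' b = b) : φ' = φ := by
  obtain ⟨g, rfl⟩ := R.mem_PGL.1 h1
  obtain ⟨g', rfl⟩ := R.mem_PGL.1 h1'
  obtain ⟨t, ht⟩ := R.mem_PGL.1 (R.conj_mem_PGL b)
  have ht1 : R.gl t ≠ 1 := fun h => hb1 (R.conj_injective (by rw [ht, h, map_one]))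
  have hcomm : ∀ u : GL (Fin 2) F, R.gl u b = b → t.1 * u.1 = u.1 * t.1 := by
    intro u hu
    have h3 : R.gl t * R.gl u = R.gl u * R.gl t := by
      rw [← ht, Rep.conj_comm_iff, hu]
    rcases R.comm_cases h3 with h | h
    · exact h
    · exfalso
      have h4 := R.anticomm_inv h
      rw [← ht, ← map_mul] at h4
      have h5 : b * b = 1 := R.conj_injective (by rw [h4, map_one])
      exact hb1 (PglType.eq_one_of_odd_sq h5 hbo)
  have hg := hcomm g hb
  have hg' := hcomm g' hb'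
  obtain ⟨a, c, hac⟩ := exists_ab (R.not_scalar_of_ne ht1) hg
  have hgg : g.1 * g'.1 = g'.1 * g.1 := by
    rw [hac, Matrix.add_mul, Matrix.mul_add, Matrix.smul_mul, Matrix.smul_mul, Matrix.mul_smul,
      Matrix.mul_smul, Matrix.one_mul, Matrix.mul_one, hg']
  rcases R.torus_inv (R.not_scalar_of_ne hne) (R.tr_of_inv hne h2) hgg h2' with h | h
  · exact absurd h hne'
  · exact h

/-- a 2-element fixing `b ≠ 1` of odd order, `φ b = b`, `φ` of PGL type, is `1` or `φ` -/
theorem eq_of_fix {φ : MulAut L} (h : φ * φ = 1) (ho : R.o1 φ = -1) {b : L} (hb1 : b ≠ 1)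
    (hbo : Odd (orderOf b)) (hb : φ b = b) {γ : MulAut L} (hγ2 : ∃ n, γ ^ 2 ^ n = 1)
    (hγb : γ b = b) : γ = 1 ∨ γ = φ := by
  obtain ⟨hP, -⟩ := PglType.pgl_of R h ho
  have hne := PglType.ne_one R ho
  have h1 : γ * φ * γ⁻¹ = φ := by
    have o1' : R.o1 (γ * φ * γ⁻¹) = -1 := by rw [R.o1_conj_eq, ho]
    have h2' : γ * φ * γ⁻¹ * (γ * φ * γ⁻¹) = 1 := by
      have e : γ * φ * γ⁻¹ * (γ * φ * γ⁻¹) = γ * (φ * φ) * γ⁻¹ := by group
      rw [e, h, mul_one, mul_inv_cancel]
    have hP' := (PglType.pgl_of R h2' o1').1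
    refine pgl_eq_of_fix R hP hne h hP' (PglType.ne_one R o1') h2' hb1 hbo hb ?_
    have e1 : γ⁻¹ b = b := by
      rw [← hγb, MulAut.inv_apply_self, hγb]
    rw [MulAut.mul_apply, MulAut.mul_apply, e1, hb, hγb]
  have hc : γ * φ = φ * γ := mul_inv_eq_iff_eq_mul.mp h1
  have hγγ := PglType.mul_self_of_fix R h ho hb1 hbo hb hγ2 hc hγb
  by_cases hγ1 : γ = 1
  · exact Or.inl hγ1
  right
  have hγP : γ ∈ R.PGL := by
    rw [R.mem_PGL_iff_fld]
    by_contra hf
    have h3 := R.o1_of_comm hγγ hf hc.symm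
    rw [ho] at h3
    exact absurd h3 (by decide)
  exact pgl_eq_of_fix R hP hne h hγP hγ1 hγγ hb1 hbo hb hγb

/-- an automorphism of odd order has `o1 = 1` -/
theorem o1_of_odd {δ : MulAut L} (ho : Odd (orderOf δ)) : R.o1 δ = 1 := by
  rcases Int.units_eq_one_or (R.o1 δ) with h | h
  · exact h
  · exfalso
    have h1 : R.o1 δ ^ orderOf δ = 1 := by rw [← map_pow, pow_orderOf_eq_one, map_one]
    rw [h, ho.neg_one_pow] at h1
    exact absurd h1 (by decide)

/-- automorphisms of odd order of `PSL(2,q)`, `q < 27`, are inner -/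
theorem inn_of_odd (hF : Nat.card F < 27) {δ : MulAut L} (ho : Odd (orderOf δ)) :
    δ ∈ (MulAut.conj : L →* MulAut L).range := by
  rw [R.mem_inn_iff]
  refine ⟨?_, o1_of_odd R ho⟩
  by_contra hf
  have h1 : Odd (orderOf (R.fld δ)) := Odd.of_dvd_nat ho (orderOf_map_dvd _ _)
  have h2 : orderOf (R.fld δ) ≠ 1 := fun h => hf (orderOf_eq_one_iff.mp h)
  obtain ⟨K, -, hcard⟩ := Cfsg.Agent.GH.L2Aut.exists_fixed_field (R.fld δ)
  have h3 : 3 ≤ orderOf (R.fld δ) := by
    obtain ⟨k, hk⟩ := h1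
    omega
  have hK3 : 3 ≤ Nat.card K := by
    have h3 : Odd (Nat.card K) := Cfsg.Agent.GH.L2Aut.odd_card (Cfsg.Agent.GH.L2Aut.two_sub R.two K)
    have h4 : 1 < Nat.card K := Finite.one_lt_card
    obtain ⟨k, hk⟩ := h3
    omega
  have h4 : 3 ^ 3 ≤ Nat.card F := by
    rw [hcard]
    exact (Nat.pow_le_pow_left hK3 3).trans (Nat.pow_le_pow_right (by omega) h3)
  omega

/-- `φ` of PGL type, `δ ≠ 1` of odd order commuting with `φ`: `δ` moves a fixed point of `φ` -/
theorem exists_moved {φ : MulAut L} (h : φ * φ = 1) (ho : R.o1 φ = -1) {δ : MulAut L}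
    (hδ : Odd (orderOf δ)) (hδ1 : δ ≠ 1) (hc : δ * φ = φ * δ) : ∃ k : L, φ k = k ∧ δ k ≠ k := by
  by_contra hcon
  push Not at hcon
  exact hδ1 (R.eq_one_of_fix (PglType.pgl_of R h ho).1 (PglType.ne_one R ho) h hδ hc hcon)

/-- an involutory automorphism commuting with `φ` of PGL type is trivial on no perfect subgroup `≠ 1`, if it is not `1` -/
theorem no_perfect_of_comm {φ : MulAut L} (ho : R.o1 φ = -1) {α : MulAut L} (hα : α * α = 1)
    (hα1 : α ≠ 1) (hc : φ * α = α * φ) {M : Subgroup L} (hM : ∀ m ∈ M, α m = m)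
    (hp : ⁅M, M⁆ = M) : M = ⊥ := by
  have hf : R.fld α = 1 := by
    by_contra hf
    have h3 := R.o1_of_comm hα hf hc
    rw [ho] at h3
    exact absurd h3 (by decide)
  exact PumpDown.eq_bot_of_pgl R hα hα1 hf hM hp

end Cfsg.Agent.UGT.Res.L2Fact
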