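import Cfsg.Agent.UGT.Res.FieldOdd
import Cfsg.Agent.UGT.Res.Gen

/-!
# Automorphisms commuting with an outer involution, and its torus

`R : Rep F L`, `|F| ≥ 5`, `α` an involution of PGL type; `T` = the elements of odd order fixed by `α`.

* `exists_moved_odd`: a `p`-element `δ` of `C(α)`, `p` odd, `fld δ ≠ 1`, moves an `s`-element of `T`, `s ≠ p`.
* `fix_torus`: `C_{Aut L}(T) = T × ⟨α⟩`.
* `core_torus`: `D ≤ C_{Aut L}(α)` of odd order, normalized by `C_L(α)`: `C_D(D') = D ∩ T`.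
-/

set_option autoImplicit false

namespace Cfsg.Agent.UGT.Res.TorusFix

open Cfsg.Agent.GH.L2Aut Cfsg.Agent.GH.L2Aut.Rep Cfsg.Agent.Lib.SL2Mat Cfsg.Agent.OddHalf.D6
open Cfsg.Agent.OddCyclic
open Subgroup

variable {F : Type*} [Field F] [Finite F] {L : Type*} [Group L] (R : Cfsg.Agent.GH.L2Aut.Rep F L)

/-- **A field automorphism of order `p^i` commuting with the involution `φ` of PGL type moves an `s`-element fixed
by `φ`, `s ≠ p` an odd prime.** -/
theorem exists_moved_odd {φ δ : MulAut L} (h : φ * φ = 1) (ho : R.o1 φ = -1) {p : ℕ} (hp : p.Prime)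
    (hp2 : p ≠ 2) (hδ : ∃ n, δ ^ p ^ n = 1) (hf : R.fld δ ≠ 1) :
    ∃ s : ℕ, s.Prime ∧ s ≠ 2 ∧ s ≠ p ∧ ∃ t : L, φ t = t ∧ δ t ≠ t ∧ ∃ n, t ^ s ^ n = 1 := by
  have := R.finite
  obtain ⟨n, hn⟩ := hδ
  -- reduction to order `p`
  have h1 : orderOf (R.fld δ) ∣ p ^ n := orderOf_dvd_of_pow_eq_one (by rw [← map_pow, hn, map_one])
  obtain ⟨i, -, hi⟩ := (Nat.dvd_prime_pow hp).mp h1
  have hi0 : i ≠ 0 := by
    rintro rfl
    exact hf (orderOf_eq_one_iff.mp (by rw [hi, pow_zero]))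
  obtain ⟨j, rfl⟩ : ∃ j, i = j + 1 := ⟨i - 1, by omega⟩
  obtain ⟨ε, hε⟩ : ∃ ε, ε = δ ^ p ^ j := ⟨_, rfl⟩
  have hεord : orderOf (R.fld ε) = p := by
    rw [hε, map_pow, orderOf_pow' _ (pow_ne_zero _ hp.ne_zero), hi, Nat.gcd_eq_right (pow_dvd_pow p (by omega)),
      pow_succ, Nat.mul_div_cancel_left _ (pow_pos hp.pos _)]
  obtain ⟨K, hK, hcard⟩ := Cfsg.Agent.GH.L2Aut.exists_fixed_field (R.fld ε)
  rw [hεord] at hcard
  have hKodd : Odd (Nat.card K) := Cfsg.Agent.GH.L2Aut.odd_card (Cfsg.Agent.GH.L2Aut.two_sub R.two K)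
  have hK1 : 1 < Nat.card K := Finite.one_lt_card
  have hK3 : 3 ≤ Nat.card K := by
    obtain ⟨k, hk⟩ := hKodd
    omega
  -- the torus
  obtain ⟨hP, hI⟩ := PglType.pgl_of R h ho
  obtain ⟨g, rfl⟩ := R.mem_PGL.1 hP
  have htr := R.tr_of_inv (PglType.ne_one R ho) h
  have hcT := PGLTorus.card_Cp_not_inn R htr hI
  rw [hcard] at hcT
  obtain ⟨T, hT⟩ : ∃ T, T = PGLTorus.Cp R g := ⟨_, rfl⟩
  rw [← hT] at hcT
  have hcyc : IsCyclic T := hT ▸ PGLTorus.isCyclic_Cp R htr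
  obtain ⟨s, hs, hsp, hs2, hsc, hndvd⟩ := FieldOdd.arith hp hp2 hK3 (Nat.odd_iff.mp hKodd) hcT
  obtain ⟨v, hv⟩ : ∃ v, v = (Nat.card T).factorization s := ⟨_, rfl⟩
  rw [← hv] at hndvd
  have hT0 : Nat.card T ≠ 0 := Nat.card_pos.ne'
  have hvd : s ^ v ∣ Nat.card T := hv ▸ Nat.ordProj_dvd _ _
  obtain ⟨w, hw⟩ := hvd
  obtain ⟨u, hu⟩ := hcyc.exists_generator
  have huo : orderOf u = Nat.card T := orderOf_eq_card_of_forall_mem_zpowers hu
  obtain ⟨t, ht⟩ : ∃ t, t = u ^ w := ⟨_, rfl⟩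
  have hw0 : w ≠ 0 := by
    rintro rfl
    exact hT0 (by rw [hw, mul_zero])
  have hto : orderOf t = s ^ v := by
    rw [ht, orderOf_pow' _ hw0, huo, hw, Nat.gcd_eq_right (dvd_mul_left _ _),
      Nat.mul_div_cancel _ (Nat.pos_of_ne_zero hw0)]
  have htoL : orderOf (t : L) = s ^ v := by rw [Subgroup.orderOf_coe, hto]
  have hφt : R.gl g t = t := PGLTorus.fix_of_mem_Cp R htr (PGLTorus.gl_mem_Tor R g) (hT ▸ t.2)
  have hεt : ε t ≠ t := by
    intro h3
    apply hndvd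
    rw [← htoL]
    exact orderOf_dvd_of_pow_eq_one (FieldOdd.fixed_pow R hK h3)
  have hδt : δ t ≠ t := by
    intro h3
    apply hεt
    rw [hε]
    have : ∀ k : ℕ, (δ ^ k) (t : L) = t := by
      intro k
      induction k with
      | zero => rfl
      | succ k ih => rw [pow_succ, MulAut.mul_apply, h3, ih]
    exact this _
  exact ⟨s, hs, hs2, hsp, t, hφt, hδt, v, by rw [← htoL, pow_orderOf_eq_one]⟩

/-- an automorphism with `fld δ ≠ 1` of odd order has a power of prime power order with the same property -/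
theorem exists_prime_part {δ : MulAut L} (hf : R.fld δ ≠ 1) (hodd : Odd (orderOf (R.fld δ))) :
    ∃ (p w : ℕ), p.Prime ∧ p ≠ 2 ∧ (∃ n, (δ ^ w) ^ p ^ n = 1) ∧ R.fld (δ ^ w) ≠ 1 := by
  have hLf := R.finite
  have hAf : Finite (MulAut L) :=
    Finite.of_injective (fun α : MulAut L => (α : L → L)) DFunLike.coe_injective
  have h1 : orderOf (R.fld δ) ≠ 1 := fun h => hf (orderOf_eq_one_iff.mp h)
  obtain ⟨p, hp, hpd⟩ := Nat.exists_prime_and_dvd h1
  have hp2 : p ≠ 2 := by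
    rintro rfl
    exact (Nat.not_even_iff_odd.2 hodd) (even_iff_two_dvd.2 hpd)
  have hpos : orderOf δ ≠ 0 := (orderOf_pos δ).ne'
  obtain ⟨w, hw⟩ := Nat.ordProj_dvd (orderOf δ) p
  refine ⟨p, w, hp, hp2, ⟨(orderOf δ).factorization p, ?_⟩, ?_⟩
  · rw [← pow_mul, mul_comm, ← hw, pow_orderOf_eq_one]
  · intro h2
    rw [map_pow] at h2
    have h3 : p ∣ w := hpd.trans (orderOf_dvd_of_pow_eq_one h2)
    have h4 : w = orderOf δ / p ^ (orderOf δ).factorization p :=
      (Nat.div_eq_of_eq_mul_right (pow_pos hp.pos _) hw).symm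
    exact Nat.not_dvd_ordCompl hp hpos (h4 ▸ h3)

/-- the torus is not trivial -/
theorem exists_odd (h5 : 4 < Nat.card F) {α : MulAut L} (h : α * α = 1) (ho : R.o1 α = -1) :
    ∃ y : L, y ≠ 1 ∧ Odd (orderOf y) ∧ α y = y := by
  by_contra hno
  push Not at hno
  have hLf := R.finite
  obtain ⟨s, hs, hss, hs1⟩ := PglType.exists_fix_involution R h ho
  have hss' : s⁻¹ = s := inv_eq_of_mul_eq_one_left hss
  obtain ⟨l, hl⟩ := Gen.exists_pair R h ho hs hss
  have htop := Gen.gen R h5 h ho hs hss hs1 ⊥ (by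
      intro t ht hto
      rw [mem_bot]
      by_contra h1
      exact hno t h1 hto ht) (by
      intro t ht hto
      rw [mem_bot]
      by_contra h1
      -- `l⁻¹ t l` is fixed by `α`
      have h2 : (α * MulAut.conj s) t = t := by
        rw [MulAut.mul_apply, MulAut.conj_apply, map_mul, map_mul, map_inv, hs, ht]
        group
      have h3 : α (l⁻¹ * t * l) = l⁻¹ * t * l := by
        rw [← hl] at h2
        simp only [MulAut.mul_apply, MulAut.conj_apply, MulAut.conj_inv_apply] at h2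
        calc α (l⁻¹ * t * l) = l⁻¹ * (l * α (l⁻¹ * t * l) * l⁻¹) * l := by group
          _ = l⁻¹ * t * l := by rw [h2]
      refine hno (l⁻¹ * t * l) ?_ ?_ h3
      · intro h4
        apply h1
        have : t = l * (l⁻¹ * t * l) * l⁻¹ := by group
        rw [this, h4]; group
      · have := orderOf_injective (MulAut.conj l⁻¹).toMonoidHom (MulAut.conj l⁻¹).injective t
        have e : (MulAut.conj l⁻¹).toMonoidHom t = l⁻¹ * t * l := by
          change l⁻¹ * t * l⁻¹⁻¹ = _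
          rw [inv_inv]
        rw [e] at this
        rw [this]; exact hto)
  apply hs1
  have : s ∈ (⊥ : Subgroup L) := by rw [htop]; trivial
  exact mem_bot.mp this

variable {α : MulAut L} (h : α * α = 1) (ho : R.o1 α = -1)

include h ho

/-- an element of `PGL` commuting with `α` and fixing an odd `y ≠ 1` fixed by `α` -/
theorem pgl_torus {y : L} (hy1 : y ≠ 1) (hyo : Odd (orderOf y)) (hαy : α y = y) {β : MulAut L}
    (hβ : R.fld β = 1) (hβα : β * α = α * β) (hβy : β y = y) :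
    ∃ t : L, α t = t ∧ Odd (orderOf t) ∧ (β = MulAut.conj t ∨ β = MulAut.conj t * α) := by
  obtain ⟨hα, hαI⟩ := PglType.pgl_of R h ho
  obtain ⟨g, rfl⟩ := R.mem_PGL.1 hα
  obtain ⟨k, rfl⟩ := R.mem_PGL.1 (R.mem_PGL_iff_fld.2 hβ)
  have hne := PglType.ne_one R ho
  rcases R.comm_cases hβα with h1 | h1
  · exact Gen.tor_dec R h ho h1.symm
  · exfalso
    have hs := R.not_scalar_of_ne hne
    have htr := R.tr_of_inv hne h
    obtain ⟨X, rfl⟩ := R.surj y
    have h2 : R.gl g * R.gl (Matrix.SpecialLinearGroup.toGL X) =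
        R.gl (Matrix.SpecialLinearGroup.toGL X) * R.gl g := by
      rw [← R.conj_π]
      exact (Cfsg.Agent.GH.L2Aut.Rep.conj_comm_iff.2 (by rw [hαy])).symm
    rcases R.comm_cases h2 with h3 | h3
    · have h4 := R.anticomm_conj hs htr h1 h3
      rw [← R.conj_π, Cfsg.Agent.GH.L2Aut.conj_conj, hβy, ← map_inv] at h4
      have h5 := R.conj_injective h4
      exact hy1 (PglType.eq_one_of_eq_inv h5 hyo)
    · have h4 := R.anticomm_inv h3
      apply hne
      exfalso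
      -- `y² = 1`
      have h5 : R.gl (Matrix.SpecialLinearGroup.toGL X) * R.gl (Matrix.SpecialLinearGroup.toGL X) = 1 := by
        apply R.anticomm_inv (g := g)
        rw [h3]
        simp
      rw [← R.conj_π, ← map_mul] at h5
      have h6 : R.π X * R.π X = 1 := R.conj_injective (by rw [h5, map_one])
      exact hy1 (PglType.eq_one_of_odd_sq h6 hyo)

/-- **`C_{Aut L}(T) = T × ⟨α⟩`** -/
theorem fix_torus (h5 : 4 < Nat.card F) {β : MulAut L}
    (hβ : ∀ t, α t = t → Odd (orderOf t) → β t = t) :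
    ∃ t : L, α t = t ∧ Odd (orderOf t) ∧ (β = MulAut.conj t ∨ β = MulAut.conj t * α) := by
  have hLf := R.finite
  have hAf : Finite (MulAut L) :=
    Finite.of_injective (fun α : MulAut L => (α : L → L)) DFunLike.coe_injective
  obtain ⟨y, hy1, hyo, hαy⟩ := exists_odd R h5 h ho
  have hβy := hβ y hαy hyo
  have hyy : y * y ≠ 1 := fun h1 => hy1 (PglType.eq_one_of_odd_sq h1 hyo)
  have hβiy : β⁻¹ y = y := by
    nth_rewrite 1 [← hβy]
    rw [MulAut.inv_apply_self]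
  have hcomm : β * α = α * β := by
    have h1 : β * α * β⁻¹ = 1 ∨ β * α * β⁻¹ = α := by
      apply PGLFacts.two_unique R h ho hyy hαy
      · refine ⟨1, ?_⟩
        rw [pow_one, pow_two]
        calc β * α * β⁻¹ * (β * α * β⁻¹) = β * (α * α) * β⁻¹ := by group
          _ = 1 := by rw [h]; group
      · rw [MulAut.mul_apply, MulAut.mul_apply, hβiy, hαy, hβy]
    rcases h1 with h1 | h1
    · exfalso
      apply PglType.ne_one R ho
      have : α = β⁻¹ * (β * α * β⁻¹) * β := by group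
      rw [this, h1]; group
    · rw [mul_inv_eq_iff_eq_mul] at h1
      exact h1
  by_cases hf : R.fld β = 1
  · exact pgl_torus R h ho hy1 hyo hαy hf hcomm hβy
  · exfalso
    have hpowfix : ∀ (k : ℕ) (t : L), β t = t → (β ^ k) t = t := by
      intro k t ht
      induction k with
      | zero => rfl
      | succ k ih => rw [pow_succ, MulAut.mul_apply, ht, ih]
    -- the 2-part
    obtain ⟨k, m, hm, hn⟩ := Nat.exists_eq_two_pow_mul_odd (orderOf_pos β).ne'
    have h2 : β ^ m = 1 ∨ β ^ m = α := by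
      apply PGLFacts.two_unique R h ho hyy hαy
      · refine ⟨k, ?_⟩
        rw [← pow_mul, mul_comm, ← hn, pow_orderOf_eq_one]
      · exact hpowfix m y hβy
    have hfα : R.fld α = 1 := R.mem_PGL_iff_fld.1 (PglType.pgl_of R h ho).1
    have h3 : R.fld β ^ m = 1 := by
      rw [← map_pow]
      rcases h2 with h2 | h2
      · rw [h2, map_one]
      · rw [h2, hfα]
    have h4 : Odd (orderOf (R.fld β)) := Odd.of_dvd_nat hm (orderOf_dvd_of_pow_eq_one h3)
    obtain ⟨p, w, hp, hp2, hpw, hfw⟩ := exists_prime_part R hf h4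
    obtain ⟨s, hs, hs2, hsp, t, ht1, ht2, n, ht3⟩ := exists_moved_odd R h ho hp hp2 hpw hfw
    apply ht2
    apply hpowfix
    apply hβ t ht1
    exact Odd.of_dvd_nat ((hs.odd_of_ne_two hs2).pow) (orderOf_dvd_of_pow_eq_one ht3)

/-- an element of odd order of `PGL` commuting with `α` is a torus element -/
theorem odd_torus {β : MulAut L} (hβ : R.fld β = 1) (hβα : β * α = α * β) (hβo : Odd (orderOf β)) :
    ∃ t : L, α t = t ∧ Odd (orderOf t) ∧ β = MulAut.conj t := by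
  obtain ⟨hα, hαI⟩ := PglType.pgl_of R h ho
  obtain ⟨g, rfl⟩ := R.mem_PGL.1 hα
  obtain ⟨k, rfl⟩ := R.mem_PGL.1 (R.mem_PGL_iff_fld.2 hβ)
  rcases R.comm_cases hβα with h1 | h1
  · obtain ⟨t, ht, hto, h2 | h2⟩ := Gen.tor_dec R h ho h1.symm
    · exact ⟨t, ht, hto, h2⟩
    · exfalso
      have h3 : R.o1 (R.gl k) = -1 := by rw [h2, map_mul, R.o1_conj, one_mul, ho]
      have h4 := congrArg R.o1 (pow_orderOf_eq_one (R.gl k))
      rw [map_pow, h3, map_one, hβo.neg_one_pow] at h4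
      exact absurd h4 (by decide)
  · have h2 := PglType.eq_one_of_odd_sq (R.anticomm_inv h1) hβo
    exact ⟨1, map_one _, by rw [orderOf_one]; exact odd_one, by rw [h2, map_one]⟩

/-- **`C_D(D') ≤ T`** for `D ≤ C_{Aut L}(α)` of odd order, normalized by `C_L(α)` -/
theorem core_torus {D : Subgroup (MulAut L)} (hD : Odd (Nat.card D)) (hDα : ∀ δ ∈ D, δ * α = α * δ)
    (hn : ∀ t : L, α t = t → ∀ δ ∈ D, MulAut.conj t * δ * (MulAut.conj t)⁻¹ ∈ D) {δ : MulAut L}
    (hδ : δ ∈ D) (hc : ∀ a ∈ D, ∀ b ∈ D, δ * (a * b * a⁻¹ * b⁻¹) = a * b * a⁻¹ * b⁻¹ * δ) :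
    ∃ t : L, α t = t ∧ Odd (orderOf t) ∧ δ = MulAut.conj t := by
  have hLf := R.finite
  have hAf : Finite (MulAut L) :=
    Finite.of_injective (fun α : MulAut L => (α : L → L)) DFunLike.coe_injective
  have hodd : ∀ β ∈ D, Odd (orderOf β) := by
    intro β hβ
    refine Odd.of_dvd_nat hD ?_
    have := orderOf_dvd_natCard (⟨β, hβ⟩ : D)
    rwa [← Subgroup.orderOf_coe] at this
  by_cases hf : R.fld δ = 1
  · exact odd_torus R h ho hf (hDα δ hδ) (hodd δ hδ)
  exfalso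
  have h4 : Odd (orderOf (R.fld δ)) := by
    refine Odd.of_dvd_nat (hodd δ hδ) (orderOf_dvd_of_pow_eq_one ?_)
    rw [← map_pow, pow_orderOf_eq_one, map_one]
  obtain ⟨p, w, hp, hp2, ⟨n, hpn⟩, hfw⟩ := exists_prime_part R hf h4
  obtain ⟨s, hs, hs2, hsp, t, ht1, ht2, m, ht3⟩ := exists_moved_odd R h ho hp hp2 ⟨n, hpn⟩ hfw
  obtain ⟨ε, hε⟩ : ∃ ε, ε = δ ^ w := ⟨_, rfl⟩
  rw [← hε] at hpn ht2
  have hεD : ε ∈ D := by rw [hε]; exact D.pow_mem hδ w
  have hεc : ∀ a ∈ D, ∀ b ∈ D, ε * (a * b * a⁻¹ * b⁻¹) = a * b * a⁻¹ * b⁻¹ * ε := by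
    intro a ha b hb
    rw [hε]
    exact (Commute.pow_left (hc a ha b hb) w)
  have hεα : ∀ k : ℕ, (ε ^ k) * α = α * ε ^ k := fun k => Commute.pow_left (hDα ε hεD) k
  have hαε : ∀ u : L, α u = u → α (ε u) = ε u := by
    intro u hu
    have h6 : (α * ε) u = (ε * α) u := by rw [hDα ε hεD]
    rw [MulAut.mul_apply, MulAut.mul_apply, hu] at h6
    exact h6
  -- the torus is abelian
  have habel : ∀ u v : L, α u = u → α v = v → Odd (orderOf u) → Odd (orderOf v) → u * v = v * u := by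
    intro u v hu hv huo hvo
    obtain ⟨B, -, hcomm, -, h3, -, -, -, -⟩ := PglType.fix_data R h ho
    have hB : ∀ u : L, α u = u → Odd (orderOf u) → u ∈ B := by
      intro u hu huo
      rcases h3 u hu with h6 | ⟨h6, -⟩
      · exact h6
      · rw [PglType.eq_one_of_odd_sq h6 huo]; exact one_mem _
    exact hcomm u (hB u hu huo) v (hB v hv hvo)
  have hsodd : ∀ u : L, u ^ s ^ m = 1 → Odd (orderOf u) := fun u hu =>
    Odd.of_dvd_nat ((hs.odd_of_ne_two hs2).pow) (orderOf_dvd_of_pow_eq_one hu)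
  -- step: if `ε` fixes `w = ε(u) u⁻¹` then `w = 1`
  have hstep : ∀ u : L, α u = u → u ^ s ^ m = 1 → ε (ε u * u⁻¹) = ε u * u⁻¹ → ε u = u := by
    intro u hu hus hfix
    obtain ⟨v, hv⟩ : ∃ v, v = ε u * u⁻¹ := ⟨_, rfl⟩
    rw [← hv] at hfix
    have hεu : α (ε u) = ε u := hαε u hu
    have hεus : (ε u) ^ s ^ m = 1 := by rw [← map_pow, hus, map_one]
    have hvα : α v = v := by rw [hv, map_mul, map_inv, hεu, hu]
    have hcm : ε u * u⁻¹ = u⁻¹ * ε u := by
      have := habel u (ε u) hu hεu (hsodd u hus) (hsodd _ hεus)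
      rw [eq_inv_mul_iff_mul_eq, ← mul_assoc, this, mul_inv_cancel_right]
    have hvs : v ^ s ^ m = 1 := by
      rw [hv, (show Commute (ε u) u⁻¹ from hcm).mul_pow, hεus, inv_pow, hus, inv_one, one_mul]
    have hpow : ∀ k : ℕ, (ε ^ k) u = v ^ k * u := by
      intro k
      induction k with
      | zero => rw [pow_zero, pow_zero, one_mul]; rfl
      | succ k ih =>
        rw [pow_succ', MulAut.mul_apply, ih, map_mul, map_pow, hfix, pow_succ]
        have : ε u = v * u := by rw [hv, inv_mul_cancel_right]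
        rw [this, mul_assoc]
    have h6 := hpow (p ^ n)
    rw [hpn, MulAut.one_apply] at h6
    have h7 : v ^ p ^ n = 1 := by
      have := congrArg (· * u⁻¹) h6
      simp only [mul_inv_cancel, mul_inv_cancel_right] at this
      exact this.symm
    have h8 : v = 1 := by
      have hcop : Nat.Coprime (p ^ n) (s ^ m) :=
        Nat.Coprime.pow _ _ ((Nat.coprime_primes hp hs).mpr hsp.symm)
      have h9 := Nat.dvd_gcd (orderOf_dvd_of_pow_eq_one h7) (orderOf_dvd_of_pow_eq_one hvs)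
      rw [hcop] at h9
      exact orderOf_eq_one_iff.mp (Nat.dvd_one.mp h9)
    rw [h8] at hv
    exact (mul_inv_eq_one.mp hv.symm)
  -- `w₁ = ε(t) t⁻¹`, `conj w₁ ∈ D`
  have hw1D : MulAut.conj (ε t * t⁻¹) ∈ D := by
    have h6 := D.mul_mem hεD (hn t ht1 _ (D.inv_mem hεD))
    have e : ε * (MulAut.conj t * ε⁻¹ * (MulAut.conj t)⁻¹) = MulAut.conj (ε t * t⁻¹) := by
      rw [map_mul, map_inv, ← Cfsg.Agent.GH.L2Aut.conj_conj]
      group
    rwa [e] at h6
  have hw1α : α (ε t * t⁻¹) = ε t * t⁻¹ := by rw [map_mul, map_inv, hαε t ht1, ht1]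
  have hts : t ^ s ^ m = 1 := ht3
  have hεts : (ε t) ^ s ^ m = 1 := by rw [← map_pow, hts, map_one]
  have hw1s : (ε t * t⁻¹) ^ s ^ m = 1 := by
    have hcm : ε t * t⁻¹ = t⁻¹ * ε t := by
      have := habel t (ε t) ht1 (hαε t ht1) (hsodd t hts) (hsodd _ hεts)
      rw [eq_inv_mul_iff_mul_eq, ← mul_assoc, this, mul_inv_cancel_right]
    rw [(show Commute (ε t) t⁻¹ from hcm).mul_pow, hεts, inv_pow, hts, inv_one, one_mul]
  apply ht2
  apply hstep t ht1 hts
  apply hstep _ hw1α hw1s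
  -- `w₂ = ε(w₁) w₁⁻¹` is a commutator of `D`
  obtain ⟨v, hv⟩ : ∃ v, v = ε t * t⁻¹ := ⟨_, rfl⟩
  rw [← hv] at hw1D ⊢
  have h6 := hεc ε hεD (MulAut.conj v) hw1D
  have e : ε * MulAut.conj v * ε⁻¹ * (MulAut.conj v)⁻¹ = MulAut.conj (ε v * v⁻¹) := by
    rw [Cfsg.Agent.GH.L2Aut.conj_conj, map_mul, map_inv]
  rw [e] at h6
  have h7 := Cfsg.Agent.GH.L2Aut.Rep.conj_comm_iff.mp h6.symm
  exact R.conj_injective h7

end Cfsg.Agent.UGT.Res.TorusFix
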