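import Cfsg.Agent.UGT.Parity

/-!
# A sign from one-point fixers

`N₀` is normal of index (at most) 2 in `H₀ ≤ H`. There is a homomorphism `f : H → {±1}` with `f x = -1` for every
involution `x ∈ H₀ \ N₀` which fixes only one point of `H / H₀`.
-/

set_option autoImplicit false

open Subgroup

namespace Cfsg.Agent.UGT.Res.Sign

open Cfsg.Agent.UGT.Parity

theorem exists_sign {H : Type*} [Group H] [Finite H] (H₀ N₀ : Subgroup H)
    (hn : ∀ g ∈ H₀, ∀ n ∈ N₀, g * n * g⁻¹ ∈ N₀)
    (h2 : ∀ g ∈ H₀, ∀ h ∈ H₀, g ∉ N₀ → h ∉ N₀ → g * h ∈ N₀) :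
    ∃ f : H →* ℤˣ, ∀ x ∈ H₀, x ∉ N₀ → x * x = 1 → (∀ h : H, h⁻¹ * x * h ∈ H₀ → h ∈ H₀) →
      f x = -1 := by
  classical
  let ev : H ⧸ H₀ → H → Prop := fun ω g => ω.out⁻¹ * g * ω.out ∈ N₀
  have hfix : ∀ (g : H) (ω : H ⧸ H₀), g • ω = ω ↔ ω.out⁻¹ * g * ω.out ∈ H₀ := by
    intro g ω
    conv_lhs => rw [← QuotientGroup.out_eq' ω]
    change (QuotientGroup.mk (g * ω.out) : H ⧸ H₀) = QuotientGroup.mk ω.out ↔ _
    rw [eq_comm, QuotientGroup.eq, mul_assoc]
  have hev : IsParity ev := by
    constructor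
    · intro ω g h hg hh
      rw [hfix] at hg hh
      change ω.out⁻¹ * (g * h) * ω.out ∈ N₀ ↔ _
      have e : ω.out⁻¹ * (g * h) * ω.out = (ω.out⁻¹ * g * ω.out) * (ω.out⁻¹ * h * ω.out) := by group
      rw [e]
      change _ ↔ (ω.out⁻¹ * g * ω.out ∈ N₀ ↔ ω.out⁻¹ * h * ω.out ∈ N₀)
      generalize ω.out⁻¹ * g * ω.out = a at *
      generalize ω.out⁻¹ * h * ω.out = b at *
      by_cases ha : a ∈ N₀
      · constructor
        · intro h3
          have : b ∈ N₀ := by
            have := N₀.mul_mem (N₀.inv_mem ha) h3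
            rwa [inv_mul_cancel_left] at this
          exact iff_of_true ha this
        · intro h3
          exact N₀.mul_mem ha (h3.mp ha)
      · by_cases hb : b ∈ N₀
        · constructor
          · intro h3
            exfalso
            apply ha
            have := N₀.mul_mem h3 (N₀.inv_mem hb)
            rwa [mul_inv_cancel_right] at this
          · intro h3
            exact absurd (h3.mpr hb) ha
        · constructor
          · intro _
            exact iff_of_false ha hb
          · intro _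
            exact h2 a hg b hh ha hb
    · intro ω g h hh
      rw [hfix] at hh
      change (g • ω).out⁻¹ * (g * h * g⁻¹) * (g • ω).out ∈ N₀ ↔ ω.out⁻¹ * h * ω.out ∈ N₀
      obtain ⟨k, hk⟩ : ∃ k, k = ω.out⁻¹ * g⁻¹ * (g • ω).out := ⟨_, rfl⟩
      have hkH : k ∈ H₀ := by
        have h3 : (QuotientGroup.mk ((g • ω).out) : H ⧸ H₀) = QuotientGroup.mk (g * ω.out) := by
          rw [QuotientGroup.out_eq']
          conv_lhs => rw [← QuotientGroup.out_eq' ω]
          rfl
        rw [QuotientGroup.eq] at h3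
        have h4 := H₀.inv_mem h3
        rw [hk]
        convert h4 using 1
        group
      have e : (g • ω).out⁻¹ * (g * h * g⁻¹) * (g • ω).out = k⁻¹ * (ω.out⁻¹ * h * ω.out) * k := by
        rw [hk]; group
      rw [e]
      constructor
      · intro h3
        have := hn k hkH _ h3
        convert this using 1
        group
      · intro h3
        have := hn k⁻¹ (H₀.inv_mem hkH) _ h3
        convert this using 1
        group
  obtain ⟨f, hf⟩ := exists_hom hev
  refine ⟨f, fun x hx hxN hxx h1 => ?_⟩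
  rw [hf x hxx]
  have hone : Nat.card {ω : H ⧸ H₀ // x • ω = ω ∧ ¬ ev ω x} = 1 := by
    have hx1 : x • (QuotientGroup.mk (1 : H) : H ⧸ H₀) = QuotientGroup.mk 1 := by
      change (QuotientGroup.mk (x * 1) : H ⧸ H₀) = _
      rw [mul_one, eq_comm, QuotientGroup.eq, inv_one, one_mul]
      exact hx
    have hout : (QuotientGroup.mk (1 : H) : H ⧸ H₀).out ∈ H₀ := by
      have : (QuotientGroup.mk ((QuotientGroup.mk (1 : H) : H ⧸ H₀).out) : H ⧸ H₀) =
          QuotientGroup.mk 1 := QuotientGroup.out_eq' _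
      rw [eq_comm, QuotientGroup.eq, inv_one, one_mul] at this
      exact this
    rw [Nat.card_eq_one_iff_unique]
    refine ⟨⟨fun a b => Subtype.ext ?_⟩, ⟨⟨QuotientGroup.mk 1, hx1, ?_⟩⟩⟩
    · have key : ∀ c : {ω : H ⧸ H₀ // x • ω = ω ∧ ¬ ev ω x}, c.1 = QuotientGroup.mk 1 := by
        rintro ⟨ω, hω, -⟩
        rw [hfix] at hω
        have h3 := h1 _ hω
        change ω = _
        conv_lhs => rw [← QuotientGroup.out_eq' ω]
        rw [eq_comm, QuotientGroup.eq, inv_one, one_mul]
        exact h3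
      rw [key a, key b]
    · intro h3
      apply hxN
      change (QuotientGroup.mk (1 : H) : H ⧸ H₀).out⁻¹ * x * (QuotientGroup.mk (1 : H) : H ⧸ H₀).out ∈ N₀ at h3
      have := hn _ hout _ h3
      convert this using 1
      group
  rw [hone, pow_one]

end Cfsg.Agent.UGT.Res.Sign
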