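import Cfsg.Agent.UGT.TriBase
import Cfsg.Agent.UGT.Res.Sign

/-!
# Theorem H: `C(Y) ≤ N(L)`

`L` quasisimple, `Y ≤ L` abelian of odd order, `B e` ("bad"): `e` is an involution of `N(L)` with `O(C(e)) = Y`; every
involution `t` of `C(L) ∩ C(e)` is good (`L` is the only component of `C(t)` moved by `Y`) and `e t` is bad.
Then `C(Y)`, `N(Y)`, and `C(e)`, `e` bad, normalize `L`. Elementary: dihedral groups, one transfer, Frattini.

`O t` stands for the core of `C(t)`; only its equivariance is used.
-/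

set_option autoImplicit false

open Subgroup
open Cfsg.Agent.SignalizersComponents.IntrinsicBasic
open Cfsg.Agent.UGT.TriBase

namespace Cfsg.Agent.UGT.Res.ThH

variable {G : Type*} [Group G]

/-- `t` is good -/
structure Good (L Y : Subgroup G) (t : G) : Prop where
  norm : ∀ c : G, c * t = t * c → c ∈ normalizer (Y : Set G) → c ∈ normalizer (L : Set G)
  move : ∀ c : G, c * t = t * c → ∀ a ∈ Y, c * a * c⁻¹ ∈ normalizer (L : Set G)

/-- The hypotheses of Theorem H. -/
structure Data (O : G → Subgroup G) (L Y : Subgroup G) (B : G → Prop) : Prop where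
  Ocj : ∀ g t a : G, a ∈ O t → g * a * g⁻¹ ∈ O (g * t * g⁻¹)
  YL : Y ≤ L
  Yab : ∀ a ∈ Y, ∀ b ∈ Y, a * b = b * a
  Yodd : Odd (Nat.card ↥Y)
  YK : ∀ a ∈ Y, a ∈ centralizer (L : Set G) → a = 1
  Ynn : ¬ L ≤ normalizer (Y : Set G)
  gen : ∀ H : Subgroup G, (∀ l ∈ L, ∀ a ∈ Y, l * a * l⁻¹ ∈ H) → L ≤ H
  inv : ∀ {e : G}, B e → orderOf e = 2
  mem : ∀ {e : G}, B e → e ∈ normalizer (L : Set G)
  core : ∀ {e : G}, B e → O e = Y
  comm : ∀ {e : G}, B e → ∀ a ∈ Y, e * a = a * e
  mul : ∀ {e t : G}, B e → t ∈ centralizer (L : Set G) → orderOf t = 2 → t * e = e * t → B (e * t)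
  four : ∀ {e : G}, B e → ∃ t u : G, t ∈ centralizer (L : Set G) ∧ u ∈ centralizer (L : Set G) ∧
    orderOf t = 2 ∧ orderOf u = 2 ∧ t ≠ u ∧ t * u = u * t ∧ t * e = e * t ∧ u * e = e * u
  good : ∀ {e t : G}, B e → t ∈ centralizer (L : Set G) → orderOf t = 2 → t * e = e * t → Good L Y t
  aut : ∀ {e c : G}, B e → c ∈ normalizer (L : Set G) → c ∈ centralizer (Y : Set G) →
    ∃ a ∈ Y, a * c ∈ centralizer (L : Set G) ∨ a * c * e ∈ centralizer (L : Set G)
  pair : ∀ {e : G}, B e → ∃ s ∈ L, ∃ l ∈ L, orderOf s = 2 ∧ s * e = e * s ∧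
    (∀ a ∈ Y, s * a * s⁻¹ = a⁻¹) ∧ l * e * l⁻¹ = e * s ∧
    ∀ H : Subgroup G, Y ≤ H → (∀ a ∈ Y, l * a * l⁻¹ ∈ H) → L ≤ H

/-! ### involutions -/

theorem sq {x : G} (h : orderOf x = 2) : x * x = 1 := by
  rw [← pow_two, ← h, pow_orderOf_eq_one]

theorem order_two {x : G} (h : x * x = 1) (h1 : x ≠ 1) : orderOf x = 2 :=
  orderOf_eq_prime (by rw [pow_two]; exact h) h1

theorem ne_one {x : G} (h : orderOf x = 2) : x ≠ 1 := by
  rintro rfl
  rw [orderOf_one] at h
  exact absurd h (by norm_num)

theorem conj_mul_self {n x : G} (h : x * x = 1) : n * x * n⁻¹ * (n * x * n⁻¹) = 1 := by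
  have : n * x * n⁻¹ * (n * x * n⁻¹) = n * (x * x) * n⁻¹ := by group
  rw [this, h]; group

theorem order_conj {x : G} (n : G) (h : orderOf x = 2) : orderOf (n * x * n⁻¹) = 2 := by
  refine order_two (conj_mul_self (sq h)) fun h1 => ne_one h ?_
  have : x = n⁻¹ * (n * x * n⁻¹) * n := by group
  rw [this, h1]; group

theorem mem_cen {H : Subgroup G} {c : G} : c ∈ centralizer (H : Set G) ↔ ∀ l ∈ H, l * c = c * l :=
  mem_centralizer_iff

/-- the first factor inverts the powers of the product of two involutions -/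
theorem inv_pow {s v : G} (hs : s * s = 1) (hv : v * v = 1) {w : G} (hw : w ∈ zpowers (s * v)) :
    s * w * s⁻¹ = w⁻¹ := by
  obtain ⟨i, rfl⟩ := mem_zpowers_iff.mp hw
  have h1 : s * (s * v) * s⁻¹ = (s * v)⁻¹ := by
    have hs' : s⁻¹ = s := inv_eq_of_mul_eq_one_left hs
    have hv' : v⁻¹ = v := inv_eq_of_mul_eq_one_left hv
    rw [mul_inv_rev, hv', hs']
    calc s * (s * v) * s = (s * s) * v * s := by group
      _ = v * s := by rw [hs, one_mul]
  rw [← conj_zpow, h1, inv_zpow]

variable [Finite G]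

/-- two involutions -/
theorem dih {s v : G} (hs : s * s = 1) (hv : v * v = 1) :
    (∃ c ∈ zpowers (s * v), c * s * c⁻¹ = v) ∨
      ∃ m : ℕ, orderOf (s * v) = 2 * m ∧ orderOf ((s * v) ^ m) = 2 ∧
        (s * v) ^ m * s = s * (s * v) ^ m ∧ (s * v) ^ m * v = v * (s * v) ^ m := by
  have hpos : 0 < orderOf (s * v) := orderOf_pos _
  rcases Nat.even_or_odd (orderOf (s * v)) with ⟨m, hm⟩ | ⟨m, hm⟩
  · right
    have hm2 : orderOf (s * v) = 2 * m := by omega
    have hm0 : 0 < m := by omega
    have h1 : orderOf ((s * v) ^ m) = 2 := by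
      rw [orderOf_pow_of_dvd (by omega) ⟨2, by omega⟩, hm2]
      exact Nat.mul_div_cancel _ hm0
    have h2 : ((s * v) ^ m)⁻¹ = (s * v) ^ m := inv_eq_of_mul_eq_one_left (sq h1)
    have h3 : s * (s * v) ^ m * s⁻¹ = ((s * v) ^ m)⁻¹ :=
      inv_pow hs hv (npow_mem_zpowers _ _)
    rw [h2] at h3
    have h4 : (s * v) ^ m * s = s * (s * v) ^ m := by
      rw [← h3]
      have hs' : s⁻¹ = s := inv_eq_of_mul_eq_one_left hs
      calc s * (s * v) ^ m * s⁻¹ * s = s * (s * v) ^ m := by group
        _ = s * (s * (s * v) ^ m * s⁻¹) := by rw [h3]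
    refine ⟨m, hm2, h1, h4, ?_⟩
    have h5 : v = s * (s * v) := by rw [← mul_assoc, hs, one_mul]
    have h6 : (s * v) ^ m * (s * v) = (s * v) * (s * v) ^ m := by
      rw [← pow_succ, ← pow_succ']
    calc (s * v) ^ m * v = (s * v) ^ m * (s * (s * v)) := by rw [← h5]
      _ = ((s * v) ^ m * s) * (s * v) := by group
      _ = s * ((s * v) ^ m * (s * v)) := by rw [h4, mul_assoc]
      _ = (s * (s * v)) * (s * v) ^ m := by rw [h6, ← mul_assoc]
      _ = v * (s * v) ^ m := by rw [← h5]
  · left
    refine ⟨(s * v) ^ m, npow_mem_zpowers _ _, ?_⟩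
    have h3 : s * (s * v) ^ m * s⁻¹ = ((s * v) ^ m)⁻¹ := inv_pow hs hv (npow_mem_zpowers _ _)
    have h4 : s * ((s * v) ^ m)⁻¹ = (s * v) ^ m * s := by
      have := congrArg (fun y => y⁻¹) h3
      simp only [mul_inv_rev, inv_inv] at this
      -- s * ((s*v)^m)⁻¹ * s⁻¹ = (s*v)^m
      calc s * ((s * v) ^ m)⁻¹ = (s * (((s * v) ^ m)⁻¹ * s⁻¹)) * s := by group
        _ = (s * v) ^ m * s := by rw [this]
    have h5 : (s * v) ^ m * s * ((s * v) ^ m)⁻¹ = (s * v) ^ (2 * m) * s := by
      rw [mul_assoc, h4, ← mul_assoc, ← pow_add, two_mul]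
    have h6 : (s * v) ^ (2 * m) * (s * v) = 1 := by
      rw [← pow_succ, ← hm, pow_orderOf_eq_one]
    have h7 : (s * v) ^ (2 * m) = (s * v)⁻¹ := eq_inv_of_mul_eq_one_left h6
    rw [h5, h7, mul_inv_rev]
    have hs' : s⁻¹ = s := inv_eq_of_mul_eq_one_left hs
    have hv' : v⁻¹ = v := inv_eq_of_mul_eq_one_left hv
    rw [hv', hs', mul_assoc, hs, mul_one]

/-- normalizers in a finite group -/
theorem mem_normalizer_of_le {L : Subgroup G} {n : G} (h : ∀ l ∈ L, n * l * n⁻¹ ∈ L) :
    n ∈ normalizer (L : Set G) := by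
  rw [mem_normalizer_iff_cj]
  refine eq_of_le_of_card_ge ?_ (card_cj n L).ge
  rintro _ ⟨l, hl, rfl⟩
  exact h l hl

omit [Finite G] in
theorem conj_mem {H : Subgroup G} {n y : G} (hn : n ∈ normalizer (H : Set G)) (hy : y ∈ H) :
    n * y * n⁻¹ ∈ H := (mem_normalizer_iff.mp hn y).mp hy

omit [Finite G] in
theorem conj_mem' {H : Subgroup G} {n y : G} (hn : n ∈ normalizer (H : Set G)) (hy : y ∈ H) :
    n⁻¹ * y * n ∈ H := by
  have := conj_mem (inv_mem hn) hy
  rwa [inv_inv] at this

section main

variable {O : G → Subgroup G} {L Y : Subgroup G} {B : G → Prop}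

omit [Finite G] in
theorem Data.O_conj (D : Data O L Y B) {n t : G} (h : O t = Y) (hn : n ∈ normalizer (Y : Set G)) :
    O (n * t * n⁻¹) = Y := by
  ext a
  constructor
  · intro ha
    have h1 := D.Ocj n⁻¹ _ _ ha
    have e : n⁻¹ * (n * t * n⁻¹) * n⁻¹⁻¹ = t := by group
    rw [e, h, inv_inv] at h1
    have := conj_mem hn h1
    convert this using 1
    group
  · intro ha
    have h1 : n⁻¹ * a * n ∈ O t := by
      rw [h]
      exact conj_mem' hn ha
    have := D.Ocj n _ _ h1
    convert this using 1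
    group

omit [Finite G] in
/-- `C(t)` normalizes `O t` -/
theorem Data.norm_O (D : Data O L Y B) {c t : G} (h : c * t = t * c) :
    c ∈ normalizer (O t : Set G) := by
  have e : ∀ {c : G}, c * t = t * c → c * t * c⁻¹ = t := by
    intro c hc
    rw [hc, mul_inv_cancel_right]
  have h' : c⁻¹ * t = t * c⁻¹ := by
    rw [inv_mul_eq_iff_eq_mul, ← mul_assoc, h, mul_inv_cancel_right]
  rw [mem_normalizer_iff]
  intro a
  constructor
  · intro ha
    have := D.Ocj c _ _ ha
    rwa [e h] at this
  · intro ha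
    have := D.Ocj c⁻¹ _ _ ha
    rw [e h'] at this
    convert this using 1
    group

omit [Finite G] in
theorem Data.not_core (D : Data O L Y B) {t : G} (h : t ∈ centralizer (L : Set G)) : O t ≠ Y := by
  intro h1
  apply D.Ynn
  intro l hl
  have := D.norm_O (mem_cen.mp h l hl)
  rwa [h1] at this

omit [Finite G] in
theorem Data.not_mem (D : Data O L Y B) {e : G} (h : B e) : e ∉ centralizer (L : Set G) :=
  fun h1 => D.not_core h1 (D.core h)

omit [Finite G] in
theorem Data.K_le (D : Data O L Y B) : centralizer (L : Set G) ≤ centralizer (Y : Set G) :=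
  centralizer_le D.YL

omit [Finite G] in
theorem Data.cen_mem (D : Data O L Y B) {e : G} (h : B e) : e ∈ centralizer (Y : Set G) :=
  mem_cen.mpr fun a ha => (D.comm h a ha).symm

omit [Finite G] in
theorem conjK {n k : G} (hn : n ∈ normalizer (L : Set G)) (hk : k ∈ centralizer (L : Set G)) :
    n * k * n⁻¹ ∈ centralizer (L : Set G) := by
  rw [mem_cen] at hk ⊢
  intro l hl
  have h1 := hk _ (conj_mem' hn hl)
  calc l * (n * k * n⁻¹) = n * ((n⁻¹ * l * n) * k) * n⁻¹ := by group
    _ = n * (k * (n⁻¹ * l * n)) * n⁻¹ := by rw [h1]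
    _ = n * k * n⁻¹ * l := by group

omit [Finite G] in
/-- squares in `Y` -/
theorem Data.eq_one (D : Data O L Y B) {a : G} (ha : a ∈ Y)
    (h : a * a ∈ centralizer (L : Set G)) : a = 1 := by
  have h1 := D.YK _ (mul_mem ha ha) h
  exact eq_one_of_mem_odd D.Yodd ha (n := 1) (by rw [pow_one, pow_two]; exact h1)

omit [Finite G] in
theorem Data.exists_sqrt (D : Data O L Y B) {a : G} (ha : a ∈ Y) : ∃ b ∈ Y, b * b = a := by
  obtain ⟨m, hm⟩ := D.Yodd
  refine ⟨a ^ (m + 1), pow_mem ha _, ?_⟩
  rw [← pow_add]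
  have h1 : m + 1 + (m + 1) = (2 * m + 1) + 1 := by ring
  have h2 : a ^ (2 * m + 1) = 1 := by
    rw [← hm]
    have := pow_card_eq_one' (x := (⟨a, ha⟩ : ↥Y))
    exact congrArg Subtype.val this
  rw [h1, pow_succ, h2, one_mul]

omit [Finite G] in
theorem commYK {a k : G} (ha : a ∈ Y) (hk : k ∈ centralizer (Y : Set G)) :
    a * k = k * a := mem_cen.mp hk a ha

omit [Finite G] in
/-- an involution of `N(L) ∩ C(Y)` acts on `L` as `1` or as `e` -/
theorem Data.cases (D : Data O L Y B) {e u : G} (he : B e) (hu : u ∈ normalizer (L : Set G))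
    (huY : u ∈ centralizer (Y : Set G)) (hu2 : u * u = 1) :
    u ∈ centralizer (L : Set G) ∨ u * e ∈ centralizer (L : Set G) := by
  have he2 := sq (D.inv he)
  obtain ⟨a, ha, h | h⟩ := D.aut he hu huY
  · left
    have hau : a * u = u * a := commYK ha huY
    have h1 : a * a ∈ centralizer (L : Set G) := by
      have h2 := mul_mem h h
      have e1 : a * u * (a * u) = a * a * (u * u) := by
        calc a * u * (a * u) = a * (u * a) * u := by group
          _ = a * (a * u) * u := by rw [hau]
          _ = a * a * (u * u) := by group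
      rwa [e1, hu2, mul_one] at h2
    rw [D.eq_one ha h1, one_mul] at h
    exact h
  · right
    have hau : a * u = u * a := commYK ha huY
    have h1 : a * a ∈ centralizer (L : Set G) := by
      -- `a u = w e⁻¹`, `(a u)² = w (e⁻¹ w e) e⁻²`
      have h2 : a * u * (a * u) = (a * u * e) * (e * (a * u * e) * e⁻¹) := by
        calc a * u * (a * u) = a * u * (e * e) * (a * u) := by rw [he2, mul_one]
          _ = (a * u * e) * (e * (a * u * e) * e⁻¹) := by group
      have e1 : a * u * (a * u) = a * a * (u * u) := by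
        calc a * u * (a * u) = a * (u * a) * u := by group
          _ = a * (a * u) * u := by rw [hau]
          _ = a * a * (u * u) := by group
      rw [e1, hu2, mul_one] at h2
      rw [h2]
      exact mul_mem h (conjK (D.mem he) h)
    rw [D.eq_one ha h1, one_mul] at h
    exact h

omit [Finite G] in
/-- an involution of `N(L) ∩ C(Y) ∩ C(e)` centralizes `L` or is bad -/
theorem Data.cases' (D : Data O L Y B) {e u : G} (he : B e) (hu : u ∈ normalizer (L : Set G))
    (huY : u ∈ centralizer (Y : Set G)) (hu2 : orderOf u = 2) (hue : u * e = e * u) :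
    u ∈ centralizer (L : Set G) ∨ B u := by
  have he2 := sq (D.inv he)
  rcases D.cases he hu huY (sq hu2) with h | h
  · exact Or.inl h
  · right
    have e1 : e * (u * e) = u := by rw [hue, ← mul_assoc, he2, one_mul]
    by_cases h1 : u * e = 1
    · have : u = e := by
        have := congrArg (· * e) h1
        simp only [mul_assoc, he2, mul_one, one_mul] at this
        exact this
      rw [this]
      exact he
    · have h2 : u * e * (u * e) = 1 := by
        calc u * e * (u * e) = u * (e * u) * e := by group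
          _ = u * (u * e) * e := by rw [hue]
          _ = (u * u) * (e * e) := by group
          _ = 1 := by rw [sq hu2, he2, one_mul]
      have h3 : u * e * e = e * (u * e) := by rw [e1, mul_assoc, he2, mul_one]
      have := D.mul he h (order_two h2 h1) h3
      rwa [e1] at this

/-- **end lemma**: `L^n ≤ C(w)`, `w` good, `n ∈ N(Y)` -/
theorem Data.mem_of_le (D : Data O L Y B) {n w : G} (hn : n ∈ normalizer (Y : Set G))
    (hw : Good L Y w) (h : ∀ l ∈ L, n * l * n⁻¹ * w = w * (n * l * n⁻¹)) :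
    n ∈ normalizer (L : Set G) := by
  have h1 : ∀ l ∈ L, n * l * n⁻¹ ∈ normalizer (L : Set G) := by
    have := D.gen ((normalizer (L : Set G)).comap (MulAut.conj n).toMonoidHom) (by
      intro l hl a ha
      rw [mem_comap]
      change n * (l * a * l⁻¹) * n⁻¹ ∈ _
      have h2 := hw.move _ (h l hl) _ (conj_mem hn ha)
      convert h2 using 1
      group)
    intro l hl
    exact this hl
  apply mem_normalizer_of_le
  have := D.gen (L.comap (MulAut.conj n).toMonoidHom) (by
    intro l hl a ha
    rw [mem_comap]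
    change n * (l * a * l⁻¹) * n⁻¹ ∈ _
    have h2 := conj_mem (h1 l hl) (D.YL (conj_mem hn ha))
    convert h2 using 1
    group)
  intro l hl
  exact this hl

omit [Finite G] in
theorem cen_conj {n w : G} (h : n⁻¹ * w * n ∈ centralizer (L : Set G)) :
    ∀ l ∈ L, n * l * n⁻¹ * w = w * (n * l * n⁻¹) := by
  intro l hl
  have h1 := mem_cen.mp h l hl
  calc n * l * n⁻¹ * w = n * (l * (n⁻¹ * w * n)) * n⁻¹ := by group
    _ = n * (n⁻¹ * w * n * l) * n⁻¹ := by rw [h1]
    _ = w * (n * l * n⁻¹) := by group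

omit [Finite G] in
theorem cenY_conj {n w : G} (hn : n ∈ normalizer (Y : Set G)) (hw : w ∈ centralizer (Y : Set G)) :
    n * w * n⁻¹ ∈ centralizer (Y : Set G) := conjK hn hw

omit [Finite G] in
theorem cen_le_norm (Y : Subgroup G) : centralizer (Y : Set G) ≤ normalizer (Y : Set G) :=
  centralizer_le_normalizer _

/-- **(A)** -/
theorem Data.lemA (D : Data O L Y B) {x z t u n : G} (hx : B x)
    (hz : z ∈ centralizer (L : Set G)) (hz2 : orderOf z = 2) (hzx : z * x = x * z)
    (ht : t ∈ centralizer (L : Set G)) (hu : u ∈ centralizer (L : Set G)) (ht2 : orderOf t = 2)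
    (hu2 : orderOf u = 2) (htu : t ≠ u) (htu' : t * u = u * t) (htx : t * x = x * t)
    (hux : u * x = x * u) (hn : n ∈ normalizer (Y : Set G))
    (htn : t * (n * z * n⁻¹) = n * z * n⁻¹ * t) (hun : u * (n * z * n⁻¹) = n * z * n⁻¹ * u) :
    n ∈ normalizer (L : Set G) := by
  have key : ∀ w : G, w ∈ centralizer (L : Set G) → w * w = 1 →
      w * (n * z * n⁻¹) = n * z * n⁻¹ * w →
      n⁻¹ * w * n ∈ centralizer (L : Set G) ∨ n⁻¹ * w * n * x ∈ centralizer (L : Set G) := by
    intro w hw hw2 hwn
    have h1 : n⁻¹ * w * n * z = z * (n⁻¹ * w * n) := by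
      calc n⁻¹ * w * n * z = n⁻¹ * (w * (n * z * n⁻¹)) * n := by group
        _ = n⁻¹ * (n * z * n⁻¹ * w) * n := by rw [hwn]
        _ = z * (n⁻¹ * w * n) := by group
    have h2 : n⁻¹ * w * n ∈ centralizer (Y : Set G) := by
      have := cenY_conj (inv_mem hn) (D.K_le hw)
      rwa [inv_inv] at this
    have h3 := (D.good hx hz hz2 hzx).norm _ h1 (cen_le_norm Y h2)
    have h4 : n⁻¹ * w * n * (n⁻¹ * w * n) = 1 := by
      have := conj_mul_self (n := n⁻¹) hw2
      rwa [inv_inv] at this
    exact D.cases hx h3 h2 h4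
  have fin : ∀ w : G, w ∈ centralizer (L : Set G) → orderOf w = 2 → w * x = x * w →
      n⁻¹ * w * n ∈ centralizer (L : Set G) → n ∈ normalizer (L : Set G) :=
    fun w hw hw2 hwx h => D.mem_of_le hn (D.good hx hw hw2 hwx) (cen_conj h)
  have ht' := sq ht2
  have hu' := sq hu2
  rcases key t ht ht' htn with h1 | h1
  · exact fin t ht ht2 htx h1
  rcases key u hu hu' hun with h2 | h2
  · exact fin u hu hu2 hux h2
  have h3 : t * u * (t * u) = 1 := by
    calc t * u * (t * u) = t * (u * t) * u := by group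
      _ = t * (t * u) * u := by rw [htu']
      _ = (t * t) * (u * u) := by group
      _ = 1 := by rw [ht', hu', one_mul]
  refine fin (t * u) (mul_mem ht hu) (order_two h3 ?_) ?_ ?_
  · intro h4
    apply htu
    have := congrArg (· * u) h4
    simp only [mul_assoc, hu', mul_one, one_mul] at this
    exact this
  · rw [mul_assoc, hux, ← mul_assoc, htx, mul_assoc]
  · have hx2 := sq (D.inv hx)
    have h5 : n⁻¹ * (t * u) * n = (n⁻¹ * t * n * x) * (x * (n⁻¹ * u * n * x) * x⁻¹) := by
      have hx' : x⁻¹ = x := inv_eq_of_mul_eq_one_left hx2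
      calc n⁻¹ * (t * u) * n = n⁻¹ * t * n * (n⁻¹ * u * n) := by group
        _ = n⁻¹ * t * n * (x * x) * (n⁻¹ * u * n) := by rw [hx2, mul_one]
        _ = (n⁻¹ * t * n * x) * (x * (n⁻¹ * u * n * x) * x⁻¹) := by group
    rw [h5]
    exact mul_mem h1 (conjK (D.mem hx) h2)

/-- **(iii)** -/
theorem Data.mem_of_conj (D : Data O L Y B) {e r g : G} (he : B e)
    (hr : r ∈ centralizer (L : Set G)) (hr2 : orderOf r = 2) (hre : r * e = e * r)
    (hg : g ∈ normalizer (Y : Set G)) (hv : g * r * g⁻¹ ∈ normalizer (L : Set G))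
    (hve : g * r * g⁻¹ * e = e * (g * r * g⁻¹)) : g ∈ normalizer (L : Set G) := by
  have h1 : g * r * g⁻¹ ∈ centralizer (Y : Set G) := cenY_conj hg (D.K_le hr)
  rcases D.cases' he hv h1 (order_conj g hr2) hve with h | h
  · have h2 : g⁻¹ ∈ normalizer (L : Set G) := by
      refine D.mem_of_le (inv_mem hg) (D.good he hr hr2 hre) (cen_conj ?_)
      rwa [inv_inv]
    have := inv_mem h2
    rwa [inv_inv] at this
  · exfalso
    apply D.not_core hr
    have h2 := D.O_conj (D.core h) (inv_mem hg)
    have e1 : g⁻¹ * (g * r * g⁻¹) * g⁻¹⁻¹ = r := by group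
    rwa [e1] at h2

omit [Finite G] in
theorem comm_conj {u c b : G} (h : c * (b * u * b⁻¹) = b * u * b⁻¹ * c) :
    b⁻¹ * c * b * u = u * (b⁻¹ * c * b) := by
  calc b⁻¹ * c * b * u = b⁻¹ * (c * (b * u * b⁻¹)) * b := by group
    _ = b⁻¹ * (b * u * b⁻¹ * c) * b := by rw [h]
    _ = u * (b⁻¹ * c * b) := by group

/-- **(i)**: the involutions `u ≠ e` of `N(L) ∩ C(e)` acting on `Y` as `1` or `s` have their centralizer in
`C(e)` inside `N(L)`. -/
theorem Data.cen_le (D : Data O L Y B) {e s l u c : G} (he : B e) (hs : s ∈ L) (hl : l ∈ L)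
    (hs2 : orderOf s = 2) (hse : s * e = e * s) (hsY : ∀ a ∈ Y, s * a * s⁻¹ = a⁻¹)
    (hle : l * e * l⁻¹ = e * s)
    (hgen : ∀ H : Subgroup G, Y ≤ H → (∀ a ∈ Y, l * a * l⁻¹ ∈ H) → L ≤ H)
    (hu : u ∈ normalizer (L : Set G)) (hue : u * e = e * u) (hu2 : u * u = 1) (hu1 : u ≠ 1)
    (hne : u ≠ e) (hY : u ∈ centralizer (Y : Set G) ∨ u * s ∈ centralizer (Y : Set G))
    (hce : c * e = e * c) (hcu : c * u = u * c) : c ∈ normalizer (L : Set G) := by
  have he2 := sq (D.inv he)
  have hss := sq hs2
  have hcY : c ∈ normalizer (Y : Set G) := by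
    have := D.norm_O hce
    rwa [D.core he] at this
  rcases hY with hY | hY
  · rcases D.cases he hu hY hu2 with h | h
    · exact (D.good he h (order_two hu2 hu1) hue).norm c hcu hcY
    · have h1 : u * e ≠ 1 := by
        intro h1
        apply hne
        have := congrArg (· * e) h1
        simp only [mul_assoc, he2, mul_one, one_mul] at this
        exact this
      have h2 : u * e * (u * e) = 1 := by
        calc u * e * (u * e) = u * (e * u) * e := by group
          _ = u * (u * e) * e := by rw [hue]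
          _ = (u * u) * (e * e) := by group
          _ = 1 := by rw [hu2, he2, one_mul]
      have h3 : u * e * e = e * (u * e) := by rw [← mul_assoc, ← hue]
      refine (D.good he h (order_two h2 h1) h3).norm c ?_ hcY
      rw [← mul_assoc, hcu, mul_assoc, hce, ← mul_assoc]
  · -- `u = a⁻¹ p s`, `p ∈ {k, k e}`
    have key : ∀ (a k j : G), a ∈ Y → k ∈ centralizer (L : Set G) → (j = 1 ∨ j = e) →
        u * s = a⁻¹ * (k * j) → c ∈ normalizer (L : Set G) := by
      intro a k j ha hk hj hus
      have hkY := D.K_le hk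
      have hjs : j * s = s * j := by
        rcases hj with rfl | rfl
        · rw [one_mul, mul_one]
        · exact hse.symm
      have hja : ∀ b ∈ Y, b * j = j * b := by
        intro b hb
        rcases hj with rfl | rfl
        · rw [one_mul, mul_one]
        · exact (D.comm he b hb).symm
      have hje : j * e = e * j := by
        rcases hj with rfl | rfl
        · rw [one_mul, mul_one]
        · rfl
      obtain ⟨p, hp⟩ : ∃ p, p = k * j := ⟨_, rfl⟩
      have hpa : ∀ b ∈ Y, b * p = p * b := by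
        intro b hb
        rw [hp, ← mul_assoc, commYK hb hkY, mul_assoc, hja b hb, mul_assoc]
      have hps : p * s = s * p := by
        rw [hp, mul_assoc, hjs, ← mul_assoc, ← mem_cen.mp hk s hs, mul_assoc]
      have hus' : u = a⁻¹ * p * s := by
        have : u = u * s * s := by rw [mul_assoc, hss, mul_one]
        rw [this, hus, ← hp]
      have hpe : p * e = e * p := by
        have h1 : p = a * (u * s) := by rw [hus, ← hp]; group
        have h2 : a * e = e * a := (D.comm he a ha).symm
        rw [h1]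
        calc a * (u * s) * e = a * (u * (s * e)) := by group
          _ = a * (u * (e * s)) := by rw [hse]
          _ = a * ((u * e) * s) := by group
          _ = (a * e) * (u * s) := by rw [hue]; group
          _ = e * (a * (u * s)) := by rw [h2]; group
      have hinv : s⁻¹ = s := inv_eq_of_mul_eq_one_left hss
      have hsa : ∀ b ∈ Y, s * b = b⁻¹ * s := by
        intro b hb
        have := hsY b hb
        rw [← this]; group
      have hp2 : p * p = 1 := by
        have h1 := hu2
        rw [hus'] at h1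
        have ha' : a⁻¹ ∈ Y := inv_mem ha
        have h2 : a⁻¹ * p * s * (a⁻¹ * p * s) = p * p := by
          calc a⁻¹ * p * s * (a⁻¹ * p * s) = a⁻¹ * p * (s * a⁻¹) * p * s := by group
            _ = a⁻¹ * p * (a⁻¹⁻¹ * s) * p * s := by rw [hsa _ ha']
            _ = a⁻¹ * (p * a) * (s * p) * s := by group
            _ = a⁻¹ * (a * p) * (p * s) * s := by rw [hpa a ha, hps]
            _ = p * p * (s * s) := by group
            _ = p * p := by rw [hss, mul_one]
        rwa [h2] at h1
      obtain ⟨b, hb, hbb⟩ := D.exists_sqrt (inv_mem ha)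
      have hbe : b * e = e * b := (D.comm he b hb).symm
      have hub : u = b * (p * s) * b⁻¹ := by
        have h1 : b * (p * s) * b⁻¹ = b * b * (p * s) := by
          have h2 : s * b⁻¹ = b * s := by
            have := hsa b⁻¹ (inv_mem hb)
            rwa [inv_inv] at this
          calc b * (p * s) * b⁻¹ = b * p * (s * b⁻¹) := by group
            _ = b * p * (b * s) := by rw [h2]
            _ = b * (p * b) * s := by group
            _ = b * (b * p) * s := by rw [hpa b hb]
            _ = b * b * (p * s) := by group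
        rw [h1, hbb, hus']; group
      have hbL : b ∈ normalizer (L : Set G) := le_normalizer (D.YL hb)
      -- `c' = b⁻¹ c b`
      obtain ⟨c', hc'⟩ : ∃ c', c' = b⁻¹ * c * b := ⟨_, rfl⟩
      suffices hmem : c' ∈ normalizer (L : Set G) by
        have h1 : c = b * c' * b⁻¹ := by rw [hc']; group
        rw [h1]
        exact mul_mem (mul_mem hbL hmem) (inv_mem hbL)
      have hc'u : c' * (p * s) = p * s * c' := by
        rw [hc']
        refine comm_conj ?_
        rw [← hub]; exact hcu
      have hc'e : c' * e = e * c' := by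
        rw [hc']
        refine comm_conj ?_
        have : b * e * b⁻¹ = e := by rw [hbe, mul_inv_cancel_right]
        rw [this]; exact hce
      have hc'Y : c' ∈ normalizer (Y : Set G) := by
        have := D.norm_O hc'e
        rwa [D.core he] at this
      -- `k² = 1` and `c'` commutes with `e s k`
      have hke : k * e = e * k := by
        rcases hj with h | h
        · rw [h, mul_one] at hp
          rw [← hp]; exact hpe
        · have h1 : k = p * e := by rw [hp, h, mul_assoc, he2, mul_one]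
          rw [h1, mul_assoc, he2, mul_one, ← mul_assoc, ← hpe, mul_assoc, he2, mul_one]
      have hk2 : k * k = 1 := by
        rcases hj with h | h
        · rw [h, mul_one] at hp
          rw [← hp]; exact hp2
        · have h1 : k = p * e := by rw [hp, h, mul_assoc, he2, mul_one]
          calc k * k = p * e * (p * e) := by rw [← h1]
            _ = p * (e * p) * e := by group
            _ = p * (p * e) * e := by rw [hpe]
            _ = (p * p) * (e * e) := by group
            _ = 1 := by rw [hp2, he2, one_mul]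
      have hks : k * s = s * k := (mem_cen.mp hk s hs).symm
      have hσ : c' * (e * s * k) = e * s * k * c' := by
        rcases hj with h | h
        · rw [h, mul_one] at hp
          rw [hp] at hc'u
          calc c' * (e * s * k) = (c' * e) * (s * k) := by group
            _ = e * (c' * (k * s)) := by rw [hc'e, hks]; group
            _ = e * (k * s * c') := by rw [hc'u]
            _ = e * s * k * c' := by rw [hks]; group
        · rw [hp, h] at hc'u
          have h1 : k * e * s = e * s * k := by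
            rw [hke, mul_assoc, hks, ← mul_assoc]
          rw [← h1]
          exact hc'u
      have hOσ : O (e * s * k) = O (l * (e * k) * l⁻¹) := by
        congr 1
        have hkl : k * l⁻¹ = l⁻¹ * k := (mem_cen.mp hk l⁻¹ (inv_mem hl)).symm
        calc e * s * k = l * e * l⁻¹ * k := by rw [hle]
          _ = l * e * (l⁻¹ * k) := by group
          _ = l * (e * k) * l⁻¹ := by rw [← hkl]; group
      have hBek : O (e * k) = Y := by
        by_cases hk1 : k = 1
        · rw [hk1, mul_one]
          exact D.core he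
        · exact D.core (D.mul he hk (order_two hk2 hk1) hke)
      have hOle : ∀ a ∈ O (e * s * k), a ∈ L := by
        intro a ha
        rw [hOσ] at ha
        have h1 := D.Ocj l⁻¹ _ _ ha
        have e1 : l⁻¹ * (l * (e * k) * l⁻¹) * l⁻¹⁻¹ = e * k := by group
        rw [e1, hBek, inv_inv] at h1
        have h2 := L.mul_mem (L.mul_mem hl (D.YL h1)) (L.inv_mem hl)
        convert h2 using 1
        group
      have hYO : ∀ a ∈ Y, l * a * l⁻¹ ∈ O (e * s * k) := by
        intro a ha
        rw [hOσ]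
        apply D.Ocj
        rw [hBek]
        exact ha
      apply mem_normalizer_of_le
      have h1 := hgen (L.comap (MulAut.conj c').toMonoidHom) (by
          intro a ha
          rw [mem_comap]
          exact D.YL (conj_mem hc'Y ha)) (by
          intro a ha
          rw [mem_comap]
          exact hOle _ (conj_mem (D.norm_O hσ) (hYO a ha)))
      intro y hy
      exact h1 hy
    have husL : u * s ∈ normalizer (L : Set G) := mul_mem hu (le_normalizer hs)
    obtain ⟨a, ha, h | h⟩ := D.aut he husL hY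
    · exact key a _ 1 ha h (Or.inl rfl) (by group)
    · refine key a _ e ha h (Or.inr rfl) ?_
      calc u * s = a⁻¹ * (a * (u * s) * (e * e)) := by rw [he2]; group
        _ = a⁻¹ * (a * (u * s) * e * e) := by group

omit [Finite G] in
theorem Data.exists_ne_one (D : Data O L Y B) : ∃ y ∈ Y, y ≠ 1 := by
  by_contra hno
  push Not at hno
  apply D.Ynn
  have h : Y = ⊥ := (eq_bot_iff_forall _).mpr hno
  intro l _
  rw [h, mem_normalizer_iff]
  intro y
  rw [mem_bot, mem_bot]
  constructor
  · rintro rfl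
    group
  · intro h1
    have : y = l⁻¹ * (l * y * l⁻¹) * l := by group
    rw [this, h1]; group

omit [Finite G] in
theorem Data.not_inv (D : Data O L Y B) {w : G} (hw : w ∈ centralizer (Y : Set G))
    (h : ∀ a ∈ Y, w * a * w⁻¹ = a⁻¹) : False := by
  obtain ⟨y, hy, hy1⟩ := D.exists_ne_one
  apply hy1
  have h1 := h y hy
  have h2 : w * y * w⁻¹ = y := by
    rw [← commYK hy hw, mul_inv_cancel_right]
  rw [h2] at h1
  have h3 : y * y = 1 := by
    nth_rewrite 1 [h1]
    exact inv_mul_cancel y
  exact eq_one_of_mem_odd D.Yodd hy (n := 1) (by rw [pow_one, pow_two]; exact h3)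

/-- **(1)** `C(e) ∩ C(Y) ≤ N(L)` -/
theorem Data.C_le (D : Data O L Y B) {e g : G} (he : B e) (hge : g * e = e * g)
    (hgY : g ∈ centralizer (Y : Set G)) : g ∈ normalizer (L : Set G) := by
  obtain ⟨r, -, hr, -, hr2, -, -, -, hre, -⟩ := D.four he
  obtain ⟨s, hs, l, hl, hs2, hse, hsY, hle, hgen⟩ := D.pair he
  have he2 := sq (D.inv he)
  have hss := sq hs2
  have hsn : s ∈ normalizer (Y : Set G) := by
    apply mem_normalizer_of_le
    intro a ha
    rw [hsY a ha]
    exact inv_mem ha
  have heY := D.cen_mem he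
  have hs1 := ne_one hs2
  have hsne : s ≠ e := by
    rintro rfl
    exact D.not_inv heY hsY
  have hrY := D.K_le hr
  have hgn := cen_le_norm Y hgY
  have noodd : ∀ c v : G, c ∈ normalizer (Y : Set G) → v ∈ centralizer (Y : Set G) →
      c * s * c⁻¹ = v → False := by
    intro c v hc hv hcv
    apply D.not_inv hv
    intro a ha
    have h1 := hsY _ (conj_mem' hc ha)
    rw [← hcv]
    calc c * s * c⁻¹ * a * (c * s * c⁻¹)⁻¹ = c * (s * (c⁻¹ * a * c) * s⁻¹) * c⁻¹ := by group
      _ = c * (c⁻¹ * a * c)⁻¹ * c⁻¹ := by rw [h1]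
      _ = a⁻¹ := by group
  -- `(i)` for `s`
  have hcs : ∀ c : G, c * e = e * c → c * s = s * c → c ∈ normalizer (L : Set G) := by
    intro c h1 h2
    refine D.cen_le he hs hl hs2 hse hsY hle hgen (le_normalizer hs) hse hss hs1 hsne
      (Or.inr ?_) h1 h2
    rw [hss]
    exact one_mem _
  obtain ⟨v, hv⟩ : ∃ v, v = g * r * g⁻¹ := ⟨_, rfl⟩
  have hv2 : v * v = 1 := by rw [hv]; exact conj_mul_self (sq hr2)
  have hvY : v ∈ centralizer (Y : Set G) := by rw [hv]; exact cenY_conj hgn hrY
  have hve : v * e = e * v := by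
    rw [hv]
    have h1 : g⁻¹ * e = e * g⁻¹ := by
      rw [inv_mul_eq_iff_eq_mul, ← mul_assoc, hge, mul_inv_cancel_right]
    calc g * r * g⁻¹ * e = g * r * (g⁻¹ * e) := by group
      _ = g * (r * e) * g⁻¹ := by rw [h1]; group
      _ = (g * e) * (r * g⁻¹) := by rw [hre]; group
      _ = e * (g * r * g⁻¹) := by rw [hge]; group
  have hvn := cen_le_norm Y hvY
  suffices hvM : v ∈ normalizer (L : Set G) by
    rw [hv] at hvM hve
    exact D.mem_of_conj he hr hr2 hre hgn hvM hve
  have hzn : ∀ c ∈ zpowers (s * v), c ∈ normalizer (Y : Set G) := fun c hc =>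
    (zpowers_le.mpr (mul_mem hsn hvn)) hc
  have hsv_e : s * v * e = e * (s * v) := by
    rw [mul_assoc, hve, ← mul_assoc, hse, mul_assoc]
  have hcomm_e : ∀ m : ℕ, (s * v) ^ m * e = e * (s * v) ^ m := fun m =>
    ((Commute.pow_left (show Commute (s * v) e from hsv_e) m)).eq
  -- the action of `(s v)^m` on `Y`
  have hsvs : s * v * s ∈ centralizer (Y : Set G) := by
    have h1 := cenY_conj hsn hvY
    have hs' : s⁻¹ = s := inv_eq_of_mul_eq_one_left hss
    rwa [hs'] at h1
  have hsq : (s * v) ^ 2 ∈ centralizer (Y : Set G) := by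
    have h1 := mul_mem hsvs hvY
    have h2 : (s * v) ^ 2 = s * v * s * v := by rw [pow_two]; group
    rw [h2]; exact h1
  have heven : ∀ m : ℕ, (s * v) ^ (2 * m) ∈ centralizer (Y : Set G) := by
    intro m
    rw [pow_mul]
    exact pow_mem hsq m
  have hcase : ∀ m : ℕ, (s * v) ^ m ∈ centralizer (Y : Set G) ∨
      (s * v) ^ m * s ∈ centralizer (Y : Set G) := by
    intro m
    rcases Nat.even_or_odd m with ⟨i, hi⟩ | ⟨i, hi⟩
    · left
      have : m = 2 * i := by omega
      rw [this]; exact heven i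
    · right
      rw [hi, pow_succ, mul_assoc]
      exact mul_mem (heven i) hsvs
  rcases dih hss hv2 with ⟨c, hc, hcv⟩ | ⟨m, hm, hu2, hus, huv⟩
  · exact (noodd c v (hzn c hc) hvY hcv).elim
  by_cases hue : (s * v) ^ m = e
  · exfalso
    rcases Nat.even_or_odd m with ⟨j, hj⟩ | hodd
    · obtain ⟨w, hw⟩ : ∃ w, w = (s * v) ^ j := ⟨_, rfl⟩
      have hww : w * w = e := by rw [hw, ← pow_add, ← hj, hue]
      have hwY : w ∈ normalizer (Y : Set G) := hw ▸ hzn _ (npow_mem_zpowers _ _)
      have hwe : w * e = e * w := hw ▸ hcomm_e j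
      have hsw : s * w * s⁻¹ = w⁻¹ := hw ▸ inv_pow hss hv2 (npow_mem_zpowers _ _)
      have hs' : s⁻¹ = s := inv_eq_of_mul_eq_one_left hss
      have he' : e⁻¹ = e := inv_eq_of_mul_eq_one_left he2
      have hws : w * s * w⁻¹ = s * e := by
        have h1 : w * s = s * w⁻¹ := by
          have h2 : s * w⁻¹ = s * (s * w * s⁻¹) := by rw [hsw]
          rw [h2, hs', ← mul_assoc, ← mul_assoc, hss, one_mul]
        rw [h1, mul_assoc, ← mul_inv_rev, hww, he']
      have hse1 := hse
      -- `v' = w r w⁻¹`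
      have hrs : r * s = s * r := (mem_cen.mp hr s hs).symm
      have hv'e : w * r * w⁻¹ * e = e * (w * r * w⁻¹) := by
        have h1 : w⁻¹ * e = e * w⁻¹ := by
          rw [inv_mul_eq_iff_eq_mul, ← mul_assoc, hwe, mul_inv_cancel_right]
        calc w * r * w⁻¹ * e = w * r * (w⁻¹ * e) := by group
          _ = w * (r * e) * w⁻¹ := by rw [h1]; group
          _ = (w * e) * (r * w⁻¹) := by rw [hre]; group
          _ = e * (w * r * w⁻¹) := by rw [hwe]; group
      have hv's : w * r * w⁻¹ * s = s * (w * r * w⁻¹) := by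
        have h1 : s = w * s * w⁻¹ * e := by rw [hws, mul_assoc, he2, mul_one]
        calc w * r * w⁻¹ * s = w * r * w⁻¹ * (w * s * w⁻¹ * e) := by rw [← h1]
          _ = w * (r * s) * w⁻¹ * e := by group
          _ = w * s * w⁻¹ * (w * r * w⁻¹ * e) := by rw [hrs]; group
          _ = (w * s * w⁻¹ * e) * (w * r * w⁻¹) := by rw [hv'e]; group
          _ = s * (w * r * w⁻¹) := by rw [← h1]
      have hwL := D.mem_of_conj he hr hr2 hre hwY (hcs _ hv'e hv's) hv'e
      -- `e ∈ Y C(L)`
      have hae : ∀ a ∈ Y, a * a * e ∈ centralizer (L : Set G) → False := by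
        intro a ha h1
        have h2 := mul_mem h1 h1
        have h3 : a * a * e * (a * a * e) = (a * a) * (a * a) := by
          have h4 : e * (a * a) = a * a * e := by
            rw [← mul_assoc, D.comm he a ha, mul_assoc, D.comm he a ha, ← mul_assoc]
          calc a * a * e * (a * a * e) = a * a * (e * (a * a)) * e := by group
            _ = (a * a) * (a * a) * (e * e) := by rw [h4]; group
            _ = (a * a) * (a * a) := by rw [he2, mul_one]
        rw [h3] at h2
        have h5 := D.eq_one (mul_mem ha ha) h2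
        rw [h5, one_mul] at h1
        exact D.not_mem he h1
      rcases hcase j with h | h
      · rw [← hw] at h
        obtain ⟨a, ha, h1 | h1⟩ := D.aut he hwL h
        · apply hae a ha
          have h2 := mul_mem h1 h1
          have haw : a * w = w * a := commYK ha h
          have h3 : a * w * (a * w) = a * a * e := by
            calc a * w * (a * w) = a * (w * a) * w := by group
              _ = a * a * (w * w) := by rw [← haw]; group
              _ = a * a * e := by rw [hww]
          rwa [h3] at h2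
        · apply hae a ha
          have h2 := mul_mem h1 h1
          have haw : a * w = w * a := commYK ha h
          have h3 : a * w * e * (a * w * e) = a * a * e := by
            calc a * w * e * (a * w * e) = a * w * (e * a) * w * e := by group
              _ = a * w * (a * e) * w * e := by rw [D.comm he a ha]
              _ = a * (w * a) * (e * w) * e := by group
              _ = a * (a * w) * (w * e) * e := by rw [← haw, ← hwe]
              _ = a * a * (w * w) * (e * e) := by group
              _ = a * a * e := by rw [hww, he2, mul_one]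
          rwa [h3] at h2
      · rw [← hw] at h
        have hq2 : w * s * (w * s) = 1 := by
          calc w * s * (w * s) = w * (s * w * s) := by group
            _ = w * (s * w * s⁻¹) := by rw [hs']
            _ = 1 := by rw [hsw, mul_inv_cancel]
        have he1 : e ≠ 1 := ne_one (D.inv he)
        have hwss : w * s * s = w := by rw [mul_assoc, hss, mul_one]
        rcases D.cases he (mul_mem hwL (le_normalizer hs)) h hq2 with h1 | h1
        · apply he1
          have h2 : s * (w * s) = w * s * s := mem_cen.mp h1 s hs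
          calc e = w * w := hww.symm
            _ = (w * s * s) * (w * s * s) := by rw [hwss]
            _ = (w * s) * (s * (w * s)) * s := by group
            _ = (w * s) * (w * s) * (s * s) := by rw [h2]; group
            _ = 1 := by rw [hq2, hss, one_mul]
        · apply he1
          have h2 : s * (w * s * e) = w * s * e * s := mem_cen.mp h1 s hs
          -- `w s e` commutes with `s`, so `w s` does
          have h3 : s * (w * s) = w * s * s := by
            have h4 : s * (w * s) * e = w * s * s * e := by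
              calc s * (w * s) * e = s * (w * s * e) := by group
                _ = w * s * (e * s) := by rw [h2]; group
                _ = w * s * s * e := by rw [← hse]; group
            exact mul_right_cancel h4
          calc e = w * w := hww.symm
            _ = (w * s * s) * (w * s * s) := by rw [hwss]
            _ = (w * s) * (s * (w * s)) * s := by group
            _ = (w * s) * (w * s) * (s * s) := by rw [h3]; group
            _ = 1 := by rw [hq2, hss, one_mul]
    · -- `m` odd: `s` and `v e` have a product of odd order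
      have hve2 : v * e * (v * e) = 1 := by
        calc v * e * (v * e) = v * (e * v) * e := by group
          _ = (v * v) * (e * e) := by rw [← hve]; group
          _ = 1 := by rw [hv2, he2, one_mul]
      rcases dih hss hve2 with ⟨c, hc, hcv⟩ | ⟨m', hm', hu', -, -⟩
      · refine noodd c (v * e) ?_ (mul_mem hvY heY) hcv
        exact (zpowers_le.mpr (mul_mem hsn (mul_mem hvn (cen_le_norm Y heY)))) hc
      · have h1 : (s * (v * e)) ^ m = 1 := by
          rw [← mul_assoc, (show Commute (s * v) e from hsv_e).mul_pow, hue]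
          obtain ⟨i, hi⟩ := hodd
          rw [hi, pow_succ, pow_mul, pow_two, he2, one_pow, one_mul, he2]
        have h2 := orderOf_dvd_of_pow_eq_one h1
        rw [hm'] at h2
        have h3 : 2 ∣ m := (dvd_mul_right 2 m').trans h2
        exact (Nat.not_even_iff_odd.mpr hodd) (even_iff_two_dvd.mpr h3)
  · have h1 := hcomm_e m
    have huM : (s * v) ^ m ∈ normalizer (L : Set G) := hcs _ h1 hus
    exact D.cen_le he hs hl hs2 hse hsY hle hgen huM h1 (sq hu2) (ne_one hu2) hue (hcase m) hve
      huv.symm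

/-- **(2)** `x` fixes one point of `C(Y) / (C(Y) ∩ N(L))` -/
theorem Data.point (D : Data O L Y B) {x h : G} (hx : B x) (hh : h ∈ centralizer (Y : Set G))
    (hx' : h * x * h⁻¹ ∈ normalizer (L : Set G)) : h ∈ normalizer (L : Set G) := by
  have hx2 := sq (D.inv hx)
  have hxY := D.cen_mem hx
  have hhn := cen_le_norm Y hh
  have hxi : x⁻¹ = x := inv_eq_of_mul_eq_one_left hx2
  have hx'2 : h * x * h⁻¹ * (h * x * h⁻¹) = 1 := conj_mul_self hx2
  have hK : ∀ u : G, u ∈ centralizer (L : Set G) → O u ≠ Y := fun u hu => D.not_core hu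
  rcases D.cases hx hx' (mul_mem (mul_mem hh hxY) (inv_mem hh)) hx'2 with h1 | h1
  · exact (hK _ h1 (D.O_conj (D.core hx) hhn)).elim
  · -- `x' x = k ∈ C(L)`
    have h2 : x * (h * x * h⁻¹) ∈ centralizer (L : Set G) := by
      have := inv_mem h1
      have e1 : (h * x * h⁻¹ * x)⁻¹ = x * (h * x * h⁻¹) := by
        rw [mul_inv_rev, hxi]
        congr 1
        exact inv_eq_of_mul_eq_one_left hx'2
      rwa [e1] at this
    rcases dih hx2 hx'2 with ⟨c, hc, hcv⟩ | ⟨m, hm, hu2, hux, hux'⟩
    · have hcK : c ∈ centralizer (L : Set G) := (zpowers_le.mpr h2) hc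
      have h3 : c⁻¹ * h * x = x * (c⁻¹ * h) := by
        calc c⁻¹ * h * x = c⁻¹ * (h * x * h⁻¹) * h := by group
          _ = c⁻¹ * (c * x * c⁻¹) * h := by rw [hcv]
          _ = x * (c⁻¹ * h) := by group
      have h4 := D.C_le hx h3 (mul_mem (inv_mem (D.K_le hcK)) hh)
      have h5 : h = c * (c⁻¹ * h) := by group
      rw [h5]
      exact mul_mem (cen_le_norm L hcK) h4
    · obtain ⟨u, hu⟩ : ∃ u, u = (x * (h * x * h⁻¹)) ^ m := ⟨_, rfl⟩
      rw [← hu] at hu2 hux hux'
      have huK : u ∈ centralizer (L : Set G) := hu ▸ pow_mem h2 m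
      have hwx : h⁻¹ * u * h * x = x * (h⁻¹ * u * h) := by
        calc h⁻¹ * u * h * x = h⁻¹ * (u * (h * x * h⁻¹)) * h := by group
          _ = h⁻¹ * (h * x * h⁻¹ * u) * h := by rw [hux']
          _ = x * (h⁻¹ * u * h) := by group
      have hwY : h⁻¹ * u * h ∈ centralizer (Y : Set G) :=
        mul_mem (mul_mem (inv_mem hh) (D.K_le huK)) hh
      have hw2 : orderOf (h⁻¹ * u * h) = 2 := by
        have := order_conj h⁻¹ hu2
        rwa [inv_inv] at this
      have hwL := D.C_le hx hwx hwY
      rcases D.cases' hx hwL hwY hw2 hwx with h3 | h3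
      · exact D.mem_of_le hhn (D.good hx huK hu2 hux) (cen_conj h3)
      · exfalso
        apply hK u huK
        have := D.O_conj (D.core h3) hhn
        have e1 : h * (h⁻¹ * u * h) * h⁻¹ = u := by group
        rwa [e1] at this

omit [Finite G] in
/-- `Y C(L)` -/
def prodYK (L Y : Subgroup G) (hYL : Y ≤ L) : Subgroup G where
  carrier := {c | ∃ a ∈ Y, a * c ∈ centralizer (L : Set G)}
  one_mem' := ⟨1, one_mem _, by rw [mul_one]; exact one_mem _⟩
  mul_mem' := by
    rintro c d ⟨a, ha, h1⟩ ⟨b, hb, h2⟩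
    refine ⟨b * a, mul_mem hb ha, ?_⟩
    have h3 : b * (a * c) = a * c * b := commYK hb (centralizer_le hYL h1)
    have e : b * a * (c * d) = (a * c) * (b * d) := by
      calc b * a * (c * d) = b * (a * c) * d := by group
        _ = (a * c) * (b * d) := by rw [h3]; group
    rw [e]
    exact mul_mem h1 h2
  inv_mem' := by
    rintro c ⟨a, ha, h1⟩
    refine ⟨a⁻¹, inv_mem ha, ?_⟩
    have h3 : a * (a * c) = a * c * a := commYK ha (centralizer_le hYL h1)
    have e : a⁻¹ * c⁻¹ = (a * c)⁻¹ * 1 := by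
      have h4 : c * a = a * c := by
        have := mul_left_cancel (a := a) (b := a * c) (c := c * a) (by rw [h3]; group)
        exact this.symm
      rw [mul_one, mul_inv_rev, ← mul_inv_rev, ← mul_inv_rev, h4]
    rw [e, mul_one]
    exact inv_mem h1

/-- **(3)** the sign -/
theorem Data.exists_hom (D : Data O L Y B) {x : G} (hx : B x) :
    ∃ f : ↥(centralizer (Y : Set G)) →* ℤˣ, ∀ e (he : e ∈ centralizer (Y : Set G)), B e →
      f ⟨e, he⟩ = -1 := by
  have hx2 := sq (D.inv hx)
  have hxi : x⁻¹ = x := inv_eq_of_mul_eq_one_left hx2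
  obtain ⟨f, hf⟩ := Sign.exists_sign ((normalizer (L : Set G)).subgroupOf (centralizer (Y : Set G)))
    ((prodYK L Y D.YL).subgroupOf (centralizer (Y : Set G))) (by
      rintro ⟨g, hgY⟩ hg ⟨n, hnY⟩ ⟨a, ha, h⟩
      rw [mem_subgroupOf] at hg
      change g ∈ normalizer (L : Set G) at hg
      change a * n ∈ centralizer (L : Set G) at h
      rw [mem_subgroupOf]
      refine ⟨a, ha, ?_⟩
      change a * (g * n * g⁻¹) ∈ _
      have e : a * (g * n * g⁻¹) = g * (a * n) * g⁻¹ := by
        have := commYK ha hgY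
        calc a * (g * n * g⁻¹) = (a * g) * (n * g⁻¹) := by group
          _ = g * (a * n) * g⁻¹ := by rw [this]; group
      rw [e]
      exact conjK hg h) (by
      rintro ⟨g, hgY⟩ hg ⟨h, hhY⟩ hh hg1 hh1
      rw [mem_subgroupOf] at hg hh hg1 hh1 ⊢
      change g ∈ normalizer (L : Set G) at hg
      change h ∈ normalizer (L : Set G) at hh
      have h1 : ∃ a ∈ Y, a * g * x ∈ centralizer (L : Set G) := by
        obtain ⟨a, ha, h | h⟩ := D.aut hx hg hgY
        · exact absurd ⟨a, ha, h⟩ hg1
        · exact ⟨a, ha, h⟩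
      have h2 : ∃ a ∈ Y, a * h * x ∈ centralizer (L : Set G) := by
        obtain ⟨a, ha, h | h⟩ := D.aut hx hh hhY
        · exact absurd ⟨a, ha, h⟩ hh1
        · exact ⟨a, ha, h⟩
      obtain ⟨a, ha, h1⟩ := h1
      obtain ⟨b, hb, h2⟩ := h2
      refine ⟨a * b, mul_mem ha hb, ?_⟩
      change a * b * (g * h) ∈ _
      have hbg : b * g = g * b := commYK hb hgY
      have e : a * b * (g * h) = (a * g * x) * (x * (b * h * x) * x⁻¹) := by
        rw [hxi]
        calc a * b * (g * h) = a * (b * g) * h := by group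
          _ = a * g * (x * x) * (b * h) * (x * x) := by rw [hbg, hx2]; group
          _ = (a * g * x) * (x * (b * h * x) * x) := by group
      rw [e]
      exact mul_mem h1 (conjK (D.mem hx) h2))
  refine ⟨f, fun e heY he => ?_⟩
  apply hf
  · rw [mem_subgroupOf]
    exact D.mem he
  · rintro ⟨a, ha, h⟩
    change a * e ∈ centralizer (L : Set G) at h
    have h1 := mul_mem h h
    have h2 : a * e * (a * e) = a * a := by
      calc a * e * (a * e) = a * (e * a) * e := by group
        _ = a * a * (e * e) := by rw [D.comm he a ha]; group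
        _ = a * a := by rw [sq (D.inv he), mul_one]
    rw [h2] at h1
    rw [D.eq_one ha h1, one_mul] at h
    exact D.not_mem he h
  · exact Subtype.ext (sq (D.inv he))
  · rintro ⟨h, hhY⟩ h1
    rw [mem_subgroupOf] at h1 ⊢
    change h⁻¹ * e * h ∈ normalizer (L : Set G) at h1
    change h ∈ normalizer (L : Set G)
    have h2 := D.point he (h := h⁻¹) (inv_mem hhY) (by rwa [inv_inv])
    have := inv_mem h2
    rwa [inv_inv] at this

/-- **(4)**, first half: the involutions of `C(Y)` with sign `1` lie in `N(L)` -/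
theorem Data.mem_of_sign (D : Data O L Y B) {x : G} (hx : B x)
    {f : ↥(centralizer (Y : Set G)) →* ℤˣ}
    (hf : ∀ e (he : e ∈ centralizer (Y : Set G)), B e → f ⟨e, he⟩ = -1) {d : G}
    (hdY : d ∈ centralizer (Y : Set G)) (hd : d * d = 1) (hfd : f ⟨d, hdY⟩ = 1) :
    d ∈ normalizer (L : Set G) := by
  have hx2 := sq (D.inv hx)
  have hxY := D.cen_mem hx
  have hz : zpowers (x * d) ≤ centralizer (Y : Set G) := zpowers_le.mpr (mul_mem hxY hdY)
  rcases dih hx2 hd with ⟨c, hc, hcv⟩ | ⟨m, hm, hu2, hux, hud⟩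
  · exfalso
    have hcY := hz hc
    have h1 : f ⟨d, hdY⟩ = f ⟨x, hxY⟩ := by
      have e : (⟨d, hdY⟩ : ↥(centralizer (Y : Set G))) = ⟨c, hcY⟩ * ⟨x, hxY⟩ * ⟨c, hcY⟩⁻¹ :=
        Subtype.ext hcv.symm
      rw [e, map_mul, map_mul, map_inv, mul_comm (f ⟨c, hcY⟩), mul_inv_cancel_right]
    rw [h1, hf x hxY hx] at hfd
    exact absurd hfd (by decide)
  · have huY : (x * d) ^ m ∈ centralizer (Y : Set G) := hz (npow_mem_zpowers _ _)
    have huL := D.C_le hx hux huY
    rcases D.cases' hx huL huY hu2 hux with h1 | h1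
    · exact (D.good hx h1 hu2 hux).norm d hud.symm (cen_le_norm Y hdY)
    · exact D.C_le h1 hud.symm hdY

/-- a maximal 2-subgroup of `C(Y) ∩ N(L)` with the elements needed for `lemA` -/
theorem Data.exists_T (D : Data O L Y B) {x : G} (hx : B x) :
    ∃ (T : Subgroup G) (t u z : G), IsSyl (centralizer (Y : Set G) ⊓ normalizer (L : Set G)) T ∧
      x ∈ T ∧ t ∈ T ∧ u ∈ T ∧ z ∈ T ∧ (∀ s ∈ T, s * z = z * s) ∧
      t ∈ centralizer (L : Set G) ∧ u ∈ centralizer (L : Set G) ∧ z ∈ centralizer (L : Set G) ∧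
      orderOf t = 2 ∧ orderOf u = 2 ∧ orderOf z = 2 ∧ t ≠ u ∧ t * u = u * t ∧ t * x = x * t ∧
      u * x = x * u := by
  obtain ⟨t, u, ht, hu, ht2, hu2, htu, htu', htx, hux⟩ := D.four hx
  have hx2 := sq (D.inv hx)
  obtain ⟨T₀, hT₀⟩ : ∃ T₀ : Subgroup G, T₀ = closure ({x, t, u} : Set G) := ⟨_, rfl⟩
  have hxT : x ∈ T₀ := hT₀ ▸ subset_closure (by simp)
  have htT : t ∈ T₀ := hT₀ ▸ subset_closure (by simp)
  have huT : u ∈ T₀ := hT₀ ▸ subset_closure (by simp)
  have hcomm : ∀ a ∈ ({x, t, u} : Set G), ∀ b ∈ ({x, t, u} : Set G), a * b = b * a := by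
    rintro a (rfl | rfl | rfl) b (rfl | rfl | rfl)
    · rfl
    · exact htx.symm
    · exact hux.symm
    · exact htx
    · rfl
    · exact htu'
    · exact hux
    · exact htu'.symm
    · rfl
  have hcomm' : ∀ a ∈ T₀, ∀ b ∈ T₀, a * b = b * a := by
    have h1 : T₀ ≤ centralizer ({x, t, u} : Set G) := by
      rw [hT₀, closure_le]
      intro a ha
      rw [SetLike.mem_coe, mem_centralizer_iff]
      intro b hb
      exact hcomm b hb a ha
    have h2 : T₀ ≤ centralizer (T₀ : Set G) := by
      nth_rewrite 1 [hT₀]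
      rw [closure_le]
      intro a ha
      rw [SetLike.mem_coe, mem_centralizer_iff]
      intro b hb
      exact (mem_centralizer_iff.mp (h1 hb) a ha).symm
    intro a ha b hb
    exact mem_cen.mp (h2 hb) a ha
  have hsq' : ∀ a ∈ T₀, a * a = 1 := by
    intro a ha
    rw [hT₀] at ha
    induction ha using closure_induction with
    | mem a ha =>
      rcases ha with rfl | rfl | rfl
      · exact hx2
      · exact sq ht2
      · exact sq hu2
    | one => rw [one_mul]
    | mul a b ha hb h1 h2 =>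
      have h3 := hcomm' a (hT₀ ▸ ha) b (hT₀ ▸ hb)
      calc a * b * (a * b) = a * (b * a) * b := by group
        _ = (a * a) * (b * b) := by rw [← h3]; group
        _ = 1 := by rw [h1, h2, one_mul]
    | inv a ha h1 =>
      rw [← mul_inv_rev, h1, inv_one]
  have hT₀2 : IsPGroup 2 ↥T₀ := by
    rintro ⟨a, ha⟩
    refine ⟨1, ?_⟩
    rw [pow_one, pow_two]
    exact Subtype.ext (hsq' a ha)
  have hle : T₀ ≤ centralizer (Y : Set G) ⊓ normalizer (L : Set G) := by
    rw [hT₀, closure_le]
    rintro a (rfl | rfl | rfl)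
    · exact ⟨D.cen_mem hx, D.mem hx⟩
    · exact ⟨D.K_le ht, cen_le_norm L ht⟩
    · exact ⟨D.K_le hu, cen_le_norm L hu⟩
  obtain ⟨T, hT, hT₀T⟩ := exists_isSyl hT₀2 hle
  obtain ⟨z, hz, hz2, hzT⟩ := exists_central (N := T ⊓ centralizer (L : Set G)) hT.two inf_le_left (by
      intro s hs
      rw [mem_normalizer_iff]
      intro y
      rw [mem_inf, mem_inf]
      have hsL : s ∈ normalizer (L : Set G) := (hT.le hs).2
      constructor
      · rintro ⟨h1, h2⟩
        exact ⟨mul_mem (mul_mem hs h1) (inv_mem hs), conjK hsL h2⟩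
      · rintro ⟨h1, h2⟩
        have e1 : y = s⁻¹ * (s * y * s⁻¹) * s⁻¹⁻¹ := by group
        rw [e1]
        exact ⟨mul_mem (mul_mem (inv_mem hs) h1) (inv_mem (inv_mem hs)), conjK (inv_mem hsL) h2⟩)
    (by
      intro h
      have : t ∈ (⊥ : Subgroup G) := h ▸ (⟨hT₀T htT, ht⟩ : t ∈ T ⊓ centralizer (L : Set G))
      exact ne_one ht2 (mem_bot.mp this))
  exact ⟨T, t, u, z, hT, hT₀T hxT, hT₀T htT, hT₀T huT, hz.1, hzT, ht, hu, hz.2, ht2, hu2, hz2, htu,
    htu', htx, hux⟩

/-- **THEOREM H**: `C(Y) ≤ N(L)` -/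
theorem Data.cen_le_normalizer (D : Data O L Y B) {x : G} (hx : B x) :
    centralizer (Y : Set G) ≤ normalizer (L : Set G) := by
  obtain ⟨f, hf⟩ := D.exists_hom hx
  have hxY := D.cen_mem hx
  obtain ⟨T, t, u, z, hT, hxT, htT, huT, hzT, hzc, ht, hu, hz, ht2, hu2, hz2, htu, htu', htx, hux⟩ :=
    D.exists_T hx
  have hx2 := sq (D.inv hx)
  have hxi : x⁻¹ = x := inv_eq_of_mul_eq_one_left hx2
  -- the signs of `t`, `u`, `z`
  have hone : ∀ w (hw : w ∈ centralizer (Y : Set G)), w ∈ centralizer (L : Set G) →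
      orderOf w = 2 → w * x = x * w → f ⟨w, hw⟩ = 1 := by
    intro w hw hwK hw2 hwx
    have hB := D.mul hx hwK hw2 hwx
    have h1 := hf (x * w) (mul_mem hxY hw) hB
    have h2 := hf x hxY hx
    have e : (⟨x * w, mul_mem hxY hw⟩ : ↥(centralizer (Y : Set G))) = ⟨x, hxY⟩ * ⟨w, hw⟩ := rfl
    rw [e, map_mul, h2] at h1
    have h3 : f ⟨w, hw⟩ = (-1) * ((-1) * f ⟨w, hw⟩) := by simp
    rw [h3, h1]
    rfl
  -- the subgroup `Om`
  obtain ⟨Om, hOm⟩ : ∃ Om : Subgroup G, Om = closure {d | ∃ hd : d ∈ centralizer (Y : Set G),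
      d * d = 1 ∧ f ⟨d, hd⟩ = 1} := ⟨_, rfl⟩
  have hOmle : Om ≤ centralizer (Y : Set G) ⊓ normalizer (L : Set G) := by
    rw [hOm, closure_le]
    rintro d ⟨hd, hd2, hfd⟩
    exact ⟨hd, D.mem_of_sign hx hf hd hd2 hfd⟩
  have hOmn : ∀ h ∈ centralizer (Y : Set G), ∀ d ∈ Om, h * d * h⁻¹ ∈ Om := by
    intro h hh d hd
    have h1 : Om ≤ Om.comap (MulAut.conj h).toMonoidHom := by
      nth_rewrite 1 [hOm]
      rw [closure_le]
      rintro d ⟨hd, hd2, hfd⟩
      rw [SetLike.mem_coe, mem_comap]
      change h * d * h⁻¹ ∈ Om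
      rw [hOm]
      apply Subgroup.subset_closure
      refine ⟨mul_mem (mul_mem hh hd) (inv_mem hh), conj_mul_self hd2, ?_⟩
      have e : (⟨h * d * h⁻¹, mul_mem (mul_mem hh hd) (inv_mem hh)⟩ :
          ↥(centralizer (Y : Set G))) = ⟨h, hh⟩ * ⟨d, hd⟩ * ⟨h, hh⟩⁻¹ := rfl
      rw [e, map_mul, map_mul, map_inv, mul_comm (f ⟨h, hh⟩), mul_inv_cancel_right]
      exact hfd
    exact h1 hd
  have hmemOm : ∀ w, w ∈ centralizer (L : Set G) → orderOf w = 2 → w * x = x * w → w ∈ Om := by
    intro w hw hw2 hwx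
    rw [hOm]
    exact Subgroup.subset_closure ⟨D.K_le hw, sq hw2, hone w _ hw hw2 hwx⟩
  have hzx : z * x = x * z := (hzc x hxT).symm
  have htO := hmemOm t ht ht2 htx
  have huO := hmemOm u hu hu2 hux
  have hzO := hmemOm z hz hz2 hzx
  -- Frattini
  obtain ⟨P, hP⟩ : ∃ P, P = T ⊓ Om := ⟨_, rfl⟩
  have hPs : IsSyl Om P := by
    rw [hP]
    refine hT.inf hOmle ?_
    intro g hg
    rw [mem_normalizer_iff]
    intro y
    constructor
    · intro hy
      exact hOmn g hg.1 y hy
    · intro hy
      have := hOmn g⁻¹ (inv_mem hg.1) _ hy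
      convert this using 1
      group
  have hN : ∀ g ∈ centralizer (Y : Set G), g ∈ normalizer (P : Set G) →
      g ∈ normalizer (L : Set G) := by
    intro g hg hgP
    have htP : t ∈ P := hP ▸ ⟨htT, htO⟩
    have huP : u ∈ P := hP ▸ ⟨huT, huO⟩
    have key : ∀ w ∈ P, w * (g * z * g⁻¹) = g * z * g⁻¹ * w := by
      intro w hw
      have h1 : g⁻¹ * w * g ∈ P := conj_mem' hgP hw
      rw [hP] at h1
      have h2 := hzc _ h1.1
      calc w * (g * z * g⁻¹) = g * (g⁻¹ * w * g * z) * g⁻¹ := by group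
        _ = g * (z * (g⁻¹ * w * g)) * g⁻¹ := by rw [h2]
        _ = g * z * g⁻¹ * w := by group
    exact D.lemA hx hz hz2 hzx ht hu ht2 hu2 htu htu' htx hux (cen_le_norm Y hg) (key t htP)
      (key u huP)
  intro h hh
  have h1 : cj h P ≤ Om := by
    rintro _ ⟨p, hp, rfl⟩
    exact hOmn h hh p (hPs.le hp)
  obtain ⟨g, hg, h2⟩ := hPs.conj (isPGroup_cj (g := h) hPs.two) h1
  have h3 : cj h P = cj g P := eq_of_le_of_card_ge h2 (by rw [card_cj, card_cj])
  have hgY : g ∈ centralizer (Y : Set G) := (hOmle hg).1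
  have h4 : g⁻¹ * h ∈ normalizer (P : Set G) := by
    rw [mem_normalizer_iff_cj, cj_mul, h3, cj_inv_cj]
  have h5 := hN _ (mul_mem (inv_mem hgY) hh) h4
  have h6 : h = g * (g⁻¹ * h) := by group
  rw [h6]
  exact mul_mem (hOmle hg).2 h5

/-- **THEOREM H**, second part: `N(Y) ≤ N(L)` -/
theorem Data.normalizer_le (D : Data O L Y B) {x : G} (hx : B x) :
    normalizer (Y : Set G) ≤ normalizer (L : Set G) := by
  have hH := D.cen_le_normalizer hx
  obtain ⟨T, t, u, z, hT, hxT, htT, huT, hzT, hzc, ht, hu, hz, ht2, hu2, hz2, htu, htu', htx, hux⟩ :=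
    D.exists_T hx
  rw [inf_of_le_left hH] at hT
  have hzx : z * x = x * z := (hzc x hxT).symm
  intro n hn
  have h1 : cj n T ≤ centralizer (Y : Set G) := by
    rintro _ ⟨p, hp, rfl⟩
    exact cenY_conj hn (hT.le hp)
  obtain ⟨g, hg, h2⟩ := hT.conj (isPGroup_cj (g := n) hT.two) h1
  have h3 : cj n T = cj g T := eq_of_le_of_card_ge h2 (by rw [card_cj, card_cj])
  have h4 : g⁻¹ * n ∈ normalizer (T : Set G) := by
    rw [mem_normalizer_iff_cj, cj_mul, h3, cj_inv_cj]
  have key : ∀ w ∈ T, w * (g⁻¹ * n * z * (g⁻¹ * n)⁻¹) = g⁻¹ * n * z * (g⁻¹ * n)⁻¹ * w := by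
    intro w hw
    obtain ⟨m, hm⟩ : ∃ m, m = g⁻¹ * n := ⟨_, rfl⟩
    rw [← hm] at h4 ⊢
    have h5 := hzc _ (conj_mem' h4 hw)
    calc w * (m * z * m⁻¹) = m * (m⁻¹ * w * m * z) * m⁻¹ := by group
      _ = m * (z * (m⁻¹ * w * m)) * m⁻¹ := by rw [h5]
      _ = m * z * m⁻¹ * w := by group
  have h5 := D.lemA hx hz hz2 hzx ht hu ht2 hu2 htu htu' htx hux
    (mul_mem (inv_mem (cen_le_norm Y hg)) hn) (key t htT) (key u huT)
  have h6 : n = g * (g⁻¹ * n) := by group
  rw [h6]
  exact mul_mem (hH hg) h5

/-- **THEOREM H**, third part: `C(e) ≤ N(L)` for every bad `e` -/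
theorem Data.cen_bad_le (D : Data O L Y B) {e c : G} (he : B e) (hc : c * e = e * c) :
    c ∈ normalizer (L : Set G) := by
  apply D.normalizer_le he
  have := D.norm_O hc
  rwa [D.core he] at this

end main

end Cfsg.Agent.UGT.Res.ThH
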