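import Cfsg.Agent.UGT.Parity

/-!
# The end of R4: one fixed point of a 2-group

`M ≤ G`, `lam : M → {±1}`, `x ∈ M` an involution with `lam x = -1`, `F ≤ C(x)` a 2-group. If `M` is the only
point of `G / M` fixed by `F` and `x` at which `x` has sign `-1`, then `G` has a nontrivial homomorphism to
`{±1}`.
-/

set_option autoImplicit false

open Subgroup

namespace Cfsg.Agent.UGT.Res.WEnd

open Cfsg.Agent.UGT.Parity

/-- `exists_hom_fixed` for `G / M` and a homomorphism `lam : M → {±1}`. -/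
theorem exists_sign {G : Type*} [Group G] [Finite G] (M : Subgroup G) (lam : M →* ℤˣ) :
    ∃ f : G →* ℤˣ, ∀ (x : G) (F : Subgroup G) (hx : x ∈ M), x * x = 1 → lam ⟨x, hx⟩ = -1 →
      IsPGroup 2 F → F ≤ centralizer ({x} : Set G) → F ≤ M →
      (∀ g : G, (∀ t ∈ F, g⁻¹ * t * g ∈ M) → ∀ h : g⁻¹ * x * g ∈ M,
        lam ⟨g⁻¹ * x * g, h⟩ = -1 → g ∈ M) → f x = -1 := by
  classical
  let ev : G ⧸ M → G → Prop := fun ω g => ∃ h : ω.out⁻¹ * g * ω.out ∈ M, lam ⟨_, h⟩ = 1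
  have hfix : ∀ (g : G) (ω : G ⧸ M), g • ω = ω ↔ ω.out⁻¹ * g * ω.out ∈ M := by
    intro g ω
    conv_lhs => rw [← QuotientGroup.out_eq' ω]
    change (QuotientGroup.mk (g * ω.out) : G ⧸ M) = QuotientGroup.mk ω.out ↔ _
    rw [eq_comm, QuotientGroup.eq, mul_assoc]
  have hev : ∀ (ω : G ⧸ M) (g : G) (h : ω.out⁻¹ * g * ω.out ∈ M),
      ev ω g ↔ lam ⟨_, h⟩ = 1 := fun ω g h => ⟨fun ⟨_, h2⟩ => h2, fun h2 => ⟨h, h2⟩⟩
  have hpar : IsParity ev := by
    constructor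
    · intro ω g h hg hh
      rw [hfix] at hg hh
      have e : ω.out⁻¹ * (g * h) * ω.out = (ω.out⁻¹ * g * ω.out) * (ω.out⁻¹ * h * ω.out) := by group
      have hgh : ω.out⁻¹ * (g * h) * ω.out ∈ M := by rw [e]; exact M.mul_mem hg hh
      rw [hev ω _ hgh, hev ω _ hg, hev ω _ hh]
      have e2 : lam ⟨_, hgh⟩ = lam ⟨_, hg⟩ * lam ⟨_, hh⟩ := by
        rw [← map_mul]
        exact congrArg lam (Subtype.ext e)
      rw [e2]
      rcases Int.units_eq_one_or (lam ⟨_, hg⟩) with h1 | h1 <;>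
        rcases Int.units_eq_one_or (lam ⟨_, hh⟩) with h2 | h2 <;> rw [h1, h2] <;> simp
    · intro ω g h hh
      have hh' := (hfix h ω).mp hh
      obtain ⟨k, hk⟩ : ∃ k, k = ω.out⁻¹ * g⁻¹ * (g • ω).out := ⟨_, rfl⟩
      have hkM : k ∈ M := by
        have h3 : (QuotientGroup.mk ((g • ω).out) : G ⧸ M) = QuotientGroup.mk (g * ω.out) := by
          rw [QuotientGroup.out_eq']
          conv_lhs => rw [← QuotientGroup.out_eq' ω]
          rfl
        rw [QuotientGroup.eq] at h3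
        have h4 := M.inv_mem h3
        rw [hk]
        convert h4 using 1
        group
      have e : (g • ω).out⁻¹ * (g * h * g⁻¹) * (g • ω).out = k⁻¹ * (ω.out⁻¹ * h * ω.out) * k := by
        rw [hk]; group
      have h5 : (g • ω).out⁻¹ * (g * h * g⁻¹) * (g • ω).out ∈ M := by
        rw [e]; exact M.mul_mem (M.mul_mem (M.inv_mem hkM) hh') hkM
      rw [hev _ _ h5, hev _ _ hh']
      have e2 : lam ⟨_, h5⟩ = (lam ⟨k, hkM⟩)⁻¹ * lam ⟨_, hh'⟩ * lam ⟨k, hkM⟩ := by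
        rw [← map_inv, ← map_mul, ← map_mul]
        exact congrArg lam (Subtype.ext e)
      rw [e2, mul_comm, ← mul_assoc, mul_inv_cancel, one_mul]
  obtain ⟨f, hf⟩ := exists_hom_fixed hpar
  refine ⟨f, fun x F hx hxx hl hF hFx hFM h1 => ?_⟩
  rw [hf x F hxx hF hFx]
  have hout : (QuotientGroup.mk (1 : G) : G ⧸ M).out ∈ M := by
    have : (QuotientGroup.mk ((QuotientGroup.mk (1 : G) : G ⧸ M).out) : G ⧸ M) =
        QuotientGroup.mk 1 := QuotientGroup.out_eq' _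
    rw [eq_comm, QuotientGroup.eq, inv_one, one_mul] at this
    exact this
  have hone : ∀ y ∈ M, y • (QuotientGroup.mk (1 : G) : G ⧸ M) = QuotientGroup.mk 1 := by
    intro y hy
    change (QuotientGroup.mk (y * 1) : G ⧸ M) = _
    rw [mul_one, eq_comm, QuotientGroup.eq, inv_one, one_mul]
    exact hy
  have hcard : Nat.card {ω : G ⧸ M // (x • ω = ω ∧ ¬ ev ω x) ∧ ∀ t ∈ F, t • ω = ω} = 1 := by
    rw [Nat.card_eq_one_iff_unique]
    refine ⟨⟨fun a b => Subtype.ext ?_⟩, ⟨⟨QuotientGroup.mk 1, ⟨hone x hx, ?_⟩,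
      fun t ht => hone t (hFM ht)⟩⟩⟩
    · have key : ∀ c : {ω : G ⧸ M // (x • ω = ω ∧ ¬ ev ω x) ∧ ∀ t ∈ F, t • ω = ω},
          c.1 = QuotientGroup.mk 1 := by
        rintro ⟨ω, ⟨hω, hne⟩, hFω⟩
        have hω' := (hfix x ω).mp hω
        rw [hev ω x hω'] at hne
        have h3 := h1 ω.out (fun t ht => (hfix t ω).mp (hFω t ht)) hω' (by
          rcases Int.units_eq_one_or (lam ⟨_, hω'⟩) with h4 | h4
          · exact absurd h4 hne
          · exact h4)
        change ω = _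
        conv_lhs => rw [← QuotientGroup.out_eq' ω]
        rw [eq_comm, QuotientGroup.eq, inv_one, one_mul]
        exact h3
      rw [key a, key b]
    · set o := (QuotientGroup.mk (1 : G) : G ⧸ M).out with ho
      have h5 : o⁻¹ * x * o ∈ M := M.mul_mem (M.mul_mem (M.inv_mem hout) hx) hout
      rw [hev _ _ h5]
      have e2 : lam ⟨_, h5⟩ = (lam ⟨o, hout⟩)⁻¹ * lam ⟨x, hx⟩ * lam ⟨o, hout⟩ := by
        rw [← map_inv, ← map_mul, ← map_mul]; rfl
      rw [e2, mul_comm, ← mul_assoc, mul_inv_cancel, one_mul, hl]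
      decide
  rw [hcard, pow_one]

/-- **The end of R4.** -/
theorem false_of {G : Type*} [Group G] [Finite G] (hG : NoSign G) (M : Subgroup G) (lam : M →* ℤˣ)
    {x : G} (F : Subgroup G) (hx : x ∈ M) (hxx : x * x = 1) (hl : lam ⟨x, hx⟩ = -1)
    (hF : IsPGroup 2 F) (hFx : F ≤ centralizer ({x} : Set G)) (hFM : F ≤ M)
    (h1 : ∀ g : G, (∀ t ∈ F, g⁻¹ * t * g ∈ M) → ∀ h : g⁻¹ * x * g ∈ M,
      lam ⟨g⁻¹ * x * g, h⟩ = -1 → g ∈ M) : False := by
  obtain ⟨f, hf⟩ := exists_sign M lam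
  have h2 := hf x F hx hxx hl hF hFx hFM h1
  rw [hG f, MonoidHom.one_apply] at h2
  exact absurd h2 (by decide)

end Cfsg.Agent.UGT.Res.WEnd
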