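import Cfsg.Agent.UGT.Res.WFun
import Cfsg.Agent.UGT.Res.WEnd
import Cfsg.Agent.Lib.ProductSet

/-!
# The pairs `(W, H)` of R4

`W` of odd order, normal in `H`, `H / O(H)` simple and perfect, `H / W` quasisimple; `M0 = N(W) ∩ N(H)`,
`K0 = {m ∈ M0 | m = 1 on H / O(H)}`. `(W₁, H₁)` is a conjugate.

* `mem_K0_of_comm`: (c') an element of `M0` commuting with a subgroup `B ≤ H₁ ∩ M0` covering `H₁ / O(H₁)` is in `K0`.
* `eq_of_fine`: (a') `t` fine for `(W, H)`, `t ∈ K0 W₁ H₁` ⟹ `(W₁, H₁) = (W, H)`.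
* `false_of`: the end of R4.
-/

set_option autoImplicit false
set_option linter.unusedSectionVars false

open Cfsg Subgroup
open Cfsg.Agent.SignalizersComponents Cfsg.Agent.Lib
open Cfsg.Agent.SignalizersComponents.IntrinsicBasic
open Cfsg.Agent.Intrinsic.Basic Cfsg.Agent.Intrinsic.Cen Cfsg.Agent.Intrinsic.Diag
open Cfsg.Agent.McLLyComp.Act
open Cfsg.Agent.UGT.Triple Cfsg.Agent.UGT.PumpGen Cfsg.Agent.UGT.TriBase
open Cfsg.Agent.UGT.Res.Base Cfsg.Agent.UGT.Res.Abel Cfsg.Agent.UGT.Res.CoreFree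
open Cfsg.Agent.UGT.Res.WFun
open scoped commutatorElement

namespace Cfsg.Agent.UGT.Res.WPair

variable {G : Type*} [Group G]

/-! ### generalities -/

theorem mem_sup_left_iff {A O : Subgroup G} (h : A ≤ normalizer (O : Set G)) {z : G} :
    z ∈ A ⊔ O ↔ ∃ a ∈ A, ∃ o ∈ O, a * o = z := by
  have h1 := Subgroup.coe_mul_of_left_le_normalizer_right A O h
  have h2 : z ∈ A ⊔ O ↔ z ∈ ((A ⊔ O : Subgroup G) : Set G) := Iff.rfl
  rw [h2, h1]
  rfl

/-- `|A N| |A ∩ N| = |A| |N|` -/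
theorem card_sup_mul {A N : Subgroup G} (h : A ≤ normalizer (N : Set G)) :
    Nat.card ↥(A ⊔ N : Subgroup G) * Nat.card ↥(A ⊓ N : Subgroup G) =
      Nat.card ↥A * Nat.card ↥N := by
  rw [← ProductSet.card_mul_card_inf A N, ← Subgroup.coe_mul_of_left_le_normalizer_right A N h]
  rfl

theorem comm_mul_mem {O : Subgroup G} {a a' o o' : G} (ha : a ∈ normalizer (O : Set G))
    (ha' : a' ∈ normalizer (O : Set G)) (ho : o ∈ O) (ho' : o' ∈ O) :
    ⁅a, a'⁆⁻¹ * ⁅a * o, a' * o'⁆ ∈ O := by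
  have h1 : a'⁻¹ * o * a'⁻¹⁻¹ ∈ O := conj_mem (inv_mem ha') ho
  have h2 : (a' * a) * (a'⁻¹ * o * a'⁻¹⁻¹ * (o' * o⁻¹)) * (a' * a)⁻¹ ∈ O :=
    conj_mem (mul_mem ha' ha) (mul_mem h1 (mul_mem ho' (inv_mem ho)))
  have h3 : a' * o'⁻¹ * a'⁻¹ ∈ O := conj_mem ha' (inv_mem ho')
  have h4 : ⁅a, a'⁆⁻¹ * ⁅a * o, a' * o'⁆ =
      (a' * a) * (a'⁻¹ * o * a'⁻¹⁻¹ * (o' * o⁻¹)) * (a' * a)⁻¹ * (a' * o'⁻¹ * a'⁻¹) := by
    simp only [commutatorElement_def]
    group
  rw [h4]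
  exact mul_mem h2 h3

/-- `[A O, A' O] ≤ [A, A'] O` -/
theorem comm_sup_le {A A' O : Subgroup G} (h : A ≤ normalizer (O : Set G))
    (h' : A' ≤ normalizer (O : Set G)) : ⁅A ⊔ O, A' ⊔ O⁆ ≤ ⁅A, A'⁆ ⊔ O := by
  rw [commutator_le]
  intro z hz z' hz'
  obtain ⟨a, ha, o, ho, rfl⟩ := (mem_sup_left_iff h).mp hz
  obtain ⟨a', ha', o', ho', rfl⟩ := (mem_sup_left_iff h').mp hz'
  have h1 := comm_mul_mem (h ha) (h' ha') ho ho'
  have h2 : ⁅a * o, a' * o'⁆ = ⁅a, a'⁆ * (⁅a, a'⁆⁻¹ * ⁅a * o, a' * o'⁆) := by group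
  rw [h2]
  exact mul_mem (mem_sup_left (commutator_mem_commutator ha ha')) (mem_sup_right h1)

theorem cj_normalizer (g : G) (W : Subgroup G) :
    cj g (normalizer (W : Set G)) = normalizer (cj g W : Set G) := by
  ext x
  rw [mem_cj, mem_normalizer_iff_cj, mem_normalizer_iff_cj]
  have e1 : cj x (cj g W) = cj g (cj (g⁻¹ * x * g) W) := by
    rw [← cj_mul, ← cj_mul]
    congr 1
    group
  rw [e1]
  constructor
  · intro h
    rw [h]
  · intro h
    exact cj_injective g h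

theorem cj_sup (g : G) (A B : Subgroup G) : cj g (A ⊔ B) = cj g A ⊔ cj g B :=
  Subgroup.map_sup _ _ _

theorem cj_commutator (g : G) (A B : Subgroup G) : cj g ⁅A, B⁆ = ⁅cj g A, cj g B⁆ :=
  map_commutator _ _ _

theorem cj_le_iff {g : G} {A B : Subgroup G} : A ≤ cj g B ↔ cj g⁻¹ A ≤ B := by
  constructor
  · intro h
    have := cj_mono (g := g⁻¹) h
    rwa [cj_inv_cj] at this
  · intro h
    have := cj_mono (g := g) h
    rwa [cj_cj_inv] at this

/-! ### `M0`, `K0` -/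

/-- `N(W) ∩ N(H)` -/
def M0 (W H : Subgroup G) : Subgroup G := normalizer (W : Set G) ⊓ normalizer (H : Set G)

/-- the elements of `M0 W H` acting trivially on `H / O(H)` -/
def K0 (W H : Subgroup G) : Subgroup G := fix (M0 W H) H

section defs

variable {W H : Subgroup G}

theorem mem_M0 {m : G} : m ∈ M0 W H ↔ m ∈ normalizer (W : Set G) ∧ m ∈ normalizer (H : Set G) :=
  Iff.rfl

theorem mem_K0 {m : G} : m ∈ K0 W H ↔ m ∈ M0 W H ∧ Fixes m H := Iff.rfl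

theorem K0_le : K0 W H ≤ M0 W H := fix_le _ _

theorem M0_le_normalizer : M0 W H ≤ normalizer (K0 W H : Set G) := by
  have key : ∀ g ∈ M0 W H, ∀ k ∈ K0 W H, g * k * g⁻¹ ∈ K0 W H := fun g hg k hk =>
    ⟨mul_mem (mul_mem hg hk.1) (inv_mem hg), fixes_conj hk.2 hg.2⟩
  intro g hg
  rw [mem_normalizer_iff]
  refine fun k => ⟨key g hg k, fun h => ?_⟩
  have h2 := key _ (inv_mem hg) _ h
  have h3 : g⁻¹ * (g * k * g⁻¹) * g⁻¹⁻¹ = k := by group
  rwa [h3] at h2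

theorem cj_M0 (g : G) (W H : Subgroup G) : cj g (M0 W H) = M0 (cj g W) (cj g H) := by
  rw [M0, cj_inf, cj_normalizer, cj_normalizer]
  rfl

theorem cj_K0 (g : G) (W H : Subgroup G) : cj g (K0 W H) = K0 (cj g W) (cj g H) := by
  rw [K0, cj_fix, cj_M0]
  rfl

end defs

/-- the properties of `(W, H)` -/
structure Sys (W H : Subgroup G) : Prop where
  Wc : W ≤ core H
  nW : H ≤ normalizer (W : Set G)
  simp : ∀ N : Subgroup G, N ≤ H → H ≤ normalizer (N : Set G) → N ≤ core H ∨ N ⊔ core H = H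
  perf : ⁅H, H⁆ ⊔ core H = H
  quasi : ∀ D : Subgroup G, D ≤ H → D ⊔ core H = H → D ⊔ W = H
  four : ∃ V : Subgroup G, V ≤ H ∧ (∀ v ∈ V, v * v = 1) ∧ Nat.card ↥V = 4
  out : ∀ a ∈ M0 W H, ∀ b ∈ M0 W H, ⁅a, b⁆ ∈ H ⊔ K0 W H

theorem Sys.conj {W H : Subgroup G} (S : Sys W H) (g : G) : Sys (cj g W) (cj g H) where
  Wc := by
    rw [core_cj]
    exact cj_mono S.Wc
  nW := by
    rw [← cj_normalizer]
    exact cj_mono S.nW
  simp := by
    intro N hN hn
    have h1 : IntrinsicBasic.cj g⁻¹ N ≤ H := cj_le_iff.mp hN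
    have h2 : H ≤ normalizer (IntrinsicBasic.cj g⁻¹ N : Set G) := by
      rw [← cj_normalizer, cj_le_iff, inv_inv]
      exact hn
    rw [core_cj]
    rcases S.simp _ h1 h2 with h | h
    · left
      exact cj_le_iff.mpr h
    · right
      have := congrArg (IntrinsicBasic.cj g) h
      rwa [cj_sup, cj_cj_inv] at this
  perf := by
    rw [core_cj, ← cj_commutator, ← cj_sup, S.perf]
  quasi := by
    intro D hD hs
    have h1 : IntrinsicBasic.cj g⁻¹ D ≤ H := cj_le_iff.mp hD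
    have h2 := congrArg (IntrinsicBasic.cj g⁻¹) hs
    rw [core_cj, cj_sup, cj_inv_cj, cj_inv_cj] at h2
    have h3 := congrArg (IntrinsicBasic.cj g) (S.quasi _ h1 h2)
    rwa [cj_sup, cj_cj_inv] at h3
  four := by
    obtain ⟨V, hV, h1, h2⟩ := S.four
    refine ⟨IntrinsicBasic.cj g V, cj_mono hV, fun v hv => ?_, by rw [← h2]; exact card_cj g V⟩
    rw [mem_cj] at hv
    have h3 := h1 _ hv
    have h4 : v * v = g * (g⁻¹ * v * g * (g⁻¹ * v * g)) * g⁻¹ := by group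
    rw [h4, h3]
    group
  out := by
    intro a ha b hb
    rw [← cj_M0, mem_cj] at ha hb
    rw [← cj_K0, ← cj_sup, mem_cj]
    have h1 := S.out _ ha _ hb
    convert h1 using 1
    simp only [commutatorElement_def]
    group

section one

variable [Finite G] {W H : Subgroup G}

theorem Sys.le_M0 (S : Sys W H) : H ≤ M0 W H := le_inf S.nW le_normalizer

theorem fixes_of_mem_core {a : G} (ha : a ∈ core H) : Fixes a H := by
  refine ⟨le_normalizer (core_le H ha), fun y hy => ?_⟩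
  have h1 : y * a⁻¹ * y⁻¹ ∈ core H := conj_mem_core (le_normalizer hy) (inv_mem ha)
  have h2 : ⁅a, y⁆ = a * (y * a⁻¹ * y⁻¹) := by
    rw [commutatorElement_def]
    group
  rw [h2]
  exact mul_mem ha h1

theorem Sys.core_le_K0 (S : Sys W H) : core H ≤ K0 W H := fun _ ha =>
  ⟨S.le_M0 (core_le H ha), fixes_of_mem_core ha⟩

theorem Sys.even (S : Sys W H) : core H ≠ H := by
  intro h
  obtain ⟨V, hV, h1, h2⟩ := S.four
  have h3 := card_dvd_of_le hV
  rw [h2] at h3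
  have h4 := odd_card_core H
  rw [h] at h4
  exact (Nat.not_even_iff_odd.mpr h4) (even_iff_two_dvd.mpr ((by norm_num : 2 ∣ 4).trans h3))

/-- `H ∩ K0 = O(H)` -/
theorem Sys.inf_K0 (S : Sys W H) : H ⊓ K0 W H = core H := by
  apply le_antisymm
  · have hn : H ≤ normalizer ((H ⊓ K0 W H : Subgroup G) : Set G) := by
      intro h hh
      rw [mem_normalizer_iff_cj, cj_inf, cj_eq_self_of_mem hh,
        mem_normalizer_iff_cj.mp (M0_le_normalizer (S.le_M0 hh))]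
    rcases S.simp _ inf_le_left hn with h | h
    · exact h
    · exfalso
      have h1 : core H ≤ H ⊓ K0 W H := le_inf (core_le H) S.core_le_K0
      rw [sup_of_le_left h1] at h
      have h2 : H ≤ K0 W H := inf_eq_left.mp h
      have h3 : ⁅H, H⁆ ≤ core H := by
        rw [commutator_le]
        intro a ha b hb
        exact (h2 ha).2.2 b hb
      apply S.even
      have h4 := S.perf
      rwa [sup_of_le_right h3] at h4
  · exact le_inf (core_le H) S.core_le_K0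

/-- a 2-component covering `H / O(H)` is normalized by the elements normalizing `H` -/
theorem Sys.mem_normalizer (S : Sys W H) {C L : Subgroup G} (hL : IsComp C L)
    (hs : L ⊔ core H = H) {c : G} (hc : c ∈ C) (hcH : c ∈ normalizer (H : Set G)) :
    c ∈ normalizer (L : Set G) := by
  rw [mem_normalizer_iff_cj]
  by_contra hne
  have hL' := isComp_cj_of_mem hL hc
  have hs' : cj c L ⊔ core H = H := by
    have h1 := congrArg (cj c) hs
    rw [cj_sup, ← core_cj, mem_normalizer_iff_cj.mp hcH] at h1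
    exact h1
  have h1 := hL.comm_le_core hL' (Ne.symm hne)
  have h2 : ⁅L, cj c L⁆ ≤ core H := h1.trans (inf_le_left.trans (core_le_of_sup hs))
  have hLH : L ≤ H := by
    rw [← hs]
    exact le_sup_left
  have hLH' : cj c L ≤ H := by
    rw [← hs']
    exact le_sup_left
  have h3 := comm_sup_le (hLH.trans (le_normalizer_core H)) (hLH'.trans (le_normalizer_core H))
  rw [hs, hs', sup_of_le_right h2] at h3
  apply S.even
  have h4 := S.perf
  rwa [sup_of_le_right h3] at h4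

/-- `t` an involution of `N(X)` acting trivially on `X / O(X)`: `C_X(t)` covers `X / O(X)`. -/
theorem cover_cen {X : Subgroup G} {t : G} (htt : t * t = 1) (hf : Fixes t X) :
    (X ⊓ centralizer ({t} : Set G)) ⊔ core X = X := by
  refine sup_of_exists inf_le_left fun y hy => ?_
  have htO : t ∈ normalizer (core X : Set G) := normalizer_le_normalizer_core X hf.1
  have hy' : y⁻¹ * t * y⁻¹⁻¹ ∈ normalizer (core X : Set G) :=
    mul_mem (mul_mem (inv_mem (le_normalizer_core X hy)) htO)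
      (inv_mem (inv_mem (le_normalizer_core X hy)))
  obtain ⟨t', ht'⟩ : ∃ t', t' = y⁻¹ * t * y := ⟨_, rfl⟩
  have ht'O : t' ∈ normalizer (core X : Set G) := by
    rw [ht']
    simpa using hy'
  have htt' : t' * t' = 1 := by
    rw [ht']
    calc y⁻¹ * t * y * (y⁻¹ * t * y) = y⁻¹ * (t * t) * y := by group
      _ = 1 := by rw [htt]; group
  -- `t' ∈ t O`
  have h1 : t * t' ∈ core X := by
    have h2 := hf.2 y⁻¹ (inv_mem hy)
    have h3 : t * t' = t * ⁅t, y⁻¹⁆⁻¹ * t⁻¹ := by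
      rw [ht', commutatorElement_def]
      have h4 : t⁻¹ = t := inv_eq_of_mul_eq_one_left htt
      rw [h4]
      calc t * (y⁻¹ * t * y) = t * (y⁻¹ * t * y) * (t * t) := by rw [htt, mul_one]
        _ = t * (t * y⁻¹ * t * y⁻¹⁻¹)⁻¹ * t := by
          rw [mul_inv_rev, mul_inv_rev, mul_inv_rev, h4, inv_inv, inv_inv]
          group
    rw [h3]
    exact conj_mem_core hf.1 (inv_mem h2)
  have hcomm : ∀ a ∈ zpowers t, ∀ b ∈ zpowers t', ⁅a, b⁆ ∈ core X := by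
    intro a ha b hb
    rcases (mem_zpowers_of_sq htt).mp ha with rfl | rfl
    · rw [commutatorElement_one_left]
      exact one_mem _
    · rcases (mem_zpowers_of_sq htt').mp hb with rfl | rfl
      · rw [commutatorElement_one_right]
        exact one_mem _
      · have h4 : a⁻¹ = a := inv_eq_of_mul_eq_one_left htt
        have h5 : b⁻¹ = b := inv_eq_of_mul_eq_one_left htt'
        rw [commutatorElement_def, h4, h5]
        have h6 : a * b * a * b = (a * b) * (a * b) := by group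
        rw [h6]
        exact mul_mem h1 h1
  have hle : ∀ {u : G}, u * u = 1 → u ∈ normalizer (core X : Set G) →
      zpowers u ≤ normalizer (core X : Set G) := fun _ h => by
    rw [zpowers_le]
    exact h
  obtain ⟨o, ho, hc⟩ := exists_commuting (odd_card_core X) (isPGroup_of_el (el_zpowers htt))
    (isPGroup_of_el (el_zpowers htt')) (hle htt htO) (hle htt' ht'O) hcomm
  have hc' := hc t (mem_zpowers t) (o * t' * o⁻¹) (conj_mem_cj (mem_zpowers t'))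
  -- `t = o t' o⁻¹`
  have h5 : t * (o * t' * o⁻¹) ∈ core X := by
    have h6 : t * (o * t' * o⁻¹) = (t * o * t⁻¹) * (t * t') * o⁻¹ := by group
    rw [h6]
    exact mul_mem (mul_mem (conj_mem_core hf.1 ho) h1) (inv_mem ho)
  have h6 : t * (o * t' * o⁻¹) = 1 := by
    refine eq_one_of_mem_core_sq h5 ?_
    calc t * (o * t' * o⁻¹) * (t * (o * t' * o⁻¹))
        = t * (o * t' * o⁻¹) * ((o * t' * o⁻¹) * t) := by rw [hc']
      _ = t * o * (t' * t') * o⁻¹ * t := by group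
      _ = 1 := by rw [htt']; simp [htt]
  have h7 : o * t' * o⁻¹ = t := by
    have h8 := eq_inv_of_mul_eq_one_right h6
    rw [h8]
    exact inv_eq_of_mul_eq_one_left htt
  refine ⟨y * o⁻¹, ⟨X.mul_mem hy (X.inv_mem (core_le X ho)), mem_c ?_⟩, ?_⟩
  · have h8 : y * o⁻¹ * t = y * o⁻¹ * (o * t' * o⁻¹) := by rw [h7]
    rw [h8, ht']
    group
  · have h8 : (y * o⁻¹)⁻¹ * y = o := by group
    rw [h8]
    exact ho

end one

/-! ### two pairs -/

section two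

variable [Finite G] {W H W₁ H₁ : Subgroup G}

/-- (b) -/
theorem inf_le (S₁ : Sys W₁ H₁)
    (NN : ∀ B : Subgroup G, B ≤ H₁ → B ⊔ core H₁ = H₁ → ¬ ∀ b ∈ B, Fixes b H) {B : Subgroup G}
    (hB₁ : B ≤ H₁) (hBM : B ≤ M0 W H) (hs : B ⊔ core H₁ = H₁) : B ⊓ K0 W H ≤ core H₁ := by
  have hcn : B ⊓ K0 W H ≤ normalizer (core H₁ : Set G) :=
    inf_le_left.trans (hB₁.trans (le_normalizer_core H₁))
  have hn : H₁ ≤ normalizer ((B ⊓ K0 W H ⊔ core H₁ : Subgroup G) : Set G) := by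
    have h1 : B ⊔ core H₁ ≤ normalizer ((B ⊓ K0 W H ⊔ core H₁ : Subgroup G) : Set G) := by
      refine sup_le ?_ (le_sup_right.trans le_normalizer)
      intro b hb
      rw [mem_normalizer_iff_cj, cj_sup, cj_inf, cj_eq_self_of_mem hb,
        mem_normalizer_iff_cj.mp (M0_le_normalizer (hBM hb)),
        mem_normalizer_iff_cj.mp (le_normalizer_core H₁ (hB₁ hb))]
    rwa [hs] at h1
  rcases S₁.simp _ (sup_le (inf_le_left.trans hB₁) (core_le H₁)) hn with h | h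
  · exact le_sup_left.trans h
  · exfalso
    rw [sup_assoc, sup_idem] at h
    exact NN _ (inf_le_left.trans hB₁) h fun b hb => hb.2.2

/-- (0') -/
theorem fixes_of (S₁ : Sys W₁ H₁)
    (NN : ∀ B : Subgroup G, B ≤ H₁ → B ⊔ core H₁ = H₁ → ¬ ∀ b ∈ B, Fixes b H) {B : Subgroup G}
    (hB₁ : B ≤ H₁) (hBM : B ≤ M0 W H) (hs : B ⊔ core H₁ = H₁) {w : G} (hw : w ∈ K0 W H)
    (hwH : w ∈ normalizer (H₁ : Set G)) (hwB : w ∈ normalizer (B : Set G)) : Fixes w H₁ := by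
  rw [← fixes_iff_of_sup hs hwB hwH]
  refine ⟨hwB, fun b hb => ?_⟩
  have h1 : ⁅w, b⁆ ∈ B := by
    rw [commutatorElement_def]
    exact mul_mem (conj_mem hwB hb) (inv_mem hb)
  have h2 : ⁅w, b⁆ ∈ K0 W H := by
    have h3 : b * w⁻¹ * b⁻¹ ∈ K0 W H := conj_mem (M0_le_normalizer (hBM hb)) (inv_mem hw)
    have h4 : ⁅w, b⁆ = w * (b * w⁻¹ * b⁻¹) := by
      rw [commutatorElement_def]
      group
    rw [h4]
    exact mul_mem hw h3
  rw [core_of_sup hs]
  exact ⟨h1, inf_le S₁ NN hB₁ hBM hs ⟨h1, h2⟩⟩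

/-- (c) -/
theorem le_sup (S : Sys W H) (S₁ : Sys W₁ H₁) (hcard : Nat.card ↥H₁ = Nat.card ↥H)
    (hcore : Nat.card ↥(core H₁) = Nat.card ↥(core H))
    (NN : ∀ B : Subgroup G, B ≤ H₁ → B ⊔ core H₁ = H₁ → ¬ ∀ b ∈ B, Fixes b H) {B : Subgroup G}
    (hB₁ : B ≤ H₁) (hBM : B ≤ M0 W H) (hs : B ⊔ core H₁ = H₁) : H ≤ ⁅B, B⁆ ⊔ K0 W H := by
  obtain ⟨D, hD⟩ : ∃ D, D = ⁅B, B⁆ := ⟨_, rfl⟩
  rw [← hD]
  have hDB : D ≤ B := by
    rw [hD, commutator_le]
    intro a ha b hb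
    rw [commutatorElement_def]
    exact mul_mem (mul_mem (mul_mem ha hb) (inv_mem ha)) (inv_mem hb)
  have hDM : D ≤ M0 W H := hDB.trans hBM
  have hDH : D ≤ H ⊔ K0 W H := by
    rw [hD, commutator_le]
    exact fun a ha b hb => S.out a (hBM ha) b (hBM hb)
  have hBn := hB₁.trans (le_normalizer_core H₁)
  have hDs : D ⊔ core H₁ = H₁ := by
    apply le_antisymm (sup_le (hDB.trans hB₁) (core_le H₁))
    have h1 := comm_sup_le hBn hBn
    rw [hs, ← hD] at h1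
    calc H₁ = ⁅H₁, H₁⁆ ⊔ core H₁ := S₁.perf.symm
      _ ≤ D ⊔ core H₁ := sup_le h1 le_sup_right
  have h1 := card_sup_mul (hDM.trans M0_le_normalizer)
  have h2 := card_sup_mul (S.le_M0.trans M0_le_normalizer)
  have h3 := card_sup_mul (hDB.trans hBn)
  rw [hDs, hcard, hcore] at h3
  rw [S.inf_K0] at h2
  have h4 : Nat.card ↥(D ⊓ K0 W H : Subgroup G) ≤ Nat.card ↥(D ⊓ core H₁ : Subgroup G) := by
    refine Nat.le_of_dvd Nat.card_pos (card_dvd_of_le (le_inf inf_le_left ?_))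
    exact (inf_le_inf_right _ hDB).trans (inf_le S₁ NN hB₁ hBM hs)
  have hle : D ⊔ K0 W H ≤ H ⊔ K0 W H := sup_le hDH le_sup_right
  have key : Nat.card ↥(H ⊔ K0 W H : Subgroup G) ≤ Nat.card ↥(D ⊔ K0 W H : Subgroup G) := by
    have hc : 0 < Nat.card ↥(core H) := Nat.card_pos
    have hd : 0 < Nat.card ↥(D ⊓ core H₁ : Subgroup G) := Nat.card_pos
    have hd0 : 0 < Nat.card ↥(D ⊓ K0 W H : Subgroup G) := Nat.card_pos
    refine Nat.le_of_mul_le_mul_right ?_ (Nat.mul_pos hc hd)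
    calc Nat.card ↥(H ⊔ K0 W H : Subgroup G) *
          (Nat.card ↥(core H) * Nat.card ↥(D ⊓ core H₁ : Subgroup G))
        = (Nat.card ↥(H ⊔ K0 W H : Subgroup G) * Nat.card ↥(core H)) *
            Nat.card ↥(D ⊓ core H₁ : Subgroup G) := by ring
      _ = (Nat.card ↥H * Nat.card ↥(D ⊓ core H₁ : Subgroup G)) * Nat.card ↥(K0 W H) := by
          rw [h2]
          ring
      _ = (Nat.card ↥D * Nat.card ↥(K0 W H)) * Nat.card ↥(core H) := by
          rw [h3]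
          ring
      _ = Nat.card ↥(D ⊔ K0 W H : Subgroup G) *
            (Nat.card ↥(core H) * Nat.card ↥(D ⊓ K0 W H : Subgroup G)) := by
          rw [← h1]
          ring
      _ ≤ _ := Nat.mul_le_mul_left _ (Nat.mul_le_mul_left _ h4)
  rw [Subgroup.eq_of_le_of_card_ge hle key]
  exact le_sup_left

/-- (c') -/
theorem mem_K0_of_comm (S : Sys W H) (S₁ : Sys W₁ H₁) (hcard : Nat.card ↥H₁ = Nat.card ↥H)
    (hcore : Nat.card ↥(core H₁) = Nat.card ↥(core H))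
    (NN : ∀ B : Subgroup G, B ≤ H₁ → B ⊔ core H₁ = H₁ → ¬ ∀ b ∈ B, Fixes b H) {B : Subgroup G}
    (hB₁ : B ≤ H₁) (hBM : B ≤ M0 W H) (hs : B ⊔ core H₁ = H₁) {w : G} (hw : w ∈ M0 W H)
    (hwB : ∀ b ∈ B, w * b = b * w) : w ∈ K0 W H := by
  have h1 := le_sup S S₁ hcard hcore NN hB₁ hBM hs
  have hDB : ⁅B, B⁆ ≤ B := by
    rw [commutator_le]
    intro a ha b hb
    rw [commutatorElement_def]
    exact mul_mem (mul_mem (mul_mem ha hb) (inv_mem ha)) (inv_mem hb)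
  refine ⟨hw, hw.2, fun y hy => ?_⟩
  rw [← S.inf_K0]
  refine ⟨by rw [commutatorElement_def]; exact H.mul_mem (conj_mem hw.2 hy) (H.inv_mem hy), ?_⟩
  obtain ⟨d, hd, k, hk, rfl⟩ :=
    (mem_sup_left_iff ((hDB.trans hBM).trans M0_le_normalizer)).mp (h1 hy)
  have h2 : ⁅w, k⁆ ∈ K0 W H := by
    rw [commutatorElement_def]
    exact mul_mem (conj_mem (M0_le_normalizer hw) hk) (inv_mem hk)
  have h3 : ⁅w, d * k⁆ = d * ⁅w, k⁆ * d⁻¹ := by
    have h4 := hwB d (hDB hd)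
    have h5 : w * d * w⁻¹ = d := by
      rw [h4]
      group
    calc ⁅w, d * k⁆ = (w * d * w⁻¹) * ⁅w, k⁆ * d⁻¹ := by
          simp only [commutatorElement_def]
          group
      _ = d * ⁅w, k⁆ * d⁻¹ := by rw [h5]
  rw [h3]
  exact conj_mem (M0_le_normalizer (hBM (hDB hd))) h2

/-- `t` is fine for `(W, H)` -/
def Fi (W H : Subgroup G) (t : G) : Prop :=
  ∃ L : Subgroup G, Fine W t L ∧ L ⊔ W = H ∧ centralizer ({t} : Set G) ≤ M0 W H

theorem Fi.cj {W H : Subgroup G} {t : G} (h : Fi W H t) (g : G) :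
    Fi (cj g W) (cj g H) (g * t * g⁻¹) := by
  obtain ⟨L, h1, h2, h3⟩ := h
  refine ⟨IntrinsicBasic.cj g L, h1.cj g, by rw [← cj_sup, h2], ?_⟩
  rw [← cj_centralizer, ← cj_M0]
  exact cj_mono h3

theorem sup_core_of_sup {L : Subgroup G} (S : Sys W H) (h : L ⊔ W = H) : L ⊔ core H = H := by
  apply le_antisymm
  · refine sup_le ?_ (core_le H)
    rw [← h]
    exact le_sup_left
  · calc H = L ⊔ W := h.symm
      _ ≤ L ⊔ core H := sup_le_sup_left S.Wc _

/-- (exists_w) -/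
theorem exists_w {x : G} (hx : x ∈ M0 W H) (hxx : x * x = 1)
    (fineK : ∀ t ∈ K0 W H, orderOf t = 2 → t * x = x * t → Fi W H t) {t : G} (ht : t ∈ K0 W H)
    (ht2 : orderOf t = 2) : ∃ w ∈ K0 W H, orderOf w = 2 ∧ t * w = w * t ∧ Fi W H w := by
  have htt := sq_of_order ht2
  obtain ⟨E, hE⟩ : ∃ E, E = K0 W H ⊔ zpowers x := ⟨_, rfl⟩
  have hKE : K0 W H ≤ E := hE ▸ le_sup_left
  have hxE : x ∈ E := hE ▸ mem_sup_right (mem_zpowers x)
  have hEM : E ≤ M0 W H := by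
    rw [hE]
    exact sup_le K0_le (by rw [zpowers_le]; exact hx)
  obtain ⟨Q, hQ, htQ⟩ := exists_isSyl (E := E) (isPGroup_of_el (el_zpowers htt)) (by
    rw [zpowers_le]
    exact hKE ht)
  rw [zpowers_le] at htQ
  -- a conjugate of `x` in `Q`
  obtain ⟨g, hg, hxg⟩ := hQ.conj (isPGroup_of_el (el_zpowers hxx)) (by
    rw [zpowers_le]
    exact hxE)
  rw [zpowers_le, mem_cj] at hxg
  have hxn : zpowers x ≤ normalizer (K0 W H : Set G) := by
    rw [zpowers_le]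
    exact M0_le_normalizer hx
  have hg' : g⁻¹ ∈ K0 W H ⊔ zpowers x := hE ▸ inv_mem hg
  obtain ⟨k, hk, z, hz, hkz⟩ := (CoprimeBasic.mem_sup_iff hxn g⁻¹).mp hg'
  have hzx : z * x * z⁻¹ = x := by
    rcases (mem_zpowers_of_sq hxx).mp hz with rfl | rfl
    · group
    · group
  have hxk : k * x * k⁻¹ ∈ Q := by
    have h1 : g⁻¹ * x * g = k * (z * x * z⁻¹) * k⁻¹ := by
      have h2 : g = (k * z)⁻¹ := by rw [hkz, inv_inv]
      rw [← hkz, h2]
      group
    rwa [h1, hzx] at hxg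
  -- a central involution of `Q` in `K0`
  have hQK : Q ⊓ K0 W H ≠ ⊥ := by
    intro h
    have h1 : t ∈ Q ⊓ K0 W H := ⟨htQ, ht⟩
    rw [h, mem_bot] at h1
    exact ne_one_of_order ht2 h1
  have hQn : Q ≤ normalizer ((Q ⊓ K0 W H : Subgroup G) : Set G) := by
    intro q hq
    rw [mem_normalizer_iff_cj, cj_inf, cj_eq_self_of_mem hq,
      mem_normalizer_iff_cj.mp (M0_le_normalizer (hEM (hQ.le hq)))]
  obtain ⟨w, hw, hw2, hwc⟩ := exists_central hQ.two inf_le_left hQn hQK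
  refine ⟨w, hw.2, hw2, hwc t htQ, ?_⟩
  have hkM := K0_le hk
  have h1 : k⁻¹ * w * k ∈ K0 W H := by
    have := conj_mem (M0_le_normalizer (inv_mem hkM)) hw.2
    rwa [inv_inv] at this
  have h2 : orderOf (k⁻¹ * w * k) = 2 := by
    rw [← hw2]
    have := (MulAut.conj k⁻¹).orderOf_eq w
    simpa using this
  have h3 : k⁻¹ * w * k * x = x * (k⁻¹ * w * k) := by
    have h4 := hwc _ hxk
    have h5 : k⁻¹ * w * k * x = k⁻¹ * (w * (k * x * k⁻¹)) * k := by group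
    rw [h5, ← h4]
    group
  have h4 := (fineK _ h1 h2 h3).cj k
  have h5 : k * (k⁻¹ * w * k) * k⁻¹ = w := by group
  rwa [h5, mem_normalizer_iff_cj.mp hkM.1, mem_normalizer_iff_cj.mp hkM.2] at h4

/-- (a') -/
theorem eq_of_fine (T : TwoBal G) (S : Sys W H) (S₁ : Sys W₁ H₁)
    (hcard : Nat.card ↥H₁ = Nat.card ↥H) (hcore : Nat.card ↥(core H₁) = Nat.card ↥(core H))
    (NN : ∀ B : Subgroup G, B ≤ H₁ → B ⊔ core H₁ = H₁ → ¬ ∀ b ∈ B, Fixes b H) {t w : G}
    (ht : Fi W H t) (ht₁ : t ∈ K0 W₁ H₁) (hw₁ : w ∈ K0 W₁ H₁) (htw : t * w = w * t)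
    (hw : Fi W₁ H₁ w) : W = W₁ ∧ H = H₁ := by
  obtain ⟨L, F, hL, hC⟩ := ht
  obtain ⟨L₁, F₁, hL₁, hC₁⟩ := hw
  have htt := sq_of_order F.inv
  have hww := sq_of_order F₁.inv
  have hLs := sup_core_of_sup S hL
  have hLs₁ := sup_core_of_sup S₁ hL₁
  have hLH : L ≤ H := by rw [← hL]; exact le_sup_left
  have hLH₁ : L₁ ≤ H₁ := by rw [← hL₁]; exact le_sup_left
  have hwC : w ∈ centralizer ({t} : Set G) := mem_c htw.symm
  have htC : t ∈ centralizer ({w} : Set G) := mem_c htw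
  -- `w ∈ K0 W H`
  have hwK : w ∈ K0 W H := by
    obtain ⟨X, hX⟩ : ∃ X, X = H₁ ⊓ centralizer ({t} : Set G) := ⟨_, rfl⟩
    have hX1 : X ⊔ core H₁ = H₁ := hX ▸ cover_cen htt ht₁.2
    have hwX : w ∈ normalizer (X : Set G) := by
      rw [mem_normalizer_iff_cj, hX, cj_inf, cj_centralizer, mem_normalizer_iff_cj.mp hw₁.1.2]
      have h1 : w * t * w⁻¹ = t := by rw [← htw]; group
      rw [h1]
    have hfX : Fixes w X := (fixes_iff_of_sup hX1 hwX hw₁.1.2).mpr hw₁.2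
    have hX2 := cover_cen hww hfX
    have hXH : X ≤ H₁ := hX ▸ inf_le_left
    have hX3 : (X ⊓ centralizer ({w} : Set G)) ⊔ core H₁ = H₁ := by
      apply le_antisymm (sup_le (inf_le_left.trans hXH) (core_le H₁))
      calc H₁ = X ⊔ core H₁ := hX1.symm
        _ = (X ⊓ centralizer ({w} : Set G)) ⊔ core X ⊔ core H₁ := by rw [hX2]
        _ ≤ _ := sup_le (sup_le le_sup_left ((core_le_of_sup hX1).trans le_sup_right)) le_sup_right
    refine mem_K0_of_comm S S₁ hcard hcore NN (inf_le_left.trans hXH) ?_ hX3 (hC hwC)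
      fun b hb => (comm_c hb.2).symm
    refine inf_le_left.trans ?_
    rw [hX]
    exact inf_le_right.trans hC
  -- `L`, `L₁` are normal
  have hLn : centralizer ({t} : Set G) ≤ normalizer (L : Set G) := fun c hc =>
    S.mem_normalizer F.comp hLs hc (hC hc).2
  have hLn₁ : centralizer ({w} : Set G) ≤ normalizer (L₁ : Set G) := fun c hc =>
    S₁.mem_normalizer F₁.comp hLs₁ hc (hC₁ hc).2
  have hfL : Fixes w L := (fixes_iff_of_sup hLs (hLn hwC) hwK.1.2).mpr hwK.2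
  have hfL₁ : Fixes t L₁ := (fixes_iff_of_sup hLs₁ (hLn₁ htC) ht₁.1.2).mpr ht₁.2
  obtain ⟨D₀, hD₀⟩ : ∃ D, D = L ⊓ centralizer ({w} : Set G) := ⟨_, rfl⟩
  obtain ⟨D₁, hD₁⟩ : ∃ D, D = L₁ ⊓ centralizer ({t} : Set G) := ⟨_, rfl⟩
  have trans_sup : ∀ {A B X : Subgroup G}, A ⊔ core B = B → B ⊔ core X = X → A ⊔ core X = X := by
    intro A B X h1 h2
    have hBX : B ≤ X := by rw [← h2]; exact le_sup_left
    have hAB : A ≤ B := by rw [← h1]; exact le_sup_left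
    apply le_antisymm (sup_le (hAB.trans hBX) (core_le X))
    calc X = B ⊔ core X := h2.symm
      _ = A ⊔ core B ⊔ core X := by rw [h1]
      _ ≤ _ := sup_le (sup_le le_sup_left ((core_le_of_sup h2).trans le_sup_right)) le_sup_right
  have hs₀ : D₀ ⊔ core H = H := trans_sup (hD₀ ▸ cover_cen hww hfL) hLs
  have hs₁ : D₁ ⊔ core H₁ = H₁ := trans_sup (hD₁ ▸ cover_cen htt hfL₁) hLs₁
  have hD₀H : D₀ ≤ H := by rw [← hs₀]; exact le_sup_left
  have hD₁H : D₁ ≤ H₁ := by rw [← hs₁]; exact le_sup_left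
  have hD₀L : D₀ ≤ L := hD₀ ▸ inf_le_left
  have hD₁L : D₁ ≤ L₁ := hD₁ ▸ inf_le_left
  have hD₀w : D₀ ≤ centralizer ({w} : Set G) := hD₀ ▸ inf_le_right
  have hD₁t : D₁ ≤ centralizer ({t} : Set G) := hD₁ ▸ inf_le_right
  have hD₀t : D₀ ≤ centralizer ({t} : Set G) := hD₀L.trans F.comp.le
  have hD₁w : D₁ ≤ centralizer ({w} : Set G) := hD₁L.trans F₁.comp.le
  have hD₁M : D₁ ≤ M0 W H := hD₁t.trans hC
  -- `[D₀, D₁] ≤ D₀ ∩ D₁`
  have hn₀ : D₁ ≤ normalizer (D₀ : Set G) := by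
    intro d hd
    rw [mem_normalizer_iff_cj, hD₀, cj_inf, cj_centralizer,
      mem_normalizer_iff_cj.mp (hLn (hD₁t hd))]
    have h1 : d * w * d⁻¹ = w := by rw [comm_c (hD₁w hd)]; group
    rw [h1]
  have hn₁ : D₀ ≤ normalizer (D₁ : Set G) := by
    intro d hd
    rw [mem_normalizer_iff_cj, hD₁, cj_inf, cj_centralizer,
      mem_normalizer_iff_cj.mp (hLn₁ (hD₀w hd))]
    have h1 : d * t * d⁻¹ = t := by rw [comm_c (hD₀t hd)]; group
    rw [h1]
  have hcomm : ⁅D₀, D₁⁆ ≤ D₀ ⊓ D₁ := by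
    rw [commutator_le]
    intro a ha b hb
    refine ⟨?_, ?_⟩
    · have h1 : ⁅a, b⁆ = a * (b * a⁻¹ * b⁻¹) := by
        rw [commutatorElement_def]
        group
      rw [h1]
      exact mul_mem ha (conj_mem (hn₀ hb) (inv_mem ha))
    · rw [commutatorElement_def]
      exact D₁.mul_mem (conj_mem (hn₁ ha) hb) (D₁.inv_mem hb)
  obtain ⟨D, hD⟩ : ∃ D, D = D₀ ⊓ D₁ := ⟨_, rfl⟩
  have hDH : D ≤ H := hD ▸ inf_le_left.trans hD₀H
  have hDH₁ : D ≤ H₁ := hD ▸ inf_le_right.trans hD₁H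
  -- `D` covers `H / O(H)`
  have hDs : D ⊔ core H = H := by
    apply le_antisymm (sup_le hDH (core_le H))
    have h1 : H ≤ D₁ ⊔ K0 W H := by
      have h2 := le_sup S S₁ hcard hcore NN hD₁H hD₁M hs₁
      refine h2.trans (sup_le_sup_right ?_ _)
      rw [commutator_le]
      intro a ha b hb
      rw [commutatorElement_def]
      exact mul_mem (mul_mem (mul_mem ha hb) (inv_mem ha)) (inv_mem hb)
    have h2 : H ≤ D₀ ⊔ K0 W H := by
      calc H = D₀ ⊔ core H := hs₀.symm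
        _ ≤ _ := sup_le_sup_left S.core_le_K0 _
    have h3 := comm_sup_le ((hD₀H.trans S.le_M0).trans M0_le_normalizer)
      (hD₁M.trans M0_le_normalizer)
    have h4 : ⁅H, H⁆ ≤ D ⊔ K0 W H := by
      refine (commutator_mono h2 h1).trans (h3.trans (sup_le_sup_right ?_ _))
      rw [hD]
      exact hcomm
    have h5 : ⁅H, H⁆ ≤ D ⊔ core H := by
      intro z hz
      have hzH : z ∈ H := by
        have h6 : ⁅H, H⁆ ≤ H := by
          rw [commutator_le]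
          intro a ha b hb
          rw [commutatorElement_def]
          exact mul_mem (mul_mem (mul_mem ha hb) (inv_mem ha)) (inv_mem hb)
        exact h6 hz
      obtain ⟨d, hd, k, hk, rfl⟩ :=
        (mem_sup_left_iff ((hDH.trans S.le_M0).trans M0_le_normalizer)).mp (h4 hz)
      refine mul_mem (mem_sup_left hd) (mem_sup_right ?_)
      rw [← S.inf_K0]
      refine ⟨?_, hk⟩
      have := mul_mem (inv_mem (hDH hd)) hzH
      rwa [inv_mul_cancel_left] at this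
    calc H = ⁅H, H⁆ ⊔ core H := S.perf.symm
      _ ≤ _ := sup_le h5 le_sup_right
  -- `D` covers `H₁ / O(H₁)`
  have hDs₁ : D ⊔ core H₁ = H₁ := by
    have h1 := card_sup_mul (hDH.trans (le_normalizer_core H))
    have h2 := card_sup_mul (hDH₁.trans (le_normalizer_core H₁))
    rw [hDs] at h1
    have h3 : D ⊓ core H₁ ≤ D ⊓ core H := by
      rw [← core_of_sup hDs]
      refine le_core inf_le_left ?_ ?_
      · intro d hd
        rw [mem_normalizer_iff_cj, cj_inf, cj_eq_self_of_mem hd,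
          mem_normalizer_iff_cj.mp (le_normalizer_core H₁ (hDH₁ hd))]
      · exact Odd.of_dvd_nat (odd_card_core H₁) (card_dvd_of_le inf_le_right)
    have h4 : Nat.card ↥(D ⊓ core H₁ : Subgroup G) ≤ Nat.card ↥(D ⊓ core H : Subgroup G) :=
      Nat.le_of_dvd Nat.card_pos (card_dvd_of_le h3)
    have h5 : 0 < Nat.card ↥(D ⊓ core H₁ : Subgroup G) := Nat.card_pos
    refine Subgroup.eq_of_le_of_card_ge (sup_le hDH₁ (core_le H₁)) ?_
    rw [hcard]
    refine Nat.le_of_mul_le_mul_right ?_ h5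
    rw [h2, hcore, ← h1]
    exact Nat.mul_le_mul_left _ h4
  -- a four-group in `D`
  have hfour : ∃ B : Subgroup G, B ≤ D ∧ (∀ b ∈ B, b * b = 1) ∧ Nat.card ↥B = 4 := by
    obtain ⟨V, hV, hV2, hV4⟩ := S.four
    obtain ⟨P, hP, -⟩ := exists_isSyl (E := D) (R₀ := ⊥) IsPGroup.of_bot bot_le
    have hPH := isSyl_of_sup hDs hP
    obtain ⟨g, hg, hVg⟩ := hPH.conj (isPGroup_of_el (el_of_sq hV2)) hV
    refine ⟨cj g⁻¹ V, (cj_le_iff.mp hVg).trans hP.le, fun b hb =>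
      sq_of_el (el_cj (el_of_sq hV2) _) hb, by rw [card_cj, hV4]⟩
  obtain ⟨B, hBD, hB2, hB4⟩ := hfour
  have hWW : W = W₁ := Fine.eq_of_comm T F F₁ htw
    (hBD.trans (by rw [hD]; exact inf_le_left.trans hD₀L))
    (hBD.trans (by rw [hD]; exact inf_le_right.trans hD₁L)) hB2 hB4
  refine ⟨hWW, ?_⟩
  rw [← S.quasi D hDH hDs, ← S₁.quasi D hDH₁ hDs₁, hWW]

end two

/-! ### the end -/

/-- **R4, the end.** -/
theorem false_of [Finite G] (T : TwoBal G) (hG : ∀ f : G →* ℤˣ, f = 1) {W H : Subgroup G}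
    (S : Sys W H) (lam : ↥(M0 W H) →* ℤˣ) {x : G} (hx : x ∈ M0 W H) (hxx : x * x = 1)
    (hlx : lam ⟨x, hx⟩ = -1)
    (fineK : ∀ t ∈ K0 W H, orderOf t = 2 → t * x = x * t → Fi W H t)
    {F : Subgroup G} (hF : F ≤ K0 W H) (hFx : F ≤ centralizer ({x} : Set G))
    (hF2 : ∀ f ∈ F, f * f = 1) (hF4 : Nat.card ↥F = 4)
    (gen : ∀ (x' : G) (hx' : x' ∈ M0 W H), x' * x' = 1 → lam ⟨x', hx'⟩ = -1 →
      ∀ F' : Subgroup G, F' ≤ M0 W H → F' ≤ centralizer ({x'} : Set G) → (∀ f ∈ F', f * f = 1) →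
        Nat.card ↥F' = 4 → (∀ f ∈ F', Fixes f H → f = 1) →
        ∃ w ∈ F', ∃ w' ∈ F', w ≠ 1 ∧ w' ≠ 1 ∧ ∀ B : Subgroup G, B ≤ H →
          H ⊓ centralizer ({w} : Set G) ≤ B → H ⊓ centralizer ({w'} : Set G) ≤ B →
          B ⊔ core H = H)
    (NN : ∀ (g : G) (B : Subgroup G), B ≤ cj g H → B ⊔ core (cj g H) = cj g H →
      ¬ ∀ b ∈ B, Fixes b H) : False := by
  refine WEnd.false_of hG (M0 W H) lam F hx hxx hlx (isPGroup_of_el (el_of_sq hF2)) hFx
    (hF.trans K0_le) fun g hgF hgx hlgx => ?_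
  by_contra hgM
  -- the conjugate pair
  obtain ⟨W₁, hW₁⟩ : ∃ W₁, W₁ = cj g W := ⟨_, rfl⟩
  obtain ⟨H₁, hH₁⟩ : ∃ H₁, H₁ = cj g H := ⟨_, rfl⟩
  have hM : ∀ z, z ∈ M0 W₁ H₁ ↔ g⁻¹ * z * g ∈ M0 W H := fun z => by
    rw [hW₁, hH₁, ← cj_M0, mem_cj]
  have hK : ∀ z, z ∈ K0 W₁ H₁ ↔ g⁻¹ * z * g ∈ K0 W H := fun z => by
    rw [hW₁, hH₁, ← cj_K0, mem_cj]
  have S₁ : Sys W₁ H₁ := by
    rw [hW₁, hH₁]
    exact S.conj g
  have hcard : Nat.card ↥H₁ = Nat.card ↥H := by rw [hH₁, card_cj]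
  have hcore : Nat.card ↥(core H₁) = Nat.card ↥(core H) := by rw [hH₁, core_cj, card_cj]
  have NN₁ : ∀ B : Subgroup G, B ≤ H₁ → B ⊔ core H₁ = H₁ → ¬ ∀ b ∈ B, Fixes b H := by
    rw [hH₁]
    exact NN g
  have hne : ¬ (W = W₁ ∧ H = H₁) := by
    rintro ⟨h1, h2⟩
    apply hgM
    refine ⟨mem_normalizer_iff_cj.mpr ?_, mem_normalizer_iff_cj.mpr ?_⟩
    · rw [← hW₁, ← h1]
    · rw [← hH₁, ← h2]
  have fine₁ : ∀ t ∈ K0 W₁ H₁, orderOf t = 2 → t * (g * x * g⁻¹) = g * x * g⁻¹ * t →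
      Fi W₁ H₁ t := by
    intro t ht ht2 htx
    have h2 : orderOf (g⁻¹ * t * g) = 2 := by
      rw [← ht2]
      have := (MulAut.conj g⁻¹).orderOf_eq t
      simpa using this
    have h3 : g⁻¹ * t * g * x = x * (g⁻¹ * t * g) := by
      calc g⁻¹ * t * g * x = g⁻¹ * (t * (g * x * g⁻¹)) * g := by group
        _ = g⁻¹ * (g * x * g⁻¹ * t) * g := by rw [htx]
        _ = x * (g⁻¹ * t * g) := by group
    have h4 := (fineK _ ((hK t).mp ht) h2 h3).cj g
    have h5 : g * (g⁻¹ * t * g) * g⁻¹ = t := by group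
    rwa [h5, ← hW₁, ← hH₁] at h4
  have hx₁ : g * x * g⁻¹ ∈ M0 W₁ H₁ := by
    rw [hM]
    have : g⁻¹ * (g * x * g⁻¹) * g = x := by group
    rwa [this]
  have hxx₁ : g * x * g⁻¹ * (g * x * g⁻¹) = 1 := by
    calc g * x * g⁻¹ * (g * x * g⁻¹) = g * (x * x) * g⁻¹ := by group
      _ = 1 := by rw [hxx]; group
  have hord : ∀ t ∈ F, t ≠ 1 → orderOf t = 2 := fun t ht h1 =>
    orderOf_eq_prime (by rw [pow_two]; exact hF2 t ht) h1
  have hfi : ∀ t ∈ F, t ≠ 1 → Fi W H t := fun t ht h1 =>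
    fineK t (hF ht) (hord t ht h1) (comm_c (hFx ht))
  -- `F ∩ K0 W₁ H₁ = 1`
  have hF1 : ∀ t ∈ F, Fixes t H₁ → t = 1 := by
    intro t ht hf
    by_contra ht1
    have htK : t ∈ K0 W₁ H₁ := ⟨(hM t).mpr (hgF t ht), hf⟩
    obtain ⟨w, hw, -, htw, hfw⟩ := exists_w hx₁ hxx₁ fine₁ htK (hord t ht ht1)
    exact hne (eq_of_fine T S S₁ hcard hcore NN₁ (hfi t ht ht1) htK hw htw hfw)
  -- generation
  have hmF : ∀ z, z ∈ cj g⁻¹ F ↔ g * z * g⁻¹ ∈ F := fun z => by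
    rw [mem_cj, inv_inv]
  obtain ⟨w, hw, w', hw', hw1, hw1', hgen⟩ := gen (g⁻¹ * x * g) hgx (by
      calc g⁻¹ * x * g * (g⁻¹ * x * g) = g⁻¹ * (x * x) * g := by group
        _ = 1 := by rw [hxx]; group) hlgx (cj g⁻¹ F) (by
      intro z hz
      have h1 := hgF _ ((hmF z).mp hz)
      have h2 : g⁻¹ * (g * z * g⁻¹) * g = z := by group
      rwa [h2] at h1) (by
      intro z hz
      have h1 := comm_c (hFx ((hmF z).mp hz))
      refine mem_c ?_
      calc z * (g⁻¹ * x * g) = g⁻¹ * (g * z * g⁻¹ * x) * g := by group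
        _ = g⁻¹ * (x * (g * z * g⁻¹)) * g := by rw [h1]
        _ = g⁻¹ * x * g * z := by group) (fun f hf => sq_of_el (el_cj (el_of_sq hF2) _) hf)
      (by rw [card_cj, hF4]) (by
      intro f hf h1
      have h2 := h1.cj g
      rw [← hH₁] at h2
      have h3 := hF1 _ ((hmF f).mp hf) h2
      have h4 : f = g⁻¹ * (g * f * g⁻¹) * g := by group
      rw [h4, h3]
      group)
  have hv := (hmF w).mp hw
  have hv' := (hmF w').mp hw'
  have hv1 : g * w * g⁻¹ ≠ 1 := by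
    intro h
    apply hw1
    have h4 : w = g⁻¹ * (g * w * g⁻¹) * g := by group
    rw [h4, h]
    group
  have hv1' : g * w' * g⁻¹ ≠ 1 := by
    intro h
    apply hw1'
    have h4 : w' = g⁻¹ * (g * w' * g⁻¹) * g := by group
    rw [h4, h]
    group
  have hle : ∀ u : G, Fi W H (g * u * g⁻¹) →
      H ⊓ centralizer ({u} : Set G) ≤ cj g⁻¹ (H₁ ⊓ M0 W H) := by
    intro u hu
    obtain ⟨L, -, -, hC⟩ := hu
    rw [cj_le_iff, inv_inv, cj_inf, cj_centralizer, ← hH₁]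
    exact inf_le_inf_left _ hC
  have hB := hgen (cj g⁻¹ (H₁ ⊓ M0 W H)) (by
      rw [← cj_inv_cj g H, ← hH₁]
      exact cj_mono inf_le_left) (hle w (hfi _ hv hv1)) (hle w' (hfi _ hv' hv1'))
  have hB' : (H₁ ⊓ M0 W H) ⊔ core H₁ = H₁ := by
    have := congrArg (cj g) hB
    rwa [cj_sup, cj_cj_inv, ← core_cj, ← hH₁] at this
  have hvK := hF hv
  have hvM := (hM _).mpr (hgF _ hv)
  have hfv := fixes_of S₁ NN₁ inf_le_left inf_le_right hB' hvK hvM.2 (by
    rw [mem_normalizer_iff_cj, cj_inf, mem_normalizer_iff_cj.mp hvM.2,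
      cj_eq_self_of_mem (K0_le hvK)])
  exact hv1 (hF1 _ hv hfv)

end Cfsg.Agent.UGT.Res.WPair
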