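import Cfsg.Agent.UGT.Res.HonTools

/-!
# Systems of bad pairs

`BBS BB`: the interface between the worlds of Node R with at most one `L` for each pair and the abstract end theorems
(commuting conjugates). `BB x L`: `x` is bad with component `L`. `IsT L x t`: `t` is an involution of `C(L) ∩ C(x)`.

* `bbs_hon`: the core-free world `x ∉ X`.
-/

set_option autoImplicit false
set_option linter.dupNamespace false

open Cfsg Subgroup
open Cfsg.Agent.SignalizersComponents Cfsg.Agent.Lib
open Cfsg.Agent.SignalizersComponents.IntrinsicBasic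
open Cfsg.Agent.Intrinsic.Basic
open Cfsg.Agent.UGT.Res.KFacts (Pgl)
open Cfsg.Agent.UGT.Res.EFacts Cfsg.Agent.UGT.Res.Hon
open Cfsg.Agent.UGT.ThE.Base (IsT IsS)

namespace Cfsg.Agent.UGT.Res.BBS

universe u

variable {G : Type u} [Group G]

/-- A system of bad pairs `(x, L)`, one `L` for each `x`, with Theorem H. -/
structure BBS [Finite G] (BB : G → Subgroup G → Prop) : Prop where
  conj : ∀ {x : G} {L : Subgroup G} (g : G), BB x L → BB (g * x * g⁻¹) (cj g L)
  ox : ∀ {x : G} {L : Subgroup G}, BB x L → orderOf x = 2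
  uniq : ∀ {x : G} {L L' : Subgroup G}, BB x L → BB x L' → L = L'
  rep : ∀ {x : G} {L : Subgroup G}, BB x L → ∃ (F : Type) (_ : Field F) (_ : Finite F),
    5 ≤ Nat.card F ∧ Nonempty (Cfsg.Agent.GH.L2Aut.Rep F L)
  cf : ∀ {x : G} {L : Subgroup G}, BB x L → ∀ {F : Type} [Field F] [Finite F]
    (R : Cfsg.Agent.GH.L2Aut.Rep F L), Cf R x
  mul : ∀ {x t : G} {L : Subgroup G}, BB x L → IsT L x t → BB (x * t) L
  comp : ∀ {x t : G} {L : Subgroup G}, BB x L → IsT L x t → IsComp (centralizer ({t} : Set G)) L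
  corec : ∀ {x t : G} {L : Subgroup G}, BB x L → IsT L x t →
    ∀ d ∈ core (centralizer ({t} : Set G)), d ∈ centralizer (L : Set G)
  four : ∀ {x : G} {L : Subgroup G}, BB x L → ∃ t u : G, IsT L x t ∧ IsT L x u ∧ t ≠ u ∧ t * u = u * t
  /-- the full odd torus of `C_L(x)` lies in `O(C(x))` -/
  tor : ∀ {x y : G} {L : Subgroup G}, BB x L → y ∈ L → y * x = x * y → Odd (orderOf y) →
    y ∈ core (centralizer ({x} : Set G))
  /-- Theorem H -/
  hx : ∀ {x c : G} {L : Subgroup G}, BB x L → c * x = x * c → c ∈ normalizer (L : Set G)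
  hy : ∀ {x c : G} {L : Subgroup G}, BB x L →
    (∀ y ∈ L, y * x = x * y → Odd (orderOf y) → c * y = y * c) → c ∈ normalizer (L : Set G)

variable [Finite G] {X : Subgroup G}

/-- **the core-free world** -/
theorem bbs_hon (H : Pgl G) (O : Hon.One G) (C : CFX X) : BBS (fun x L => Hon X x L) where
  conj g h := HonTools.Hon.cj C h g
  ox h := h.ox
  uniq h h' := HonTools.Hon.unique H O C h h'
  rep {x L} h := by
    obtain ⟨t, u, ht, -⟩ := h.four
    exact CfOf.exists_R H (h.good ht).2 (COne.Hon.core_bot C h)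
  cf {x L} h F _ _ R := COne.Hon.cf H C h R
  mul h ht := h.mul H O C ht
  comp h ht := (h.good ht).2.comp
  corec {x t L} h ht d hd := by
    rw [C.cf (h.good ht).1 (order_isT ht), mem_bot] at hd
    rw [hd]
    exact one_mem _
  four h := h.four
  tor {x y L} h hy hyx hyo := ((HonTools.mem_Y H O C h).mpr ⟨hy, hyx, hyo⟩).1
  hx h hc := HonTools.cx_le H O C h hc
  hy h hc := HonTools.cy_le H O C h hc

end Cfsg.Agent.UGT.Res.BBS
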