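import Cfsg.Agent.UGT.Res.CfOf
import Cfsg.Agent.UGT.Res.TorFacts
import Cfsg.Agent.UGT.Res.Torus

/-!
# The honest configuration: Theorem H

`Hon X x L`, `Y = O(C(x)) ∩ L`.

* `Od_eq`: `Y = C_D(D')`, `D = O(C(x))`.
* `inf_eq`: `O(C(xt)) ∩ L = Y` for the involutions `t` of `C(L) ∩ C(x)`.
* `mem_of_odd`: `Y` contains all elements of odd order of `C_L(x)` (the full torus).
* `data`: the hypotheses of Theorem H.
* `cx_le`, `cen_le`: `C(x) ≤ N(L)`, `C(Y) ≤ N(L)`.
-/

set_option autoImplicit false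

open Cfsg Subgroup
open Cfsg.Agent.SignalizersComponents Cfsg.Agent.Lib
open Cfsg.Agent.SignalizersComponents.IntrinsicBasic
open Cfsg.Agent.Intrinsic.Basic Cfsg.Agent.Intrinsic.Cen
open Cfsg.Agent.OddHalf.D6
open Cfsg.Agent.McLLyComp.Act (fixes_one)
open Cfsg.Agent.UGT.Triple Cfsg.Agent.UGT.TriBase
open Cfsg.Agent.UGT.Res.KFacts (Pgl)
open Cfsg.Agent.UGT.Res.EFacts Cfsg.Agent.UGT.Res.CfOf Cfsg.Agent.UGT.Res.Hon
open Cfsg.Agent.UGT.ThE.Base (IsT IsS)
open scoped commutatorElement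

namespace Cfsg.Agent.UGT.Res.COne

universe u

variable {G : Type u} [Group G]

/-- `C_D(D')`, `D = O(C(t))` -/
def Od (t : G) : Subgroup G := core (centralizer ({t} : Set G)) ⊓
  centralizer ((⁅core (centralizer ({t} : Set G)), core (centralizer ({t} : Set G))⁆ : Subgroup G) : Set G)

theorem Od_cj (g t a : G) (ha : a ∈ Od t) : g * a * g⁻¹ ∈ Od (g * t * g⁻¹) := by
  have hc : centralizer ({g * t * g⁻¹} : Set G) = cj g (centralizer ({t} : Set G)) :=
    (cj_centralizer g t).symm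
  have h1 : core (centralizer ({g * t * g⁻¹} : Set G)) = cj g (core (centralizer ({t} : Set G))) := by
    rw [hc, core_cj]
  have h2 : (⁅cj g (core (centralizer ({t} : Set G))), cj g (core (centralizer ({t} : Set G)))⁆ :
      Subgroup G) = cj g ⁅core (centralizer ({t} : Set G)), core (centralizer ({t} : Set G))⁆ :=
    (map_commutator _ _ _).symm
  rw [Od, h1, h2, mem_inf, mem_centralizer_iff]
  refine ⟨conj_mem_cj ha.1, fun y hy => ?_⟩
  rw [SetLike.mem_coe, mem_cj] at hy
  have h3 := mem_centralizer_iff.mp ha.2 _ hy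
  calc y * (g * a * g⁻¹) = g * ((g⁻¹ * y * g) * a) * g⁻¹ := by group
    _ = g * (a * (g⁻¹ * y * g)) * g⁻¹ := by rw [h3]
    _ = g * a * g⁻¹ * y := by group

variable [Finite G] {X L : Subgroup G} {x : G}

theorem odd_of_core {y : G} (hy : y ∈ core (centralizer ({x} : Set G))) : Odd (orderOf y) :=
  Odd.of_dvd_nat (odd_card_core _) (Subgroup.orderOf_dvd_natCard _ hy)

theorem Hon.core_bot (C : CFX X) (h : Hon X x L) : core L = ⊥ := by
  obtain ⟨t, u, ht, -⟩ := h.four
  exact C.core_bot (h.good ht).2 (h.good ht).1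

theorem Hon.cf (H : Pgl G) (C : CFX X) (h : Hon X x L) {F : Type*} [Field F] [Finite F]
    (R : Cfsg.Agent.GH.L2Aut.Rep F L) : Cf R x := by
  obtain ⟨t, u, ht, -⟩ := h.four
  exact cf_of H (h.good ht).2 (Hon.core_bot C h) R

/-- the image of `O(C(x))` in `Aut L` -/
theorem Hon.image (O : Hon.One G) (C : CFX X) (h : Hon X x L) (hxN : x ∈ normalizer (L : Set G)) :
    ∃ D : Subgroup (MulAut L), (∀ (d : G) (_ : d ∈ core (centralizer ({x} : Set G)))
      (hn : d ∈ normalizer (L : Set G)), act L d hn ∈ D) ∧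
      (∀ δ ∈ D, ∃ (d : G) (_ : d ∈ core (centralizer ({x} : Set G)))
        (hn : d ∈ normalizer (L : Set G)), act L d hn = δ) ∧ Odd (Nat.card D) ∧
      (∀ δ ∈ D, δ * act L x hxN = act L x hxN * δ) ∧
      ∀ k : L, act L x hxN k = k → ∀ δ ∈ D, MulAut.conj k * δ * (MulAut.conj k)⁻¹ ∈ D := by
  obtain ⟨N, hN⟩ : ∃ N, N = core (centralizer ({x} : Set G)) := ⟨_, rfl⟩
  rw [← hN]
  have hNL : N ≤ normalizer (L : Set G) := by
    intro d hd
    rw [hN] at hd
    exact (h.core_all O C hd).1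
  have hmem : ∀ δ, δ ∈ (N.subgroupOf (normalizer (L : Set G))).map L.normalizerMonoidHom ↔
      ∃ (d : G) (hd : d ∈ N), act L d (hNL hd) = δ := by
    intro δ
    constructor
    · rintro ⟨⟨d, hd⟩, hdN, rfl⟩
      exact ⟨d, hdN, rfl⟩
    · rintro ⟨d, hd, rfl⟩
      exact ⟨⟨d, hNL hd⟩, hd, rfl⟩
  refine ⟨(N.subgroupOf (normalizer (L : Set G))).map L.normalizerMonoidHom, ?_, ?_, ?_, ?_, ?_⟩
  · intro d hd hn
    exact (hmem _).mpr ⟨d, hd, rfl⟩
  · intro δ hδ
    obtain ⟨d, hd, rfl⟩ := (hmem δ).mp hδ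
    exact ⟨d, hd, hNL hd, rfl⟩
  · refine Odd.of_dvd_nat (n := Nat.card N) ?_ ((card_map_dvd _ _).trans ?_)
    · rw [hN]; exact odd_card_core _
    · rw [Nat.card_congr (subgroupOfEquivOfLe hNL).toEquiv]
  · intro δ hδ
    obtain ⟨d, hd, rfl⟩ := (hmem δ).mp hδ
    refine EFacts.act_comm' _ _ ?_
    rw [hN] at hd
    exact comm_c (core_le _ hd)
  · rintro ⟨c, hc⟩ hk δ hδ
    obtain ⟨d, hd, rfl⟩ := (hmem δ).mp hδ
    have hcx : c * x = x * c := (EFacts.act_fix hxN hc).mp hk
    have hcN : c * d * c⁻¹ ∈ N := by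
      rw [hN] at hd ⊢
      exact conj_core (mem_c hcx) hd
    rw [hmem]
    refine ⟨_, hcN, ?_⟩
    have hcn := le_normalizer hc
    rw [← EFacts.act_of_mem hc, act_mul hcn (hNL hd), ← EFacts.act_inv hcn, act_mul]

section

variable {F : Type*} [Field F] [Finite F] {R : Cfsg.Agent.GH.L2Aut.Rep F L}

omit [Finite G] in
/-- an involution of `C_L(x)` inverting the elements of odd order of `C_L(x)` -/
theorem Cf.exists_inv (c : Cf R x) : ∃ s, IsS L x s ∧ ∀ y ∈ L, y * x = x * y → Odd (orderOf y) →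
    s * y * s⁻¹ = y⁻¹ := by
  obtain ⟨⟨s, hs⟩, h1, h2, h3⟩ := PglType.exists_fix_involution R c.sq (c.o1 c.xN)
  have hsx := (act_fix c.xN hs).mp h1
  refine ⟨s, ⟨hs, hsx, congrArg Subtype.val h2, fun h => h3 (Subtype.ext h)⟩, fun y hy hyx hyo => ?_⟩
  have := PglType.inverts R c.sq (c.o1 c.xN) h1 h2 h3 ((act_fix c.xN hy).mpr hyx)
    (by rwa [Subgroup.orderOf_mk])
  exact congrArg Subtype.val this

omit [Finite G] in
/-- elements of odd order of `C_L(x)` commute -/
theorem Cf.tor_comm (c : Cf R x) {y z : G} (hy : y ∈ L) (hyx : y * x = x * y) (hyo : Odd (orderOf y))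
    (hz : z ∈ L) (hzx : z * x = x * z) (hzo : Odd (orderOf z)) : y * z = z * y := by
  have := TorFacts.tor_mul R c.sq (c.o1 c.xN) ((act_fix c.xN hy).mpr hyx) (by rwa [Subgroup.orderOf_mk])
    ((act_fix c.xN hz).mpr hzx) (by rwa [Subgroup.orderOf_mk])
  exact congrArg Subtype.val this.2

/-- an element of `O(C(x))` acting as an inner automorphism lies in `L` -/
theorem Hon.mem_L (O : Hon.One G) (C : CFX X) (h : Hon X x L) (c : Cf R x) {d : G}
    (hd : d ∈ core (centralizer ({x} : Set G))) (hn : d ∈ normalizer (L : Set G)) {t : L}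
    (htx : act L x c.xN t = t) (hto : Odd (orderOf t)) (ht : act L d hn = MulAut.conj t) : d ∈ L := by
  obtain ⟨s, hs, hinv⟩ := Cf.exists_inv c
  have hsN : s ∈ normalizer (L : Set G) := le_normalizer hs.mem
  have h1 : d * s * d⁻¹ * s⁻¹ ∈ L := mul_mem (ThE.Base.L_conj hn hs.mem) (inv_mem hs.mem)
  have h2 : d * s * d⁻¹ * s⁻¹ ∈ core (centralizer ({x} : Set G)) := by
    have e : d * s * d⁻¹ * s⁻¹ = d * (s * d⁻¹ * s⁻¹) := by group
    rw [e]
    exact mul_mem hd (conj_core (mem_c hs.comm) (inv_mem hd))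
  have h3 : d * d * (d * s * d⁻¹ * s⁻¹)⁻¹ ∈ core (centralizer ({x} : Set G)) :=
    mul_mem (mul_mem hd hd) (inv_mem h2)
  have htG : s * (t : G) * s⁻¹ = (t : G)⁻¹ := by
    refine hinv t t.2 ((act_fix c.xN t.2).mp htx) ?_
    rwa [Subgroup.orderOf_coe]
  obtain ⟨k, hk⟩ : ∃ k, k = (t : G)⁻¹ * d := ⟨_, rfl⟩
  have hkL : k ∈ centralizer (L : Set G) := by
    rw [hk, ← act_one_iff' (mul_mem (inv_mem (le_normalizer t.2)) hn),
      ← act_mul (inv_mem (le_normalizer t.2)) hn, EFacts.act_inv (le_normalizer t.2),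
      EFacts.act_of_mem t.2, ht, inv_mul_cancel]
  have hkt : (t : G) * k = k * t := mem_centralizer_iff.mp hkL _ t.2
  have hks : s * k = k * s := mem_centralizer_iff.mp hkL _ hs.mem
  have hdk : d = t * k := by rw [hk]; group
  have e1 : s * k * s⁻¹ = k := by rw [hks, mul_inv_cancel_right]
  have e2 : (t : G) * k * (t : G)⁻¹ = k := by rw [hkt, mul_inv_cancel_right]
  have h4 : d * d * (d * s * d⁻¹ * s⁻¹)⁻¹ = k * k := by
    calc d * d * (d * s * d⁻¹ * s⁻¹)⁻¹ = d * d * (s * d * s⁻¹) * d⁻¹ := by group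
      _ = (t : G) * k * (t * k) * (s * (t * k) * s⁻¹) * (t * k)⁻¹ := by rw [← hdk]
      _ = (t : G) * k * (t * k) * ((s * t * s⁻¹) * (s * k * s⁻¹)) * (t * k)⁻¹ := by group
      _ = (t : G) * k * (t * k) * ((t : G)⁻¹ * k) * (t * k)⁻¹ := by rw [htG, e1]
      _ = (t : G) * k * (t * k * (t : G)⁻¹) * (t : G)⁻¹ := by group
      _ = (t : G) * k * k * (t : G)⁻¹ := by rw [e2]
      _ = (t * k * (t : G)⁻¹) * (t * k * (t : G)⁻¹) := by group
      _ = k * k := by rw [e2]
  have h5 := (h.core_all O C h3).2.1 (fixes_of_comm (by rw [h4]; exact mul_mem hkL hkL))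
  have h6 : d * d = d * s * d⁻¹ * s⁻¹ := mul_inv_eq_one.mp h5
  exact PGLFacts.mem_of_sq_mem (by rw [h6]; exact h1) (odd_of_core hd)

/-- `Y = C_D(D')` -/
theorem Hon.Od_eq (O : Hon.One G) (C : CFX X) (h : Hon X x L) (c : Cf R x) :
    Od x = core (centralizer ({x} : Set G)) ⊓ L := by
  obtain ⟨D, D1, D2, D3, D4, D5⟩ := Hon.image O C h c.xN
  apply le_antisymm
  · intro g hg
    refine ⟨hg.1, ?_⟩
    have hgN := (h.core_all O C hg.1).1
    obtain ⟨t, ht, hto, hgt⟩ := TorFacts.mem_tor_of_derived R c.sq (c.o1 c.xN) D3 D4 D5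
      (D1 g hg.1 hgN) (by
        intro δ hδ ε hε
        obtain ⟨d, hd, hdN, rfl⟩ := D2 δ hδ
        obtain ⟨e, he, heN, rfl⟩ := D2 ε hε
        have hm : d * e * d⁻¹ * e⁻¹ ∈ normalizer (L : Set G) :=
          mul_mem (mul_mem (mul_mem hdN heN) (inv_mem hdN)) (inv_mem heN)
        have h1 : act L d hdN * act L e heN * (act L d hdN)⁻¹ * (act L e heN)⁻¹ =
            act L (d * e * d⁻¹ * e⁻¹) hm := by
          rw [← EFacts.act_inv hdN, ← EFacts.act_inv heN, act_mul hdN heN, act_mul, act_mul]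
        rw [h1]
        refine EFacts.act_comm' hgN hm ?_
        exact (mem_centralizer_iff.mp hg.2 _ (commutator_mem_commutator hd he)).symm)
    exact Hon.mem_L O C h c hg.1 hgN ht hto hgt
  · rintro g ⟨hg, hgL⟩
    refine ⟨hg, ?_⟩
    have hgx : g * x = x * g := comm_c (core_le _ hg)
    have h1 : (⁅core (centralizer ({x} : Set G)), core (centralizer ({x} : Set G))⁆ : Subgroup G) ≤
        centralizer ({g} : Set G) := by
      rw [commutator_le]
      intro d hd e he
      have hdN := (h.core_all O C hd).1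
      have heN := (h.core_all O C he).1
      have hm : d * e * d⁻¹ * e⁻¹ ∈ normalizer (L : Set G) :=
        mul_mem (mul_mem (mul_mem hdN heN) (inv_mem hdN)) (inv_mem heN)
      have hmc : d * e * d⁻¹ * e⁻¹ ∈ core (centralizer ({x} : Set G)) :=
        mul_mem (mul_mem (mul_mem hd he) (inv_mem hd)) (inv_mem he)
      obtain ⟨t, ht, hto, hgt⟩ := TorFacts.commutator_mem R D3 D4 (D1 d hd hdN) (D1 e he heN)
      have h1 : act L d hdN * act L e heN * (act L d hdN)⁻¹ * (act L e heN)⁻¹ =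
          act L (d * e * d⁻¹ * e⁻¹) hm := by
        rw [← EFacts.act_inv hdN, ← EFacts.act_inv heN, act_mul hdN heN, act_mul, act_mul]
      rw [h1] at hgt
      have h2 := Hon.mem_L O C h c hmc hm ht hto hgt
      rw [commutatorElement_def]
      exact mem_c (Cf.tor_comm c h2 (comm_c (core_le _ hmc)) (odd_of_core hmc) hgL hgx (odd_of_core hg))
    refine mem_centralizer_iff.mpr fun y hy => ?_
    exact comm_c (h1 hy)

/-- `O(C(x)) ∩ L ≤ O(C(xt))` -/
theorem Hon.inf_le (H : Pgl G) (O : Hon.One G) (C : CFX X) (h : Hon X x L) (c : Cf R x) {t : G}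
    (ht : IsT L x t) : core (centralizer ({x} : Set G)) ⊓ L ≤
      core (centralizer ({x * t} : Set G)) ⊓ L := by
  rintro y ⟨hy, hyL⟩
  refine ⟨?_, hyL⟩
  obtain ⟨s, hs, hinv⟩ := Cf.exists_inv c
  have h1 := h.comm_core H O C ht hy hyL hs.mem hs.comm
  have h2 := hinv y⁻¹ (inv_mem hyL) (by
    have : Commute y x := comm_c (core_le _ hy)
    exact this.inv_left.eq) (by rw [orderOf_inv]; exact odd_of_core hy)
  have h3 : y * s * y⁻¹ * s⁻¹ = y * y := by
    calc y * s * y⁻¹ * s⁻¹ = y * (s * y⁻¹ * s⁻¹) := by group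
      _ = y * y := by rw [h2, inv_inv]
  rw [h3] at h1
  exact PGLFacts.mem_of_sq_mem h1 (odd_of_core hy)

omit [Finite G] in
theorem Hon.isT_mul (_h : Hon X x L) {t : G} (ht : IsT L x t) : IsT L (x * t) t := by
  have ctx : Commute t x := ht.comm
  exact ⟨ht.mem, (ctx.mul_right (Commute.refl t)).eq, ht.sq, ht.ne⟩

theorem Hon.inf_eq (H : Pgl G) (O : Hon.One G) (C : CFX X) (h : Hon X x L) {t : G}
    (ht : IsT L x t) (R : Cfsg.Agent.GH.L2Aut.Rep F L) : core (centralizer ({x * t} : Set G)) ⊓ L =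
      core (centralizer ({x} : Set G)) ⊓ L := by
  apply le_antisymm
  · have h1 := h.mul H O C ht
    have h2 := Hon.inf_le H O C h1 (Hon.cf H C h1 R) (Hon.isT_mul h ht)
    rwa [mul_assoc, ht.sq, mul_one] at h2
  · exact Hon.inf_le H O C h (Hon.cf H C h R) ht

end

/-! ### Theorem H -/

/-- `C(t) ∩ N(Y) ≤ N(L)` and `Y^c ≤ N(L)` for `c ∈ C(t)` -/
theorem Hon.good' (O : Hon.One G) (h : Hon X x L) {y : G}
    (hy : y ∈ core (centralizer ({x} : Set G))) (hyL : y ∈ L) (hyf : ¬ Fixes y L) {t : G}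
    (ht : IsT L x t) : ThH.Good L (core (centralizer ({x} : Set G)) ⊓ L) t := by
  obtain ⟨htX, T⟩ := h.good ht
  constructor
  · intro c hct hcY
    have hcomp : IsComp (centralizer ({t} : Set G)) (cj c L) :=
      Intrinsic.Diag.isComp_cj_of_mem T.comp (mem_c hct)
    have h1 : c * y * c⁻¹ ∈ core (centralizer ({x} : Set G)) ⊓ L :=
      (mem_normalizer_iff.mp hcY y).mp ⟨hy, hyL⟩
    have h2 : IsTriple x t (cj c L) := by
      refine ⟨T.invx, T.inva, T.comm, hcomp, _, h1.1, ?_, fun hf => hyf ?_⟩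
      · exact mem_c (mem_centralizer_iff.mp ht.mem _ h1.2)
      · have h3 := hf.cj c⁻¹
        rw [cj_inv_cj] at h3
        convert h3 using 1
        group
    rw [mem_normalizer_iff_cj]
    exact (O T h2).symm
  · intro c hct a ha
    by_cases hc : cj c L = L
    · have h1 : c ∈ normalizer (L : Set G) := mem_normalizer_iff_cj.mpr hc
      exact le_normalizer (ThE.Base.L_conj h1 ha.2)
    · have h1 := (T.comp.fixes_of_mem (Intrinsic.Diag.isComp_cj_of_mem T.comp (mem_c hct)) (Ne.symm hc)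
        (a := c * a * c⁻¹) (conj_mem_cj ha.2))
      exact h1.1

/-- the bad elements with the same `Y` -/
def Bd (X L Y : Subgroup G) (e : G) : Prop := Hon X e L ∧ core (centralizer ({e} : Set G)) ⊓ L = Y

section

variable {F : Type*} [Field F] [Finite F] (R : Cfsg.Agent.GH.L2Aut.Rep F L)

omit [Finite G] in
theorem isT_of {t : G} (ht : t ∈ centralizer (L : Set G)) (h2 : orderOf t = 2) (hc : t * x = x * t) :
    IsT L x t := ⟨ht, hc, sq_of_order h2, ne_one_of_order h2⟩

include R in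
/-- the hypotheses of `Torus` -/
theorem pre (H : Pgl G) (O : Hon.One G) (C : CFX X) (h : Hon X x L) (h5 : 4 < Nat.card F) :
    Torus.Pre Od L (core (centralizer ({x} : Set G)) ⊓ L)
      (Bd X L (core (centralizer ({x} : Set G)) ⊓ L)) := by
  obtain ⟨Y, hY⟩ : ∃ Y, Y = core (centralizer ({x} : Set G)) ⊓ L := ⟨_, rfl⟩
  have hcore := Hon.core_bot C h
  obtain ⟨t₀, u₀, ht₀, -⟩ := h.four
  obtain ⟨y, hy, hyL, hyf⟩ := H.exists_y (h.good ht₀).2
  have hyY : y ∈ Y := by rw [hY]; exact ⟨hy, hyL⟩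
  have hy1 : y ≠ 1 := by
    rintro rfl
    exact hyf (fixes_one L)
  have hYL : Y ≤ L := by rw [hY]; exact inf_le_right
  have hYbot : Y ≠ ⊥ := fun h1 => hy1 (mem_bot.mp (h1 ▸ hyY))
  have hodd : Odd (Nat.card Y) := by
    rw [hY]
    exact Odd.of_dvd_nat (odd_card_core _) (card_dvd_of_le inf_le_left)
  have hcx : ∀ {e : G}, Bd X L Y e → ∀ a ∈ Y, e * a = a * e := by
    intro e he a ha
    have : a ∈ core (centralizer ({e} : Set G)) ⊓ L := by rw [he.2]; exact ha
    exact (comm_c (core_le _ this.1)).symm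
  rw [← hY]
  refine
    { Ocj := Od_cj
      YL := hYL
      Yodd := hodd
      Ynn := EFacts.not_le_normalizer R (by omega) hYL hYbot hodd
      gen := fun N hN => EFacts.gen R (by omega) hYL hYbot N hN
      inv := fun he => he.1.ox
      mem := fun he => (Hon.cf H C he.1 R).xN
      core := fun he => by rw [Hon.Od_eq O C he.1 (Hon.cf H C he.1 R), he.2]
      comm := hcx
      mul := ?_
      one := ?_
      good := ?_
      aut := ?_
      out := ?_
      cen := ?_ }
  · intro e t he ht ht2 hc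
    have hT := isT_of ht ht2 hc
    exact ⟨he.1.mul H O C hT, by rw [Hon.inf_eq H O C he.1 hT R, he.2]⟩
  · intro e he
    obtain ⟨t, u, ht, -⟩ := he.1.four
    exact ⟨t, ht.mem, order_isT ht, ht.comm⟩
  · intro e t he ht ht2 hc
    have hT := isT_of ht ht2 hc
    have h1 : y ∈ core (centralizer ({e} : Set G)) ⊓ L := by rw [he.2]; exact hyY
    have := Hon.good' O he.1 h1.1 h1.2 hyf hT
    rwa [he.2] at this
  · intro e c he hc hcY h2
    have h1 : y ∈ core (centralizer ({e} : Set G)) ⊓ L := by rw [he.2]; exact hyY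
    exact (Hon.cf H C he.1 R).aut hyL hy1 (odd_of_core hy) (comm_c (core_le _ h1.1)) hc
      (mem_centralizer_iff.mp hcY y hyY).symm h2
  · intro e l he hl hle
    have h1 : e * l ∈ centralizer (L : Set G) := by
      have h2 := mem_centralizer_iff.mp hle l hl
      have h3 : e * l = l⁻¹ * (l * e) * l := by group
      have h4 : l * e * l = l * (l * e) := h2.symm
      have h5 : e * l = l * e := mul_left_cancel (a := l) (by rw [← mul_assoc]; exact h4)
      rw [h5]
      exact hle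
    exact (Hon.cf H C he.1 R).xLK l hl h1
  · intro l hl hlc
    rw [EFacts.eq_one_of_mem_centralizer R hl hlc, orderOf_one]
    exact odd_one

include R in
/-- **`Y` is the full odd torus of `C_L(x)`** -/
theorem mem_of_odd (H : Pgl G) (O : Hon.One G) (C : CFX X) (h : Hon X x L) (h5 : 4 < Nat.card F)
    {t : G} (ht : t ∈ L) (htx : t * x = x * t) (hto : Odd (orderOf t)) :
    t ∈ core (centralizer ({x} : Set G)) := by
  have c := Hon.cf H C h R
  obtain ⟨s, hs, hinv⟩ := Cf.exists_inv c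
  refine (pre R H O C h h5).mem_core ⟨h, rfl⟩ hs.mem ?_ hs.comm ?_ htx ?_ (hinv t ht htx hto) hto
  · exact orderOf_eq_prime (by rw [pow_two]; exact hs.sq) hs.ne
  · intro a ha
    exact hinv a ha.2 (comm_c (core_le _ ha.1)) (odd_of_core ha.1)
  · rw [mem_centralizer_iff]
    intro a ha
    exact Cf.tor_comm c ha.2 (comm_c (core_le _ ha.1)) (odd_of_core ha.1) ht htx hto

include R in
/-- **the hypotheses of Theorem H** -/
theorem data (H : Pgl G) (O : Hon.One G) (C : CFX X) (h : Hon X x L) (h5 : 4 < Nat.card F) :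
    ThH.Data Od L (core (centralizer ({x} : Set G)) ⊓ L)
      (Bd X L (core (centralizer ({x} : Set G)) ⊓ L)) := by
  have P := pre R H O C h h5
  obtain ⟨Y, hY⟩ : ∃ Y, Y = core (centralizer ({x} : Set G)) ⊓ L := ⟨_, rfl⟩
  rw [← hY] at P ⊢
  have hfull : ∀ {e t : G}, Bd X L Y e → t ∈ L → t * e = e * t → Odd (orderOf t) → t ∈ Y := by
    intro e t he ht hte hto
    rw [← he.2]
    exact ⟨mem_of_odd R H O C he.1 h5 ht hte hto, ht⟩
  have hcx : ∀ {a : G}, a ∈ Y → a ∈ L ∧ a * x = x * a ∧ Odd (orderOf a) := by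
    intro a ha
    rw [hY] at ha
    exact ⟨ha.2, comm_c (core_le _ ha.1), odd_of_core ha.1⟩
  have cx := Hon.cf H C h R
  refine
    { Ocj := P.Ocj
      YL := P.YL
      Yab := fun a ha b hb => Cf.tor_comm cx (hcx ha).1 (hcx ha).2.1 (hcx ha).2.2 (hcx hb).1
        (hcx hb).2.1 (hcx hb).2.2
      Yodd := P.Yodd
      YK := fun a ha hak => EFacts.eq_one_of_mem_centralizer R (P.YL ha) hak
      Ynn := P.Ynn
      gen := P.gen
      inv := P.inv
      mem := P.mem
      core := P.core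
      comm := P.comm
      mul := P.mul
      four := ?_
      good := P.good
      aut := ?_
      pair := ?_ }
  · intro e he
    obtain ⟨t, u, ht, hu, hne, hc⟩ := he.1.four
    exact ⟨t, u, ht.mem, hu.mem, order_isT ht, order_isT hu, hne, hc, ht.comm, hu.comm⟩
  · intro e c he hc hcY
    have ce := Hon.cf H C he.1 R
    obtain ⟨⟨t, htL⟩, h1, h2, h3⟩ := TorFacts.cen_tor R h5 ce.sq (ce.o1 ce.xN) (β := act L c hc) (by
      rintro ⟨t, htL⟩ h1 h2
      have h3 := (act_fix ce.xN htL).mp h1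
      rw [Subgroup.orderOf_mk] at h2
      rw [act_fix hc htL]
      exact mem_centralizer_iff.mp hcY t (hfull he htL h3 h2))
    rw [Subgroup.orderOf_mk] at h2
    have hte := (act_fix ce.xN htL).mp h1
    have htY := hfull he htL hte h2
    have htN := inv_mem (le_normalizer htL)
    refine ⟨t⁻¹, inv_mem htY, ?_⟩
    have key : act L (t⁻¹ * c) (mul_mem htN hc) = (MulAut.conj (⟨t, htL⟩ : L))⁻¹ * act L c hc := by
      rw [← act_mul htN hc, EFacts.act_inv (le_normalizer htL), EFacts.act_of_mem htL]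
    rcases h3 with h3 | h3
    · left
      rw [← act_one_iff' (mul_mem htN hc), key, h3, inv_mul_cancel]
    · right
      rw [← act_one_iff' (mul_mem (mul_mem htN hc) ce.xN), ← act_mul (mul_mem htN hc) ce.xN, key, h3,
        inv_mul_cancel_left, ce.sq]
  · intro e he
    have ce := Hon.cf H C he.1 R
    obtain ⟨s, hs, hinv⟩ := Cf.exists_inv ce
    have hs' := (act_fix ce.xN hs.mem).mpr hs.comm
    have hss : (⟨s, hs.mem⟩ : L) * ⟨s, hs.mem⟩ = 1 := Subtype.ext hs.sq
    have hs1 : (⟨s, hs.mem⟩ : L) ≠ 1 := fun h => hs.ne (congrArg Subtype.val h)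
    obtain ⟨⟨l, hl⟩, h1⟩ := Gen.exists_pair R ce.sq (ce.o1 ce.xN) hs' hss
    have hlN := le_normalizer hl
    have hsN := le_normalizer hs.mem
    have hlm : l * e * l⁻¹ ∈ normalizer (L : Set G) := mul_mem (mul_mem hlN ce.xN) (inv_mem hlN)
    have h2 : l * e * l⁻¹ = e * s := by
      have h3 : act L (l * e * l⁻¹) hlm = act L (e * s) (mul_mem ce.xN hsN) := by
        rw [← act_mul ce.xN hsN, ← act_mul (mul_mem hlN ce.xN) (inv_mem hlN), ← act_mul hlN ce.xN,
          EFacts.act_inv hlN, EFacts.act_of_mem hl, EFacts.act_of_mem hs.mem]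
        exact h1
      have h4 : (e * s)⁻¹ * (l * e * l⁻¹) ∈ centralizer (L : Set G) := by
        rw [← act_one_iff' (mul_mem (inv_mem (mul_mem ce.xN hsN)) hlm),
          ← act_mul (inv_mem (mul_mem ce.xN hsN)) hlm, EFacts.act_inv (mul_mem ce.xN hsN), h3,
          inv_mul_cancel]
      have h5 : (e * s)⁻¹ * (l * e * l⁻¹) ∈ L := by
        have e1 : (e * s)⁻¹ * (l * e * l⁻¹) = s⁻¹ * (e⁻¹ * l * e) * l⁻¹ := by group
        rw [e1]
        exact mul_mem (mul_mem (inv_mem hs.mem) (ThE.Base.L_conj' ce.xN hl)) (inv_mem hl)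
      have h6 := EFacts.eq_one_of_mem_centralizer R h5 h4
      exact (inv_mul_eq_one.mp h6).symm
    refine ⟨s, hs.mem, l, hl, orderOf_eq_prime (by rw [pow_two]; exact hs.sq) hs.ne, hs.comm, ?_, h2, ?_⟩
    · intro a ha
      have h3 : a ∈ core (centralizer ({e} : Set G)) ⊓ L := by rw [he.2]; exact ha
      exact hinv a h3.2 (comm_c (core_le _ h3.1)) (odd_of_core h3.1)
    · intro N hYN hlYN
      have h3 := Gen.gen R h5 ce.sq (ce.o1 ce.xN) hs' hss hs1 (N.subgroupOf L) (by
          rintro ⟨t, ht⟩ h1 h2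
          rw [Subgroup.orderOf_mk] at h2
          exact hYN (hfull he ht ((act_fix ce.xN ht).mp h1) h2)) (by
          rintro ⟨t, ht⟩ h1 h2'
          rw [Subgroup.orderOf_mk] at h2'
          have h3 : e * t * e⁻¹ = s⁻¹ * t * s := congrArg Subtype.val h1
          have h4 : t * (e * s) = e * s * t := by
            have c1 : s * e = e * s := hs.comm
            have h5 : s * (e * t * e⁻¹) * s⁻¹ = t := by rw [h3]; group
            calc t * (e * s) = s * (e * t * e⁻¹) * s⁻¹ * (e * s) := by rw [h5]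
              _ = s * (e * t * e⁻¹) * s⁻¹ * (s * e) := by rw [c1]
              _ = s * e * t := by group
              _ = e * s * t := by rw [c1]
          have h5 : l⁻¹ * t * l * e = e * (l⁻¹ * t * l) := by
            rw [← h2] at h4
            calc l⁻¹ * t * l * e = l⁻¹ * (t * (l * e * l⁻¹)) * l := by group
              _ = l⁻¹ * (l * e * l⁻¹ * t) * l := by rw [h4]
              _ = e * (l⁻¹ * t * l) := by group
          have h6 : l⁻¹ * t * l ∈ L := mul_mem (mul_mem (inv_mem hl) ht) hl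
          have h7 : orderOf (l⁻¹ * t * l) = orderOf t := by
            have h8 : l⁻¹ * t * l = MulAut.conj l⁻¹ t := by rw [MulAut.conj_apply, inv_inv]
            rw [h8]
            exact orderOf_injective (MulAut.conj l⁻¹).toMonoidHom (MulAut.conj l⁻¹).injective t
          have h8 := hlYN _ (hfull he h6 h5 (by rwa [h7]))
          have h9 : l * (l⁻¹ * t * l) * l⁻¹ = t := by group
          rw [h9] at h8
          exact h8)
      exact subgroupOf_eq_top.mp h3

include R in
/-- **Theorem H**: `C(x) ≤ N(L)` -/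
theorem cx_le (H : Pgl G) (O : Hon.One G) (C : CFX X) (h : Hon X x L) (h5 : 4 < Nat.card F)
    {c : G} (hc : c * x = x * c) : c ∈ normalizer (L : Set G) :=
  (data R H O C h h5).cen_bad_le ⟨h, rfl⟩ hc

end

end Cfsg.Agent.UGT.Res.COne
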