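import Cfsg.Agent.UGT.Res.DiagTools
import Cfsg.Agent.UGT.Res.WPair

/-!
# Subgroups inducing all inner automorphisms of `K / O(K)`

`Cov J K`: `J ≤ N(K)` and every `k ∈ K` acts on `K / O(K)` as some `j ∈ J`. `ZT K`: `K / O(K)` has trivial centre.

* `Cov.eq`: if `J` lies in a 2-component `D` of `X` and `Cov J K`, `K` a 2-component of `X`, then `K = D`.
* `Cov.fixes`: `w ∈ N(K)` commuting with `J` fixes `K`.
* `cov_of_diag`, `le_diag`, `perm'`: `J` inside `diag X K v`.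
-/

set_option autoImplicit false
set_option linter.unusedSectionVars false

open Cfsg Subgroup
open Cfsg.Agent.SignalizersComponents Cfsg.Agent.Lib
open Cfsg.Agent.SignalizersComponents.IntrinsicBasic
open Cfsg.Agent.SignalizersComponents.PLayerAut
open Cfsg.Agent.Intrinsic.Basic Cfsg.Agent.Intrinsic.Cen Cfsg.Agent.Intrinsic.Diag
open Cfsg.Agent.McLLyComp.Act
open Cfsg.Agent.UGT.Triple Cfsg.Agent.UGT.LemG Cfsg.Agent.UGT.PumpGen Cfsg.Agent.UGT.TriBase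
open Cfsg.Agent.UGT.Res.Base Cfsg.Agent.UGT.Res.DiagTools Cfsg.Agent.UGT.Res.WPair
open scoped commutatorElement

namespace Cfsg.Agent.UGT.Res.CovTools

variable {G : Type*} [Group G]

/-- `K / O(K)` has trivial centre -/
def ZT (K : Subgroup G) : Prop := ∀ k ∈ K, Fixes k K → k ∈ core K

/-- `J` induces all inner automorphisms of `K / O(K)` -/
def Cov (J K : Subgroup G) : Prop :=
  J ≤ normalizer (K : Set G) ∧ ∀ k ∈ K, ∃ j ∈ J, Fixes (j⁻¹ * k) K

variable [Finite G] {J K X D : Subgroup G} {w v : G}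

theorem Cov.cj (h : Cov J K) (hw : ∀ j ∈ J, w * j = j * w) : Cov J (IntrinsicBasic.cj w K) := by
  have hj : ∀ j ∈ J, w * j * w⁻¹ = j := fun j hj => by rw [hw j hj, mul_inv_cancel_right]
  refine ⟨fun j hj' => ?_, fun k hk => ?_⟩
  · rw [← cj_normalizer, mem_cj]
    have h1 : w⁻¹ * j * w = j := by rw [mul_assoc, ← hw j hj', inv_mul_cancel_left]
    rw [h1]
    exact h.1 hj'
  · rw [mem_cj] at hk
    obtain ⟨j, hjJ, hf⟩ := h.2 _ hk
    refine ⟨j, hjJ, ?_⟩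
    have h1 := hf.cj w
    have h2 : w * (j⁻¹ * (w⁻¹ * k * w)) * w⁻¹ = j⁻¹ * k := by
      calc w * (j⁻¹ * (w⁻¹ * k * w)) * w⁻¹ = (w * j * w⁻¹)⁻¹ * k := by group
        _ = j⁻¹ * k := by rw [hj j hjJ]
    rwa [h2] at h1

theorem Cov.exists_not (h : Cov J K) (hK : IsComp X K) : ∃ j ∈ J, ¬ Fixes j K := by
  by_contra hcon
  push Not at hcon
  apply hK.not_fixes
  intro k hk
  obtain ⟨j, hj, hf⟩ := h.2 k hk
  have h1 := fixes_mul (hcon j hj) hf
  rwa [mul_inv_cancel_left] at h1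

/-- **uniqueness** -/
theorem Cov.eq (h : Cov J K) (hK : IsComp X K) (hD : IsComp X D) (hJD : J ≤ D) : K = D := by
  by_contra hne
  obtain ⟨j, hj, hf⟩ := h.exists_not hK
  exact hf (hK.fixes_of_mem hD hne (hJD hj))

theorem Cov.fixes (h : Cov J K) (hZ : ZT K) (hwK : w ∈ normalizer (K : Set G))
    (hw : ∀ j ∈ J, w * j = j * w) : Fixes w K := by
  refine ⟨hwK, fun k hk => ?_⟩
  obtain ⟨j, hj, hf⟩ := h.2 k hk
  have hjj : w * j * w⁻¹ = j := by rw [hw j hj, mul_inv_cancel_right]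
  have h1 : Fixes (j⁻¹ * (w * k * w⁻¹)) K := by
    have h2 := fixes_conj hf hwK
    have h3 : w * (j⁻¹ * k) * w⁻¹ = j⁻¹ * (w * k * w⁻¹) := by
      calc w * (j⁻¹ * k) * w⁻¹ = (w * j * w⁻¹)⁻¹ * (w * k * w⁻¹) := by group
        _ = _ := by rw [hjj]
    rwa [h3] at h2
  have h2 := fixes_conj (fixes_mul h1 (fixes_inv hf)) (h.1 hj)
  have h3 : j * (j⁻¹ * (w * k * w⁻¹) * (j⁻¹ * k)⁻¹) * j⁻¹ = ⁅w, k⁆ := by
    rw [commutatorElement_def]
    group
  rw [h3] at h2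
  have h4 : ⁅w, k⁆ ∈ K := by
    rw [commutatorElement_def]
    exact mul_mem (conj_mem hwK hk) (inv_mem hk)
  exact hZ _ h4 h2

/-- `C_K(w)` -/
theorem Cov.cen (h : Cov J K) (hK : IsComp X K) (hwX : w ∈ X) (hww : w * w = 1) (hf : Fixes w K)
    (hw : ∀ j ∈ J, w * j = j * w) : Cov J (Intrinsic.Cen.cen K w) := by
  obtain ⟨-, h2⟩ := isComp_cen hK hwX hww hf
  have hn : J ≤ normalizer (Intrinsic.Cen.cen K w : Set G) := fun j hj =>
    mem_normalizer_cen (h.1 hj) (hw j hj).symm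
  refine ⟨hn, fun k hk => ?_⟩
  have hkK := cen_le K w hk
  obtain ⟨j, hj, hjf⟩ := h.2 k hkK
  exact ⟨j, hj, (fixes_iff_of_sup h2 (mul_mem (inv_mem (hn hj)) (le_normalizer hk)) hjf.1).mpr hjf⟩

theorem Cov.of_sup (hs : J ⊔ core K = K) : Cov J K := by
  have hJK : J ≤ K := by rw [← hs]; exact le_sup_left
  refine ⟨hJK.trans le_normalizer, fun k hk => ?_⟩
  obtain ⟨j, hj, hc⟩ := exists_mul_of_sup hs hk
  exact ⟨j, hj, fixes_of_mem_core hc⟩

theorem Cov.mono {J' : Subgroup G} (h : Cov J' K) (hJJ : J' ≤ J)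
    (hJK : J ≤ normalizer (K : Set G)) : Cov J K :=
  ⟨hJK, fun k hk => by
    obtain ⟨j, hj, hf⟩ := h.2 k hk
    exact ⟨j, hJJ hj, hf⟩⟩

theorem ZT.cen (hZ : ZT K) (hK : IsComp X K) (hwX : w ∈ X) (hww : w * w = 1) (hf : Fixes w K) :
    ZT (Intrinsic.Cen.cen K w) := by
  obtain ⟨-, h2⟩ := isComp_cen hK hwX hww hf
  intro k hk hfk
  have hkK := cen_le K w hk
  rw [core_of_sup h2]
  exact ⟨hk, hZ k hkK ((fixes_iff_of_sup h2 hfk.1 (le_normalizer hkK)).mp hfk)⟩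

theorem ZT.cj (hZ : ZT K) (g : G) : ZT (IntrinsicBasic.cj g K) := by
  intro k hk hf
  rw [mem_cj] at hk
  rw [core_cj, mem_cj]
  refine hZ _ hk ?_
  have h1 := hf.cj g⁻¹
  rw [cj_inv_cj] at h1
  have h2 : g⁻¹ * k * g⁻¹⁻¹ = g⁻¹ * k * g := by group
  rwa [h2] at h1

section diag

variable (hK : IsComp X K) (hvX : v ∈ X) (hv : v * v = 1) (hne : IntrinsicBasic.cj v K ≠ K)

include hK hvX hv hne

theorem cov_of_diag (hJ : J ≤ diag X K v) (hs : J ⊔ core (diag X K v) = diag X K v) : Cov J K := by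
  obtain ⟨h1, h2, h3, h4, -⟩ := exists_diag hK hvX hv hne
  refine ⟨fun j hj => mem_normalizer_of_diag hK hvX hv hne (hJ hj), fun k hk => ?_⟩
  obtain ⟨m, hm, hmk⟩ := h3 k hk
  have h5 := fixes_inv_mul hK hvX hne hk (h1.le hm).1 hmk
  obtain ⟨j, hj, hc⟩ := exists_mul_of_sup hs hm
  rw [h4] at hc
  have h6 := hK.fixes_of_core hc.2
  refine ⟨j, hj, ?_⟩
  have h7 := fixes_mul h6 (fixes_inv h5)
  have h8 : j⁻¹ * m * (k⁻¹ * m)⁻¹ = j⁻¹ * k := by group
  rwa [h8] at h7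

/-- the diagonal fixes the other 2-components -/
theorem diag_only {A : Subgroup G} (hA : IsComp X A) {m : G} (hm : m ∈ diag X K v)
    (hf : ¬ Fixes m A) : A = K ∨ A = IntrinsicBasic.cj v K := by
  obtain ⟨-, h2, -, -⟩ := exists_diag hK hvX hv hne
  obtain ⟨k, hk, hmk⟩ := h2 m hm
  exact ident hA hK (isComp_cj_of_mem hK hvX) hk (conj_mem_cj hk) hmk hf

theorem perm' (hJ : J ≤ diag X K v) (h : Cov J K) (hwX : w ∈ X) (hw : ∀ j ∈ J, w * j = j * w) :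
    IntrinsicBasic.cj w K = K ∨ IntrinsicBasic.cj w K = IntrinsicBasic.cj v K := by
  have h1 := h.cj hw
  obtain ⟨j, hj, hf⟩ := h1.exists_not (isComp_cj_of_mem hK hwX)
  exact diag_only hK hvX hv hne (isComp_cj_of_mem hK hwX) (hJ hj) hf

/-- if `K ^ w = K ^ v`, then `J` lies in the diagonal with respect to `w` -/
theorem le_diag (hJ : J ≤ diag X K v) (h : Cov J K) (hZ : ZT K) (hp : PComponents.pElem 2 J = J)
    (hwX : w ∈ X) (hww : w * w = 1) (hwv : w * v = v * w) (hw : ∀ j ∈ J, w * j = j * w)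
    (hwK : IntrinsicBasic.cj w K = IntrinsicBasic.cj v K) : J ≤ diag X K w := by
  have hvi : v⁻¹ = v := inv_eq_of_mul_eq_one_left hv
  obtain ⟨d1, d2, -⟩ := exists_diag hK hvX hv hne
  obtain ⟨u, hu⟩ : ∃ u, u = w * v := ⟨_, rfl⟩
  have huX : u ∈ X := hu ▸ mul_mem hwX hvX
  have huv : u * v = v * u := by rw [hu, ← mul_assoc, ← hwv]
  have huJ : ∀ m ∈ J, u * m = m * u := by
    intro m hm
    have h1 : Commute w m := hw m hm
    have h2 : Commute v m := (comm_c (d1.le (hJ hm)).2).symm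
    rw [hu]
    exact (h1.mul_left h2).eq
  have huK : IntrinsicBasic.cj u K = K := by
    rw [hu, cj_mul, ← hwK, ← cj_mul, hww, cj_one]
  have hf := h.fixes hZ (mem_normalizer_iff_cj.mpr huK) huJ
  have hf' : Fixes u (IntrinsicBasic.cj v K) := by
    have h1 := hf.cj v
    rwa [← huv, mul_inv_cancel_right] at h1
  rw [← hp, PComponents.pElem, closure_le]
  rintro m ⟨hmJ, n, hn⟩
  obtain ⟨k, hk, hmk⟩ := d2 m (hJ hmJ)
  refine mem_diag (k := k) (d1.le (hJ hmJ)).1 (hw m hmJ).symm hk ?_ hn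
  have hk' : v * k * v⁻¹ ∈ IntrinsicBasic.cj v K := conj_mem_cj hk
  have h3 : ⁅u, v * k * v⁻¹⁆ ∈ core X :=
    (isComp_cj_of_mem hK hvX).core_le_core (hf'.2 _ hk')
  have h4 : w * k * w⁻¹ = ⁅u, v * k * v⁻¹⁆ * (v * k * v⁻¹) := by
    rw [commutatorElement_def, hu]
    have e1 : w * v * (v * k * v⁻¹) * (w * v)⁻¹ = w * (v * v) * k * (v⁻¹ * v⁻¹) * w⁻¹ := by group
    rw [e1, hvi, hv]
    group
  have hkX := hK.le hk
  have hmX := (d1.le (hJ hmJ)).1
  have h5 : m⁻¹ * (k * (w * k * w⁻¹)) = (m⁻¹ * k) * ⁅u, v * k * v⁻¹⁆ * (m⁻¹ * k)⁻¹ *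
      (m⁻¹ * (k * (v * k * v⁻¹))) := by
    rw [h4]
    group
  rw [h5]
  exact mul_mem (conj_core (mul_mem (inv_mem hmX) hkX) h3) hmk

omit hv in
/-- `C_K(w)` and `C_{K^v}(w)` are two different 2-components of `C_X(w)` -/
theorem two (hwX : w ∈ X) (hww : w * w = 1) (hwv : w * v = v * w) (hf : Fixes w K) :
    IsComp (X ⊓ centralizer ({w} : Set G)) (cen K w) ∧
    IsComp (X ⊓ centralizer ({w} : Set G)) (cen (IntrinsicBasic.cj v K) w) ∧
    cen (IntrinsicBasic.cj v K) w ≠ cen K w ∧ Fixes w (IntrinsicBasic.cj v K) := by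
  have hf' : Fixes w (IntrinsicBasic.cj v K) := by
    have h1 := hf.cj v
    rwa [← hwv, mul_inv_cancel_right] at h1
  have h1 := (isComp_cen hK hwX hww hf).1
  have hK' := isComp_cj_of_mem hK hvX
  have h2 := (isComp_cen hK' hwX hww hf').1
  refine ⟨h1, h2, fun h3 => hne ?_, hf'⟩
  exact h1.unique hK' hK (h3 ▸ cen_le _ w) (cen_le K w)

end diag

end Cfsg.Agent.UGT.Res.CovTools
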