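import Cfsg.Agent.UGT.Res.DiagTools

/-!
# Diagonal 2-components and a second involution, modulo cores

As `DiagTools.lean`, with `w` commuting with `v` and fixing `diag X K v` (modulo its core) instead of centralizing it.
-/

set_option autoImplicit false

open Cfsg Subgroup
open Cfsg.Agent.SignalizersComponents Cfsg.Agent.Lib
open Cfsg.Agent.SignalizersComponents.IntrinsicBasic
open Cfsg.Agent.SignalizersComponents.PLayerAut
open Cfsg.Agent.Intrinsic.Basic Cfsg.Agent.Intrinsic.Cen Cfsg.Agent.Intrinsic.Diag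
open Cfsg.Agent.McLLyComp.Act
open Cfsg.Agent.UGT.Triple Cfsg.Agent.UGT.LemG Cfsg.Agent.UGT.PumpGen Cfsg.Agent.UGT.TriBase
open Cfsg.Agent.UGT.Res.Base Cfsg.Agent.UGT.Res.KMax Cfsg.Agent.UGT.Res.DiagTools
open scoped commutatorElement

namespace Cfsg.Agent.UGT.Res.DiagCore

variable {G : Type*} [Group G] [Finite G]

section cen

variable {X K : Subgroup G} {v w : G}

/-- an element fixing `K` and commuting with `v` fixes `cen K v` -/
theorem fixes_cen (hK : IsComp X K) (hv : v ∈ X) (hvv : v * v = 1) (hf : Fixes v K)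
    (hw : Fixes w K) (hwv : w * v = v * w) : Fixes w (cen K v) :=
  (fixes_iff_of_sup (isComp_cen hK hv hvv hf).2 (mem_normalizer_cen hw.1 hwv) hw.1).mpr hw

omit [Finite G] in
/-- `cen (cen K v) w = cen (cen K w) v` -/
theorem cen_cen_le : cen (cen K v) w ≤ cen (cen K w) v := by
  rw [cen, PComponents.pElem, closure_le]
  rintro m ⟨⟨h1, h2⟩, n, hn⟩
  have h3 := comm_c h2
  exact mem_cen (mem_cen (cen_le K v h1) h3 hn) (comm_of_mem_cen h1) hn

omit [Finite G] in
theorem cen_mono {K' : Subgroup G} (h : K ≤ K') : cen K v ≤ cen K' v := by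
  rw [cen, PComponents.pElem, closure_le]
  rintro m ⟨⟨h1, h2⟩, n, hn⟩
  exact mem_cen (h h1) (comm_c h2) hn

end cen

section diag

variable {X K : Subgroup G} {v w : G}

/-- `w` normalizes `K` or moves it to `K ^ v` -/
theorem perm (hK : IsComp X K) (hvX : v ∈ X) (hv : v * v = 1) (hne : cj v K ≠ K) (hwX : w ∈ X)
    (hwv : w * v = v * w) (hwM : w ∈ normalizer (diag X K v : Set G)) :
    cj w K = K ∨ cj w K = cj v K := by
  by_contra hcon
  push Not at hcon
  obtain ⟨h1, h2⟩ := hcon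
  have hL := isComp_cj_of_mem hK hwX
  have hLv : cj v (cj w K) ≠ cj w K := by
    rw [← cj_comm hwv]
    intro h
    exact hne (cj_injective w h)
  refine diag_ne hK hvX hv hne hL hLv h1 h2 ?_
  have h3 := cj_diag w X K v
  rw [cj_eq_self_of_mem hwX, hwv, mul_inv_cancel_right] at h3
  rw [← h3]
  exact mem_normalizer_iff_cj.mp hwM

/-- `w` normalizing `K` fixes `K` -/
theorem fixes_of_norm (hK : IsComp X K) (hvX : v ∈ X) (hv : v * v = 1) (hne : cj v K ≠ K)
    (hwX : w ∈ X) (hwv : w * v = v * w) (hwM : Fixes w (diag X K v)) (hwK : cj w K = K) :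
    Fixes w K := by
  obtain ⟨-, -, -, d4, -⟩ := exists_diag hK hvX hv hne
  refine fixes_of_comm_diag hK hvX hv hne hwX (mem_normalizer_iff_cj.mpr hwK) ?_ fun m hm => ?_
  · rw [mem_normalizer_iff_cj, cj_comm hwv, hwK]
  · have h1 := hwM.2 m hm
    rw [d4] at h1
    exact h1.2

/-- if `w` normalizes `K`, then a part `M₀` of the diagonal covering it is not contained in a 2-component of
`C_X(w)` -/
theorem not_le_comp (hK : IsComp X K) (hvX : v ∈ X) (hv : v * v = 1) (hne : cj v K ≠ K)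
    (hwX : w ∈ X) (hw : w * w = 1) (hf : Fixes w K) {M₀ Y : Subgroup G} (hM : IsComp Y M₀)
    (hs : M₀ ⊔ core (diag X K v) = diag X K v) {D : Subgroup G}
    (hD : IsComp (X ⊓ centralizer ({w} : Set G)) D) : ¬ M₀ ≤ D := by
  intro hle
  obtain ⟨h1, h2⟩ := isComp_cen hK hwX hw hf
  obtain ⟨d1, -, -, d4, -⟩ := exists_diag hK hvX hv hne
  have hM0 : M₀ ≤ diag X K v := by
    rw [← hs]
    exact le_sup_left
  by_cases h : cen K w = D
  · apply hne
    have h3 : M₀ ≤ K := hle.trans (h ▸ cen_le K w)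
    have h4 : M₀ ≤ cj v K := by
      intro m hm
      rw [mem_cj]
      have h5 : m * v = v * m := comm_c (d1.le (hM0 hm)).2
      rw [mul_assoc, h5, inv_mul_cancel_left]
      exact h3 hm
    exact hM.unique (isComp_cj_of_mem hK hvX) hK h4 h3
  · refine diag_not_fixes hK hvX hv hne fun m hm => ?_
    obtain ⟨j, hj, hjm⟩ := exists_mul_of_sup hs hm
    have h3 := h1.fixes_of_mem hD h (hle hj)
    have h4 := (fixes_iff_of_sup h2 h3.1 (mem_normalizer_of_diag hK hvX hv hne (hM0 hj))).mp h3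
    have h5 : Fixes (j⁻¹ * m) K := by
      rw [d4] at hjm
      exact hK.fixes_of_core hjm.2
    have h6 := fixes_mul h4 h5
    rwa [mul_inv_cancel_left] at h6

/-- if `K ^ w = K ^ v`, then `C(w)` in the diagonal with respect to `v` lies in the diagonal with respect to `w` -/
theorem cen_diag_le (hK : IsComp X K) (hvX : v ∈ X) (hv : v * v = 1) (hne : cj v K ≠ K)
    (hwX : w ∈ X) (hw : w * w = 1) (hwv : w * v = v * w) (hwM : Fixes w (diag X K v))
    (hwK : cj w K = cj v K) : cen (diag X K v) w ≤ diag X K w := by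
  have hvi : v⁻¹ = v := inv_eq_of_mul_eq_one_left hv
  obtain ⟨d1, d2, -⟩ := exists_diag hK hvX hv hne
  obtain ⟨u, hu⟩ : ∃ u, u = w * v := ⟨_, rfl⟩
  have huX : u ∈ X := hu ▸ mul_mem hwX hvX
  have huv : u * v = v * u := by rw [hu, ← mul_assoc, ← hwv]
  have hvM : Fixes v (diag X K v) := fixes_self' fun m hm => (d1.le hm).2
  have huM : Fixes u (diag X K v) := hu ▸ fixes_mul hwM hvM
  have huK : cj u K = K := by
    rw [hu, cj_mul, ← hwK, ← cj_mul, hw, cj_one]
  have hf := fixes_of_norm hK hvX hv hne huX huv huM huK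
  have hf' : Fixes u (cj v K) := by
    have h1 := hf.cj v
    rwa [← huv, mul_inv_cancel_right] at h1
  rw [cen, PComponents.pElem, closure_le]
  rintro m ⟨⟨hmM, hmw⟩, n, hn⟩
  obtain ⟨k, hk, hmk⟩ := d2 m hmM
  have h1 : m ∈ X := (d1.le hmM).1
  refine mem_diag (k := k) h1 (comm_c hmw) hk ?_ hn
  have hk' : v * k * v⁻¹ ∈ cj v K := conj_mem_cj hk
  have h3 : ⁅u, v * k * v⁻¹⁆ ∈ core X :=
    (isComp_cj_of_mem hK hvX).core_le_core (hf'.2 _ hk')
  have h4 : w * k * w⁻¹ = ⁅u, v * k * v⁻¹⁆ * (v * k * v⁻¹) := by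
    rw [commutatorElement_def, hu]
    have e1 : w * v * (v * k * v⁻¹) * (w * v)⁻¹ = w * (v * v) * k * (v⁻¹ * v⁻¹) * w⁻¹ := by group
    rw [e1, hvi, hv]
    group
  have hkX := hK.le hk
  have h5 : m⁻¹ * (k * (w * k * w⁻¹)) = (m⁻¹ * k) * ⁅u, v * k * v⁻¹⁆ * (m⁻¹ * k)⁻¹ *
      (m⁻¹ * (k * (v * k * v⁻¹))) := by
    rw [h4]
    group
  rw [h5]
  exact mul_mem (conj_core (mul_mem (inv_mem h1) hkX) h3) hmk

/-- if `C(w)` in the diagonal is not contained in a 2-component of `C_X(w)`, then `w` fixes `K` -/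
theorem fixes_of (hK : IsComp X K) (hvX : v ∈ X) (hv : v * v = 1) (hne : cj v K ≠ K)
    (hwX : w ∈ X) (hw : w * w = 1) (hwv : w * v = v * w) (hwM : Fixes w (diag X K v))
    (h : ∀ D, IsComp (X ⊓ centralizer ({w} : Set G)) D → ¬ cen (diag X K v) w ≤ D) :
    Fixes w K := by
  rcases perm hK hvX hv hne hwX hwv hwM.1 with h1 | h1
  · exact fixes_of_norm hK hvX hv hne hwX hwv hwM h1
  · exfalso
    have hne' : cj w K ≠ K := by rwa [h1]
    obtain ⟨d1, -⟩ := exists_diag hK hwX hw hne'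
    exact h _ d1 (cen_diag_le hK hvX hv hne hwX hw hwv hwM h1)

end diag

end Cfsg.Agent.UGT.Res.DiagCore
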