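import Cfsg.Agent.UGT.Res.Base
import Cfsg.Agent.UGT.Res.KMax

/-!
# Diagonal 2-components and a second involution

`K` a 2-component of `X`, `v ∈ X` an involution moving `K`, `M = diag X K v`; `w ∈ X` an involution commuting with `v`
and with the elements of `M`.

* `perm`: `w` normalizes `K` or moves it to `K ^ v`.
* `not_le_comp`: if `w` normalizes `K`, then `M` is not contained in a 2-component of `C_X(w)`.
* `fixes_of`: if `M` is not contained in a 2-component of `C_X(w)`, then `w` fixes `K`.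
* `ident`: a 2-component of `Y` not fixed by a subgroup of `B B' O(Y)` is `B` or `B'`.
-/

set_option autoImplicit false

open Cfsg Subgroup
open Cfsg.Agent.SignalizersComponents Cfsg.Agent.Lib
open Cfsg.Agent.SignalizersComponents.IntrinsicBasic
open Cfsg.Agent.SignalizersComponents.PLayerAut
open Cfsg.Agent.Intrinsic.Basic Cfsg.Agent.Intrinsic.Cen Cfsg.Agent.Intrinsic.Diag
open Cfsg.Agent.McLLyComp.Act
open Cfsg.Agent.UGT.Triple Cfsg.Agent.UGT.LemG Cfsg.Agent.UGT.PumpGen Cfsg.Agent.UGT.TriBase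
open Cfsg.Agent.UGT.Res.Base Cfsg.Agent.UGT.Res.KMax
open scoped commutatorElement

namespace Cfsg.Agent.UGT.Res.DiagTools

variable {G : Type*} [Group G] [Finite G]

section diag

variable {X K : Subgroup G} {v w : G}

/-- the elements of the diagonal normalize `K` -/
theorem mem_normalizer_of_diag (hK : IsComp X K) (hvX : v ∈ X) (hv : v * v = 1) (hne : cj v K ≠ K)
    {m : G} (hm : m ∈ diag X K v) : m ∈ normalizer (K : Set G) := by
  obtain ⟨h1, h2, -⟩ := exists_diag hK hvX hv hne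
  obtain ⟨k, hk, hmk⟩ := h2 m hm
  have h3 := fixes_inv_mul hK hvX hne hk (h1.le hm).1 hmk
  have h4 := mul_mem (le_normalizer hk) h3.1
  rwa [mul_inv_cancel_left] at h4

/-- the diagonal does not fix `K` -/
theorem diag_not_fixes (hK : IsComp X K) (hvX : v ∈ X) (hv : v * v = 1) (hne : cj v K ≠ K) :
    ¬ ∀ m ∈ diag X K v, Fixes m K := by
  intro h
  obtain ⟨h1, -, h3, -⟩ := exists_diag hK hvX hv hne
  apply hK.not_fixes
  intro k hk
  obtain ⟨m, hm, hmk⟩ := h3 k hk
  have h4 := fixes_inv_mul hK hvX hne hk (h1.le hm).1 hmk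
  have h5 := fixes_mul (h m hm) (fixes_inv h4)
  have h6 : m * (k⁻¹ * m)⁻¹ = k := by group
  rwa [h6] at h5

omit [Finite G] in
theorem cj_comm (hwv : w * v = v * w) : cj w (cj v K) = cj v (cj w K) := by
  rw [← cj_mul, hwv, cj_mul]

/-- `w` normalizes `K` or moves it to `K ^ v` -/
theorem perm (hK : IsComp X K) (hvX : v ∈ X) (hv : v * v = 1) (hne : cj v K ≠ K) (hwX : w ∈ X)
    (hwv : w * v = v * w) (hwM : ∀ m ∈ diag X K v, w * m = m * w) :
    cj w K = K ∨ cj w K = cj v K := by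
  by_contra hcon
  push Not at hcon
  obtain ⟨h1, h2⟩ := hcon
  have hL := isComp_cj_of_mem hK hwX
  have hLv : cj v (cj w K) ≠ cj w K := by
    rw [← cj_comm hwv]
    intro h
    exact hne (cj_injective w h)
  refine diag_ne hK hvX hv hne hL hLv h1 h2 ?_
  have h3 := cj_diag w X K v
  rw [cj_eq_self_of_mem hwX, hwv, mul_inv_cancel_right] at h3
  rw [← h3]
  ext m
  rw [mem_cj]
  constructor
  · intro hm
    have h4 := hwM _ hm
    have h5 : w * (w⁻¹ * m * w) = m * w := by group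
    rw [h5] at h4
    have h6 : m = w⁻¹ * m * w := mul_right_cancel h4
    rw [h6]
    exact hm
  · intro hm
    have h4 := hwM _ hm
    have h5 : w⁻¹ * m * w = m := by
      rw [mul_assoc, ← h4, inv_mul_cancel_left]
    rwa [h5]

/-- `w` normalizing `K` fixes `K` -/
theorem fixes_of_norm (hK : IsComp X K) (hvX : v ∈ X) (hv : v * v = 1) (hne : cj v K ≠ K)
    (hwX : w ∈ X) (hwv : w * v = v * w) (hwM : ∀ m ∈ diag X K v, w * m = m * w)
    (hwK : cj w K = K) : Fixes w K := by
  refine fixes_of_comm_diag hK hvX hv hne hwX (mem_normalizer_iff_cj.mpr hwK) ?_ fun m hm => ?_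
  · rw [mem_normalizer_iff_cj, cj_comm hwv, hwK]
  · rw [commutatorElement_eq_one_iff_mul_comm.mpr (hwM m hm)]
    exact one_mem _

/-- if `w` normalizes `K`, then the diagonal is not contained in a 2-component of `C_X(w)` -/
theorem not_le_comp (hK : IsComp X K) (hvX : v ∈ X) (hv : v * v = 1) (hne : cj v K ≠ K)
    (hwX : w ∈ X) (hw : w * w = 1) (hwv : w * v = v * w)
    (hwM : ∀ m ∈ diag X K v, w * m = m * w) (hwK : cj w K = K) {D : Subgroup G}
    (hD : IsComp (X ⊓ centralizer ({w} : Set G)) D) : ¬ diag X K v ≤ D := by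
  intro hle
  have hf := fixes_of_norm hK hvX hv hne hwX hwv hwM hwK
  obtain ⟨h1, h2⟩ := isComp_cen hK hwX hw hf
  obtain ⟨d1, -⟩ := exists_diag hK hvX hv hne
  by_cases h : cen K w = D
  · apply hne
    have h3 : diag X K v ≤ K := hle.trans (h ▸ cen_le K w)
    have h4 : diag X K v ≤ cj v K := by
      intro m hm
      rw [mem_cj]
      have h5 : m * v = v * m := comm_c (d1.le hm).2
      rw [mul_assoc, h5, inv_mul_cancel_left]
      exact h3 hm
    exact d1.unique (isComp_cj_of_mem hK hvX) hK h4 h3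
  · refine diag_not_fixes hK hvX hv hne fun m hm => ?_
    have h3 := h1.fixes_of_mem hD h (hle hm)
    exact (fixes_iff_of_sup h2 h3.1 (mem_normalizer_of_diag hK hvX hv hne hm)).mp h3

/-- if `K ^ w = K ^ v`, then the diagonal with respect to `v` lies in the diagonal with respect to `w` -/
theorem diag_le (hK : IsComp X K) (hvX : v ∈ X) (hv : v * v = 1) (hne : cj v K ≠ K)
    (hwX : w ∈ X) (hw : w * w = 1) (hwv : w * v = v * w)
    (hwM : ∀ m ∈ diag X K v, w * m = m * w) (hwK : cj w K = cj v K) :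
    diag X K v ≤ diag X K w := by
  have hvi : v⁻¹ = v := inv_eq_of_mul_eq_one_left hv
  obtain ⟨d1, -⟩ := exists_diag hK hvX hv hne
  obtain ⟨u, hu⟩ : ∃ u, u = w * v := ⟨_, rfl⟩
  have huX : u ∈ X := hu ▸ mul_mem hwX hvX
  have huv : u * v = v * u := by rw [hu, ← mul_assoc, ← hwv]
  have huM : ∀ m ∈ diag X K v, u * m = m * u := by
    intro m hm
    have h1 : Commute w m := hwM m hm
    have h2 : Commute v m := (comm_c (d1.le hm).2).symm
    rw [hu]
    exact (h1.mul_left h2).eq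
  have huK : cj u K = K := by
    rw [hu, cj_mul, ← hwK, ← cj_mul, hw, cj_one]
  have hf := fixes_of_norm hK hvX hv hne huX huv huM huK
  have hf' : Fixes u (cj v K) := by
    have h1 := hf.cj v
    rwa [← huv, mul_inv_cancel_right] at h1
  rw [diag, closure_le]
  rintro m ⟨h1, h2, ⟨k, hk, hmk⟩, n, hn⟩
  have hmM : m ∈ diag X K v := mem_diag h1 h2 hk hmk hn
  refine mem_diag (k := k) h1 (hwM m hmM).symm hk ?_ hn
  have hk' : v * k * v⁻¹ ∈ cj v K := conj_mem_cj hk
  have h3 : ⁅u, v * k * v⁻¹⁆ ∈ core X :=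
    (isComp_cj_of_mem hK hvX).core_le_core (hf'.2 _ hk')
  have h4 : w * k * w⁻¹ = ⁅u, v * k * v⁻¹⁆ * (v * k * v⁻¹) := by
    rw [commutatorElement_def, hu]
    have e1 : w * v * (v * k * v⁻¹) * (w * v)⁻¹ = w * (v * v) * k * (v⁻¹ * v⁻¹) * w⁻¹ := by group
    rw [e1, hvi, hv]
    group
  have hkX := hK.le hk
  have h5 : m⁻¹ * (k * (w * k * w⁻¹)) = (m⁻¹ * k) * ⁅u, v * k * v⁻¹⁆ * (m⁻¹ * k)⁻¹ *
      (m⁻¹ * (k * (v * k * v⁻¹))) := by
    rw [h4]
    group
  rw [h5]
  exact mul_mem (conj_core (mul_mem (inv_mem h1) hkX) h3) hmk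

/-- if the diagonal is not contained in a 2-component of `C_X(w)`, then `w` fixes `K` -/
theorem fixes_of (hK : IsComp X K) (hvX : v ∈ X) (hv : v * v = 1) (hne : cj v K ≠ K)
    (hwX : w ∈ X) (hw : w * w = 1) (hwv : w * v = v * w)
    (hwM : ∀ m ∈ diag X K v, w * m = m * w)
    (h : ∀ D, IsComp (X ⊓ centralizer ({w} : Set G)) D → ¬ diag X K v ≤ D) : Fixes w K := by
  rcases perm hK hvX hv hne hwX hwv hwM with h1 | h1
  · exact fixes_of_norm hK hvX hv hne hwX hwv hwM h1
  · exfalso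
    have hne' : cj w K ≠ K := by rwa [h1]
    obtain ⟨d1, -⟩ := exists_diag hK hwX hw hne'
    exact h _ d1 (diag_le hK hvX hv hne hwX hw hwv hwM h1)

end diag

/-- A 2-component `A` of `Y` not fixed by some element of `B B' O(Y)` is `B` or `B'`. -/
theorem ident {Y A B B' : Subgroup G} (hA : IsComp Y A) (hB : IsComp Y B) (hB' : IsComp Y B')
    {m b b' : G} (hb : b ∈ B) (hb' : b' ∈ B') (h : m⁻¹ * (b * b') ∈ core Y) (hm : ¬ Fixes m A) :
    A = B ∨ A = B' := by
  by_contra hcon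
  push Not at hcon
  apply hm
  have h1 := fixes_mul (hA.fixes_of_mem hB hcon.1 hb) (hA.fixes_of_mem hB' hcon.2 hb')
  have h2 := fixes_mul h1 (fixes_inv (hA.fixes_of_core h))
  have h3 : b * b' * (m⁻¹ * (b * b'))⁻¹ = m := by group
  rwa [h3] at h2

end Cfsg.Agent.UGT.Res.DiagTools
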