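import Cfsg.Agent.UGT.Res.NodeCOne

/-!
# The honest configurations of a core-free world with at most one `L` for each pair

* `cy_le`, `ny_le`: `C(Y), N(Y) ≤ N(L)`, `Y` the subgroup of the elements of odd order of `C_L(x)`.
* `Hon.cj`: conjugates. `Hon.unique`: `Hon X x L`, `Hon X x L'` imply `L = L'`.
* `Hon.fine`: `L` is a component of `C(t)` (core-free).
-/

set_option autoImplicit false

open Cfsg Subgroup
open Cfsg.Agent.SignalizersComponents Cfsg.Agent.Lib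
open Cfsg.Agent.SignalizersComponents.IntrinsicBasic
open Cfsg.Agent.Intrinsic.Basic Cfsg.Agent.Intrinsic.Cen
open Cfsg.Agent.OddHalf.D6
open Cfsg.Agent.McLLyComp.Act (fixes_one)
open Cfsg.Agent.UGT.Triple Cfsg.Agent.UGT.TriBase Cfsg.Agent.UGT.Iface
open Cfsg.Agent.UGT.Res.KFacts (Pgl)
open Cfsg.Agent.UGT.Res.EFacts Cfsg.Agent.UGT.Res.CfOf Cfsg.Agent.UGT.Res.Hon Cfsg.Agent.UGT.Res.COne
open Cfsg.Agent.UGT.Res.Base
open Cfsg.Agent.UGT.ThE.Base (IsT IsS)
open scoped commutatorElement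

namespace Cfsg.Agent.UGT.Res.HonTools

universe u

variable {G : Type u} [Group G] [Finite G] {X L L' : Subgroup G} {x a : G}

theorem mem_Y (H : Pgl G) (O : Hon.One G) (C : CFX X) (h : Hon X x L) {y : G} :
    y ∈ core (centralizer ({x} : Set G)) ⊓ L ↔ y ∈ L ∧ y * x = x * y ∧ Odd (orderOf y) := by
  obtain ⟨t, u, ht, -⟩ := h.four
  obtain ⟨F, _, _, h5, ⟨R⟩⟩ := exists_R H (h.good ht).2 (Hon.core_bot C h)
  constructor
  · rintro ⟨h1, h2⟩
    exact ⟨h2, comm_c (core_le _ h1), odd_of_core h1⟩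
  · rintro ⟨h1, h2, h3⟩
    exact ⟨mem_of_odd R H O C h (by omega) h1 h2 h3, h1⟩

/-- `C(x) ≤ N(L)` -/
theorem cx_le (H : Pgl G) (O : Hon.One G) (C : CFX X) (h : Hon X x L) {c : G} (hc : c * x = x * c) :
    c ∈ normalizer (L : Set G) := by
  obtain ⟨t, u, ht, -⟩ := h.four
  obtain ⟨F, _, _, h5, ⟨R⟩⟩ := exists_R H (h.good ht).2 (Hon.core_bot C h)
  exact COne.cx_le R H O C h (by omega) hc

/-- `C(Y) ≤ N(L)` -/
theorem cy_le (H : Pgl G) (O : Hon.One G) (C : CFX X) (h : Hon X x L) {c : G}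
    (hc : ∀ y ∈ L, y * x = x * y → Odd (orderOf y) → c * y = y * c) :
    c ∈ normalizer (L : Set G) := by
  obtain ⟨t, u, ht, -⟩ := h.four
  obtain ⟨F, _, _, h5, ⟨R⟩⟩ := exists_R H (h.good ht).2 (Hon.core_bot C h)
  refine (data R H O C h (by omega)).cen_le_normalizer (x := x) ⟨h, rfl⟩ ?_
  rw [mem_centralizer_iff]
  intro y hy
  obtain ⟨h1, h2, h3⟩ := (mem_Y H O C h).mp hy
  exact (hc y h1 h2 h3).symm

omit [Finite G] in
theorem conj_isT {g t : G} (ht : IsT (cj g L) (g * x * g⁻¹) t) : IsT L x (g⁻¹ * t * g) := by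
  have h1 : ∀ l ∈ L, l * (g⁻¹ * t * g) = g⁻¹ * t * g * l := by
    intro l hl
    have h2 := mem_centralizer_iff.mp ht.mem (g * l * g⁻¹) (conj_mem_cj hl)
    calc l * (g⁻¹ * t * g) = g⁻¹ * (g * l * g⁻¹ * t) * g := by group
      _ = g⁻¹ * (t * (g * l * g⁻¹)) * g := by rw [h2]
      _ = g⁻¹ * t * g * l := by group
  refine ⟨mem_centralizer_iff.mpr h1, ?_, ?_, fun h => ht.ne ?_⟩
  · have h2 := ht.comm
    calc g⁻¹ * t * g * x = g⁻¹ * (t * (g * x * g⁻¹)) * g := by group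
      _ = g⁻¹ * (g * x * g⁻¹ * t) * g := by rw [h2]
      _ = x * (g⁻¹ * t * g) := by group
  · have h2 := ht.sq
    calc g⁻¹ * t * g * (g⁻¹ * t * g) = g⁻¹ * (t * t) * g := by group
      _ = 1 := by rw [h2]; group
  · have : t = g * (g⁻¹ * t * g) * g⁻¹ := by group
    rw [this, h]; group

omit [Finite G] in
theorem isT_cj {g t : G} (ht : IsT L x t) : IsT (cj g L) (g * x * g⁻¹) (g * t * g⁻¹) := by
  refine ⟨?_, ?_, ?_, fun h => ht.ne ?_⟩
  · rw [mem_centralizer_iff]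
    intro y hy
    rw [SetLike.mem_coe, mem_cj] at hy
    have h2 := mem_centralizer_iff.mp ht.mem _ hy
    calc y * (g * t * g⁻¹) = g * (g⁻¹ * y * g * t) * g⁻¹ := by group
      _ = g * (t * (g⁻¹ * y * g)) * g⁻¹ := by rw [h2]
      _ = g * t * g⁻¹ * y := by group
  · have h2 := ht.comm
    calc g * t * g⁻¹ * (g * x * g⁻¹) = g * (t * x) * g⁻¹ := by group
      _ = g * (x * t) * g⁻¹ := by rw [h2]
      _ = g * x * g⁻¹ * (g * t * g⁻¹) := by group
  · have h2 := ht.sq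
    calc g * t * g⁻¹ * (g * t * g⁻¹) = g * (t * t) * g⁻¹ := by group
      _ = 1 := by rw [h2]; group
  · have : t = g⁻¹ * (g * t * g⁻¹) * g := by group
    rw [this, h]; group

omit [Finite G] in
theorem Hon.cj (C : CFX X) (h : Hon X x L) (g : G) : Hon X (g * x * g⁻¹) (cj g L) := by
  refine ⟨?_, ?_, ?_⟩
  · have h1 := (MulAut.conj g).orderOf_eq x
    rw [h.ox] at h1
    exact h1
  · intro t ht
    obtain ⟨h1, h2⟩ := h.good (conj_isT ht)
    have h3 := h2.cj g
    have e : g * (g⁻¹ * t * g) * g⁻¹ = t := by group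
    rw [e] at h3
    refine ⟨?_, h3⟩
    have h4 := C.conj (g := g) h1
    rwa [e] at h4
  · obtain ⟨t, u, h1, h2, h3, h4⟩ := h.four
    refine ⟨_, _, isT_cj (g := g) h1, isT_cj (g := g) h2, fun h5 => h3 ?_, ?_⟩
    · simpa using h5
    · calc g * t * g⁻¹ * (g * u * g⁻¹) = g * (t * u) * g⁻¹ := by group
        _ = g * (u * t) * g⁻¹ := by rw [h4]
        _ = g * u * g⁻¹ * (g * t * g⁻¹) := by group

/-- `x` determines `L` -/
theorem Hon.unique (H : Pgl G) (O : Hon.One G) (C : CFX X) (h : Hon X x L) (h' : Hon X x L') :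
    L = L' := by
  obtain ⟨t₀, u₀, ht₀, -⟩ := h.four
  obtain ⟨F, _, _, h5, ⟨R⟩⟩ := exists_R H (h.good ht₀).2 (Hon.core_bot C h)
  have c := Hon.cf H C h R
  obtain ⟨y, hy, hyL, hyf⟩ := H.exists_y (h.good ht₀).2
  have hy1 : y ≠ 1 := by
    rintro rfl
    exact hyf (fixes_one L)
  -- an involution of `C(L') ∩ C(x)` acts on `L` as `1` or `x`
  have key : ∀ t, IsT L' x t → t ∈ centralizer (L : Set G) ∨ t * x ∈ centralizer (L : Set G) := by
    intro t ht
    refine c.aut hyL hy1 (odd_of_core hy) (comm_c (core_le _ hy)) (cx_le H O C h ht.comm) ?_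
      ⟨1, by rw [pow_one, pow_two]; exact ht.sq⟩
    exact ((h'.core_all O C hy).2.2 t ht).symm
  have fin : ∀ t, IsT L' x t → t ∈ centralizer (L : Set G) → L = L' := by
    intro t ht htL
    exact O (h.good ⟨htL, ht.comm, ht.sq, ht.ne⟩).2 (h'.good ht).2
  obtain ⟨t, u, h1, h2, h3, h4⟩ := h'.four
  rcases key t h1 with k1 | k1
  · exact fin t h1 k1
  rcases key u h2 with k2 | k2
  · exact fin u h2 k2
  have h6 : t * u = (t * x) * (u * x) := by
    calc t * u = t * (x * x) * u := by rw [sq_of_order h.ox, mul_one]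
      _ = (t * x) * (x * u) := by group
      _ = (t * x) * (u * x) := by rw [h2.comm]
  refine fin (t * u) ⟨mul_mem h1.mem h2.mem, ?_, ?_, ?_⟩ (by rw [h6]; exact mul_mem k1 k2)
  · exact ((show Commute t x from h1.comm).mul_left h2.comm).eq
  · calc t * u * (t * u) = t * (u * t) * u := by group
      _ = (t * t) * (u * u) := by rw [← h4]; group
      _ = 1 := by rw [h1.sq, h2.sq, one_mul]
  · intro h7
    apply h3
    have := eq_inv_of_mul_eq_one_left h7
    rwa [inv_eq_of_mul_eq_one_left h2.sq] at this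

end Cfsg.Agent.UGT.Res.HonTools
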