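import Cfsg.Agent.UGT.Res.KFacts
import Cfsg.Agent.UGT.Res.FieldOdd

/-!
# The residual world: tame elements

* `Pgl.exists_max`: there is a prime `p` such that some `p`-element `y ∈ L ∩ O(C(x))` moves `L`, `(x, a, L)` a triple,
  and all `p`-elements of `G` are `Tame` (the largest prime with the first property).
* `Pgl.exists_y_of`: a tame `p`-element moving `L`, `(x, a, L)` a triple, may be chosen in `L`.
* `hinv`: the hypothesis of `CoreFree.Hyp.isMax_mul`.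
* `Small9`, `Small9.rab : RAb G`.
-/

set_option autoImplicit false

open Cfsg Subgroup
open Cfsg.Agent.SignalizersComponents Cfsg.Agent.Lib
open Cfsg.Agent.SignalizersComponents.IntrinsicBasic
open Cfsg.Agent.SignalizersComponents.IntrinsicIntr
open Cfsg.Agent.SignalizersComponents.PLayerAut
open Cfsg.Agent.Intrinsic.Basic Cfsg.Agent.Intrinsic.Cen Cfsg.Agent.Intrinsic.Diag
open Cfsg.Agent.McLLyComp.Act
open Cfsg.Agent.UGT.Triple Cfsg.Agent.UGT.LemG Cfsg.Agent.UGT.PumpGen Cfsg.Agent.UGT.TriBase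
open Cfsg.Agent.UGT.Res.Base Cfsg.Agent.UGT.Res.KMax Cfsg.Agent.UGT.Res.KOne Cfsg.Agent.UGT.Res.Abel
open Cfsg.Agent.UGT.Iface Cfsg.Agent.UGT.Nodes Cfsg.Agent.UGT.Res.KFacts
open Cfsg.Agent.OddHalf.D6
open scoped commutatorElement

namespace Cfsg.Agent.UGT.Res.Supply

universe u

variable {G : Type u} [Group G]

/-- some `p`-element `y ∈ L ∩ O(C(x))` moves `L`, `(x, a, L)` a triple -/
def InnAt (G : Type u) [Group G] (p : ℕ) : Prop := ∃ (x a y : G) (L : Subgroup G), IsTriple x a L ∧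
  y ∈ core (centralizer ({x} : Set G)) ∧ y ∈ L ∧ (∃ n, y ^ p ^ n = 1) ∧ ¬ Fixes y L

variable [Finite G]

theorem odd_act {x a d : G} {L : Subgroup G} (T : IsTriple x a L)
    (hd : d ∈ core (centralizer ({x} : Set G))) (hda : d ∈ centralizer ({a} : Set G)) :
    Odd (orderOf (act L ⟨d, T.mem_normalizer_of_core hd hda⟩)) := by
  have hdL := T.mem_normalizer_of_core hd hda
  have h3 : orderOf (act L ⟨d, hdL⟩) ∣ orderOf (⟨d, hdL⟩ : ↥(normalizer (L : Set G))) :=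
    orderOf_map_dvd _ _
  rw [Subgroup.orderOf_mk] at h3
  refine Odd.of_dvd_nat ?_ h3
  have h4 := orderOf_dvd_natCard (⟨d, hd⟩ : ↥(core (centralizer ({x} : Set G))))
  rw [Subgroup.orderOf_mk] at h4
  exact Odd.of_dvd_nat (odd_card_core _) h4

/-- from `z ∈ L ∩ O(C(x))` acting as conjugation by the `s`-element `w ≠ 1` to an `s`-element -/
theorem exists_part {x z : G} {L : Subgroup G} {s : ℕ} (hs : s.Prime)
    (hz : z ∈ core (centralizer ({x} : Set G))) (hzL : z ∈ L) {n : ℕ}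
    (hw : (QuotientGroup.mk ⟨z, hzL⟩ : ↥L ⧸ oddCore ↥L) ^ s ^ n = 1)
    (hf : ¬ Fixes z L) :
    ∃ y ∈ core (centralizer ({x} : Set G)), y ∈ L ∧ (∃ n, y ^ s ^ n = 1) ∧ ¬ Fixes y L := by
  have hz0 : orderOf z ≠ 0 := (orderOf_pos z).ne'
  obtain ⟨m, hm⟩ : ∃ m, m = orderOf z / s ^ (orderOf z).factorization s := ⟨_, rfl⟩
  have hmul : s ^ (orderOf z).factorization s * m = orderOf z := hm ▸ Nat.ordProj_mul_ordCompl_eq_self _ _
  have hcop : Nat.Coprime s m := hm ▸ Nat.coprime_ordCompl hs hz0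
  refine ⟨z ^ m, pow_mem hz _, pow_mem hzL _, ⟨(orderOf z).factorization s, ?_⟩, fun h => hf ?_⟩
  · rw [← pow_mul, mul_comm, hmul, pow_orderOf_eq_one]
  · -- `z` is a power of `z ^ m` modulo elements fixing `L`
    have h1 : Nat.Coprime (s ^ n) m := Nat.Coprime.pow_left n hcop
    have h2 := (act_eq_one_iff (le_normalizer (pow_mem hzL m))).mpr h
    have hzn : act L ⟨z, le_normalizer hzL⟩ ^ m = 1 := by
      rw [← map_pow]; exact h2
    have hzs : act L ⟨z, le_normalizer hzL⟩ ^ s ^ n = 1 := by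
      rw [act_of_mem hzL, ← map_pow, hw, map_one]
    have h3 : orderOf (act L ⟨z, le_normalizer hzL⟩) ∣ 1 := by
      rw [← h1]
      exact Nat.dvd_gcd (orderOf_dvd_of_pow_eq_one hzs) (orderOf_dvd_of_pow_eq_one hzn)
    exact (act_eq_one_iff (le_normalizer hzL)).mp (orderOf_eq_one_iff.mp (Nat.dvd_one.mp h3))

section world

variable (H : Pgl G)

include H

/-- the commutator with a lift of a fixed point of `x` -/
theorem exists_comm {x a d : G} {L : Subgroup G} (T : IsTriple x a L)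
    (hd : d ∈ core (centralizer ({x} : Set G))) (hda : d ∈ centralizer ({a} : Set G))
    {k : ↥L ⧸ oddCore ↥L} (hk : act L ⟨x, T.x_mem⟩ k = k)
    (hdk : act L ⟨d, T.mem_normalizer_of_core hd hda⟩ k ≠ k) :
    ∃ (z : G) (hz : z ∈ L), z ∈ core (centralizer ({x} : Set G)) ∧ ¬ Fixes z L ∧
      (QuotientGroup.mk ⟨z, hz⟩ : ↥L ⧸ oddCore ↥L) =
        act L ⟨d, T.mem_normalizer_of_core hd hda⟩ k * k⁻¹ := by
  have hdL := T.mem_normalizer_of_core hd hda
  obtain ⟨F, _, _, -, R, ho⟩ := H.exists_rep T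
  obtain ⟨c, hc, hcx, rfl⟩ := exists_lift T hk
  have hdc : d * c * d⁻¹ ∈ L := conj_mem hdL hc
  have hz : d * c * d⁻¹ * c⁻¹ ∈ L := mul_mem hdc (inv_mem hc)
  have heq : (QuotientGroup.mk ⟨d * c * d⁻¹ * c⁻¹, hz⟩ : ↥L ⧸ oddCore ↥L) =
      act L ⟨d, hdL⟩ (QuotientGroup.mk ⟨c, hc⟩) * (QuotientGroup.mk ⟨c, hc⟩)⁻¹ := rfl
  refine ⟨d * c * d⁻¹ * c⁻¹, hz, ?_, fun h => hdk ?_, heq⟩
  · have e : d * c * d⁻¹ * c⁻¹ = d * (c * d⁻¹ * c⁻¹) := by group
    rw [e]
    exact mul_mem hd (conj_core (mem_c hcx) (inv_mem hd))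
  · have h1 := (act_eq_one_iff (le_normalizer hz)).mpr h
    rw [act_of_mem hz] at h1
    have h2 : (QuotientGroup.mk ⟨d * c * d⁻¹ * c⁻¹, hz⟩ : ↥L ⧸ oddCore ↥L) = 1 :=
      R.conj_injective (by rw [h1, map_one])
    rw [heq, mul_inv_eq_one] at h2
    exact h2

/-- **(hinv) of `CoreFree.Hyp.isMax_mul`**, all `q` -/
theorem hinv {x a d : G} {L : Subgroup G} (T : IsTriple x a L)
    (hd : d ∈ core (centralizer ({x} : Set G))) (hda : d ∈ centralizer ({a} : Set G))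
    (hf : ¬ Fixes d L) : ∃ k ∈ L, k * x = x * k ∧ ¬ Fixes ⁅d, k⁆ L := by
  have hdL := T.mem_normalizer_of_core hd hda
  obtain ⟨F, _, _, -, R, ho⟩ := H.exists_rep T
  obtain ⟨k, hk, hδk⟩ := L2Fact.exists_moved R (act_sq T) ho (odd_act T hd hda)
    (fun h => hf ((act_eq_one_iff hdL).mp h)) (act_comm hdL T.x_mem (comm_c (core_le _ hd)))
  obtain ⟨c, hc, hcx, rfl⟩ := exists_lift T hk
  have hz : d * c * d⁻¹ * c⁻¹ ∈ L := mul_mem (conj_mem hdL hc) (inv_mem hc)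
  have heq : (QuotientGroup.mk ⟨d * c * d⁻¹ * c⁻¹, hz⟩ : ↥L ⧸ oddCore ↥L) =
      act L ⟨d, hdL⟩ (QuotientGroup.mk ⟨c, hc⟩) * (QuotientGroup.mk ⟨c, hc⟩)⁻¹ := rfl
  refine ⟨c, hc, hcx, fun h => hδk ?_⟩
  rw [commutatorElement_def] at h
  have h1 := (act_eq_one_iff (le_normalizer hz)).mpr h
  rw [act_of_mem hz] at h1
  have h2 : (QuotientGroup.mk ⟨d * c * d⁻¹ * c⁻¹, hz⟩ : ↥L ⧸ oddCore ↥L) = 1 :=
    R.conj_injective (by rw [h1, map_one])
  rw [heq, mul_inv_eq_one] at h2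
  exact h2

/-- **The CLAIM of #10928**: if `p` is the largest prime with `InnAt G p`, all `p`-elements are tame. -/
theorem tame_of_max {p : ℕ} (hp : p.Prime) (hmax : ∀ s : ℕ, s.Prime → InnAt G s → s ≤ p) {y : G}
    (hyp : ∃ n, y ^ p ^ n = 1) : Tame y := by
  intro x a L T hy hya
  have hyL := T.mem_normalizer_of_core hy hya
  obtain ⟨F, _, _, -, R, ho⟩ := H.exists_rep T
  have hodd := odd_act T hy hya
  have hc : act L ⟨y, hyL⟩ * act L ⟨x, T.x_mem⟩ = act L ⟨x, T.x_mem⟩ * act L ⟨y, hyL⟩ :=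
    act_comm hyL T.x_mem (comm_c (core_le _ hy))
  by_cases hf : R.fld (act L ⟨y, hyL⟩) = 1
  · obtain ⟨r, hr⟩ := R.mem_inn_iff.2 ⟨hf, L2Fact.o1_of_odd R hodd⟩
    obtain ⟨⟨r, hrL⟩, rfl⟩ := QuotientGroup.mk_surjective r
    refine ⟨r, hrL, ?_⟩
    rw [← act_eq_iff hyL (le_normalizer hrL), act_of_mem hrL]
    exact hr.symm
  · exfalso
    obtain ⟨n, hn⟩ := hyp
    have hδ : act L ⟨y, hyL⟩ ^ p ^ n = 1 := by
      rw [← map_pow]
      have : (⟨y, hyL⟩ : ↥(normalizer (L : Set G))) ^ p ^ n = 1 := Subtype.ext hn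
      rw [this, map_one]
    have hp2 : p ≠ 2 := by
      rintro rfl
      apply hf
      have h1 : act L ⟨y, hyL⟩ = 1 := by
        have h2 := orderOf_dvd_of_pow_eq_one hδ
        have h3 : Nat.Coprime (orderOf (act L ⟨y, hyL⟩)) (2 ^ n) :=
          Nat.Coprime.pow_right n (Nat.coprime_two_right.mpr hodd)
        have h4 := Nat.dvd_gcd dvd_rfl h2
        rw [h3] at h4
        exact orderOf_eq_one_iff.mp (Nat.dvd_one.mp h4)
      rw [h1, map_one]
    obtain ⟨s, hs, hps, t, ht, hδt, m, hm⟩ :=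
      FieldOdd.exists_larger R (act_sq T) ho hp hp2 ⟨n, hδ⟩ hf hc
    obtain ⟨z, hz, hzx, hzf, hzt⟩ := exists_comm H T hy hya ht hδt
    obtain ⟨w, hwx, hwL, hws, hwf⟩ := exists_part hs hzx hz (n := m) (by rw [hzt]; exact hm) hzf
    exact absurd (hmax s hs ⟨x, a, w, L, T, hwx, hwL, hws, hwf⟩) (by omega)

/-- **A tame `p`-element moving `L` may be chosen in `L`.** -/
theorem exists_y_of {x a y : G} {L : Subgroup G} (T : IsTriple x a L) (hty : Tame y)
    (hy : y ∈ core (centralizer ({x} : Set G))) (hya : y ∈ centralizer ({a} : Set G))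
    (hf : ¬ Fixes y L) {p : ℕ} (hp : p.Prime) (hyp : ∃ n, y ^ p ^ n = 1) :
    ∃ y' ∈ core (centralizer ({x} : Set G)), y' ∈ L ∧ (∃ n, y' ^ p ^ n = 1) ∧ ¬ Fixes y' L := by
  have hyL := T.mem_normalizer_of_core hy hya
  obtain ⟨F, _, _, -, R, ho⟩ := H.exists_rep T
  obtain ⟨b, hb1, hbo, hbx, hyb⟩ := H.exists_b T (hty T hy hya) hy hya hf
  have hodd := odd_act T hy hya
  obtain ⟨k, hk, hδk⟩ := L2Fact.exists_moved R (act_sq T) ho hodd
    (fun h => hf ((act_eq_one_iff hyL).mp h)) (act_comm hyL T.x_mem (comm_c (core_le _ hy)))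
  obtain ⟨z, hz, hzx, hzf, hzk⟩ := exists_comm H T hy hya hk hδk
  -- `z = b (k b⁻¹ k⁻¹)` is a `p`-element
  obtain ⟨n, hn⟩ := hyp
  have hbn : b ^ p ^ n = 1 := by
    apply R.conj_injective
    rw [map_pow, ← hyb, ← map_pow, map_one]
    have : (⟨y, hyL⟩ : ↥(normalizer (L : Set G))) ^ p ^ n = 1 := Subtype.ext hn
    rw [this, map_one]
  have hcomm : Commute b (k * b⁻¹ * k⁻¹) := by
    obtain ⟨hP, hI⟩ := PglType.pgl_of R (act_sq T) ho
    obtain ⟨g, hg⟩ := R.mem_PGL.1 hP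
    have htr := R.tr_of_inv (by rw [← hg]; exact PglType.ne_one R ho) (by rw [← hg]; exact act_sq T)
    have hmemT : ∀ c : ↥L ⧸ oddCore ↥L, act L ⟨x, T.x_mem⟩ c = c → Odd (orderOf c) →
        c ∈ OddCyclic.PGLTorus.Cp R g := by
      intro c hc hco
      rw [hg] at hc
      rcases OddCyclic.PGLTorus.mem_Cp_or_sq R hc with h3 | h3
      · exact h3
      · rw [PglType.eq_one_of_odd_sq h3 hco]
        exact one_mem _
    have h1 := hmemT b hbx hbo
    have h2 := hmemT (k * b⁻¹ * k⁻¹) (by rw [map_mul, map_mul, map_inv, map_inv, hbx, hk]) (by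
      have : orderOf (k * b⁻¹ * k⁻¹) = orderOf b := by
        rw [← MulAut.conj_apply, MulEquiv.orderOf_eq, orderOf_inv]
      rw [this]; exact hbo)
    have h3 := OddCyclic.PGLTorus.Tor_comm R htr (OddCyclic.PGLTorus.mem_Cp R |>.mp h1)
      (OddCyclic.PGLTorus.mem_Cp R |>.mp h2)
    rw [← map_mul, ← map_mul] at h3
    exact R.conj_injective h3
  obtain ⟨w, hwx, hwL, hws, hwf⟩ := exists_part hp hzx hz (n := n) (by
    rw [hzk, hyb, MulAut.conj_apply]
    have e : b * k * b⁻¹ * k⁻¹ = b * (k * b⁻¹ * k⁻¹) := by group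
    rw [e, hcomm.mul_pow, hbn, one_mul, ← MulAut.conj_apply, ← map_pow, inv_pow, hbn, inv_one,
      map_one]) hzf
  exact ⟨w, hwx, hwL, hws, hwf⟩

/-- **The choice of the prime `p`.** -/
theorem exists_max (hT : ∃ (x a : G) (L : Subgroup G), IsTriple x a L) :
    ∃ p : ℕ, p.Prime ∧ InnAt G p ∧ ∀ y : G, (∃ n, y ^ p ^ n = 1) → Tame y := by
  -- existence
  have h1 : ∃ p : ℕ, p.Prime ∧ InnAt G p := by
    obtain ⟨x, a, L, T⟩ := hT
    obtain ⟨F, _, _, -, R, ho⟩ := H.exists_rep T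
    obtain ⟨y, hyx, hyL, hyf⟩ := H.exists_y T
    obtain ⟨δ, hδ⟩ : ∃ δ, δ = act L ⟨y, le_normalizer hyL⟩ := ⟨_, rfl⟩
    have hδ1 : orderOf δ ≠ 1 := fun h => hyf
      ((act_eq_one_iff (le_normalizer hyL)).mp (by rw [← hδ]; exact orderOf_eq_one_iff.mp h))
    obtain ⟨p, hp, hpd⟩ := Nat.exists_prime_and_dvd hδ1
    have hy0 : orderOf y ≠ 0 := (orderOf_pos y).ne'
    obtain ⟨m, hm⟩ : ∃ m, m = orderOf y / p ^ (orderOf y).factorization p := ⟨_, rfl⟩
    have hmul : p ^ (orderOf y).factorization p * m = orderOf y :=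
      hm ▸ Nat.ordProj_mul_ordCompl_eq_self _ _
    have hcop : Nat.Coprime p m := hm ▸ Nat.coprime_ordCompl hp hy0
    refine ⟨p, hp, x, a, y ^ m, L, T, pow_mem hyx _, pow_mem hyL _,
      ⟨(orderOf y).factorization p, ?_⟩, fun h => ?_⟩
    · rw [← pow_mul, mul_comm, hmul, pow_orderOf_eq_one]
    · have h2 := (act_eq_one_iff (le_normalizer (pow_mem hyL m))).mpr h
      have h3 : δ ^ m = 1 := by
        rw [hδ, ← map_pow]; exact h2
      have h4 := hpd.trans (orderOf_dvd_of_pow_eq_one h3)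
      have h5 : p ∣ 1 := by
        rw [← hcop]
        exact Nat.dvd_gcd dvd_rfl h4
      exact hp.one_lt.ne' (Nat.dvd_one.mp h5)
  -- boundedness
  have h2 : ∀ s : ℕ, s.Prime → InnAt G s → s ≤ Nat.card G := by
    rintro s hs ⟨x, a, y, L, T, -, -, ⟨n, hn⟩, hf⟩
    have h3 : y ≠ 1 := by
      rintro rfl
      exact hf (fixes_one L)
    obtain ⟨k, -, hk⟩ := (Nat.dvd_prime_pow hs).mp (orderOf_dvd_of_pow_eq_one hn)
    have hk0 : k ≠ 0 := by
      rintro rfl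
      exact h3 (orderOf_eq_one_iff.mp (by rw [hk, pow_zero]))
    have h4 : s ∣ Nat.card G := (dvd_pow_self s hk0).trans (hk ▸ orderOf_dvd_natCard y)
    exact Nat.le_of_dvd Nat.card_pos h4
  classical
  obtain ⟨p₀, hp₀, hi₀⟩ := h1
  have h3 := Nat.findGreatest_spec (P := fun s => s.Prime ∧ InnAt G s) (h2 p₀ hp₀ hi₀) ⟨hp₀, hi₀⟩
  refine ⟨_, h3.1, h3.2, fun y hy => tame_of_max H h3.1 (fun s hs hi => ?_) hy⟩
  exact Nat.le_findGreatest (h2 s hs hi) ⟨hs, hi⟩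

omit [Finite G] H in
/-- all triples have type `PSL(2,F)`, `5 ≤ |F| ≤ 9` -/
def Small9 (G : Type u) [Group G] : Prop := ∀ {x a : G} {L : Subgroup G}, IsTriple x a L →
  ∃ (F : Type) (_ : Field F) (_ : Finite F), 5 ≤ Nat.card F ∧ Nat.card F ≤ 9 ∧
    Nonempty (Cfsg.Agent.GH.L2Aut.Rep F (↥L ⧸ oddCore ↥L))

omit H [Finite G] in
theorem Small9.small (S : Small9 G) : KFacts.Small G := by
  intro x a L T
  obtain ⟨F, i1, i2, -, h, hR⟩ := S T
  exact ⟨F, i1, i2, by omega, hR⟩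

/-- for `|F| ≤ 9` the elements of `O(C(x)) ∩ C(a)` act as elements of the torus -/
theorem exists_tor (S : Small9 G) {x a d : G} {L : Subgroup G} (T : IsTriple x a L)
    (hd : d ∈ core (centralizer ({x} : Set G))) (hda : d ∈ centralizer ({a} : Set G)) :
    ∃ b : ↥L ⧸ oddCore ↥L, Odd (orderOf b) ∧ act L ⟨x, T.x_mem⟩ b = b ∧
      act L ⟨d, T.mem_normalizer_of_core hd hda⟩ = MulAut.conj b := by
  by_cases hf : Fixes d L
  · refine ⟨1, ?_, map_one _, ?_⟩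
    · rw [orderOf_one]; exact odd_one
    · rw [map_one]
      exact (act_eq_one_iff _).mpr hf
  · obtain ⟨b, -, h1, h2, h3⟩ := H.exists_b T (KFacts.Small.tame (Small9.small S) d T hd hda) hd hda hf
    exact ⟨b, h1, h2, h3⟩

/-- **`RAb`** -/
theorem Small9.rab (S : Small9 G) : RAb G where
  comm := by
    intro x a d d' L T hd hda hd' hda'
    have hdL := T.mem_normalizer_of_core hd hda
    have hdL' := T.mem_normalizer_of_core hd' hda'
    obtain ⟨b, hbo, hbx, hb⟩ := exists_tor H S T hd hda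
    obtain ⟨b', hbo', hbx', hb'⟩ := exists_tor H S T hd' hda'
    obtain ⟨F, _, _, -, R, ho⟩ := H.exists_rep T
    obtain ⟨hP, hI⟩ := PglType.pgl_of R (act_sq T) ho
    obtain ⟨g, hg⟩ := R.mem_PGL.1 hP
    have htr := R.tr_of_inv (by rw [← hg]; exact PglType.ne_one R ho) (by rw [← hg]; exact act_sq T)
    have hmemT : ∀ c : ↥L ⧸ oddCore ↥L, act L ⟨x, T.x_mem⟩ c = c → Odd (orderOf c) →
        c ∈ OddCyclic.PGLTorus.Cp R g := by
      intro c hc hco
      rw [hg] at hc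
      rcases OddCyclic.PGLTorus.mem_Cp_or_sq R hc with h3 | h3
      · exact h3
      · rw [PglType.eq_one_of_odd_sq h3 hco]
        exact one_mem _
    have h3 : act L ⟨d, hdL⟩ * act L ⟨d', hdL'⟩ = act L ⟨d', hdL'⟩ * act L ⟨d, hdL⟩ := by
      rw [hb, hb']
      exact OddCyclic.PGLTorus.Tor_comm R htr (OddCyclic.PGLTorus.mem_Cp R |>.mp (hmemT b hbx hbo))
        (OddCyclic.PGLTorus.mem_Cp R |>.mp (hmemT b' hbx' hbo'))
    have hm : ⁅d, d'⁆ ∈ normalizer (L : Set G) := by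
      rw [commutatorElement_def]
      exact mul_mem (mul_mem (mul_mem hdL hdL') (inv_mem hdL)) (inv_mem hdL')
    rw [← act_eq_one_iff hm]
    have h4 : (⟨⁅d, d'⁆, hm⟩ : ↥(normalizer (L : Set G))) =
        ⁅(⟨d, hdL⟩ : ↥(normalizer (L : Set G))), (⟨d', hdL'⟩ : ↥(normalizer (L : Set G)))⁆ :=
      Subtype.ext rfl
    rw [h4, map_commutatorElement, commutatorElement_eq_one_iff_mul_comm]
    exact h3
  exp := by
    intro x a d L T hd hda
    have hdL := T.mem_normalizer_of_core hd hda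
    obtain ⟨b, hbo, hbx, hb⟩ := exists_tor H S T hd hda
    obtain ⟨F, _, _, h5, h9, hR⟩ := S T
    obtain ⟨R⟩ := hR
    have ho := o1_act T (H x a L T).2 R
    have h6 := PGLFacts.pow_fifteen R h9 h5 (act_sq T) ho hbx hbo
    have hm : d ^ 15 ∈ normalizer (L : Set G) := pow_mem hdL _
    rw [← act_eq_one_iff hm]
    have h4 : (⟨d ^ 15, hm⟩ : ↥(normalizer (L : Set G))) = ⟨d, hdL⟩ ^ 15 := Subtype.ext rfl
    rw [h4, map_pow, hb, ← map_pow, h6, map_one]

end world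

end Cfsg.Agent.UGT.Res.Supply
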