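import Cfsg.Agent.UGT.Res.YJP
import Cfsg.Agent.UGT.Res.TwoSup

/-!
# `W` of a configuration and of a `TF`

`tconf`: a configuration `Conf x a L₁ L₂ F F₁` gives `TF x₀ e t L` with `W_{⟨e⟩B} = W_{F F₁}` for a four-group
`B ≤ L`.
-/

set_option autoImplicit false
set_option linter.unusedSectionVars false

open Cfsg Subgroup
open Cfsg.Agent.SignalizersComponents Cfsg.Agent.Lib
open Cfsg.Agent.SignalizersComponents.IntrinsicBasic
open Cfsg.Agent.SignalizersComponents.PLayerAut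
open Cfsg.Agent.Intrinsic.Basic Cfsg.Agent.Intrinsic.Cen Cfsg.Agent.Intrinsic.Diag
open Cfsg.Agent.McLLyComp.Act
open Cfsg.Agent.UGT.Triple Cfsg.Agent.UGT.LemG Cfsg.Agent.UGT.PumpGen Cfsg.Agent.UGT.TriBase
open Cfsg.Agent.UGT.Res.Base Cfsg.Agent.UGT.Res.KFacts Cfsg.Agent.UGT.Res.WFun
open Cfsg.Agent.UGT.Res.CoreFree Cfsg.Agent.UGT.Res.CovTools
open Cfsg.Agent.UGT.Res.TFour Cfsg.Agent.UGT.Res.TwoSup
open scoped commutatorElement

namespace Cfsg.Agent.UGT.Res.TConf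

universe u

variable {G : Type u} [Group G] [Finite G]

/-- two involutions of `F ∩ L₂` -/
theorem exists_sf (P : Pgl G) {x a : G} {L₁ L₂ F F₁ : Subgroup G} (C : Conf x a L₁ L₂ F F₁) :
    ∃ s f : G, s ∈ F ∧ s ∈ L₂ ∧ orderOf s = 2 ∧ f ∈ F ∧ f ∈ L₂ ∧ orderOf f = 2 ∧ f ≠ s ∧
      s * f = f * s := by
  have haa := sq_of_order C.T₂.inva
  have haL : a ∉ L₂ := fun h =>
    ne_one_of_order C.T₂.inva (WGlueA.simp_of P C.T₂ a h haa (fixes_self' C.T₂.comp.le))
  have ha1 := ne_one_of_order C.T₂.inva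
  -- an element of `F` outside a subgroup of order 4
  have key : ∀ U : Subgroup G, Nat.card ↥U ≤ 4 → a ∈ U → ∃ s ∈ F, s ∈ L₂ ∧ s ∉ U := by
    intro U hU haU
    obtain ⟨u, hu, huU⟩ : ∃ u ∈ F, u ∉ U := by
      by_contra hcon
      push Not at hcon
      have h1 := Subgroup.card_le_of_le (H := F) (K := U) hcon
      have h2 := C.card
      omega
    rcases C.or u hu with h | h
    · exact ⟨u, hu, h, huU⟩
    · refine ⟨a * u, mul_mem C.aF hu, h, fun h1 => huU ?_⟩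
      have h2 := U.mul_mem (U.inv_mem haU) h1
      rwa [inv_mul_cancel_left] at h2
  obtain ⟨s, hs, hsL, hs1⟩ := key (zpowers a) (by rw [Nat.card_zpowers, C.T₂.inva]; norm_num)
    (mem_zpowers a)
  have hs1' : s ≠ 1 := fun h => hs1 (h ▸ one_mem _)
  have hso := order_of_el C.el hs hs1'
  have hsa : a ≠ s := fun h => hs1 (h ▸ mem_zpowers a)
  obtain ⟨f, hf, hfL, hf1⟩ := key (zpowers a ⊔ zpowers s)
    (WGlueA.card_four C.T₂.inva hso hsa (comm_of_el C.el C.aF hs)).le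
    (mem_sup_left (mem_zpowers a))
  have hf1' : f ≠ 1 := fun h => hf1 (h ▸ one_mem _)
  exact ⟨s, f, hs, hsL, hso, hf, hfL, order_of_el C.el hf hf1',
    fun h => hf1 (by rw [h]; exact mem_sup_right (mem_zpowers s)), comm_of_el C.el hs hf⟩

/-- **W-tracking** -/
theorem tconf (P : Pgl G) (TB : TwoBal G) {x a : G} {L₁ L₂ F F₁ : Subgroup G}
    (C : Conf x a L₁ L₂ F F₁) : ∃ (x₀ e t : G) (L B : Subgroup G), TF x₀ e t L ∧ B ≤ L ∧
      (∀ b ∈ B, b * b = 1) ∧ Nat.card ↥B = 4 ∧ Wd (zpowers e ⊔ B) = Wd (F ⊔ F₁) := by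
  obtain ⟨s, f, hsF, hs, hso, hfF, hf, hfo, hfs, hsf⟩ := exists_sf P C
  obtain ⟨s₂, hs₂, hs₂o, hs₂x⟩ := TwoFacts.exists_s P C.T₂
  obtain ⟨l, hl, hls⟩ := inv_conj P C.T₂ hs₂ hs hs₂o hso
  have haa := sq_of_order C.T₂.inva
  have hla : l * a * l⁻¹ = a := by rw [comm_c (C.T₂.comp.le hl), mul_inv_cancel_right]
  have T₁ : IsTriple (l * x * l⁻¹) a L₁ := by
    have h1 := C.T₁.cj l
    rwa [hla, mem_normalizer_iff_cj.mp (C.T₁.comp.fixes_of_mem C.T₂.comp C.ne hl).1] at h1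
  have T₂ : IsTriple (l * x * l⁻¹) a L₂ := by
    have h1 := C.T₂.cj l
    rwa [hla, cj_eq_self_of_mem hl] at h1
  have hsx : s * (l * x * l⁻¹) = l * x * l⁻¹ * s := by
    calc s * (l * x * l⁻¹) = l * s₂ * l⁻¹ * (l * x * l⁻¹) := by rw [hls]
      _ = l * (s₂ * x) * l⁻¹ := by group
      _ = l * (x * s₂) * l⁻¹ := by rw [hs₂x]
      _ = l * x * l⁻¹ * (l * s₂ * l⁻¹) := by group
      _ = _ := by rw [hls]
  -- `F` fixes `L₁`
  have hFL : ∀ u ∈ F, Fixes u L₁ := by
    intro u hu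
    have h0 : Fixes a L₁ := fixes_self' C.T₁.comp.le
    rcases C.or u hu with h | h
    · exact C.T₁.comp.fixes_of_mem C.T₂.comp C.ne h
    · have h1 := fixes_mul h0 (C.T₁.comp.fixes_of_mem C.T₂.comp C.ne h)
      rwa [← mul_assoc, haa, one_mul] at h1
  have hinf : ∀ U : Subgroup G, U ≤ F → U ⊓ F₁ = ⊥ := by
    intro U hU
    rw [eq_bot_iff]
    rintro g ⟨h1, h2⟩
    rw [mem_bot]
    exact WGlueA.simp_of P C.T₁ g (C.le h2) (sq_of_el C.el₁ h2) (hFL g (hU h1))
  have elE : IsElementaryAbelian 2 (F ⊔ F₁ : Subgroup G) := el_sup C.el C.el₁ C.comm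
  have hcard : ∀ U : Subgroup G, U ≤ F → Nat.card ↥U * 4 ≤ Nat.card ↥(U ⊔ F₁ : Subgroup G) := by
    intro U hU
    have h1 := card_mul_le_sup (hinf U hU)
    rwa [C.card₁] at h1
  have h16 : 16 ≤ Nat.card ↥(F ⊔ F₁ : Subgroup G) := by
    have h1 := hcard F le_rfl
    have h2 := C.card
    omega
  rcases exists_data P T₁ T₂ C.ne hs hso hsx hf hfo hfs hsf with
    h | ⟨x₀, e, v, s₀, N, he, hv, D, hvf, hvf', h⟩
  · -- trivial
    refine ⟨_, _, _, _, F₁, h, C.le, fun b hb => sq_of_el C.el₁ hb, C.card₁, ?_⟩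
    have h1 := hcard (zpowers a) (zpowers_le.mpr C.aF)
    rw [Nat.card_zpowers, C.T₂.inva] at h1
    exact Wd_eq TB elE h16 (sup_le_sup_right (zpowers_le.mpr C.aF) _) h1
  · -- diagonal
    have Te := h.T
    have hN' := Te.comp
    have hee := sq_of_order Te.inva
    have haL : a ∉ L₂ := fun h =>
      ne_one_of_order C.T₂.inva (WGlueA.simp_of P C.T₂ a h haa (fixes_self' C.T₂.comp.le))
    have heF : e ∈ F := by
      rcases he with rfl | rfl
      · exact hsF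
      · exact mul_mem C.aF hsF
    have hvF : v ∈ F := by
      rcases hv with rfl | rfl
      · exact hfF
      · exact mul_mem C.aF hfF
    have hv1 : v ≠ 1 := by
      rcases hv with rfl | rfl
      · exact ne_one_of_order hfo
      · intro h1
        apply haL
        rw [eq_inv_of_mul_eq_one_left h1]
        exact inv_mem hf
    have hvo := order_of_el C.el hvF hv1
    have hvv := sq_of_order hvo
    have hev : e ≠ v := by
      rintro rfl
      rcases he with h1 | h1 <;> rcases hv with h2 | h2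
      · exact hfs (h2.symm.trans h1)
      · apply haL
        have h3 : a = e * f⁻¹ := by rw [h2]; group
        rw [h3, h1]
        exact mul_mem hs (inv_mem hf)
      · apply haL
        have h3 : a = e * s⁻¹ := by rw [h1]; group
        rw [h3, h2]
        exact mul_mem hf (inv_mem hs)
      · exact hfs (mul_left_cancel (h2.symm.trans h1))
    have cve : v * e = e * v := comm_of_el C.el hvF heF
    have haC : a ∈ centralizer ({e} : Set G) := mem_c (comm_of_el C.el C.aF heF)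
    have hvC : v ∈ centralizer ({e} : Set G) := mem_c cve
    obtain ⟨hM, hMs⟩ := isComp_cen hN' hvC hvv hvf'
    obtain ⟨M', hM'⟩ : ∃ M', M' = cen (cj a N) v := ⟨_, rfl⟩
    rw [← hM'] at hM hMs
    have hMN : M' ≤ cj a N := hM' ▸ cen_le _ _
    -- `F₁ ≤ J`
    have hFJ : F₁ ≤ cen (cen L₁ s) f := by
      intro b hb
      have hbb := sq_of_el C.el₁ hb
      have h2 : b ^ 2 ^ 1 = 1 := by rw [pow_one, pow_two]; exact hbb
      exact mem_cen (mem_cen (C.le hb) (C.comm s hsF b hb).symm h2) (C.comm f hfF b hb).symm h2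
    have haJ : ∀ j ∈ cen (cen L₁ s) f, a * j = j * a := fun j hj =>
      (comm_c ((exists_diag D.comp haC haa D.ne).1.le (D.le hj)).2).symm
    have hJN := (D.cov.cj haJ).1
    -- `z`
    obtain ⟨V, hV⟩ : ∃ V, V = zpowers e ⊔ zpowers v := ⟨_, rfl⟩
    have heV : zpowers e ≤ V := hV ▸ le_sup_left
    have hVF : V ≤ F := hV ▸ sup_le (zpowers_le.mpr heF) (zpowers_le.mpr hvF)
    have hV4 : Nat.card ↥V = 4 := hV ▸ WGlueA.card_four Te.inva hvo hev cve.symm
    have elV := el_mono C.el hVF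
    have hQE : V ⊔ F₁ ≤ F ⊔ F₁ := sup_le_sup_right hVF _
    have elQ := el_mono elE hQE
    have hQn : V ⊔ F₁ ≤ normalizer (M' : Set G) := by
      rw [hM', hV]
      refine sup_le (sup_le (zpowers_le.mpr ?_) (zpowers_le.mpr ?_)) fun b hb => ?_
      · exact mem_normalizer_cen (fixes_self' (t := e) hN'.le).1 cve.symm
      · exact mem_normalizer_cen hvf'.1 rfl
      · exact mem_normalizer_cen (hJN (hFJ hb)) (C.comm v hvF b hb).symm
    obtain ⟨z, hz, hzo, hzQ⟩ := YJP.exists_fix hM (isPGroup_of_el elQ) hQn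
    have hzz := sq_of_order hzo
    have hzN := hMN hz
    -- `c`
    obtain ⟨K, _, _, -, R, -⟩ := P.exists_rep Te
    have hzb2 : (QuotientGroup.mk ⟨z, hzN⟩ : ↥(cj a N) ⧸ oddCore ↥(cj a N)) *
        QuotientGroup.mk ⟨z, hzN⟩ = 1 := by
      rw [← QuotientGroup.mk_mul]
      have : (⟨z, hzN⟩ : ↥(cj a N)) * ⟨z, hzN⟩ = 1 := Subtype.ext hzz
      rw [this]
      rfl
    have hzb1 : (QuotientGroup.mk ⟨z, hzN⟩ : ↥(cj a N) ⧸ oddCore ↥(cj a N)) ≠ 1 := fun h1 =>
      ne_one_of_order hzo (eq_one_of_mem_core_sq ((mk_eq_one_iff hzN).mp h1) hzz)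
    obtain ⟨fb, hfb2, hfb1, hfbz, hzfb⟩ := TT.PGLSolv.four R hzb2 hzb1
    obtain ⟨c, hcM, hcN, hzc, hcc, hcb⟩ := WGlueA.lift_inv hMs hzz (le_normalizer hz)
      (le_normalizer hzN) (k := fb) (by
        rw [act_of_mem hzN, MulAut.conj_apply, hzfb, mul_inv_cancel_right]) hfb2
    have hc1 : c ≠ 1 := by
      rintro rfl
      exact hfb1 (hcb ▸ rfl)
    have hco : orderOf c = 2 := orderOf_eq_prime (by rw [pow_two]; exact hcc) hc1
    have hcz : z ≠ c := by
      rintro rfl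
      exact hfbz hcb.symm
    obtain ⟨A, hA⟩ : ∃ A, A = zpowers z ⊔ zpowers c := ⟨_, rfl⟩
    have hzA : zpowers z ≤ A := hA ▸ le_sup_left
    have hA4 : Nat.card ↥A = 4 := hA ▸ WGlueA.card_four hzo hco hcz hzc
    have elA : IsElementaryAbelian 2 A := by
      rw [hA]
      refine el_sup (el_zpowers hzz) (el_zpowers hcc) fun e he g hg => ?_
      rcases (mem_zpowers_of_sq hzz).mp he with rfl | rfl
      · rw [one_mul, mul_one]
      · rcases (mem_zpowers_of_sq hcc).mp hg with rfl | rfl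
        · rw [one_mul, mul_one]
        · exact hzc
    have hAM : A ≤ M' := hA ▸ sup_le (zpowers_le.mpr hz) (zpowers_le.mpr hcM)
    have hAN := hAM.trans hMN
    -- `V` acts trivially, `A` faithfully
    have hVfix : V ≤ fix F (cj a N) := by
      rw [hV]
      exact sup_le (zpowers_le.mpr ⟨heF, fixes_self' hN'.le⟩) (zpowers_le.mpr ⟨hvF, hvf'⟩)
    have hinf2 : ∀ U A₀ : Subgroup G, U ≤ V → A₀ ≤ A → U ⊓ A₀ = ⊥ := by
      intro U A₀ hU hA₀
      rw [eq_bot_iff]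
      rintro g ⟨h1, h2⟩
      rw [mem_bot]
      exact WGlueA.simp_of P Te g (hAN (hA₀ h2)) (sq_of_el elA (hA₀ h2)) (hVfix (hU h1)).2
    have hVA : ∀ u ∈ V, ∀ b ∈ A, u * b = b * u := by
      intro u hu b hb
      have h1 : V ≤ centralizer ({b} : Set G) := by
        rw [hV]
        exact sup_le (zpowers_le.mpr (mem_c (comm_c (hN'.le (hAN hb))).symm))
          (zpowers_le.mpr (mem_c (comm_of_mem_cen (hM' ▸ hAM hb)).symm))
      exact comm_c (h1 hu)
    have el₃ : IsElementaryAbelian 2 (V ⊔ A : Subgroup G) := el_sup elV elA hVA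
    have el₂ : IsElementaryAbelian 2 (V ⊔ F₁ ⊔ zpowers z : Subgroup G) := by
      refine el_sup elQ (el_zpowers hzz) fun u hu g hg => ?_
      rcases (mem_zpowers_of_sq hzz).mp hg with rfl | rfl
      · rw [one_mul, mul_one]
      · exact hzQ u hu
    have k1 := hcard V hVF
    have k2 : Nat.card ↥(V ⊔ F₁ : Subgroup G) ≤ Nat.card ↥(V ⊔ F₁ ⊔ zpowers z : Subgroup G) :=
      Subgroup.card_le_of_le le_sup_left
    have k3 := card_mul_le_sup (hinf2 V (zpowers z) le_rfl hzA)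
    have k4 := card_mul_le_sup (hinf2 V A le_rfl le_rfl)
    have k5 := card_mul_le_sup (hinf2 (zpowers e) A heV le_rfl)
    rw [Nat.card_zpowers, hzo] at k3
    rw [Nat.card_zpowers, Te.inva] at k5
    rw [hV4] at k1 k3 k4
    rw [hA4] at k4 k5
    have w1 := Wd_eq TB elE h16 hQE (by omega)
    have w2 := Wd_eq TB el₂ (by omega) (le_sup_left : V ⊔ F₁ ≤ V ⊔ F₁ ⊔ zpowers z) (by omega)
    have w3 := Wd_eq TB el₂ (by omega) (sup_le_sup_right le_sup_left _ : V ⊔ zpowers z ≤ V ⊔ F₁ ⊔ zpowers z)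
      (by omega)
    have w4 := Wd_eq TB el₃ (by omega) (sup_le_sup_left hzA _ : V ⊔ zpowers z ≤ V ⊔ A) (by omega)
    have w5 := Wd_eq TB el₃ (by omega) (sup_le_sup_right heV _ : zpowers e ⊔ A ≤ V ⊔ A) (by omega)
    refine ⟨_, _, _, _, A, h, hAN, fun b hb => sq_of_el elA hb, hA4, ?_⟩
    rw [w5, ← w4, w3, ← w2, w1]

end Cfsg.Agent.UGT.Res.TConf
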