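import Cfsg.Agent.UGT.Res.WStar
import Cfsg.Agent.UGT.Res.Hon
import Cfsg.Agent.UGT.Res.Gen
import Cfsg.Agent.UGT.A9.LTwoRank

/-!
# The functor in the world `One G`: the local configuration

`T : IsTriple x a L`, `t ≠ a` an involution of `C(a) ∩ C(x)` fixing `L`, `R₀ = ⟨a, t⟩`, `J = cen L t`.

* `exists_fourX`: `FourX x s R₀ A J (tri x)`.
* `comm_core`: LEMMA CK, `[J, O(C(r))] ≤ W_{R₀A}`.
-/

set_option autoImplicit false
set_option linter.unusedSectionVars false

open Cfsg Subgroup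
open Cfsg.Agent.SignalizersComponents Cfsg.Agent.Lib
open Cfsg.Agent.SignalizersComponents.IntrinsicBasic
open Cfsg.Agent.SignalizersComponents.IntrinsicIntr
open Cfsg.Agent.SignalizersComponents.PLayerAut
open Cfsg.Agent.Intrinsic.Basic Cfsg.Agent.Intrinsic.Cen Cfsg.Agent.Intrinsic.Diag
open Cfsg.Agent.McLLyComp.Act
open Cfsg.Agent.UGT.Triple Cfsg.Agent.UGT.LemG Cfsg.Agent.UGT.PumpGen Cfsg.Agent.UGT.TriBase
open Cfsg.Agent.UGT.Res.Base Cfsg.Agent.UGT.Res.KMax Cfsg.Agent.UGT.Res.KOne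
open Cfsg.Agent.UGT.Res.Abel Cfsg.Agent.UGT.Res.CoreFree
open Cfsg.Agent.UGT.Res.KFacts Cfsg.Agent.UGT.Res.Hon
open Cfsg.Agent.UGT.Res.WFun Cfsg.Agent.UGT.Res.WPair Cfsg.Agent.UGT.Res.WStar
open Cfsg.Agent.UGT.Iface Cfsg.Agent.UGT.Nodes
open scoped commutatorElement

namespace Cfsg.Agent.UGT.Res.WGlueA

universe u

variable {G : Type u} [Group G]

/-- the `L` of the triple `(x, r, L)` -/
noncomputable def tri (x r : G) : Subgroup G := by
  classical
  exact if h : ∃ N, IsTriple x r N then h.choose else ⊥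

theorem tri_eq (O : Hon.One G) {x r : G} {N : Subgroup G} (T : IsTriple x r N) : tri x r = N := by
  classical
  have h : ∃ N, IsTriple x r N := ⟨N, T⟩
  have h1 : tri x r = h.choose := by
    unfold tri
    rw [dif_pos h]
  rw [h1]
  exact O h.choose_spec T

variable [Finite G]

section lift

variable {J L : Subgroup G}

/-- lifting fixed points of `v` on `L / O(L)` to a covering subgroup -/
theorem lift_J (hs : J ⊔ core L = L) {v : G} (hv : v * v = 1) (hvJ : v ∈ normalizer (J : Set G))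
    (hvL : v ∈ normalizer (L : Set G)) {k : ↥L ⧸ oddCore ↥L} (hk : act L ⟨v, hvL⟩ k = k) :
    ∃ (c : G) (_ : c ∈ J) (hc : c ∈ L), v * c = c * v ∧ QuotientGroup.mk ⟨c, hc⟩ = k := by
  have hJL : J ≤ L := by rw [← hs]; exact le_sup_left
  obtain ⟨⟨m, hm⟩, rfl⟩ := QuotientGroup.mk_surjective k
  obtain ⟨j, hj, hjm⟩ := exists_mul_of_sup hs hm
  have hmk : (QuotientGroup.mk ⟨m, hm⟩ : ↥L ⧸ oddCore ↥L) = QuotientGroup.mk ⟨j, hJL hj⟩ :=
    ((mk_eq_iff (hJL hj) hm).mpr hjm).symm
  rw [hmk, act_mk hvL (hJL hj)] at hk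
  have h1 := (mk_eq_iff (hJL hj) (conj_mem hvL (hJL hj))).mp hk.symm
  have h2 : j⁻¹ * (v * j * v⁻¹) ∈ core J := by
    rw [core_of_sup hs]
    exact ⟨J.mul_mem (J.inv_mem hj) (conj_mem hvJ hj), h1⟩
  obtain ⟨o, ho, hc⟩ := Intrinsic.Lifting.exists_commute (n := 1) (odd_card_core J)
    (by rw [pow_one, pow_two]; exact hv) (normalizer_le_normalizer_core J hvJ) h2
  have hoJ := core_le J ho
  refine ⟨j * o, mul_mem hj hoJ, mul_mem (hJL hj) (hJL hoJ), hc, ?_⟩
  rw [hmk, mk_eq_iff]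
  have : (j * o)⁻¹ * j = o⁻¹ := by group
  rw [this]
  exact inv_mem (core_le_of_sup hs ho)

/-- the same for involutions -/
theorem lift_inv (hs : J ⊔ core L = L) {v : G} (hv : v * v = 1) (hvJ : v ∈ normalizer (J : Set G))
    (hvL : v ∈ normalizer (L : Set G)) {k : ↥L ⧸ oddCore ↥L} (hk : act L ⟨v, hvL⟩ k = k)
    (hkk : k * k = 1) : ∃ (c : G) (_ : c ∈ J) (hc : c ∈ L), v * c = c * v ∧ c * c = 1 ∧
      QuotientGroup.mk ⟨c, hc⟩ = k := by
  obtain ⟨c, hcJ, hc, hvc, rfl⟩ := lift_J hs hv hvJ hvL hk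
  have h1 : c * c ∈ core J := by
    rw [core_of_sup hs]
    exact ⟨J.mul_mem hcJ hcJ, (mk_eq_one_iff (L.mul_mem hc hc)).mp hkk⟩
  have h2 : c⁻¹ * (v * c * v⁻¹) ∈ core J := by
    rw [hvc]
    have : c⁻¹ * (c * v * v⁻¹) = 1 := by group
    rw [this]
    exact one_mem _
  obtain ⟨o, ho, hsq, hcomm⟩ := Intrinsic.Lifting.exists_involution (n := 1) (odd_card_core J)
    (by rw [pow_one, pow_two]; exact hv) (normalizer_le_normalizer_core J hvJ)
    (le_normalizer_core J hcJ) h1 h2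
  have hoJ := core_le J ho
  have hJL : J ≤ L := by rw [← hs]; exact le_sup_left
  refine ⟨c * o, mul_mem hcJ hoJ, mul_mem hc (hJL hoJ), hcomm, hsq, ?_⟩
  rw [mk_eq_iff]
  have : (c * o)⁻¹ * c = o⁻¹ := by group
  rw [this]
  exact inv_mem (core_le_of_sup hs ho)

/-- modular law -/
theorem le_of_cover (hs : J ⊔ core L = L) {N : Subgroup G} (hc : core J ≤ N)
    (h : ∀ l ∈ L, ∃ n ∈ J ⊓ N, n⁻¹ * l ∈ core L) : J ≤ N := by
  have hJL : J ≤ L := by rw [← hs]; exact le_sup_left
  intro j hj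
  obtain ⟨n, hn, hnj⟩ := h j (hJL hj)
  have h1 : n⁻¹ * j ∈ core J := by
    rw [core_of_sup hs]
    exact ⟨J.mul_mem (J.inv_mem hn.1) hj, hnj⟩
  have h2 := mul_mem hn.2 (hc h1)
  rwa [mul_inv_cancel_left] at h2

/-- the 2-element `g = m c`, `m ∈ S`, `c ∈ N(S)` of odd order, lies in `S` -/
theorem mem_of_pow {S : Subgroup G} {g m c : G} (hg : g = m * c) (hm : m ∈ S)
    (hc : c ∈ normalizer (S : Set G)) (hodd : Odd (orderOf c)) {n : ℕ} (hn : g ^ 2 ^ n = 1) :
    g ∈ S := by
  have hpow : ∀ q : ℕ, g ^ q * (c ^ q)⁻¹ ∈ S := by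
    intro q
    induction q with
    | zero => simp
    | succ q ih =>
      have e : g ^ (q + 1) * (c ^ (q + 1))⁻¹ = (g ^ q * (c ^ q)⁻¹) * (c ^ q * m * (c ^ q)⁻¹) := by
        rw [pow_succ, pow_succ]
        nth_rewrite 2 [hg]
        group
      rw [e]
      exact mul_mem ih (conj_mem (pow_mem hc q) hm)
  have h10 := hpow (orderOf c)
  rw [pow_orderOf_eq_one, inv_one, mul_one] at h10
  have h11 : g ∈ zpowers (g ^ orderOf c) := by
    rw [mem_zpowers_pow_iff]
    have h12 : orderOf g ∣ 2 ^ n := orderOf_dvd_of_pow_eq_one hn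
    exact Nat.Coprime.coprime_dvd_right h12 (Nat.Coprime.pow_right n (Nat.coprime_two_right.mpr hodd))
  exact (zpowers_le.mpr h10) h11

theorem odd_order_of_core {X : Subgroup G} {c : G} (h : c ∈ core X) : Odd (orderOf c) := by
  have h9 := orderOf_dvd_natCard (⟨c, h⟩ : ↥(core X))
  rw [Subgroup.orderOf_mk] at h9
  exact Odd.of_dvd_nat (odd_card_core _) h9

/-- two commuting involutions -/
theorem card_four {u v : G} (hu : orderOf u = 2) (hv : orderOf v = 2) (hne : u ≠ v)
    (hc : u * v = v * u) : Nat.card ↥(zpowers u ⊔ zpowers v : Subgroup G) = 4 := by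
  have hu2 := sq_of_order hu
  have hv2 := sq_of_order hv
  have hcc : ∀ b ∈ zpowers v, u * b = b * u := by
    intro b hb
    rcases (mem_zpowers_of_sq hv2).mp hb with rfl | rfl
    · rw [mul_one, one_mul]
    · exact hc
  have hcc' : ∀ e ∈ zpowers u, ∀ b ∈ zpowers v, e * b = b * e := by
    intro e he b hb
    rcases (mem_zpowers_of_sq hu2).mp he with rfl | rfl
    · rw [mul_one, one_mul]
    · exact hcc b hb
  have hcardu : Nat.card ↥(zpowers u) = 2 := by rw [Nat.card_zpowers, hu]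
  have hcardv : Nat.card ↥(zpowers v) = 2 := by rw [Nat.card_zpowers, hv]
  have hinf : zpowers u ⊓ zpowers v = ⊥ := by
    rw [eq_bot_iff]
    rintro z ⟨h4, h5⟩
    rw [mem_bot]
    rcases (mem_zpowers_of_sq hu2).mp h4 with rfl | rfl
    · rfl
    · rcases (mem_zpowers_of_sq hv2).mp h5 with h | h
      · exact h
      · exact absurd h hne
  have h4 := card_mul_le_sup hinf
  rw [hcardu, hcardv] at h4
  have h5 : Nat.card ↥(zpowers u ⊔ zpowers v : Subgroup G) ∣
      Nat.card ↥(zpowers u) * Nat.card ↥(zpowers v) := by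
    refine CoprimeBasic.card_sup_dvd fun z hz => ?_
    have h6 : zpowers u ≤ centralizer ({z} : Set G) := fun e he => mem_c (hcc' e he z hz)
    exact centralizer_le_normalizer' _ (mem_centralizer_iff.mpr fun e he => comm_c (h6 he))
  rw [hcardu, hcardv] at h5
  have h6 := Nat.le_of_dvd (by norm_num) h5
  omega

end lift

section cfg

variable {x a t : G} {L : Subgroup G}

omit [Finite G] in
theorem cen_mul_eq (hL : L ≤ centralizer ({a} : Set G)) : cen L (a * t) = cen L t := by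
  rw [cen, cen]
  congr 1
  ext l
  rw [mem_inf, mem_inf]
  refine and_congr_right fun hl => ?_
  have h1 : l * a = a * l := comm_c (hL hl)
  constructor
  · intro h
    have h2 := comm_c h
    apply mem_c
    have h3 : a * (l * t) = a * (t * l) := by
      calc a * (l * t) = (a * l) * t := by group
        _ = l * (a * t) := by rw [← h1]; group
        _ = a * (t * l) := by rw [h2]; group
    exact mul_left_cancel h3
  · intro h
    have h2 := comm_c h
    apply mem_c
    calc l * (a * t) = (l * a) * t := by group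
      _ = a * (l * t) := by rw [h1]; group
      _ = a * t * l := by rw [h2]; group

/-- no central involutions of `L / O(L)` -/
theorem simp_of (H : Pgl G) (T : IsTriple x a L) : ∀ l ∈ L, l * l = 1 → Fixes l L → l = 1 := by
  intro l hl hll hf
  obtain ⟨F, _, _, -, R, -⟩ := H.exists_rep T
  have h1 := (act_eq_one_iff (le_normalizer hl)).mpr hf
  rw [act_of_mem hl] at h1
  have h2 : (QuotientGroup.mk ⟨l, hl⟩ : ↥L ⧸ oddCore ↥L) = 1 := R.conj_injective (by rw [h1, map_one])
  exact eq_one_of_mem_core_sq ((mk_eq_one_iff hl).mp h2) hll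

/-- 2-rank -/
theorem rank_of (H : Pgl G) (T : IsTriple x a L) : ∀ B ≤ L, (∀ b ∈ B, b * b = 1) → Nat.card ↥B ≤ 4 := by
  intro B hB hB2
  obtain ⟨F, _, _, -, R, -⟩ := H.exists_rep T
  rw [← A9.LTwo.card_im (hB.trans le_normalizer) (fun b hb h => simp_of H T b (hB hb) (hB2 b hb) h)]
  refine A9.LTwo.card_inn_le R ?_ (A9.LTwo.im_sq hB2)
  intro y hy
  obtain ⟨b, hb, h, rfl⟩ := A9.LTwo.mem_im.mp hy
  exact ⟨_, (act_of_mem (hB hb)).symm⟩

variable (H : Pgl G) (O : Hon.One G) (T : IsTriple x a L) (ht : orderOf t = 2) (hne : t ≠ a)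
  (hta : t * a = a * t) (htx : t * x = x * t) (htL : Fixes t L)

include H O T ht hne hta htx htL

/-- the three involutions of `⟨a, t⟩` -/
theorem pump_R : ∀ r ∈ zpowers a ⊔ zpowers t, r ≠ 1 → IsTriple x r (tri x r) ∧
    cen L t ⊔ core (tri x r) = tri x r := by
  have ha2 := sq_of_order T.inva
  have ht2 := sq_of_order ht
  obtain ⟨-, hJL⟩ := isComp_cen T.comp (mem_c hta) ht2 htL
  intro r hr h1
  rcases (mem_zpowers_sup ha2 (fun z hz => by
    rcases (mem_zpowers_of_sq ht2).mp hz with rfl | rfl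
    · rw [mul_one, one_mul]
    · exact hta.symm)).mp hr with h2 | h2
  · rcases (mem_zpowers_of_sq ht2).mp h2 with h3 | h3
    · exact absurd h3 h1
    · rw [h3]
      obtain ⟨N, hN⟩ := pump1 H O T ht hta htx htL
      rw [tri_eq O hN.1]
      exact ⟨hN.1, hN.2.2⟩
  · rcases (mem_zpowers_of_sq ht2).mp h2 with h3 | h3
    · have h4 : r = a := by
        have := eq_inv_of_mul_eq_one_right h3
        rw [this]
        exact inv_eq_of_mul_eq_one_left ha2
      rw [h4, tri_eq O T]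
      exact ⟨T, hJL⟩
    · have h4 : r = a * t := by
        rw [← h3, ← mul_assoc, ha2, one_mul]
      have cta : Commute t a := hta
      have ctx : Commute t x := htx
      have cax : Commute a x := T.comm
      obtain ⟨N, hN⟩ := pump1 H O T (c := a * t) (order_mul ha2 ht2 hta.symm hne.symm)
        ((Commute.refl a).mul_left cta).eq (cax.mul_left ctx).eq
        (fixes_mul (fixes_self' T.comp.le) htL)
      rw [h4, tri_eq O hN.1]
      refine ⟨hN.1, ?_⟩
      have h5 := hN.2.2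
      rwa [cen_mul_eq T.comp.le] at h5

/-- **the configuration** -/
theorem exists_fourX : ∃ (s : G) (A : Subgroup G),
    FourX x s (zpowers a ⊔ zpowers t) A (cen L t) (tri x) := by
  have ha2 := sq_of_order T.inva
  have ht2 := sq_of_order ht
  have hx2 := sq_of_order T.invx
  have haa : ∀ z ∈ zpowers t, a * z = z * a := by
    intro z hz
    rcases (mem_zpowers_of_sq ht2).mp hz with rfl | rfl
    · rw [mul_one, one_mul]
    · exact hta.symm
  obtain ⟨hJ, hs⟩ := isComp_cen T.comp (mem_c hta) ht2 htL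
  have hpump := pump_R H O T ht hne hta htx htL
  obtain ⟨J, hJd⟩ : ∃ J, J = cen L t := ⟨_, rfl⟩
  rw [← hJd] at hJ hs hpump ⊢
  have hJL : J ≤ L := hJd ▸ cen_le L t
  have hxJ : x ∈ normalizer (J : Set G) := hJd ▸ mem_normalizer_cen T.x_mem htx.symm
  have hJa : ∀ j ∈ J, a * j = j * a := fun j hj => (comm_c (T.comp.le (hJL hj))).symm
  have hJt : ∀ j ∈ J, t * j = j * t := fun j hj => (comm_of_mem_cen (hJd ▸ hj)).symm
  have hJR : ∀ r ∈ zpowers a ⊔ zpowers t, ∀ j ∈ J, r * j = j * r := by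
    intro r hr j hj
    have h1 : zpowers a ⊔ zpowers t ≤ centralizer ({j} : Set G) :=
      sup_le (zpowers_le.mpr (mem_c (hJa j hj))) (zpowers_le.mpr (mem_c (hJt j hj)))
    exact comm_c (h1 hr)
  have hRx : ∀ r ∈ zpowers a ⊔ zpowers t, r * x = x * r := by
    intro r hr
    have h1 : zpowers a ⊔ zpowers t ≤ centralizer ({x} : Set G) :=
      sup_le (zpowers_le.mpr (mem_c T.comm)) (zpowers_le.mpr (mem_c htx))
    exact comm_c (h1 hr)
  obtain ⟨F, _, _, h5, R, ho⟩ := H.exists_rep T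
  obtain ⟨v, hv, hvv, hv1⟩ := OddHalf.D6.PglType.exists_fix_involution R (act_sq T) ho
  obtain ⟨s, hsJ, hsL, hxs, hss, hsv⟩ := lift_inv hs hx2 hxJ T.x_mem hv hvv
  have hs1 : s ≠ 1 := by
    rintro rfl
    exact hv1 (hsv ▸ rfl)
  have hos : orderOf s = 2 := orderOf_eq_prime (by rw [pow_two]; exact hss) hs1
  obtain ⟨b, hbJ, hsb, hbb, hb1, hbs⟩ : ∃ b ∈ J, s * b = b * s ∧ b * b = 1 ∧ b ≠ 1 ∧ b ≠ s := by
    obtain ⟨c, d, h4⟩ := R.exists_four
    obtain ⟨g, hg⟩ := R.inv_conj h4.aa h4.a1 hvv hv1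
    obtain ⟨b, hb⟩ : ∃ b, b = g * d * g⁻¹ := ⟨_, rfl⟩
    have hbv : v * b = b * v := by
      rw [← hg, hb]
      calc g * c * g⁻¹ * (g * d * g⁻¹) = g * (c * d) * g⁻¹ := by group
        _ = g * (d * c) * g⁻¹ := by rw [h4.comm]
        _ = _ := by group
    have hbb : b * b = 1 := by
      rw [hb]
      calc g * d * g⁻¹ * (g * d * g⁻¹) = g * (d * d) * g⁻¹ := by group
        _ = 1 := by rw [h4.bb]; group
    have hact : act L ⟨s, le_normalizer hsL⟩ b = b := by
      rw [act_of_mem hsL, hsv, MulAut.conj_apply, hbv, mul_inv_cancel_right]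
    obtain ⟨c', hc'J, hc'L, h6, h7, h8⟩ := lift_inv hs hss (le_normalizer hsJ) (le_normalizer hsL)
      hact hbb
    refine ⟨c', hc'J, h6, h7, ?_, ?_⟩
    · rintro rfl
      have h9 : b = 1 := h8 ▸ rfl
      apply h4.b1
      have : d = g⁻¹ * b * g := by rw [hb]; group
      rw [this, h9]
      group
    · intro h9
      subst h9
      have h10 : v = b := hsv.symm.trans h8
      apply h4.ne
      have h11 : d = g⁻¹ * b * g := by rw [hb]; group
      rw [h11, ← h10, ← hg]
      group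
  have hob : orderOf b = 2 := orderOf_eq_prime (by rw [pow_two]; exact hbb) hb1
  obtain ⟨A, hA⟩ : ∃ A, A = zpowers s ⊔ zpowers b := ⟨_, rfl⟩
  have hcomm : ∀ e ∈ zpowers s, ∀ f ∈ zpowers b, e * f = f * e := by
    intro e he f hf
    rcases (mem_zpowers_of_sq hss).mp he with rfl | rfl
    · rw [one_mul, mul_one]
    · rcases (mem_zpowers_of_sq hbb).mp hf with rfl | rfl
      · rw [one_mul, mul_one]
      · exact hsb
  have elA : IsElementaryAbelian 2 A := hA ▸ el_sup (el_zpowers hss) (el_zpowers hbb) hcomm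
  have hAJ : A ≤ J := hA ▸ sup_le (zpowers_le.mpr hsJ) (zpowers_le.mpr hbJ)
  have elR : IsElementaryAbelian 2 (zpowers a ⊔ zpowers t : Subgroup G) :=
    el_sup (el_zpowers ha2) (el_zpowers ht2) fun e he f hf => by
      rcases (mem_zpowers_of_sq ha2).mp he with rfl | rfl
      · rw [one_mul, mul_one]
      · exact haa f hf
  have hfixR : ∀ r ∈ zpowers a ⊔ zpowers t, Fixes r L := by
    intro r hr
    rcases (mem_zpowers_sup ha2 haa).mp hr with h2 | h2
    · rcases (mem_zpowers_of_sq ht2).mp h2 with h3 | h3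
      · rw [h3]; exact fixes_one L
      · rw [h3]; exact htL
    · have h6 : r = a * (a * r) := by rw [← mul_assoc, ha2, one_mul]
      rcases (mem_zpowers_of_sq ht2).mp h2 with h3 | h3
      · rw [h6, h3, mul_one]; exact fixes_self' T.comp.le
      · rw [h6, h3]; exact fixes_mul (fixes_self' T.comp.le) htL
  have hxs2 : x * s * (x * s) = 1 := by
    calc x * s * (x * s) = x * (s * x) * s := by group
      _ = (x * x) * (s * s) := by rw [← hxs]; group
      _ = 1 := by rw [hx2, hss, one_mul]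
  refine ⟨s, A, { cardR := card_four T.inva ht hne.symm hta.symm
                  sqR := fun r hr => sq_of_el elR hr
                  cardA := hA ▸ card_four hos hob hbs.symm hsb
                  sqA := fun r hr => sq_of_el elA hr
                  AJ := hAJ
                  comm := fun j hj => mem_centralizer_iff.mpr fun r hr => hJR r hr j hj
                  comp := fun r hr h1 => (hpump r hr h1).1.comp
                  sup := fun r hr h1 => (hpump r hr h1).2
                  simp := fun r hr h1 => simp_of H (hpump r hr h1).1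
                  rank := fun B hB => rank_of H T B (hB.trans hJL)
                  xx := hx2
                  xR := fun r hr => (hRx r hr).symm
                  sA := hA ▸ mem_sup_left (mem_zpowers s)
                  s1 := hs1
                  xs := hxs
                  xout := ?_
                  gen := ?_ }⟩
  · intro hxm
    obtain ⟨r, hr, j, hj, hrj⟩ := (mem_sup_of_comm fun r hr j hj => hJR r hr j (hAJ hj)).mp hxm
    refine (H x a L T).2 ⟨j, hJL (hAJ hj), ?_⟩
    rw [← hrj, mul_inv_cancel_right]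
    exact hfixR r hr
  · intro N h1 h2 h3
    refine le_of_cover hs h3 ?_
    obtain ⟨K, hK⟩ : ∃ K, K = ((J ⊓ N).subgroupOf L).map (QuotientGroup.mk' (oddCore ↥L)) := ⟨_, rfl⟩
    have hmemK : ∀ (n : G) (hnL : n ∈ L), n ∈ J → n ∈ N →
        (QuotientGroup.mk ⟨n, hnL⟩ : ↥L ⧸ oddCore ↥L) ∈ K := by
      intro n hnL hnJ hnN
      rw [hK]
      exact ⟨⟨n, hnL⟩, ⟨hnJ, hnN⟩, rfl⟩
    have htop : K = ⊤ := by
      refine Gen.gen R (by omega) (act_sq T) ho hv hvv hv1 K ?_ ?_
      · intro k hk _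
        obtain ⟨c, hcJ, hcL, hxc, rfl⟩ := lift_J hs hx2 hxJ T.x_mem hk
        exact hmemK c hcL hcJ (h1 ⟨hcJ, mem_c hxc.symm⟩)
      · intro k hk _
        have hxsL : x * s ∈ normalizer (L : Set G) := mul_mem T.x_mem (le_normalizer hsL)
        have hk' : act L ⟨x * s, hxsL⟩ k = k := by
          have h6 : act L ⟨x * s, hxsL⟩ = act L ⟨x, T.x_mem⟩ * act L ⟨s, le_normalizer hsL⟩ := by
            rw [← map_mul]
            rfl
          rw [h6, MulAut.mul_apply, act_of_mem hsL, hsv, MulAut.conj_apply, map_mul, map_mul, map_inv,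
            hv, hk]
          group
        obtain ⟨c, hcJ, hcL, hxc, rfl⟩ := lift_J hs hxs2 (mul_mem hxJ (le_normalizer hsJ)) hxsL hk'
        exact hmemK c hcL hcJ (h2 ⟨hcJ, mem_c hxc.symm⟩)
    intro l hl
    have h6 : (QuotientGroup.mk ⟨l, hl⟩ : ↥L ⧸ oddCore ↥L) ∈ K := by rw [htop]; trivial
    rw [hK] at h6
    obtain ⟨⟨n, hnL⟩, ⟨hnJ, hnN⟩, h7⟩ := h6
    exact ⟨n, ⟨hnJ, hnN⟩, (mk_eq_iff hnL hl).mp h7⟩

/-- **the element for LEMMA CK** -/
theorem exists_yJ : ∃ y ∈ cen L t, y ∈ core (centralizer ({x} : Set G)) ∧ ¬ Fixes y L ∧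
    ∀ f ∈ zpowers a ⊔ zpowers t, y ∈ core (centralizer ({x * f} : Set G)) := by
  have ha2 := sq_of_order T.inva
  have ht2 := sq_of_order ht
  have hx2 := sq_of_order T.invx
  have haa : ∀ z ∈ zpowers t, a * z = z * a := by
    intro z hz
    rcases (mem_zpowers_of_sq ht2).mp hz with rfl | rfl
    · rw [mul_one, one_mul]
    · exact hta.symm
  obtain ⟨hJ, hs⟩ := isComp_cen T.comp (mem_c hta) ht2 htL
  have hxJ : x ∈ normalizer (cen L t : Set G) := mem_normalizer_cen T.x_mem htx.symm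
  obtain ⟨F, _, _, h5, R, ho⟩ := H.exists_rep T
  -- `d ∈ L ∩ O(C(x)) ∩ C(t)`
  obtain ⟨d, hd, hdL, hdt, hdf⟩ : ∃ d ∈ core (centralizer ({x} : Set G)), d ∈ L ∧ d * t = t * d ∧
      ¬ Fixes d L := by
    obtain ⟨d, hd, hdL, hdf⟩ := H.exists_y T
    obtain ⟨D, hD⟩ : ∃ D, D = core L ⊓ core (centralizer ({x} : Set G)) := ⟨_, rfl⟩
    have hDo : Odd (Nat.card ↥D) := by
      rw [hD]
      exact Odd.of_dvd_nat (odd_card_core L) (card_dvd_of_le inf_le_left)
    have htO : t ∈ normalizer (core (centralizer ({x} : Set G)) : Set G) :=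
      le_normalizer_core _ (mem_c htx)
    have htD : t ∈ normalizer (D : Set G) := by
      rw [hD]
      have h1 := normalizer_le_normalizer_core L htL.1
      rw [mem_normalizer_iff_cj] at h1 htO ⊢
      rw [cj_inf, h1, htO]
    have h1 : d⁻¹ * (t * d * t⁻¹) ∈ D := by
      rw [hD]
      constructor
      · exact (fixes_iff_conj.mp htL).2 d hdL
      · exact (core (centralizer ({x} : Set G))).mul_mem
          ((core (centralizer ({x} : Set G))).inv_mem hd) (conj_mem htO hd)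
    obtain ⟨o, ho', hc⟩ := Intrinsic.Lifting.exists_commute (n := 1) hDo
      (by rw [pow_one, pow_two]; exact ht2) htD h1
    rw [hD] at ho'
    refine ⟨d * o, mul_mem hd ho'.2, mul_mem hdL (core_le L ho'.1), hc.symm, fun hf => hdf ?_⟩
    have h2 : Fixes o L := by
      rw [← act_eq_one_iff (le_normalizer (core_le L ho'.1)), act_of_mem (core_le L ho'.1)]
      have h3 : (QuotientGroup.mk ⟨o, core_le L ho'.1⟩ : ↥L ⧸ oddCore ↥L) = 1 :=
        (mk_eq_one_iff _).mpr ho'.1
      rw [h3, map_one]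
    have h4 := fixes_mul hf (fixes_inv h2)
    rwa [mul_inv_cancel_right] at h4
  have hdN : d ∈ normalizer (L : Set G) := le_normalizer hdL
  have hodd : Odd (orderOf (act L ⟨d, hdN⟩)) := by
    have h3 : orderOf (act L ⟨d, hdN⟩) ∣ orderOf (⟨d, hdN⟩ : ↥(normalizer (L : Set G))) :=
      orderOf_map_dvd _ _
    rw [Subgroup.orderOf_mk] at h3
    refine Odd.of_dvd_nat ?_ h3
    have h4 := orderOf_dvd_natCard (⟨d, hd⟩ : ↥(core (centralizer ({x} : Set G))))
    rw [Subgroup.orderOf_mk] at h4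
    exact Odd.of_dvd_nat (odd_card_core _) h4
  obtain ⟨k, hk, hdk⟩ := L2Fact.exists_moved R (KFacts.act_sq T) ho hodd
    (fun h => hdf ((act_eq_one_iff hdN).mp h)) (KFacts.act_comm hdN T.x_mem (comm_c (core_le _ hd)))
  obtain ⟨c, hcJ, hc, hcx, rfl⟩ := lift_J hs hx2 hxJ T.x_mem hk
  have hdJ : d ∈ normalizer (cen L t : Set G) := mem_normalizer_cen hdN hdt
  have hyJ : d * c * d⁻¹ * c⁻¹ ∈ cen L t := mul_mem (conj_mem hdJ hcJ) (inv_mem hcJ)
  have hyx : d * c * d⁻¹ * c⁻¹ ∈ core (centralizer ({x} : Set G)) := by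
    have e : d * c * d⁻¹ * c⁻¹ = d * (c * d⁻¹ * c⁻¹) := by group
    rw [e]
    exact mul_mem hd (conj_core (mem_c hcx.symm) (inv_mem hd))
  have hyf : ¬ Fixes (d * c * d⁻¹ * c⁻¹) L := by
    intro h
    apply hdk
    have hdc : d * c * d⁻¹ ∈ L := conj_mem hdN hc
    have hyL : d * c * d⁻¹ * c⁻¹ ∈ L := mul_mem hdc (inv_mem hc)
    have h1 := (act_eq_one_iff (le_normalizer hyL)).mpr h
    rw [act_of_mem hyL] at h1
    have h2 : (QuotientGroup.mk ⟨d * c * d⁻¹ * c⁻¹, hyL⟩ : ↥L ⧸ oddCore ↥L) = 1 :=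
      R.conj_injective (by rw [h1, map_one])
    have h3 := (mk_eq_one_iff hyL).mp h2
    rw [act_mk hdN hc, mk_eq_iff]
    have h4 := conj_core (L.inv_mem hdc) (inv_mem h3)
    convert h4 using 1
    group
  refine ⟨_, hyJ, hyx, hyf, fun f hf => ?_⟩
  -- LEMMA W
  have cta : Commute t a := hta
  have ctx : Commute t x := htx
  have cax : Commute a x := T.comm
  have hda : Commute d a := comm_c (T.comp.le hdL)
  have hca : Commute c a := comm_c (T.comp.le hc)
  have hct : Commute c t := comm_of_mem_cen hcJ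
  have hfa : f ∈ centralizer ({a} : Set G) :=
    (sup_le (zpowers_le.mpr (mem_c rfl)) (zpowers_le.mpr (mem_c hta)) :
      zpowers a ⊔ zpowers t ≤ centralizer ({a} : Set G)) hf
  have hft : f ∈ centralizer ({t} : Set G) :=
    (sup_le (zpowers_le.mpr (mem_c hta.symm)) (zpowers_le.mpr (mem_c rfl)) :
      zpowers a ⊔ zpowers t ≤ centralizer ({t} : Set G)) hf
  have hfx : f ∈ centralizer ({x} : Set G) :=
    (sup_le (zpowers_le.mpr (mem_c T.comm)) (zpowers_le.mpr (mem_c htx)) :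
      zpowers a ⊔ zpowers t ≤ centralizer ({x} : Set G)) hf
  have hcen : ∀ g : G, g * a = a * g → g * t = t * g → g * f = f * g := by
    intro g hga hgt
    have h1 : zpowers a ⊔ zpowers t ≤ centralizer ({g} : Set G) :=
      sup_le (zpowers_le.mpr (mem_c hga.symm)) (zpowers_le.mpr (mem_c hgt.symm))
    exact (comm_c (h1 hf)).symm
  have hfL : Fixes f L := by
    rcases (mem_zpowers_sup ha2 haa).mp hf with h2 | h2
    · rcases (mem_zpowers_of_sq ht2).mp h2 with h3 | h3
      · rw [h3]; exact fixes_one L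
      · rw [h3]; exact htL
    · have h6 : f = a * (a * f) := by rw [← mul_assoc, ha2, one_mul]
      rcases (mem_zpowers_of_sq ht2).mp h2 with h3 | h3
      · rw [h6, h3, mul_one]; exact fixes_self' T.comp.le
      · rw [h6, h3]; exact fixes_mul (fixes_self' T.comp.le) htL
  have hff : f * f = 1 := by
    refine sq_of_el (el_sup (el_zpowers ha2) (el_zpowers ht2) fun e he g hg => ?_) hf
    rcases (mem_zpowers_of_sq ha2).mp he with h | h
    · rw [h, one_mul, mul_one]
    · rw [h]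
      exact haa g hg
  have hxf : x ≠ f := by
    rintro rfl
    exact T.not_fixes hfL
  have cfx : Commute f x := comm_c hfx
  have haL : Fixes a L := fixes_self' T.comp.le
  have oat : orderOf (a * t) = 2 := order_mul ha2 ht2 hta.symm hne.symm
  obtain ⟨N₁, t₁⟩ := pump1 H O T T.inva rfl T.comm haL
  obtain ⟨N₂, t₂⟩ := pump1 H O T ht hta htx htL
  obtain ⟨N₃, t₃⟩ := pump1 H O T oat ((Commute.refl a).mul_left cta).eq (cax.mul_left ctx).eq
    (fixes_mul haL htL)
  have hyJ' := hyJ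
  have hy₁ : d * c * d⁻¹ * c⁻¹ ∈ cen L a := by
    have h1 : cen L t ≤ cen L a := PComponents.pElem_mono (le_inf inf_le_left
      (inf_le_left.trans T.comp.le))
    exact h1 hyJ
  refine lemmaW_inn H.rworld ?_ T hyx rfl hta haL htL t₁ t₂ t₃ hy₁ hyJ
    (by rw [cen_mul_eq T.comp.le]; exact hyJ) cfx.eq ?_ (comm_c hfa) (comm_c hft) hfL
    (order_mul hx2 hff cfx.symm.eq hxf)
  · intro J' T'
    have hcx' : c * x = x * c := hcx.symm
    have hdx : d * x = x * d := comm_c (core_le _ hd)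
    have hdf' : d * f = f * d := hcen d hda hdt
    have hcf' : c * f = f * c := hcen c hca hct
    refine Hon.inn_comm H T' (T'.mem_normalizer_of_core hd
      (mem_c (Commute.mul_right (show Commute d x from hdx) hdf'))) ?_
    exact O.norm T' hcx' (Commute.mul_right (show Commute c x from hcx') hcf').eq
  · refine (hcen _ ?_ ?_).symm
    · exact ((hda.mul_left hca).mul_left hda.inv_left).mul_left hca.inv_left
    · exact (((show Commute d t from hdt).mul_left hct).mul_left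
        (show Commute d t from hdt).inv_left).mul_left hct.inv_left

/-- **LEMMA CK** -/
theorem comm_core (TB : TwoBal G)
    (hB : ∀ v : G, orderOf v = 2 → HasBProperty ↥(centralizer ({v} : Set G))) {s : G}
    {A : Subgroup G} (hX : FourX x s (zpowers a ⊔ zpowers t) A (cen L t) (tri x)) {r : G}
    (hr : r ∈ zpowers a ⊔ zpowers t) (h1 : r ≠ 1) : ∀ w ∈ core (centralizer ({r} : Set G)),
      ∀ j ∈ cen L t, ⁅j, w⁆ ∈ Wd ((zpowers a ⊔ zpowers t) ⊔ A) := by
  have ha2 := sq_of_order T.inva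
  have ht2 := sq_of_order ht
  obtain ⟨y, hyJ, hyx, hyf, hy⟩ := exists_yJ H O T ht hne hta htx htL
  obtain ⟨hJ, hs⟩ := isComp_cen T.comp (mem_c hta) ht2 htL
  have hJL : cen L t ≤ L := cen_le L t
  have hcen : centralizer ((zpowers a ⊔ zpowers t : Subgroup G) : Set G) =
      centralizer ({a} : Set G) ⊓ centralizer ({t} : Set G) := by
    ext g
    rw [mem_inf, mem_centralizer_iff]
    constructor
    · intro h
      exact ⟨mem_c (h a (mem_sup_left (mem_zpowers a))).symm,
        mem_c (h t (mem_sup_right (mem_zpowers t))).symm⟩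
    · rintro ⟨h2, h3⟩ r hr
      have h4 : zpowers a ⊔ zpowers t ≤ centralizer ({g} : Set G) :=
        sup_le (zpowers_le.mpr (mem_c (comm_c h2).symm)) (zpowers_le.mpr (mem_c (comm_c h3).symm))
      exact comm_c (h4 hr)
  obtain ⟨F, _, _, h5, R, ho⟩ := H.exists_rep T
  have hsim := OddHalf.D6.SubFix.isSimple R (by omega)
  refine hX.comm_core TB hB (hcen ▸ hJ) hyJ hy ?_ hr h1
  intro N hN hJN hyN
  -- the image of `N` is everything
  have hyL := hJL hyJ
  obtain ⟨K, hK⟩ : ∃ K, K = (N.subgroupOf L).map (QuotientGroup.mk' (oddCore ↥L)) := ⟨_, rfl⟩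
  have hNL := hN.trans hJL
  have hKn : K.Normal := by
    refine ⟨fun k hk g => ?_⟩
    obtain ⟨⟨m, hm⟩, rfl⟩ := QuotientGroup.mk_surjective g
    obtain ⟨j, hj, hjm⟩ := exists_mul_of_sup hs hm
    have hmk : (QuotientGroup.mk ⟨m, hm⟩ : ↥L ⧸ oddCore ↥L) = QuotientGroup.mk ⟨j, hJL hj⟩ :=
      ((mk_eq_iff (hJL hj) hm).mpr hjm).symm
    rw [hK] at hk ⊢
    obtain ⟨⟨n, hnL⟩, hnN, rfl⟩ := hk
    rw [hmk]
    exact ⟨⟨j * n * j⁻¹, L.mul_mem (L.mul_mem (hJL hj) hnL) (L.inv_mem (hJL hj))⟩,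
      conj_mem (hJN hj) hnN, rfl⟩
  have hK1 : K ≠ ⊥ := by
    intro h2
    apply hyf
    rw [← act_eq_one_iff (le_normalizer hyL), act_of_mem hyL]
    have h3 : (QuotientGroup.mk ⟨y, hyL⟩ : ↥L ⧸ oddCore ↥L) ∈ K := by
      rw [hK]
      exact ⟨⟨y, hyL⟩, hyN, rfl⟩
    rw [h2, mem_bot] at h3
    rw [h3, map_one]
  have htop : K = ⊤ := (hKn.eq_bot_or_eq_top).resolve_left hK1
  refine hJ.le_of_two fun j hj n hn => ?_
  -- `j` is a 2-element of `N O(J)`
  have h6 : (QuotientGroup.mk ⟨j, hJL hj⟩ : ↥L ⧸ oddCore ↥L) ∈ K := by rw [htop]; trivial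
  rw [hK] at h6
  obtain ⟨⟨m, hmL⟩, hmN, h7⟩ := h6
  have h8 : m⁻¹ * j ∈ core (cen L t) := by
    rw [core_of_sup hs]
    exact ⟨(cen L t).mul_mem ((cen L t).inv_mem (hN hmN)) hj, (mk_eq_iff hmL (hJL hj)).mp h7⟩
  have hmN' : m ∈ N := hmN
  exact mem_of_pow (c := m⁻¹ * j) (m := m) (by group) hmN' (hJN (core_le _ h8)) (odd_order_of_core h8) hn

/-- the 2-components `tri x r`, `r ∈ R₀#`, are congruent modulo `W` -/
theorem tri_le (TB : TwoBal G)
    (hB : ∀ v : G, orderOf v = 2 → HasBProperty ↥(centralizer ({v} : Set G))) {s : G}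
    {A : Subgroup G} (hX : FourX x s (zpowers a ⊔ zpowers t) A (cen L t) (tri x)) {r : G}
    (hr : r ∈ zpowers a ⊔ zpowers t) (h1 : r ≠ 1) :
    tri x r ≤ cen L t ⊔ Wd ((zpowers a ⊔ zpowers t) ⊔ A) := by
  have hck := comm_core H O T ht hne hta htx htL TB hB hX hr h1
  obtain ⟨Tr, hs⟩ := pump_R H O T ht hne hta htx htL r hr h1
  obtain ⟨W, hW⟩ : ∃ W, W = Wd ((zpowers a ⊔ zpowers t) ⊔ A) := ⟨_, rfl⟩
  have hcW := hX.centralizer_le' TB hr h1
  rw [← hW] at hck hcW ⊢
  refine Tr.comp.le_of_two fun g hg n hn => ?_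
  obtain ⟨j, hj, hc⟩ := exists_mul_of_sup hs hg
  have hc' := Tr.comp.core_le_core hc
  refine mem_of_pow (c := j⁻¹ * g) (by group) (mem_sup_left hj) ?_ (odd_order_of_core hc) hn
  obtain ⟨c, hcd⟩ : ∃ c, c = j⁻¹ * g := ⟨_, rfl⟩
  rw [← hcd] at hc hc' ⊢
  have hle : cj c (cen L t ⊔ W) ≤ cen L t ⊔ W := by
    rw [cj_sup]
    refine sup_le ?_ ?_
    · intro z hz
      rw [mem_cj] at hz
      obtain ⟨k, hk⟩ : ∃ k, k = c⁻¹ * z * c := ⟨_, rfl⟩
      rw [← hk] at hz
      have h2 : z = ⁅k, c⁆⁻¹ * k := by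
        rw [commutatorElement_def, hk]
        group
      rw [h2]
      exact mul_mem (mem_sup_right (inv_mem (hck c hc' k hz))) (mem_sup_left hz)
    · rw [mem_normalizer_iff_cj.mp (hcW (core_le _ hc'))]
      exact le_sup_right
  rw [mem_normalizer_iff_cj]
  exact Subgroup.eq_of_le_of_card_ge hle (by rw [card_cj])

/-- **(L2)** -/
theorem glue_one (TB : TwoBal G)
    (hB : ∀ v : G, orderOf v = 2 → HasBProperty ↥(centralizer ({v} : Set G))) :
    ∃ W, Fine W a L ∧ Fine W t (tri x t) ∧ core (L ⊔ W) = W ∧ tri x t ⊔ W = L ⊔ W := by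
  obtain ⟨s, A, hX⟩ := exists_fourX H O T ht hne hta htx htL
  have hpump := pump_R H O T ht hne hta htx htL
  have hck := fun r hr h1 => comm_core H O T ht hne hta htx htL TB hB hX (r := r) hr h1
  have htri := fun r hr h1 => tri_le H O T ht hne hta htx htL TB hB hX (r := r) hr h1
  obtain ⟨W, hW⟩ : ∃ W, W = Wd ((zpowers a ⊔ zpowers t) ⊔ A) := ⟨_, rfl⟩
  have hJM := hX.J_le TB
  have hcen := fun r hr h1 => hX.centralizer_le' TB (r := r) hr h1
  have hodd := odd_Wd TB hX.elA hX.card16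
  have heq := fun r hr h1 B hB1 hB2 hB3 => hX.toFour.Wd_of_le TB (hX.J_le TB) (r := r) hr h1 (B := B)
    hB1 hB2 hB3
  rw [← hW] at hck htri hJM hcen hodd heq
  have hle : ∀ r ∈ zpowers a ⊔ zpowers t, r ≠ 1 → cen L t ≤ tri x r := by
    intro r hr h1
    rw [← (hpump r hr h1).2]
    exact le_sup_left
  have hfine : ∀ r ∈ zpowers a ⊔ zpowers t, r ≠ 1 → Fine W r (tri x r) := by
    intro r hr h1
    have Tr := (hpump r hr h1).1
    refine ⟨Tr.inva, Tr.comp, simp_of H Tr, hcen r hr h1, ?_, fun B hB1 hB2 hB3 => heq r hr h1 B hB1 hB2 hB3⟩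
    intro w hw l hl
    obtain ⟨j, hj, v, hv, hjv⟩ := (mem_sup_left_iff hJM).mp (htri r hr h1 hl)
    have h2 : ⁅l, w⁆ = (j * (v * (w * v⁻¹ * w⁻¹)) * j⁻¹) * ⁅j, w⁆ := by
      rw [← hjv, commutatorElement_def, commutatorElement_def]
      group
    rw [h2]
    have hwW := hcen r hr h1 (core_le _ hw)
    exact mul_mem (conj_mem (hJM hj) (mul_mem hv (conj_mem hwW (inv_mem hv)))) (hck r hr h1 w hw j hj)
  have haR : a ∈ zpowers a ⊔ zpowers t := mem_sup_left (mem_zpowers a)
  have htR : t ∈ zpowers a ⊔ zpowers t := mem_sup_right (mem_zpowers t)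
  have ha1 := ne_one_of_order T.inva
  have ht1 := ne_one_of_order ht
  have hsup : ∀ r ∈ zpowers a ⊔ zpowers t, r ≠ 1 → tri x r ⊔ W = cen L t ⊔ W := by
    intro r hr h1
    exact le_antisymm (sup_le (htri r hr h1) le_sup_right) (sup_le_sup_right (hle r hr h1) W)
  have hLa : tri x a = L := tri_eq O T
  have hLW : L ⊔ W = cen L t ⊔ W := by rw [← hsup a haR ha1, hLa]
  refine ⟨W, hLa ▸ hfine a haR ha1, hfine t htR ht1, ?_, ?_⟩
  · rw [hLW]
    apply le_antisymm
    · -- `O(J W) ≤ W`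
      intro c hc
      obtain ⟨j, hj, v, hv, hjv⟩ := (mem_sup_left_iff hJM).mp (core_le _ hc)
      have hWc : W ≤ core (cen L t ⊔ W) := le_core le_sup_right
        (sup_le hJM le_normalizer) hodd
      have hjc : j ∈ core (cen L t ⊔ W) := by
        have : j = c * v⁻¹ := by rw [← hjv]; group
        rw [this]
        exact mul_mem hc (inv_mem (hWc hv))
      have hjJ : j ∈ core (cen L t) := by
        have h2 : cen L t ⊓ core (cen L t ⊔ W) ≤ core (cen L t) := by
          refine le_core inf_le_left ?_ (Odd.of_dvd_nat (odd_card_core _) (card_dvd_of_le inf_le_right))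
          intro z hz
          rw [mem_normalizer_iff_cj, cj_inf, cj_eq_self_of_mem hz,
            mem_normalizer_iff_cj.mp (le_normalizer_core (cen L t ⊔ W) (mem_sup_left hz))]
        exact h2 ⟨hj, hjc⟩
      rw [← hjv]
      refine mul_mem ?_ hv
      -- `O(J) ≤ Δ(R₀) ≤ W`
      have h3 : ∀ r ∈ zpowers a ⊔ zpowers t, r ≠ 1 → j ∈ core (centralizer ({r} : Set G)) := by
        intro r hr h1
        exact (hpump r hr h1).1.comp.core_le_core (core_le_of_sup (hpump r hr h1).2 hjJ)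
      have hat1 : a * t ≠ 1 := by
        intro h4
        apply hne
        rw [eq_inv_of_mul_eq_one_left h4]
        exact (inv_eq_of_mul_eq_one_left (sq_of_order ht)).symm
      rw [hW]
      exact mem_Wd hX.elA (mem_sup_left haR) (mem_sup_left htR) ha1 ht1 hne.symm (h3 a haR ha1)
        (h3 t htR ht1) (h3 _ (mul_mem haR htR) hat1)
    · exact le_core le_sup_right (sup_le hJM le_normalizer) hodd
  · rw [hLW, hsup t htR ht1]

end cfg

end Cfsg.Agent.UGT.Res.WGlueA
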