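import Cfsg.Agent.UGT.Res.CovTools
import Cfsg.Agent.UGT.Res.TwoPair
import Cfsg.Agent.UGT.Res.TwoFacts
import Cfsg.Agent.UGT.Res.WGlueA

/-!
# Triples with trivial pump-ups through a four-group

`TF x a t L`: `(x, a, L)` is a triple, `t ≠ a` an involution of `C(a) ∩ C(x)` fixing `L`, the pump-ups of `cen L t` in
`C(r)`, `r ∈ ⟨a, t⟩#`, are trivial.

* `one_or_diag`: a pump-up is trivial or diagonal.
* `key_w`, `key_z`: the two steps of the proof.
* `exists_tf`: two triples `(x, a, L₁)`, `(x, a, L₂)`, `L₁ ≠ L₂`, give a `TF`. No hypothesis on cores.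
-/

set_option autoImplicit false
set_option linter.unusedSectionVars false

open Cfsg Subgroup
open Cfsg.Agent.SignalizersComponents Cfsg.Agent.Lib
open Cfsg.Agent.SignalizersComponents.IntrinsicBasic
open Cfsg.Agent.SignalizersComponents.PLayerAut
open Cfsg.Agent.Intrinsic.Basic Cfsg.Agent.Intrinsic.Cen Cfsg.Agent.Intrinsic.Diag
open Cfsg.Agent.McLLyComp.Act
open Cfsg.Agent.UGT.Triple Cfsg.Agent.UGT.LemG Cfsg.Agent.UGT.PumpGen Cfsg.Agent.UGT.TriBase
open Cfsg.Agent.UGT.Res.Base Cfsg.Agent.UGT.Res.KFacts Cfsg.Agent.UGT.Res.WFun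
open Cfsg.Agent.UGT.Res.CovTools
open scoped commutatorElement

namespace Cfsg.Agent.UGT.Res.TFour

universe u

variable {G : Type u} [Group G] [Finite G]

/-! ### covering subgroups -/

theorem cover_trans {J M K : Subgroup G} (h1 : J ⊔ core M = M) (h2 : M ⊔ core K = K) :
    J ⊔ core K = K := by
  have hJM : J ≤ M := by rw [← h1]; exact le_sup_left
  have hMK : M ≤ K := by rw [← h2]; exact le_sup_left
  refine sup_of_exists (hJM.trans hMK) fun k hk => ?_
  obtain ⟨m, hm, hmk⟩ := exists_mul_of_sup h2 hk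
  obtain ⟨j, hj, hjm⟩ := exists_mul_of_sup h1 hm
  refine ⟨j, hj, ?_⟩
  have h3 : j⁻¹ * k = (j⁻¹ * m) * (m⁻¹ * k) := by group
  rw [h3]
  exact mul_mem (core_le_of_sup h2 hjm) hmk

theorem cover_mid {J M K : Subgroup G} (h1 : J ⊔ core K = K) (h2 : M ⊔ core K = K) (hJM : J ≤ M) :
    J ⊔ core M = M := by
  have hMK : M ≤ K := by rw [← h2]; exact le_sup_left
  refine sup_of_exists hJM fun m hm => ?_
  obtain ⟨j, hj, hjm⟩ := exists_mul_of_sup h1 (hMK hm)
  refine ⟨j, hj, ?_⟩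
  rw [core_of_sup h2]
  exact ⟨M.mul_mem (M.inv_mem (hJM hj)) hm, hjm⟩

/-- a 2-component of `K ∩ C(w)` lies in `cen K w` -/
theorem le_cen {X J K : Subgroup G} {w : G} (hJ : IsComp X J) (hJK : J ≤ K)
    (hw : J ≤ centralizer ({w} : Set G)) : J ≤ cen K w :=
  hJ.le_of_two fun _ hj _ hn => mem_cen (hJK hj) (comm_c (hw hj)) hn

/-! ### triples -/

section triple

variable {x a : G} {L : Subgroup G}

theorem zt_of (P : Pgl G) (T : IsTriple x a L) : ZT L := by
  intro k hk hf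
  obtain ⟨F, _, _, -, R, -⟩ := P.exists_rep T
  have h1 := (act_eq_one_iff (le_normalizer hk)).mpr hf
  rw [act_of_mem hk] at h1
  exact (mk_eq_one_iff hk).mp (R.conj_injective (by rw [h1, map_one]))

theorem one_or_diag (P : Pgl G) (T : IsTriple x a L) {c : G} (hc : orderOf c = 2)
    (hca : c * a = a * c) (hcx : c * x = x * c) (hcL : Fixes c L) :
    (∃ N, IsTriple x c N ∧ cen L c ⊔ core N = N) ∨
      ∃ N, IsTriple x c N ∧ cj a N ≠ N ∧ cen L c = diag (centralizer ({c} : Set G)) N a := by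
  obtain ⟨N, hN, hor⟩ := T.pump hc hca hcx hcL
  rcases hor with ⟨h1, h2⟩ | ⟨h1, h2⟩
  · exact Or.inl ⟨N, hN, P.rtriv.triv T hc hca hcx hcL hN h1 h2⟩
  · exact Or.inr ⟨N, hN, h1, h2⟩

/-- the involutions of `L` are conjugate under `L` -/
theorem inv_conj (P : Pgl G) (T : IsTriple x a L) {s f : G} (hs : s ∈ L) (hf : f ∈ L)
    (hso : orderOf s = 2) (hfo : orderOf f = 2) : ∃ l ∈ L, l * s * l⁻¹ = f := by
  obtain ⟨F, _, _, -, R, -⟩ := P.exists_rep T
  have hss := sq_of_order hso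
  have hff := sq_of_order hfo
  have hmk : ∀ {z : G} (hz : z ∈ L), z * z = 1 → z ≠ 1 →
      (QuotientGroup.mk ⟨z, hz⟩ : ↥L ⧸ oddCore ↥L) * QuotientGroup.mk ⟨z, hz⟩ = 1 ∧
        (QuotientGroup.mk ⟨z, hz⟩ : ↥L ⧸ oddCore ↥L) ≠ 1 := by
    intro z hz hzz hz1
    refine ⟨?_, fun h => hz1 (eq_one_of_mem_core_sq ((mk_eq_one_iff hz).mp h) hzz)⟩
    have h1 : (⟨z, hz⟩ : ↥L) * ⟨z, hz⟩ = 1 := Subtype.ext hzz
    rw [← QuotientGroup.mk_mul, h1]
    rfl
  obtain ⟨h1, h2⟩ := hmk hs hss (ne_one_of_order hso)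
  obtain ⟨h3, h4⟩ := hmk hf hff (ne_one_of_order hfo)
  obtain ⟨g, hg⟩ := R.inv_conj h1 h2 h3 h4
  obtain ⟨⟨l, hl⟩, rfl⟩ := QuotientGroup.mk_surjective g
  have h5 : (l * s * l⁻¹)⁻¹ * f ∈ core L := by
    have h6 : (QuotientGroup.mk ⟨l * s * l⁻¹, mul_mem (mul_mem hl hs) (inv_mem hl)⟩ :
        ↥L ⧸ oddCore ↥L) = QuotientGroup.mk ⟨f, hf⟩ := hg
    exact (mk_eq_iff _ _).mp h6
  have h6 : l * s * l⁻¹ * (l * s * l⁻¹) = 1 := by
    calc l * s * l⁻¹ * (l * s * l⁻¹) = l * (s * s) * l⁻¹ := by group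
      _ = 1 := by rw [hss]; group
  obtain ⟨o, ho, h7⟩ := Intrinsic.Lifting.exists_conj_eq (n := 1) (m := 1) (odd_card_core L)
    (by rw [pow_one, pow_two]; exact h6) (by rw [pow_one, pow_two]; exact hff)
    (le_normalizer_core L (mul_mem (mul_mem hl hs) (inv_mem hl))) h5
  refine ⟨o * l, mul_mem (core_le L ho) hl, ?_⟩
  rw [← h7]
  group

end triple

/-- Trivial pump-ups through `⟨a, t⟩`. -/
structure TF (x a t : G) (L : Subgroup G) : Prop where
  T : IsTriple x a L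
  ot : orderOf t = 2
  ne : t ≠ a
  ta : t * a = a * t
  tx : t * x = x * t
  tL : Fixes t L
  triv : ∀ r ∈ zpowers a ⊔ zpowers t, r ≠ 1 → ∃ N, IsTriple x r N ∧ cen L t ⊔ core N = N

theorem tf_of {x a t : G} {L : Subgroup G} (T : IsTriple x a L) (ot : orderOf t = 2) (ne : t ≠ a)
    (ta : t * a = a * t) (tx : t * x = x * t) (tL : Fixes t L)
    (h1 : ∃ N, IsTriple x t N ∧ cen L t ⊔ core N = N)
    (h2 : ∃ N, IsTriple x (a * t) N ∧ cen L (a * t) ⊔ core N = N) : TF x a t L := by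
  refine ⟨T, ot, ne, ta, tx, tL, ?_⟩
  have haa := sq_of_order T.inva
  have htt := sq_of_order ot
  intro r hr hr1
  rcases (mem_zpowers_sup haa (fun z hz => by
    rcases (mem_zpowers_of_sq htt).mp hz with rfl | rfl
    · rw [mul_one, one_mul]
    · exact ta.symm)).mp hr with h3 | h3
  · rcases (mem_zpowers_of_sq htt).mp h3 with h4 | h4
    · exact absurd h4 hr1
    · rw [h4]
      exact h1
  · rcases (mem_zpowers_of_sq htt).mp h3 with h4 | h4
    · have h5 : r = a := by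
        rw [eq_inv_of_mul_eq_one_right h4]
        exact inv_eq_of_mul_eq_one_left haa
      rw [h5]
      exact ⟨L, T, (isComp_cen T.comp (mem_c ta) htt tL).2⟩
    · have h5 : r = a * t := by rw [← h4, ← mul_assoc, haa, one_mul]
      rw [h5]
      obtain ⟨N, hN, hs⟩ := h2
      refine ⟨N, hN, ?_⟩
      rwa [WGlueA.cen_mul_eq T.comp.le] at hs

/-! ### the key steps -/

section key

variable {a e w : G} {J N : Subgroup G}

/-- the 2-components of `C(e, w)` marked by `J` -/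
theorem marked {A : Subgroup G} (hN : IsComp (centralizer ({e} : Set G)) N)
    (hae : a * e = e * a) (haa : a * a = 1) (hne : cj a N ≠ N)
    (hJ : J ≤ diag (centralizer ({e} : Set G)) N a) (hcN : Cov J N) (hZ : ZT N)
    (hwe : w * e = e * w) (hww : w * w = 1)
    (hwa : w * a = a * w) (hwJ : ∀ j ∈ J, w * j = j * w) (hwN : cj w N = N)
    (hA : IsComp (centralizer ({e} : Set G) ⊓ centralizer ({w} : Set G)) A) (hcA : Cov J A) :
    A = cen N w ∨ A = cen (cj a N) w := by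
  have haC : a ∈ centralizer ({e} : Set G) := mem_c hae
  have hwC : w ∈ centralizer ({e} : Set G) := mem_c hwe
  obtain ⟨d1, -⟩ := exists_diag hN haC haa hne
  obtain ⟨j, hj, hjf⟩ := hcA.exists_not hA
  obtain ⟨B, hB, -, hor⟩ := McLLyComp.PumpT.exists_pump hwC hww hA
  have hwN' : cj w (cj a N) = cj a N := by rw [← cj_mul, hwa, cj_mul, hwN]
  have hjB : ¬ Fixes j B := by
    intro h
    apply hjf
    refine fixes_of_pump hww hwe.symm hA hB (d1.le (hJ hj)).1 (mem_c (hwJ j hj).symm) h ?_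
    rcases hor with ⟨-, h⟩ | h
    · exact Or.inl h
    · exact Or.inr h
  have hle : A ≤ centralizer ({w} : Set G) := hA.le.trans inf_le_right
  have hwf : Fixes w N := hcN.fixes hZ (mem_normalizer_iff_cj.mpr hwN) hwJ
  obtain ⟨t1, t2, -, hwf'⟩ := two hN haC hne hwC hww hwa hwf
  rcases diag_only hN haC haa hne hB (hJ hj) hjB with rfl | rfl
  · rcases hor with ⟨-, h1⟩ | ⟨h1, -⟩
    · exact Or.inl (hA.eq_of_le t1 (le_cen hA h1 hle))
    · exact absurd hwN h1
  · rcases hor with ⟨-, h1⟩ | ⟨h1, -⟩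
    · exact Or.inr (hA.eq_of_le t2 (le_cen hA h1 hle))
    · exact absurd hwN' h1

/-- diagonal data: `J` in the diagonal of `N`, `N ^ a` -/
structure Dg (a e : G) (J N : Subgroup G) : Prop where
  comp : IsComp (centralizer ({e} : Set G)) N
  ne : cj a N ≠ N
  le : J ≤ diag (centralizer ({e} : Set G)) N a
  cov : Cov J N
  zt : ZT N

/-- the two possibilities for `w` -/
def Dich (a w : G) (J : Subgroup G) : Prop :=
  (∃ D, IsComp (centralizer ({w} : Set G)) D ∧ J ⊔ core D = D) ∨ ∃ K, Dg a w J K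

/-- if `N` is fixed by `w`, `C_{N^a}(w) = C_K(e)` for a 2-component `K` of `C(w)` -/
theorem key_w {Y : Subgroup G} (h : Dg a e J N) (hJ : IsComp Y J) (haa : a * a = 1)
    (hee : e * e = 1) (hww : w * w = 1) (hae : a * e = e * a) (hwe : w * e = e * w)
    (hwa : w * a = a * w) (heJ : ∀ j ∈ J, e * j = j * e) (hwJ : ∀ j ∈ J, w * j = j * w)
    (hwN : cj w N = N) (hw : Dich a w J) :
    ∃ K, IsComp (centralizer ({w} : Set G)) K ∧ ZT K ∧ Fixes e K ∧ cen (cj a N) w = cen K e := by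
  have haC : a ∈ centralizer ({e} : Set G) := mem_c hae
  have hwC : w ∈ centralizer ({e} : Set G) := mem_c hwe
  have haCw : a ∈ centralizer ({w} : Set G) := mem_c hwa.symm
  have heCw : e ∈ centralizer ({w} : Set G) := mem_c hwe.symm
  have hwf : Fixes w N := h.cov.fixes h.zt (mem_normalizer_iff_cj.mpr hwN) hwJ
  obtain ⟨t1, t2, t3, hwf'⟩ := two h.comp haC h.ne hwC hww hwa hwf
  have haJ : ∀ j ∈ J, a * j = j * a := fun j hj =>
    (comm_c ((exists_diag h.comp haC haa h.ne).1.le (h.le hj)).2).symm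
  have hN' := isComp_cj_of_mem h.comp haC
  have c1 : Cov J (cen N w) := h.cov.cen h.comp hwC hww hwf hwJ
  have c2 : Cov J (cen (cj a N) w) := (h.cov.cj haJ).cen hN' hwC hww hwf' hwJ
  have huniq : ∀ D, IsComp (centralizer ({e} : Set G) ⊓ centralizer ({w} : Set G)) D → J ≤ D →
      False := fun D hD hJD => t3 ((c2.eq t2 hD hJD).trans (c1.eq t1 hD hJD).symm)
  rcases hw with ⟨D, hD, hs⟩ | ⟨K, hK⟩
  · exfalso
    have hJD : J ≤ D := by rw [← hs]; exact le_sup_left
    have hf := TwoPair.fixes_of_cover hD hJ hs heCw heJ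
    refine huniq (cen D e) ?_ (le_cen hJ hJD fun j hj => mem_c (heJ j hj).symm)
    rw [inf_comm]
    exact (isComp_cen hD heCw hee hf).1
  · rcases perm' hK.comp haCw haa hK.ne hK.le hK.cov heCw heJ with h1 | h1
    · have hf := hK.cov.fixes hK.zt (mem_normalizer_iff_cj.mpr h1) heJ
      obtain ⟨-, -, -, hf'⟩ := two hK.comp haCw hK.ne heCw hee hae.symm hf
      rw [inf_comm] at t2
      rcases marked hK.comp hwa.symm haa hK.ne hK.le hK.cov hK.zt hwe.symm hee hae.symm heJ h1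
        t2 c2 with h2 | h2
      · exact ⟨K, hK.comp, hK.zt, hf, h2⟩
      · exact ⟨cj a K, isComp_cj_of_mem hK.comp haCw, hK.zt.cj a, hf', h2⟩
    · exfalso
      have hle := le_diag hK.comp haCw haa hK.ne hK.le hK.cov hK.zt hJ.pElem_eq heCw hee hae.symm
        heJ h1
      refine huniq _ ?_ hle
      rw [inf_comm]
      exact (exists_diag hK.comp heCw hee (by rw [h1]; exact hK.ne)).1

/-- the pump-up of `N'` in `C(z)` is not diagonal -/
theorem key_z {e v z : G} {N' P : Subgroup G} (hN' : IsComp (centralizer ({e} : Set G)) N')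
    (hee : e * e = 1) (hvv : v * v = 1) (hzz : z * z = 1) (hve : v * e = e * v)
    (hze : z * e = e * z) (hzv : z * v = v * z) (hvN : Fixes v N') (hzN : Fixes z N')
    (hK : ∀ w, w = v ∨ w = e * v → ∃ K, IsComp (centralizer ({w} : Set G)) K ∧ Fixes e K ∧
      cen N' w = cen K e)
    (hP : IsComp (centralizer ({z} : Set G)) P) (hZ : ZT P) (hne : cj e P ≠ P)
    (hd : cen N' z = diag (centralizer ({z} : Set G)) P e) : False := by
  have hvC : v ∈ centralizer ({e} : Set G) := mem_c hve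
  have hzC : z ∈ centralizer ({e} : Set G) := mem_c hze
  have hezC : e ∈ centralizer ({z} : Set G) := mem_c hze.symm
  obtain ⟨M', hM'⟩ : ∃ M', M' = cen N' v := ⟨_, rfl⟩
  obtain ⟨hM, hMs⟩ := isComp_cen hN' hvC hvv hvN
  rw [← hM'] at hM hMs
  have hzM : Fixes z M' := (fixes_iff_of_sup hMs
    (hM' ▸ mem_normalizer_cen hzN.1 hzv) hzN.1).mpr hzN
  obtain ⟨J', hJ'⟩ : ∃ J', J' = cen M' z := ⟨_, rfl⟩
  obtain ⟨hJ, hJs⟩ := isComp_cen hM (mem_inf.mpr ⟨hzC, mem_c hzv⟩) hzz hzM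
  rw [← hJ'] at hJ hJs
  have hJM : J' ≤ M' := by rw [← hJs]; exact le_sup_left
  have hMN : M' ≤ N' := hM' ▸ cen_le _ _
  have heJ : ∀ j ∈ J', e * j = j * e := fun j hj => (comm_c (hN'.le (hMN (hJM hj)))).symm
  have hvJ : ∀ j ∈ J', v * j = j * v := fun j hj => (comm_of_mem_cen (hM' ▸ hJM hj)).symm
  have hzJ : ∀ j ∈ J', z * j = j * z := fun j hj => (comm_of_mem_cen (hJ' ▸ hj)).symm
  -- `J'` covers the diagonal
  have hle : J' ≤ cen N' z := le_cen hJ (hJM.trans hMN) fun j hj => mem_c (hzJ j hj).symm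
  have hs : J' ⊔ core (cen N' z) = cen N' z :=
    cover_mid (cover_trans hJs hMs) (isComp_cen hN' hzC hzz hzN).2 hle
  rw [hd] at hs hle
  have hcov := cov_of_diag hP hezC hee hne hle hs
  -- `w ∈ {v, e v}` normalizing `P`
  obtain ⟨w, hw, hwP⟩ : ∃ w, (w = v ∨ w = e * v) ∧ cj w P = P := by
    rcases perm' hP hezC hee hne hle hcov (mem_c hzv.symm) hvJ with h1 | h1
    · exact ⟨v, Or.inl rfl, h1⟩
    · refine ⟨e * v, Or.inr rfl, ?_⟩
      rw [cj_mul, h1, ← cj_mul, hee, cj_one]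
  obtain ⟨hww, hwe, hwz, hwJ, hwM⟩ : w * w = 1 ∧ w * e = e * w ∧ w * z = z * w ∧
      (∀ j ∈ J', w * j = j * w) ∧ cen N' w = M' := by
    have cve : Commute v e := hve
    have czv : Commute z v := hzv
    have cze : Commute z e := hze
    rcases hw with rfl | rfl
    · exact ⟨hvv, hve, hzv.symm, hvJ, hM'.symm⟩
    · refine ⟨?_, ((Commute.refl e).mul_left cve).eq, (cze.symm.mul_left czv.symm).eq, fun j hj => ?_, ?_⟩
      · calc e * v * (e * v) = e * (v * e) * v := by group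
          _ = e * e * (v * v) := by rw [hve]; group
          _ = 1 := by rw [hee, hvv, one_mul]
      · have h1 : Commute e j := heJ j hj
        have h2 : Commute v j := hvJ j hj
        exact (h1.mul_left h2).eq
      · rw [WGlueA.cen_mul_eq hN'.le, hM']
  have hwC : w ∈ centralizer ({z} : Set G) := mem_c hwz
  have hwf := hcov.fixes hZ (mem_normalizer_iff_cj.mpr hwP) hwJ
  obtain ⟨t1, t2, t3, hwf'⟩ := two hP hezC hne hwC hww hwe hwf
  have c1 := hcov.cen hP hwC hww hwf hwJ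
  have c2 := (hcov.cj heJ).cen (isComp_cj_of_mem hP hezC) hwC hww hwf' hwJ
  obtain ⟨K, hKc, heK, hKe⟩ := hK w hw
  have hMK : M' ⊔ core K = K := by
    rw [← hwM, hKe]
    exact (isComp_cen hKc (mem_c hwe.symm) hee heK).2
  have hJK := cover_trans hJs hMK
  have hJK' : J' ≤ K := by rw [← hJK]; exact le_sup_left
  have hzK := TwoPair.fixes_of_cover hKc hJ hJK (mem_c hwz.symm) hzJ
  have h1 := (isComp_cen hKc (mem_c hwz.symm) hzz hzK).1
  rw [inf_comm] at h1
  have h2 : J' ≤ cen K z := le_cen hJ hJK' fun j hj => mem_c (hzJ j hj).symm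
  exact t3 ((c2.eq t2 h1 h2).trans (c1.eq t1 h1 h2).symm)

end key

/-! ### existence -/

section exist

variable {x a : G} {L : Subgroup G}

/-- the two possibilities for an involution `c` of `C(a) ∩ C(x)` fixing `L` and centralizing `J` -/
theorem dich (P : Pgl G) (T : IsTriple x a L) {c : G} {J Y : Subgroup G} (hJ : IsComp Y J)
    (hs : J ⊔ core L = L) (hc : orderOf c = 2) (hca : c * a = a * c) (hcx : c * x = x * c)
    (hcL : Fixes c L) (hcJ : ∀ j ∈ J, c * j = j * c) :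
    (∃ N, IsTriple x c N ∧ cen L c ⊔ core N = N ∧ J ⊔ core N = N) ∨
      ∃ N, IsTriple x c N ∧ Dg a c J N := by
  have hcc := sq_of_order hc
  have haa := sq_of_order T.inva
  have hJL : J ≤ L := by rw [← hs]; exact le_sup_left
  have hle : J ≤ cen L c := le_cen hJ hJL fun j hj => mem_c (hcJ j hj).symm
  have hs' : J ⊔ core (cen L c) = cen L c := cover_mid hs (isComp_cen T.comp (mem_c hca) hcc hcL).2 hle
  rcases one_or_diag P T hc hca hcx hcL with ⟨N, hN, h1⟩ | ⟨N, hN, h1, h2⟩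
  · exact Or.inl ⟨N, hN, h1, cover_trans hs' h1⟩
  · have hle' := hle
    rw [h2] at hs' hle'
    exact Or.inr ⟨N, hN, hN.comp, h1, hle', cov_of_diag hN.comp (mem_c hca.symm) haa h1 hle' hs',
      zt_of P hN⟩

theorem dich_of {c : G} {J : Subgroup G} (h : (∃ N, IsTriple x c N ∧ cen L c ⊔ core N = N ∧ J ⊔ core N = N) ∨
      ∃ N, IsTriple x c N ∧ Dg a c J N) : Dich a c J := by
  rcases h with ⟨N, hN, -, h1⟩ | ⟨N, -, h1⟩
  · exact Or.inl ⟨N, hN.comp, h1⟩
  · exact Or.inr ⟨N, h1⟩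

/-- `u` an involution of `L₂`: the possibilities for `u` and `a u` -/
theorem dich_u (P : Pgl G) {s u c : G} {L₁ L₂ J Y : Subgroup G} (T₁ : IsTriple x a L₁)
    (T₂ : IsTriple x a L₂) (hne : L₁ ≠ L₂) (hs : s ∈ L₂) (hso : orderOf s = 2)
    (hsx : s * x = x * s) (hu : u ∈ L₂) (huo : orderOf u = 2) (hJ : IsComp Y J)
    (hJL : J ⊔ core L₁ = L₁) (haJ : ∀ j ∈ J, a * j = j * a) (huJ : ∀ j ∈ J, u * j = j * u)
    (hc : c = u ∨ c = a * u) : Dich a c J := by
  obtain ⟨l, hl, hlu⟩ := inv_conj P T₂ hs hu hso huo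
  have haa := sq_of_order T₁.inva
  have huu := sq_of_order huo
  have hla : l * a * l⁻¹ = a := by rw [comm_c (T₂.comp.le hl), mul_inv_cancel_right]
  have hlf := T₁.comp.fixes_of_mem T₂.comp hne hl
  have T' : IsTriple (l * x * l⁻¹) a L₁ := by
    have h1 := T₁.cj l
    rwa [hla, mem_normalizer_iff_cj.mp hlf.1] at h1
  have hux : u * (l * x * l⁻¹) = l * x * l⁻¹ * u := by
    calc u * (l * x * l⁻¹) = l * s * l⁻¹ * (l * x * l⁻¹) := by rw [hlu]
      _ = l * (s * x) * l⁻¹ := by group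
      _ = l * (x * s) * l⁻¹ := by rw [hsx]
      _ = l * x * l⁻¹ * (l * s * l⁻¹) := by group
      _ = _ := by rw [hlu]
  have hua : u * a = a * u := comm_c (T₂.comp.le hu)
  have huf := T₁.comp.fixes_of_mem T₂.comp hne hu
  have haf : Fixes a L₁ := fixes_self' T₁.comp.le
  have hau : a ≠ u := by
    intro h
    exact ne_one_of_order T₁.inva (WGlueA.simp_of P T₂ a (h ▸ hu) haa (fixes_self' T₂.comp.le))
  rcases hc with rfl | rfl
  · exact dich_of (dich P T' hJ hJL huo hua hux huf huJ)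
  · have cua : Commute u a := hua
    have cux : Commute u (l * x * l⁻¹) := hux
    have cax : Commute a (l * x * l⁻¹) := T'.comm
    refine dich_of (dich P T' hJ hJL (order_mul haa huu hua.symm hau)
      ((Commute.refl a).mul_left cua).eq (cax.mul_left cux).eq (fixes_mul haf huf) fun j hj => ?_)
    have h1 : Commute a j := haJ j hj
    have h2 : Commute u j := huJ j hj
    exact (h1.mul_left h2).eq

/-- lifting an involution of `N` to a covering subgroup `M` -/
theorem lift_M {M N : Subgroup G} (hs : M ⊔ core N = N) {s : G} (hsN : s ∈ N)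
    (hso : orderOf s = 2) : ∃ s' ∈ M, orderOf s' = 2 ∧ ∃ o ∈ core N, o * s * o⁻¹ = s' := by
  have hss := sq_of_order hso
  obtain ⟨j, hj, hjs⟩ := exists_mul_of_sup hs hsN
  have hMN : M ≤ N := by rw [← hs]; exact le_sup_left
  have hcM := core_of_sup hs
  have hs1 : s ∉ core N := fun h => ne_one_of_order hso (eq_one_of_mem_core_sq h hss)
  have hj1 : j ∉ core M := fun h => hs1 (by
    have h1 := mul_mem (core_le_of_sup hs h) hjs
    rwa [mul_inv_cancel_left] at h1)
  have hj2 : j * j ∈ core M := by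
    rw [hcM]
    refine ⟨mul_mem hj hj, ?_⟩
    have h1 := conj_mem (le_normalizer_core N (inv_mem (hMN hj))) hjs
    have h2 : j * j = s * s * (j⁻¹ * (j⁻¹ * s) * j⁻¹⁻¹ * (j⁻¹ * s))⁻¹ := by
      rw [← pow_two j]
      group
    rw [h2, hss, one_mul]
    exact (core N).inv_mem ((core N).mul_mem h1 hjs)
  obtain ⟨n, h1, h2, h3⟩ := TwoFacts.exists_inv_pow hj hj2 hj1
  have h4 : s⁻¹ * j ^ n ∈ core N := by
    have h5 := mul_mem (inv_mem hjs) (core_le_of_sup hs h3)
    have h6 : (j⁻¹ * s)⁻¹ * (j⁻¹ * j ^ n) = s⁻¹ * j ^ n := by group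
    rwa [h6] at h5
  obtain ⟨o, ho, h7⟩ := Intrinsic.Lifting.exists_conj_eq (n := 1) (m := 1) (odd_card_core N)
    (by rw [pow_one, pow_two]; exact hss) (by rw [pow_one, pow_two]; exact sq_of_order h2)
    (le_normalizer_core N hsN) h4
  exact ⟨j ^ n, h1, h2, o, ho, h7⟩

/-- THEOREM TF, with the data of the proof -/
theorem exists_data (P : Pgl G) {L₁ L₂ : Subgroup G} {s f : G} (T₁ : IsTriple x a L₁)
    (T₂ : IsTriple x a L₂) (hne : L₁ ≠ L₂) (hs : s ∈ L₂) (hso : orderOf s = 2)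
    (hsx : s * x = x * s) (hf : f ∈ L₂) (hfo : orderOf f = 2) (hfs : f ≠ s) (hsf : s * f = f * s) :
    TF x a s L₁ ∨ ∃ (x₀ e v s₀ : G) (N : Subgroup G), (e = s ∨ e = a * s) ∧ (v = f ∨ v = a * f) ∧
      Dg a e (cen (cen L₁ s) f) N ∧ Fixes v N ∧ Fixes v (cj a N) ∧ TF x₀ e s₀ (cj a N) := by
  have haa := sq_of_order T₁.inva
  have hss := sq_of_order hso
  have hff := sq_of_order hfo
  have hsa : s * a = a * s := comm_c (T₂.comp.le hs)
  have hfa : f * a = a * f := comm_c (T₂.comp.le hf)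
  have hsF := T₁.comp.fixes_of_mem T₂.comp hne hs
  have hfF := T₁.comp.fixes_of_mem T₂.comp hne hf
  have haF : Fixes a L₁ := fixes_self' T₁.comp.le
  have haL : ∀ u ∈ L₂, a ≠ u := fun u hu h =>
    ne_one_of_order T₁.inva (WGlueA.simp_of P T₂ a (h ▸ hu) haa (fixes_self' T₂.comp.le))
  -- `J`
  obtain ⟨hM, hMs⟩ := isComp_cen T₁.comp (mem_c hsa) hss hsF
  have hfM : Fixes f (cen L₁ s) :=
    (fixes_iff_of_sup hMs (mem_normalizer_cen hfF.1 hsf.symm) hfF.1).mpr hfF
  obtain ⟨J, hJd⟩ : ∃ J, J = cen (cen L₁ s) f := ⟨_, rfl⟩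
  obtain ⟨hJ, hJM⟩ := isComp_cen hM (mem_inf.mpr ⟨mem_c hfa, mem_c hsf.symm⟩) hff hfM
  rw [← hJd] at hJ hJM
  have hJL := cover_trans hJM hMs
  have hJM' : J ≤ cen L₁ s := by rw [← hJM]; exact le_sup_left
  have haJ : ∀ j ∈ J, a * j = j * a := fun j hj =>
    (comm_c (T₁.comp.le (cen_le _ _ (hJM' hj)))).symm
  have hsJ : ∀ j ∈ J, s * j = j * s := fun j hj => (comm_of_mem_cen (hJM' hj)).symm
  have hfJ : ∀ j ∈ J, f * j = j * f := fun j hj => (comm_of_mem_cen (hJd ▸ hj)).symm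
  have cas : Commute a s := hsa.symm
  have caf : Commute a f := hfa.symm
  have csf : Commute s f := hsf
  have cax : Commute a x := T₁.comm
  have csx : Commute s x := hsx
  -- the first step
  have step : (TF x a s L₁) ∨ ∃ e N, (e = s ∨ e = a * s) ∧ IsTriple x e N ∧ Dg a e J N := by
    rcases dich P T₁ hJ hJL hso hsa hsx hsF hsJ with ⟨N, h1, h2, -⟩ | ⟨N, h1, h2⟩
    · have h3 : ∀ j ∈ J, a * s * j = j * (a * s) := by
        intro j hj
        have c1 : Commute a j := haJ j hj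
        have c2 : Commute s j := hsJ j hj
        exact (c1.mul_left c2).eq
      rcases dich P T₁ hJ hJL (order_mul haa hss hsa.symm (haL s hs))
        ((Commute.refl a).mul_left cas.symm).eq (cax.mul_left csx).eq (fixes_mul haF hsF) h3 with
        ⟨N', h4, h5, -⟩ | ⟨N', h4, h5⟩
      · exact Or.inl (tf_of T₁ hso (haL s hs).symm hsa hsx hsF ⟨N, h1, h2⟩ ⟨N', h4, h5⟩)
      · exact Or.inr ⟨_, N', Or.inr rfl, h4, h5⟩
    · exact Or.inr ⟨s, N, Or.inl rfl, h1, h2⟩
  rcases step with h | ⟨e, N, he, T, D⟩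
  · exact Or.inl h
  have hee := sq_of_order T.inva
  obtain ⟨cea, cef, heJ⟩ : Commute e a ∧ Commute e f ∧ ∀ j ∈ J, e * j = j * e := by
    rcases he with rfl | rfl
    · exact ⟨cas.symm, csf, hsJ⟩
    · refine ⟨(Commute.refl a).mul_left cas.symm, caf.mul_left csf, fun j hj => ?_⟩
      have c1 : Commute a j := haJ j hj
      have c2 : Commute s j := hsJ j hj
      exact (c1.mul_left c2).eq
  have haC : a ∈ centralizer ({e} : Set G) := mem_c cea.symm.eq
  -- `v`
  obtain ⟨v, hv, hvN⟩ : ∃ v, (v = f ∨ v = a * f) ∧ cj v N = N := by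
    rcases perm' D.comp haC haa D.ne D.le D.cov (mem_c cef.symm.eq) hfJ with h1 | h1
    · exact ⟨f, Or.inl rfl, h1⟩
    · refine ⟨a * f, Or.inr rfl, ?_⟩
      rw [cj_mul, h1, ← cj_mul, haa, cj_one]
  have hfw : ∀ w, w = v ∨ w = e * v → Dich a w J ∧ w * w = 1 ∧ Commute w e ∧ Commute w a ∧
      (∀ j ∈ J, w * j = j * w) ∧ cj w N = N := by
    have cva : Commute v a := by
      rcases hv with rfl | rfl
      · exact caf.symm
      · exact (Commute.refl a).mul_left caf.symm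
    have cve : Commute v e := by
      rcases hv with rfl | rfl
      · exact cef.symm
      · exact cea.symm.mul_left cef.symm
    have hvv : v * v = 1 := by
      rcases hv with rfl | rfl
      · exact hff
      · exact sq_of_order (order_mul haa hff caf.eq (haL f hf))
    have hvJ : ∀ j ∈ J, v * j = j * v := by
      intro j hj
      rcases hv with rfl | rfl
      · exact hfJ j hj
      · have c1 : Commute a j := haJ j hj
        have c2 : Commute f j := hfJ j hj
        exact (c1.mul_left c2).eq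
    have heN : cj e N = N := mem_normalizer_iff_cj.mp (fixes_self' D.comp.le).1
    rintro w (rfl | rfl)
    · refine ⟨dich_u P T₁ T₂ hne hs hso hsx hf hfo hJ hJL haJ hfJ hv, hvv, cve, cva, hvJ, hvN⟩
    · have hso' := order_mul hss hff hsf hfs.symm
      have hsfJ : ∀ j ∈ J, s * f * j = j * (s * f) := fun j hj => by
        have c1 : Commute s j := hsJ j hj
        have c2 : Commute f j := hfJ j hj
        exact (c1.mul_left c2).eq
      refine ⟨dich_u P T₁ T₂ hne hs hso hsx (mul_mem hs hf) hso' hJ hJL haJ hsfJ ?_, ?_,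
        (Commute.refl e).mul_left cve, cea.mul_left cva, ?_, ?_⟩
      · rcases he with rfl | rfl
        · rcases hv with rfl | rfl
          · exact Or.inl rfl
          · right
            rw [← mul_assoc, ← mul_assoc, hsa]
        · rcases hv with rfl | rfl
          · exact Or.inr (mul_assoc _ _ _)
          · left
            calc a * s * (a * f) = a * (s * a) * f := by group
              _ = a * a * (s * f) := by rw [hsa]; group
              _ = s * f := by rw [haa, one_mul]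
      · calc e * v * (e * v) = e * (v * e) * v := by group
          _ = e * e * (v * v) := by rw [cve.eq]; group
          _ = 1 := by rw [hee, hvv, one_mul]
      · intro j hj
        have c1 : Commute e j := heJ j hj
        have c2 : Commute v j := hvJ j hj
        exact (c1.mul_left c2).eq
      · rw [cj_mul, hvN, heN]
  obtain ⟨-, hvv, cve, cva, hvJ, -⟩ := hfw v (Or.inl rfl)
  have hKw : ∀ w, w = v ∨ w = e * v → ∃ K, IsComp (centralizer ({w} : Set G)) K ∧ Fixes e K ∧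
      cen (cj a N) w = cen K e := by
    intro w hw
    obtain ⟨w1, w2, w3, w4, w5, w6⟩ := hfw w hw
    obtain ⟨K, k1, -, k3, k4⟩ := key_w D hJ haa hee w2 cea.symm.eq w3.eq w4.eq heJ w5 w6 w1
    exact ⟨K, k1, k3, k4⟩
  have hvf : Fixes v N := D.cov.fixes D.zt (mem_normalizer_iff_cj.mpr hvN) hvJ
  obtain ⟨-, -, -, hvf'⟩ := two D.comp haC D.ne (mem_c cve.eq) hvv cva.eq hvf
  obtain ⟨s₁, hs₁, hs₁o, hs₁x⟩ := TwoFacts.exists_s P T
  obtain ⟨s₀, hs₀, hs₀o, o, ho, hos⟩ :=
    lift_M (isComp_cen D.comp (mem_c cve.eq) hvv hvf).2 hs₁ hs₁o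
  have hN' := isComp_cj_of_mem D.comp haC
  have hoF : Fixes o (cj a N) := hN'.fixes_of_mem D.comp D.ne (core_le N ho)
  have hs₀N := cen_le N v hs₀
  have hs₀F : Fixes s₀ (cj a N) := hN'.fixes_of_mem D.comp D.ne hs₀N
  have T₀ : IsTriple (o * x * o⁻¹) e (cj a N) := by
    have h1 := (T.cj a).cj o
    have h2 : a * x * a⁻¹ = x := by rw [cax.eq, mul_inv_cancel_right]
    have h3 : a * e * a⁻¹ = e := by rw [cea.symm.eq, mul_inv_cancel_right]
    have h4 : o * e * o⁻¹ = e := by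
      rw [comm_c (D.comp.le (core_le N ho)), mul_inv_cancel_right]
    rwa [h2, h3, h4, mem_normalizer_iff_cj.mp hoF.1] at h1
  have cse : Commute s₀ e := comm_c (D.comp.le hs₀N)
  have csv : Commute s₀ v := comm_of_mem_cen hs₀
  have csx₀ : Commute s₀ (o * x * o⁻¹) := by
    have : s₀ * (o * x * o⁻¹) = o * x * o⁻¹ * s₀ := by
      calc s₀ * (o * x * o⁻¹) = o * s₁ * o⁻¹ * (o * x * o⁻¹) := by rw [hos]
        _ = o * (s₁ * x) * o⁻¹ := by group
        _ = o * (x * s₁) * o⁻¹ := by rw [hs₁x]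
        _ = o * x * o⁻¹ * (o * s₁ * o⁻¹) := by group
        _ = _ := by rw [hos]
    exact this
  have hes : e ≠ s₀ := fun h =>
    ne_one_of_order T.inva (WGlueA.simp_of P T e (h ▸ hs₀N) hee (fixes_self' T.comp.le))
  have fin : ∀ z, orderOf z = 2 → Commute z e → Commute z v → Commute z (o * x * o⁻¹) →
      Fixes z (cj a N) → ∃ K, IsTriple (o * x * o⁻¹) z K ∧ cen (cj a N) z ⊔ core K = K := by
    intro z z1 z2 z3 z4 z5
    rcases one_or_diag P T₀ z1 z2.eq z4.eq z5 with h | ⟨K, k1, k2, k3⟩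
    · exact h
    · exact (key_z hN' hee hvv (sq_of_order z1) cve.eq z2.eq z3.eq hvf' z5 hKw k1.comp (zt_of P k1)
        k2 k3).elim
  refine Or.inr ⟨_, e, v, s₀, N, he, hv, hJd ▸ D, hvf, hvf', tf_of T₀ hs₀o hes.symm cse.eq csx₀.eq hs₀F (fin s₀ hs₀o cse csv csx₀ hs₀F)
    (fin (e * s₀) (order_mul hee (sq_of_order hs₀o) cse.symm.eq hes)
      ((Commute.refl e).mul_left cse) (cve.symm.mul_left csv)
      ((show Commute e (o * x * o⁻¹) from T₀.comm).mul_left csx₀)
      (fixes_mul (fixes_self' hN'.le) hs₀F))⟩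

/-- **THEOREM TF.** Two triples `(x, a, L₁)`, `(x, a, L₂)`. -/
theorem exists_tf (P : Pgl G) {L₁ L₂ : Subgroup G} (T₁ : IsTriple x a L₁)
    (T₂ : IsTriple x a L₂) (hne : L₁ ≠ L₂) : ∃ (x₀ e t : G) (L : Subgroup G), TF x₀ e t L := by
  obtain ⟨s, hs, hso, hsx⟩ := TwoFacts.exists_s P T₂
  obtain ⟨f, hf, hfo, hfs, hsf⟩ := TwoFacts.exists_four P T₂ hs hso
  rcases exists_data P T₁ T₂ hne hs hso hsx hf hfo hfs hsf with h | ⟨x₀, e, v, s₀, N, -, -, -, -, -, h⟩
  · exact ⟨_, _, _, _, h⟩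
  · exact ⟨_, _, _, _, h⟩

end exist

end Cfsg.Agent.UGT.Res.TFour
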