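import Cfsg.Agent.UGT.Res.WGlue
import Cfsg.Agent.UGT.Res.WGlueP
import Cfsg.Agent.UGT.Res.TFour
import Cfsg.Agent.UGT.Res.WSupB

/-!
# All involutions of `K0 W H ∩ C(x)` are good

* `exists_PR`: `PR x a t L Lr` from `TF x a t L`.
* `false_of_diag`: no diagonal pump-ups, if the conjugates of `H` in `N(W)` are `H` or commute with `H` modulo `W`.
* `Gd.step'`, `Gd.all'`: as `Gd.step`, `Gd.all`, for all `c`.
-/

set_option autoImplicit false
set_option linter.unusedSectionVars false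

open Cfsg Subgroup
open Cfsg.Agent.SignalizersComponents Cfsg.Agent.Lib
open Cfsg.Agent.SignalizersComponents.IntrinsicBasic
open Cfsg.Agent.SignalizersComponents.IntrinsicIntr
open Cfsg.Agent.SignalizersComponents.PLayerAut
open Cfsg.Agent.Intrinsic.Basic Cfsg.Agent.Intrinsic.Cen Cfsg.Agent.Intrinsic.Diag
open Cfsg.Agent.McLLyComp.Act
open Cfsg.Agent.UGT.Triple Cfsg.Agent.UGT.LemG Cfsg.Agent.UGT.PumpGen Cfsg.Agent.UGT.TriBase
open Cfsg.Agent.UGT.Res.Base Cfsg.Agent.UGT.Res.KMax Cfsg.Agent.UGT.Res.KOne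
open Cfsg.Agent.UGT.Res.Abel Cfsg.Agent.UGT.Res.CoreFree
open Cfsg.Agent.UGT.Res.KFacts
open Cfsg.Agent.UGT.Res.WFun Cfsg.Agent.UGT.Res.WPair Cfsg.Agent.UGT.Res.WStar
open Cfsg.Agent.UGT.Res.WGlue Cfsg.Agent.UGT.Res.CovTools Cfsg.Agent.UGT.Res.TFour
open Cfsg.Agent.UGT.Res.WGlueA (mem_of_pow odd_order_of_core simp_of card_four)
open Cfsg.Agent.UGT.Res.WGlueP
open Cfsg.Agent.UGT.Iface Cfsg.Agent.UGT.Nodes
open scoped commutatorElement

namespace Cfsg.Agent.UGT.Res.TFin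

universe u

variable {G : Type u} [Group G] [Finite G]

/-! ### the structure `PR` -/

/-- `TF` and a choice of the pump-ups -/
theorem exists_PR {x a t : G} {L : Subgroup G} (S : TF x a t L) : ∃ Lr, PR x a t L Lr := by
  classical
  have haR : a ∈ zpowers a ⊔ zpowers t := mem_sup_left (mem_zpowers a)
  obtain ⟨hJ, -⟩ := isComp_cen S.T.comp (mem_c S.ta) (sq_of_order S.ot) S.tL
  refine ⟨fun r => if h : r ∈ zpowers a ⊔ zpowers t ∧ r ≠ 1 then Classical.choose (S.triv r h.1 h.2) else ⊥,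
    S.T, S.ot, S.ne, S.ta, S.tx, S.tL, ?_, ?_⟩
  · intro r hr h1
    have h : r ∈ zpowers a ⊔ zpowers t ∧ r ≠ 1 := ⟨hr, h1⟩
    simp only [dif_pos h]
    exact Classical.choose_spec (S.triv r h.1 h.2)
  · have h : a ∈ zpowers a ⊔ zpowers t ∧ a ≠ 1 := ⟨haR, ne_one_of_order S.T.inva⟩
    simp only [dif_pos h]
    obtain ⟨h1, h2⟩ := Classical.choose_spec (S.triv a h.1 h.2)
    refine hJ.unique h1.comp S.T.comp ?_ (cen_le L t)
    exact le_sup_left.trans h2.le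

/-- the conjugates of `H` under `N(W)` are `H` or commute with `H` modulo `W` -/
def Cj (W H : Subgroup G) : Prop :=
  ∀ m ∈ normalizer (W : Set G), cj m H = H ∨ ⁅H, cj m H⁆ ≤ W

/-- if `k ∈ K` acts on `K / O(K)` as `a` and `[a, b] = 1`, then `[k, b] ∈ O(K)` -/
theorem comm_mem_core {K : Subgroup G} (hZ : ZT K) {k a b : G} (hk : k ∈ K)
    (haK : a ∈ normalizer (K : Set G)) (hbK : b ∈ normalizer (K : Set G)) (hf : Fixes (k⁻¹ * a) K)
    (hab : a * b = b * a) : ⁅k, b⁆ ∈ core K := by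
  have hkN := le_normalizer hk
  have h1 : ⁅k, b⁆ ∈ K := by
    have h2 : ⁅k, b⁆ = k * (b * k⁻¹ * b⁻¹) := by rw [commutatorElement_def]; group
    rw [h2]
    exact mul_mem hk (conj_mem hbK (inv_mem hk))
  refine hZ _ h1 ?_
  rw [← act_eq_one_iff (le_normalizer h1)]
  have e1 : act K ⟨k, hkN⟩ = act K ⟨a, haK⟩ := by
    have h2 := (act_eq_one_iff (mul_mem (inv_mem hkN) haK)).mpr hf
    have h3 : act K ⟨k⁻¹ * a, mul_mem (inv_mem hkN) haK⟩ = (act K ⟨k, hkN⟩)⁻¹ * act K ⟨a, haK⟩ := by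
      rw [← map_inv, ← map_mul]
      rfl
    rw [h3] at h2
    exact (inv_mul_eq_one.mp h2)
  have e2 : act K ⟨⁅k, b⁆, le_normalizer h1⟩ = ⁅act K ⟨k, hkN⟩, act K ⟨b, hbK⟩⁆ := by
    rw [← map_commutatorElement]
    rfl
  have e3 : act K ⟨a, haK⟩ * act K ⟨b, hbK⟩ = act K ⟨b, hbK⟩ * act K ⟨a, haK⟩ := by
    rw [← map_mul, ← map_mul]
    exact congrArg (act K) (Subtype.ext hab)
  rw [e2, e1, commutatorElement_eq_one_iff_mul_comm]
  exact e3

/-- **LEMMA D**: the diagonal pump-ups of `H` are impossible. -/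
theorem false_of_diag (TB : TwoBal G) {W H : Subgroup G} (S : Sys W H) (comm : Cj W H)
    {u w a : G} {K E A : Subgroup G} (hK : IsComp (centralizer ({u} : Set G)) K) (hZ : ZT K)
    (hww : w * w = 1) (hwu : w * u = u * w) (hwK : w ∈ K0 W H) (hne : cj w K ≠ K)
    (hE : IsElementaryAbelian 2 E) (h16 : 16 ≤ Nat.card ↥E) (hW : Wd E = W) (huE : u ∈ E)
    (hAE : A ≤ E) (hA : A ≤ diag (centralizer ({u} : Set G)) K w) (hAH : A ≤ H)
    (h8 : 8 ≤ Nat.card ↥(zpowers u ⊔ A : Subgroup G)) (haA : a ∈ A) (ha1 : a ≠ 1) : False := by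
  obtain ⟨X, hX⟩ : ∃ X, X = centralizer ({u} : Set G) := ⟨_, rfl⟩
  rw [← hX] at hK hA
  have hwX : w ∈ X := hX ▸ mem_c hwu
  have hEX : E ≤ X := hX ▸ mem_c_of_mem_el hE huE
  have haa : a * a = 1 := sq_of_el hE (hAE haA)
  have hOM : core X ≤ normalizer (W : Set G) := by
    rw [← hW]
    exact le_of_odd TB hE h16 (odd_card_core X) (hEX.trans (le_normalizer_core X))
  obtain ⟨d1, d2, -⟩ := exists_diag hK hwX hww hne
  obtain ⟨k, hk, hak⟩ := d2 a (hA haA)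
  have haX : a ∈ X := hEX (hAE haA)
  have hKc := isComp_cj_of_mem hK hwX
  have hkX := hK.le hk
  -- `k² ∈ O(K)`
  have hka := fixes_inv_mul hK hwX hne hk haX hak
  have haN : a ∈ normalizer (K : Set G) := DiagTools.mem_normalizer_of_diag hK hwX hww hne (hA haA)
  have hkN := le_normalizer hk
  have hk2 : k * k ∈ core K := by
    refine hZ _ (mul_mem hk hk) ?_
    have h1 : Fixes (k * (k⁻¹ * a) * k⁻¹) K := fixes_conj hka hkN
    have h2 : k * k = (k * (k⁻¹ * a) * k⁻¹ * (k * (k⁻¹ * a) * k⁻¹)⁻¹) * (k * k) := by group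
    have h3 : Fixes ((k⁻¹ * a)⁻¹ * (k * (k⁻¹ * a) * k⁻¹)⁻¹) K :=
      fixes_mul (fixes_inv hka) (fixes_inv h1)
    -- `(k⁻¹ a)⁻¹ (a k⁻¹)⁻¹ = a⁻¹ k k a⁻¹`
    have h4 : (k⁻¹ * a)⁻¹ * (k * (k⁻¹ * a) * k⁻¹)⁻¹ = a⁻¹ * (k * k) * a⁻¹ := by group
    rw [h4] at h3
    have h5 := fixes_conj h3 haN
    have h6 : a * (a⁻¹ * (k * k) * a⁻¹) * a⁻¹ = (k * k) * (a * a)⁻¹ := by group
    rwa [h6, haa, inv_one, mul_one] at h5
  have hk1 : k ∉ core K := by
    intro h
    have h1 : k ∈ core X := hK.core_le_core h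
    have h2 : w * k * w⁻¹ ∈ core X := conj_mem (le_normalizer_core X hwX) h1
    have h3 : a ∈ core X := by
      have h4 := mul_mem (mul_mem h1 h2) (inv_mem hak)
      have h5 : k * (w * k * w⁻¹) * (a⁻¹ * (k * (w * k * w⁻¹)))⁻¹ = a := by group
      rwa [h5] at h4
    exact ha1 (eq_one_of_mem_core_sq h3 haa)
  obtain ⟨n, hn1, hn2, hn3⟩ := TwoFacts.exists_inv_pow hk hk2 hk1
  obtain ⟨k₀, hk₀⟩ : ∃ k₀, k₀ = k ^ n := ⟨_, rfl⟩
  rw [← hk₀] at hn1 hn2 hn3
  have hc₀ : k⁻¹ * k₀ ∈ core X := hK.core_le_core hn3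
  have hkk₀ := sq_of_order hn2
  have hOX : ∀ g ∈ X, ∀ c ∈ core X, g * c * g⁻¹ ∈ core X := fun g hg c hc =>
    conj_mem (le_normalizer_core X hg) hc
  have hka₀ : Fixes (k₀⁻¹ * a) K := by
    have h1 : k₀⁻¹ * a = (k⁻¹ * k₀)⁻¹ * (k⁻¹ * a) := by group
    rw [h1]
    exact fixes_mul (fixes_inv (hK.fixes_of_core hc₀)) hka
  -- `[k₀, U] ≤ O(X)`
  obtain ⟨U, hU⟩ : ∃ U, U = zpowers u ⊔ A := ⟨_, rfl⟩
  have hUE : U ≤ E := hU ▸ sup_le (zpowers_le.mpr huE) hAE
  have hk₀u : k₀ * u = u * k₀ := by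
    have := hK.le hn1
    rw [hX] at this
    exact comm_c this
  have hcU : ∀ v ∈ U, ∀ z ∈ zpowers k₀, ⁅v, z⁆ ∈ core X := by
    have h1 : ∀ b ∈ A, ⁅b, k₀⁆ ∈ core X := by
      intro b hb
      have h2 := comm_mem_core hZ hn1 haN (DiagTools.mem_normalizer_of_diag hK hwX hww hne (hA hb)) hka₀
        (comm_of_el hE (hAE haA) (hAE hb))
      have h3 := inv_mem (hK.core_le_core h2)
      rwa [commutatorElement_inv] at h3
    intro v hv z hz
    rcases (mem_zpowers_of_sq hkk₀).mp hz with rfl | rfl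
    · rw [commutatorElement_one_right]
      exact one_mem _
    rw [hU] at hv
    obtain ⟨e, he, b, hb, rfl⟩ := (mem_sup_of_comm (fun e he b hb =>
      comm_of_el hE (zpowers_le.mpr huE he) (hAE hb))).mp hv
    have he' : e * z = z * e := by
      obtain ⟨m, rfl⟩ := mem_zpowers_iff.mp he
      exact ((show Commute u z from hk₀u.symm).zpow_left m).eq
    have h2 : ⁅e * b, z⁆ = e * ⁅b, z⁆ * e⁻¹ := by
      rw [commutatorElement_def, commutatorElement_def]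
      calc e * b * z * (e * b)⁻¹ * z⁻¹ = e * (b * z * b⁻¹) * (e⁻¹ * z⁻¹) := by group
        _ = e * (b * z * b⁻¹) * (z * e)⁻¹ := by rw [mul_inv_rev]
        _ = e * (b * z * b⁻¹) * (e * z)⁻¹ := by rw [he']
        _ = _ := by rw [mul_inv_rev]; group
    rw [h2]
    exact hOX e (hEX (zpowers_le.mpr huE he)) _ (h1 b hb)
  obtain ⟨o, ho, hco⟩ := exists_commuting (odd_card_core X) (isPGroup_of_el (el_mono hE hUE))
    (isPGroup_of_el (el_zpowers hkk₀)) (hUE.trans (hEX.trans (le_normalizer_core X)))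
    ((zpowers_le.mpr (hK.le hn1)).trans (le_normalizer_core X)) hcU
  obtain ⟨k', hk'⟩ : ∃ k', k' = o * k₀ * o⁻¹ := ⟨_, rfl⟩
  have hk'U : ∀ v ∈ U, v * k' = k' * v := fun v hv =>
    hk' ▸ hco v hv _ (conj_mem_cj (mem_zpowers k₀))
  have hoX := core_le X ho
  have hk'X : k' ∈ X := hk' ▸ mul_mem (mul_mem hoX (hK.le hn1)) (inv_mem hoX)
  have hkk' : k' * k' = 1 := by
    rw [hk']
    calc o * k₀ * o⁻¹ * (o * k₀ * o⁻¹) = o * (k₀ * k₀) * o⁻¹ := by group
      _ = 1 := by rw [hkk₀]; group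
  have hk'M : k' ∈ normalizer (W : Set G) := by
    rw [← hW]
    refine normalizer_le TB hE h16 hUE (hU ▸ h8) (centralizer_le_normalizer' U ?_)
    exact mem_centralizer_iff.mpr hk'U
  -- `k'` normalizes `H`
  have haH := hAH haA
  have hk'H : k' ∈ normalizer (H : Set G) := by
    rcases comm k' hk'M with h | h
    · exact mem_normalizer_iff_cj.mpr h
    · exfalso
      have h1 : a ∈ cj k' H := by
        rw [mem_cj]
        have h2 := hk'U a (hU ▸ mem_sup_right haA)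
        have h3 : k'⁻¹ * a * k' = a := by rw [mul_assoc, h2, inv_mul_cancel_left]
        rw [h3]
        exact haH
      have haK : a ∈ K0 W H := by
        refine ⟨S.le_M0 haH, le_normalizer haH, fun y hy => ?_⟩
        have h2 := inv_mem (h (commutator_mem_commutator hy h1))
        rw [commutatorElement_inv] at h2
        exact S.Wc h2
      exact ha1 (eq_one_of S haH haa haK)
  -- modulo `K0`
  have hk'M0 : k' ∈ M0 W H := ⟨hk'M, hk'H⟩
  obtain ⟨κ, hκ⟩ : ∃ κ, κ = k' * (w * k' * w⁻¹) := ⟨_, rfl⟩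
  have hκK : κ ∈ K0 W H := by
    have h1 : κ = (k' * k') * (k'⁻¹ * w * k'⁻¹⁻¹) * w⁻¹ := by rw [hκ]; group
    rw [h1, hkk', one_mul]
    exact mul_mem (conj_mem (M0_le_normalizer (inv_mem hk'M0)) hwK) (inv_mem hwK)
  have hc : a⁻¹ * κ ∈ core X := by
    -- `k' = k c₁`
    obtain ⟨c₁, hc₁⟩ : ∃ c₁, c₁ = k⁻¹ * k' := ⟨_, rfl⟩
    have h1 : c₁ ∈ core X := by
      have h2 : c₁ = (k⁻¹ * o * k⁻¹⁻¹) * (k⁻¹ * k₀) * o⁻¹ := by rw [hc₁, hk']; group
      rw [h2]
      exact mul_mem (mul_mem (hOX _ (inv_mem hkX) _ ho) hc₀) (inv_mem ho)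
    have h2 : w * c₁ * w⁻¹ ∈ core X := hOX w hwX _ h1
    have h3 : a⁻¹ * κ = (a⁻¹ * (k * (w * k * w⁻¹))) * (((w * k * w⁻¹)⁻¹ * c₁ * (w * k * w⁻¹)⁻¹⁻¹) *
        (w * c₁ * w⁻¹)) := by
      rw [hκ, hc₁]
      group
    rw [h3]
    exact mul_mem hak (mul_mem (hOX _ (inv_mem (mul_mem (mul_mem hwX hkX) (inv_mem hwX))) _ h1) h2)
  have haM0 : a ∈ M0 W H := S.le_M0 haH
  have haK : a ∈ K0 W H := by
    refine mem_of_pow (c := (a⁻¹ * κ)⁻¹) (m := κ) (n := 1) (by group) hκK ?_ ?_ ?_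
    · exact M0_le_normalizer (inv_mem (mul_mem (inv_mem haM0) (K0_le hκK)))
    · exact odd_order_of_core (inv_mem hc)
    · rw [pow_one, pow_two, haa]
  exact ha1 (eq_one_of S haH haa haK)

/-- a four-group of `L` in `C(r)`, `r` an involution fixing `L` -/
theorem exists_A (P : Pgl G) {x a r : G} {L : Subgroup G} (T : IsTriple x a L) (hrr : r * r = 1)
    (hf : Fixes r L) : ∃ A ≤ L, (∀ b ∈ A, b * b = 1) ∧ Nat.card ↥A = 4 ∧ ∀ b ∈ A, r * b = b * r := by
  obtain ⟨B, hBL, hB2, hB4⟩ := exists_B P T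
  obtain ⟨o, ho, h⟩ := exists_commuting (odd_card_core L) (isPGroup_of_el (el_zpowers hrr))
    (isPGroup_of_el (el_of_sq hB2)) (A := zpowers r) (B := B)
    (zpowers_le.mpr (normalizer_le_normalizer_core L hf.1)) (hBL.trans (le_normalizer_core L))
    (fun v hv b hb => by
      rcases (mem_zpowers_of_sq hrr).mp hv with rfl | rfl
      · rw [commutatorElement_one_left]
        exact one_mem _
      · exact hf.2 b (hBL hb))
  refine ⟨cj o B, ?_, fun b hb => sq_of_el (el_cj (el_of_sq hB2) o) hb, (card_cj o B).trans hB4,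
    fun b hb => h r (mem_zpowers r) b hb⟩
  intro b hb
  rw [mem_cj] at hb
  have h1 := mul_mem (mul_mem (core_le L ho) (hBL hb)) (inv_mem (core_le L ho))
  have h2 : o * (o⁻¹ * b * o) * o⁻¹ = b := by group
  rwa [h2] at h1

/-- **no diagonal pump-ups** -/
theorem no_diag (P : Pgl G) (TB : TwoBal G) {x : G} {W H : Subgroup G} (S : Sys W H) (comm : Cj W H)
    {t r : G} {L : Subgroup G} (T : IsTriple x t L) (F : Fine W t L) (hL : L ⊔ W = H)
    (htK : t ∈ K0 W H) (or : orderOf r = 2) (hne : r ≠ t) (hrt : r * t = t * r) (hrx : r * x = x * r)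
    (hf : Fixes r L) : ∃ N, IsTriple x r N ∧ cen L r ⊔ core N = N := by
  rcases one_or_diag P T or hrt hrx hf with h | ⟨N, hN, h1, h2⟩
  · exact h
  exfalso
  have hrr := sq_of_order or
  have htt := sq_of_order T.inva
  obtain ⟨A, hAL, hA2, hA4, hAr⟩ := exists_A P T hrr hf
  obtain ⟨R, hR⟩ : ∃ R, R = zpowers t ⊔ zpowers r := ⟨_, rfl⟩
  have hRt : t ∈ R := hR ▸ mem_sup_left (mem_zpowers t)
  have hRr : r ∈ R := hR ▸ mem_sup_right (mem_zpowers r)
  have hAt : ∀ b ∈ A, t * b = b * t := fun b hb => (comm_c (T.comp.le (hAL hb))).symm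
  have hRA : ∀ z ∈ R, ∀ b ∈ A, z * b = b * z := by
    intro z hz b hb
    have h3 : R ≤ centralizer ({b} : Set G) := by
      rw [hR]
      exact sup_le (zpowers_le.mpr (mem_c (hAt b hb))) (zpowers_le.mpr (mem_c (hAr b hb)))
    exact comm_c (h3 hz)
  have elR : IsElementaryAbelian 2 R := by
    rw [hR]
    refine el_sup (el_zpowers htt) (el_zpowers hrr) fun e he f hf' => ?_
    rcases (mem_zpowers_of_sq htt).mp he with rfl | rfl
    · rw [one_mul, mul_one]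
    · rcases (mem_zpowers_of_sq hrr).mp hf' with rfl | rfl
      · rw [one_mul, mul_one]
      · exact hrt.symm
  have hfix : ∀ z ∈ R, Fixes z L := by
    intro z hz
    have h3 : R ≤ fix ⊤ L := by
      rw [hR]
      exact sup_le (zpowers_le.mpr ⟨trivial, fixes_self' T.comp.le⟩)
        (zpowers_le.mpr ⟨trivial, hf⟩)
    exact (h3 hz).2
  have hinf : R ⊓ A = ⊥ := by
    rw [eq_bot_iff]
    rintro z ⟨hz, hzA⟩
    exact mem_bot.mpr (simp_of P T z (hAL hzA) (hA2 z hzA) (hfix z hz))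
  have hR4 : Nat.card ↥R = 4 := hR ▸ card_four T.inva or hne.symm hrt.symm
  have elE : IsElementaryAbelian 2 (R ⊔ A : Subgroup G) := el_sup elR (el_of_sq hA2) hRA
  have h16 : 16 ≤ Nat.card ↥(R ⊔ A : Subgroup G) := by
    have := card_mul_le_sup hinf
    rw [hR4, hA4] at this
    exact this
  have hz8 : ∀ z ∈ R, orderOf z = 2 → 8 ≤ Nat.card ↥(zpowers z ⊔ A : Subgroup G) := by
    intro z hz ho
    have h3 : zpowers z ⊓ A = ⊥ := by
      rw [eq_bot_iff, ← hinf]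
      exact inf_le_inf_right _ (zpowers_le.mpr hz)
    have h4 := card_mul_le_sup h3
    rw [Nat.card_zpowers, ho, hA4] at h4
    exact h4
  have hWE : Wd (R ⊔ A) = W := by
    rw [← Wd_eq TB elE h16 (sup_le_sup_right (zpowers_le.mpr hRt) A) (hz8 t hRt T.inva)]
    exact F.eq A hAL hA2 hA4
  obtain ⟨b, hb, hb1, -⟩ := CoreFree.exists_ne (B := A) (by omega) 1
  refine false_of_diag TB S comm hN.comp (zt_of P hN) htt hrt.symm htK h1 elE h16 hWE
    (mem_sup_left hRr) le_sup_right ?_ (hAL.trans (hL ▸ le_sup_left)) (hz8 r hRr or) hb hb1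
  rw [← h2]
  intro b hb
  exact mem_cen_of_sq (hAL hb) (hAr b hb).symm (hA2 b hb)

section gd

variable {x : G} {W H : Subgroup G}

/-- **the step** -/
theorem step' (P : Pgl G) (TB : TwoBal G)
    (hB : ∀ v : G, orderOf v = 2 → HasBProperty ↥(centralizer ({v} : Set G)))
    (hY : ∀ {x a t : G} {L : Subgroup G} {Lr : G → Subgroup G}, PR x a t L Lr → YJ x a t L)
    (S : Sys W H) (hc : core H = W) (comm : Cj W H) {t u : G} (h : Gd x W H t) (hu : u ∈ K0 W H)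
    (ou : orderOf u = 2) (hut : u * t = t * u) (hux : u * x = x * u) : Gd x W H u := by
  by_cases hne : u = t
  · rw [hne]
    exact h
  have htK := h.mem_K0 hc
  obtain ⟨L, T, F, hL⟩ := h
  have hf := fixes_of_K0 hc F hL hut hu
  have htt := sq_of_order T.inva
  have huu := sq_of_order ou
  have ctu : Commute t u := hut.symm
  have ctx : Commute t x := T.comm
  have h1 := no_diag P TB S comm T F hL htK ou hne hut hux hf
  have h2 := no_diag P TB S comm T F hL htK (order_mul htt huu hut.symm (Ne.symm hne)) (r := t * u)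
    (fun h => ne_one_of_order ou (mul_eq_left.mp h)) ((Commute.refl t).mul_left ctu.symm).eq
    (ctx.mul_left hux).eq (fixes_mul (fixes_self' T.comp.le) hf)
  obtain ⟨Lr, hPR⟩ := exists_PR (tf_of T ou hne hut hux hf h1 h2)
  obtain ⟨W', f1, f2, -, f4⟩ := glue_one P hPR (hY hPR) TB hB
  obtain ⟨B, hBL, hB2, hB4⟩ := exists_B P T
  have hWW : W' = W := by rw [← f1.eq B hBL hB2 hB4, F.eq B hBL hB2 hB4]
  rw [hWW] at f2 f4
  exact ⟨Lr u, (hPR.pump u (mem_sup_right (mem_zpowers u)) (ne_one_of_order ou)).1, f2,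
    by rw [f4, hL]⟩

/-- **all involutions of `K0 W H ∩ C(x)` are good if one is** -/
theorem all' (P : Pgl G) (TB : TwoBal G)
    (hB : ∀ v : G, orderOf v = 2 → HasBProperty ↥(centralizer ({v} : Set G)))
    (hY : ∀ {x a t : G} {L : Subgroup G} {Lr : G → Subgroup G}, PR x a t L Lr → YJ x a t L)
    (S : Sys W H) (hc : core H = W) (comm : Cj W H) {a : G} (h : Gd x W H a) {t : G}
    (ht : t ∈ K0 W H) (ot : orderOf t = 2) (htx : t * x = x * t) : Gd x W H t := by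
  have haK := h.mem_K0 hc
  obtain ⟨oa, hax⟩ : orderOf a = 2 ∧ a * x = x * a := by
    obtain ⟨L, T, -, -⟩ := h
    exact ⟨T.inva, T.comm⟩
  have haa := sq_of_order oa
  have htt := sq_of_order ot
  obtain ⟨C, hC⟩ : ∃ C, C = K0 W H ⊓ centralizer ({x} : Set G) := ⟨_, rfl⟩
  obtain ⟨Q, hQ, haQ⟩ := exists_isSyl (E := C) (isPGroup_of_el (el_zpowers haa)) (by
    rw [zpowers_le, hC]
    exact ⟨haK, mem_c hax⟩)
  rw [zpowers_le] at haQ
  have hQ1 : Q ≠ ⊥ := by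
    rintro rfl
    exact ne_one_of_order oa (mem_bot.mp haQ)
  have hmem : ∀ {g : G}, g ∈ C → g ∈ K0 W H ∧ g * x = x * g := fun {g} hg => by
    rw [hC] at hg
    exact ⟨hg.1, comm_c hg.2⟩
  obtain ⟨w, hw, hw2, hwc⟩ := exists_central hQ.two le_rfl le_normalizer hQ1
  have hwC := hmem (hQ.le hw)
  have hwG : Gd x W H w := step' P TB hB hY S hc comm h hwC.1 hw2 (hwc _ haQ).symm hwC.2
  obtain ⟨k, hk, htk⟩ := hQ.conj (isPGroup_of_el (el_zpowers htt)) (by
    rw [zpowers_le, hC]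
    exact ⟨ht, mem_c htx⟩)
  rw [zpowers_le, mem_cj] at htk
  have hkC := hmem hk
  obtain ⟨t', ht'⟩ : ∃ t', t' = k⁻¹ * t * k := ⟨_, rfl⟩
  rw [← ht'] at htk
  have htt' : k * t' * k⁻¹ = t := by rw [ht']; group
  have ht'C := hmem (hQ.le htk)
  have h1 : Gd x W H t' := by
    refine step' P TB hB hY S hc comm hwG ht'C.1 ?_ (hwc _ htk) ht'C.2
    rw [ht', ← ot]
    have := (MulAut.conj k⁻¹).orderOf_eq t
    rw [MulAut.conj_apply, inv_inv] at this
    exact this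
  have h2 := h1.cj (K0_le hkC.1) hkC.2
  rwa [htt'] at h2

end gd

/-- **The glue, for all `c`.** -/
theorem glue' (P : Pgl G) (TB : TwoBal G)
    (hB : ∀ v : G, orderOf v = 2 → HasBProperty ↥(centralizer ({v} : Set G)))
    (hY : ∀ {x a t : G} {L : Subgroup G} {Lr : G → Subgroup G}, PR x a t L Lr → YJ x a t L)
    {x a t : G} {L : Subgroup G} (S : TF x a t L) :
    ∃ W H : Subgroup G, core H = W ∧ L ⊔ W = H ∧ Fine W a L ∧ x ∈ M0 W H ∧ a ∈ K0 W H ∧
      t ∈ K0 W H ∧ FF W H a ∧ Pt W H ∧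
      (∀ r ∈ zpowers a ⊔ zpowers t, r ≠ 1 → centralizer ({r} : Set G) ≤ normalizer (W : Set G)) ∧
      (Cj W H → ∀ u ∈ K0 W H, orderOf u = 2 → u * x = x * u → Gd x W H u) := by
  obtain ⟨Lr, hPR⟩ := exists_PR S
  obtain ⟨s, A, hX⟩ := exists_fourX P hPR
  obtain ⟨W, h1, h2, h3, h4⟩ := glue_one P hPR (hY hPR) TB hB
  have hgd : Gd x W (L ⊔ W) a := ⟨L, S.T, h1, rfl⟩
  have hx := hgd.x_mem
  have hpt := (WSupB.supply P S.T h3 rfl hx).1
  have hA4 := hX.cardA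
  have hW : Wd ((zpowers a ⊔ zpowers t) ⊔ A) = W := by
    rw [← hX.toFour.Wd_r TB (mem_sup_left (mem_zpowers a)) (ne_one_of_order S.T.inva) hX.AJ hX.sqA hA4]
    exact h1.eq A (hX.AJ.trans (cen_le L t)) hX.sqA hA4
  exact ⟨W, L ⊔ W, h3, rfl, h1, hx, hgd.mem_K0 h3, mem_K0_of_fixes h3 h1 rfl S.ta S.tL,
    ff_of_fine h3 h1 rfl, hpt, fun r hr hr1 => hW ▸ hX.centralizer_le' TB hr hr1,
    fun comm u hu ou hux => all' P TB hB hY hpt.toSys h3 comm hgd hu ou hux⟩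

end Cfsg.Agent.UGT.Res.TFin
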