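import Cfsg.Agent.UGT.Res.WGlue
import Cfsg.Agent.UGT.Res.HonW

/-!
# `W = 1`

* `WOne G`: `W = 1` for all triples `(x, a, L)` with a second involution of `C(a) ∩ C(x)` fixing `L`.
* `hon_of`: then such a triple is honest.
-/

set_option autoImplicit false
set_option linter.dupNamespace false

open Cfsg Subgroup
open Cfsg.Agent.SignalizersComponents Cfsg.Agent.Lib
open Cfsg.Agent.SignalizersComponents.IntrinsicBasic
open Cfsg.Agent.SignalizersComponents.PLayerAut
open Cfsg.Agent.Intrinsic.Basic Cfsg.Agent.Intrinsic.Cen Cfsg.Agent.Intrinsic.Diag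
open Cfsg.Agent.McLLyComp.Act
open Cfsg.Agent.UGT.Triple Cfsg.Agent.UGT.TriBase
open Cfsg.Agent.UGT.Res.Base Cfsg.Agent.UGT.Res.KFacts
open Cfsg.Agent.UGT.Res.WFun Cfsg.Agent.UGT.Res.WPair Cfsg.Agent.UGT.Res.WGlue
open Cfsg.Agent.UGT.Res.HonW
open Cfsg.Agent.UGT.ThE.Base (IsT IsS)

namespace Cfsg.Agent.UGT.Res.WOne

universe u

/-- the `W = 1` side of the split -/
def WOne (G : Type u) [Group G] [Finite G] : Prop := ∀ {x a t : G} {L W : Subgroup G},
  IsTriple x a L → orderOf t = 2 → t ≠ a → t * a = a * t → t * x = x * t → Fixes t L →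
  Fine W a L → core (L ⊔ W) = W → W = ⊥

variable {G : Type u} [Group G] [Finite G]

/-- a triple with a second involution is honest -/
theorem hon_of (P : Pgl G) (O : Hon.One G) (TB : TwoBal G)
    (hB : ∀ v : G, orderOf v = 2 → HasBProperty ↥(centralizer ({v} : Set G))) (hW : WOne G)
    {x a t : G} {L : Subgroup G} (T : IsTriple x a L) (ot : orderOf t = 2) (hne : t ≠ a)
    (hta : t * a = a * t) (htx : t * x = x * t) (htL : Fixes t L) : HonW x L := by
  obtain ⟨W, H, h1, h2, h3, h4, h5, h6, -, h8⟩ := glue P O TB hB T ot hne hta htx htL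
  have hW1 : W = ⊥ := hW T ot hne hta htx htL h3 (by rw [h2, h1])
  subst hW1
  rw [sup_bot_eq] at h2
  subst h2
  have hmem : ∀ {u : G}, u ∈ centralizer (L : Set G) → u ∈ K0 ⊥ L := by
    intro u hu
    refine ⟨⟨?_, centralizer_le_normalizer _ hu⟩, Hon.fixes_of_comm hu⟩
    exact mem_normalizer_iff_cj.mpr (Subgroup.map_bot _)
  have hcen : ∀ {u : G}, Fixes u L → u ∈ centralizer (L : Set G) := fun h => Hon.comm_of_fixes h1 h
  have haL : Fixes a L := fixes_self' T.comp.le
  have key : ∀ {u : G}, IsT L x u → IsTriple x u L ∧ Fine ⊥ u L := by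
    intro u hu
    obtain ⟨L', T', F', hL'⟩ := h8 u (hmem hu.mem) (Hon.order_isT hu) hu.comm
    rw [sup_bot_eq] at hL'
    subst hL'
    exact ⟨T', F'⟩
  refine ⟨T.invx, h1, fun hu => (key hu).1, ?_, ?_⟩
  · intro u hu d hd
    rw [mem_centralizer_iff]
    intro l hl
    have h9 := (key hu).2.comm d hd l hl
    rw [mem_bot, commutatorElement_eq_one_iff_mul_comm] at h9
    exact h9
  · refine ⟨a, t, ⟨hcen haL, T.comm, sq_of_order T.inva, ?_⟩, ⟨hcen htL, htx, sq_of_order ot, ?_⟩,
      hne.symm, hta.symm⟩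
    · rintro rfl
      have := T.inva
      rw [orderOf_one] at this
      exact absurd this (by decide)
    · rintro rfl
      rw [orderOf_one] at ot
      exact absurd ot (by decide)

/-- **the world `W = 1`** -/
theorem world (P : Pgl G) (O : Hon.One G) (TB : TwoBal G)
    (hB : ∀ v : G, orderOf v = 2 → HasBProperty ↥(centralizer ({v} : Set G))) (hW : WOne G)
    (dl : ∀ {x t d : G} {L : Subgroup G}, HonW x L → IsT L x t →
      d ∈ core (centralizer ({x} : Set G)) → d ∈ core (centralizer ({t} : Set G)) →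
      d ∈ core (centralizer ({x * t} : Set G)) → d = 1) : World G where
  pgl := P
  one := O
  glue T oc hne hca hcx hf := hon_of P O TB hB hW T oc hne hca hcx hf
  dl := dl

end Cfsg.Agent.UGT.Res.WOne
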