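import Cfsg.Agent.UGT.Res.TConf
import Cfsg.Agent.UGT.Res.TFin
import Cfsg.Agent.UGT.Res.WOne
import Cfsg.Agent.UGT.Res.WMany.Leaf

/-!
# `W = 1` from STEP 1

`Step1 G`: the conjugates of `H` under `N(W)` commute modulo `W`, for all `TF`.

* `bot`: `W = 1` for all `TF`.
* `wone_two`, `wone_one`: the two forms of `W = 1`.
-/

set_option autoImplicit false
set_option linter.unusedSectionVars false

open Cfsg Subgroup
open Cfsg.Agent.SignalizersComponents Cfsg.Agent.Lib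
open Cfsg.Agent.SignalizersComponents.IntrinsicBasic
open Cfsg.Agent.Intrinsic.Basic Cfsg.Agent.Intrinsic.Cen
open Cfsg.Agent.McLLyComp.Act
open Cfsg.Agent.UGT.Triple Cfsg.Agent.UGT.TriBase
open Cfsg.Agent.UGT.Res.Base Cfsg.Agent.UGT.Res.KFacts Cfsg.Agent.UGT.Res.WFun
open Cfsg.Agent.UGT.Res.WPair Cfsg.Agent.UGT.Res.WStar Cfsg.Agent.UGT.Res.WGlue
open Cfsg.Agent.UGT.Res.TFour Cfsg.Agent.UGT.Res.TwoSup
open scoped commutatorElement

namespace Cfsg.Agent.UGT.Res.WField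

universe u

/-- **STEP 1** -/
def Step1 (G : Type u) [Group G] [Finite G] : Prop := ∀ {x a t : G} {L W H : Subgroup G},
  TF x a t L → Fine W a L → core H = W → L ⊔ W = H → W ≠ ⊥ → x ∈ M0 W H →
  (∀ r ∈ zpowers a ⊔ zpowers t, r ≠ 1 → centralizer ({r} : Set G) ≤ normalizer (W : Set G)) →
  ∀ m ∈ normalizer (W : Set G), cj m H = H ∨ ⁅H, cj m H⁆ ≤ W

variable {G : Type u} [Group G] [Finite G]

/-- **`W = 1`** -/
theorem bot [IsSimpleGroup G] (P : Pgl G) (TB : TwoBal G)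
    (hB : ∀ v : G, orderOf v = 2 → HasBProperty ↥(centralizer ({v} : Set G)))
    (hcrit : WMany.Crit G) (st : Step1 G) {x a t : G} {L : Subgroup G} (S : TF x a t L) :
    ∀ W : Subgroup G, Fine W a L → W = ⊥ := by
  intro W' F'
  obtain ⟨W, H, h1, h2, h3, h4, h5, h6, h7, -, h9, h10⟩ :=
    TFin.glue' P TB hB (fun h => YJP.yj P h) S
  obtain ⟨B, hB1, hB2, hB3⟩ := exists_B P S.T
  have hWW : W' = W := by rw [← F'.eq B hB1 hB2 hB3, h3.eq B hB1 hB2 hB3]
  rw [hWW]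
  by_contra hW
  have hc := st S h3 h1 h2 hW h4 h9
  exact WMany.false_of_gd P TB hcrit S.T h1 h2 hW h4 h5 h6 S.ot S.ne S.ta S.tx h7 (h10 hc) hc

/-- the form for two components per pair -/
theorem wone_two [IsSimpleGroup G] (P : Pgl G) (TB : TwoBal G)
    (hB : ∀ v : G, orderOf v = 2 → HasBProperty ↥(centralizer ({v} : Set G)))
    (hcrit : WMany.Crit G) (st : Step1 G) : TwoSup.WOne G := by
  intro x a L₁ L₂ F F₁ C
  obtain ⟨x₀, e, t, L, B, S, hB1, hB2, hB3, hW⟩ := TConf.tconf P TB C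
  obtain ⟨W, H, -, -, h3, -⟩ := TFin.glue' P TB hB (fun h => YJP.yj P h) S
  rw [← hW, h3.eq B hB1 hB2 hB3]
  exact bot P TB hB hcrit st S W h3

/-- the form for one component per pair -/
theorem wone_one [IsSimpleGroup G] (P : Pgl G) (TB : TwoBal G)
    (hB : ∀ v : G, orderOf v = 2 → HasBProperty ↥(centralizer ({v} : Set G)))
    (hcrit : WMany.Crit G) (st : Step1 G) (O : Hon.One G) : WOne.WOne G := by
  intro x a t L W T ot hne hta htx htL F _
  refine bot P TB hB hcrit st (x := x) (a := a) (t := t) (L := L) ⟨T, ot, hne, hta, htx, htL, ?_⟩ W F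
  intro r hr h1
  have h2 := WGlueA.pump_R P O T ot hne hta htx htL r hr h1
  exact ⟨_, h2.1, h2.2⟩

end Cfsg.Agent.UGT.Res.WField
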