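import Cfsg.Agent.UGT.Res.WMany.Leaf
import Cfsg.Agent.UGT.Res.TConf
import Cfsg.Agent.UGT.Res.TFin
import Cfsg.Agent.UGT.Res.YJP
import Cfsg.Agent.UGT.Res.WOne
import Cfsg.Agent.UGT.Res.TwoBalOf

/-!
# The leaf `w` of `TreeB`: `G` simple, `W = 1`

* `CommP` : STEP 1 as a statement.
* `bot_of_tf` : `TF x a t L`, `Fine W a L` implies `W = 1`.
* `wone_two`, `wone_one`, `w_of` : the field `w`.
-/

set_option autoImplicit false
set_option linter.unusedSectionVars false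

open Cfsg Subgroup
open Cfsg.Agent.SignalizersComponents Cfsg.Agent.Lib
open Cfsg.Agent.SignalizersComponents.IntrinsicBasic
open Cfsg.Agent.Intrinsic.Basic Cfsg.Agent.Intrinsic.Cen Cfsg.Agent.Intrinsic.Diag
open Cfsg.Agent.McLLyComp.Act
open Cfsg.Agent.FixBN.BTheorem
open Cfsg.Agent.UGT.Triple Cfsg.Agent.UGT.PumpGen Cfsg.Agent.UGT.TriBase
open Cfsg.Agent.UGT.Res.Base Cfsg.Agent.UGT.Res.Abel Cfsg.Agent.UGT.Res.CoreFree
open Cfsg.Agent.UGT.Res.KFacts
open Cfsg.Agent.UGT.Res.WFun Cfsg.Agent.UGT.Res.WPair Cfsg.Agent.UGT.Res.WStar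
open Cfsg.Agent.UGT.Res.WGlue Cfsg.Agent.UGT.Res.TFour Cfsg.Agent.UGT.Res.TFin
open Cfsg.Agent.UGT.Res.WMany
open Cfsg.Agent.UGT.Iface Cfsg.Agent.UGT.Nodes
open scoped commutatorElement

namespace Cfsg.Agent.UGT.Res.WLeaf

universe u

local notation "Fs" => generalizedFittingSubgroup

/-- **STEP 1** for `G` -/
def CommP (G : Type u) [Group G] [Finite G] : Prop :=
  ∀ {x a t : G} {L W : Subgroup G}, TF x a t L → Fine W a L → core (L ⊔ W) = W → W ≠ ⊥ → Cj W (L ⊔ W)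

variable {G : Type u} [Group G] [Finite G] {x a t : G} {L W : Subgroup G}

/-- `W = 1` -/
theorem bot_of_tf [IsSimpleGroup G] (P : Pgl G) (TB : TwoBal G)
    (hB : ∀ v : G, orderOf v = 2 → HasBProperty ↥(centralizer ({v} : Set G))) (hcrit : Crit G)
    (hC : CommP G) (S : TF x a t L) (F : Fine W a L) : W = ⊥ := by
  obtain ⟨W', H, h1, h2, h3, h4, h5, h6, h7, -, -, h10⟩ := glue' P TB hB (fun hPR => YJP.yj P hPR) S
  obtain ⟨B, hBL, hB2, hB4⟩ := exists_B P S.T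
  have hWW : W' = W := by rw [← h3.eq B hBL hB2 hB4, F.eq B hBL hB2 hB4]
  subst hWW
  subst h2
  by_contra hW
  have hcj := hC S F h1 hW
  exact false_of_gd P TB hcrit S.T h1 rfl hW h4 h5 h6 S.ot S.ne S.ta S.tx h7 (h10 hcj) hcj

/-- the first half of the field `w` -/
theorem wone_two [IsSimpleGroup G] (P : Pgl G) (TB : TwoBal G)
    (hB : ∀ v : G, orderOf v = 2 → HasBProperty ↥(centralizer ({v} : Set G))) (hcrit : Crit G)
    (hC : CommP G) : TwoSup.WOne G := by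
  intro x a L₁ L₂ F F₁ C
  obtain ⟨x₀, e, t, L, B, S, hBL, hB2, hB4, hW⟩ := TConf.tconf P TB C
  obtain ⟨W, H, -, -, h3, -⟩ := glue' P TB hB (fun hPR => YJP.yj P hPR) S
  rw [← hW, h3.eq B hBL hB2 hB4]
  exact bot_of_tf P TB hB hcrit hC S h3

/-- the second half of the field `w` -/
theorem wone_one [IsSimpleGroup G] (P : Pgl G) (TB : TwoBal G)
    (hB : ∀ v : G, orderOf v = 2 → HasBProperty ↥(centralizer ({v} : Set G))) (hcrit : Crit G)
    (hC : CommP G) (O : Hon.One G) : WOne.WOne G := by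
  intro x a t L W T ot hne hta htx htL F hc
  exact bot_of_tf P TB hB hcrit hC ⟨T, ot, hne, hta, htx, htL, fun r hr h1 =>
    ⟨_, WGlueA.pump_R P O T ot hne hta htx htL r hr h1⟩⟩ F

/-- the world of `TreeB` -/
theorem isSimple_of_top (hG : MinCex G) (htop : Fs G = ⊤) : IsSimpleGroup G := by
  have h1 : IsSimpleGroup ↥(Fs G) := hG.simple
  have e : (↥(⊤ : Subgroup G)) ≃* G := Subgroup.topEquiv
  rw [htop] at h1
  exact e.symm.isSimpleGroup

/-- **the field `w` from STEP 1** -/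
theorem w_of (hk : Known.{u}) (FT : Intrinsic.Functor.OddSol G) (hG : MinCex G) (P : Pgl G) (htop : Fs G = ⊤)
    (hcrit : IsSimpleGroup G → Crit G) (hC : CommP G) : TwoSup.WOne G ∧ (Hon.One G → WOne.WOne G) := by
  have hs := isSimple_of_top hG htop
  have TB := TwoBalOf.twoBal FT P
  by_cases hex : ∃ (x a : G) (L : Subgroup G), IsTriple x a L
  · obtain ⟨x, a, L, T⟩ := hex
    have hB := TwoBalOf.hasB hk hG P T
    exact ⟨wone_two P TB hB (hcrit hs) hC, wone_one P TB hB (hcrit hs) hC⟩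
  · push Not at hex
    exact ⟨fun x a L₁ L₂ F F₁ C => absurd C.T₁ (hex x a L₁), fun _ {x a t L W} T _ _ _ _ _ _ _ =>
      absurd T (hex x a L)⟩

end Cfsg.Agent.UGT.Res.WLeaf
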