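import Cfsg.Agent.UGT.Res.WPair

/-!
# One fine involution suffices

`(W, H)` as in `WPair.Sys`, every involution of `H` in a four-group of `H` (`Pt`). `FF W H z`: `W_{⟨z⟩A} = W` for all
four-groups `A ≤ C_H(z)`.

* `ff_all`: if one involution of `K0 W H` is `FF`, all are.
* `Wd_eq_of_card`: `U ≤ M0 W H` elementary abelian, `|U| ≥ 16`, `|U ∩ K0| ≥ 4` ⟹ `W_U = W`.
* `mem_normalizer_of`: (*) if also `U ≤ M0 W₁ H₁`, `|U ∩ K0 W₁ H₁| ≥ 4` for the conjugate `(W₁, H₁) = (W, H) ^ g`, then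
  `g ∈ N(W)`.
* `false_of_star`: the count of `WEnd` inside `N(W)`.
-/

set_option autoImplicit false
set_option linter.unusedSectionVars false

open Cfsg Subgroup
open Cfsg.Agent.SignalizersComponents Cfsg.Agent.Lib
open Cfsg.Agent.SignalizersComponents.IntrinsicBasic
open Cfsg.Agent.Intrinsic.Basic Cfsg.Agent.Intrinsic.Cen Cfsg.Agent.Intrinsic.Diag
open Cfsg.Agent.McLLyComp.Act
open Cfsg.Agent.UGT.Triple Cfsg.Agent.UGT.PumpGen Cfsg.Agent.UGT.TriBase
open Cfsg.Agent.UGT.Res.Base Cfsg.Agent.UGT.Res.Abel Cfsg.Agent.UGT.Res.CoreFree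
open Cfsg.Agent.UGT.Res.WFun Cfsg.Agent.UGT.Res.WPair
open scoped commutatorElement

namespace Cfsg.Agent.UGT.Res.WStar

variable {G : Type*} [Group G] [Finite G]

/-! ### generalities -/

/-- `E` elementary abelian acting trivially on `X / O(X)`: `C_X(E)` covers `X / O(X)`. -/
theorem cover_cen_el {X E : Subgroup G} (hE : ∀ e ∈ E, e * e = 1) (hf : ∀ e ∈ E, Fixes e X) :
    (X ⊓ centralizer (E : Set G)) ⊔ core X = X := by
  refine sup_of_exists inf_le_left fun y hy => ?_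
  have hEO : E ≤ normalizer (core X : Set G) := fun e he =>
    normalizer_le_normalizer_core X (hf e he).1
  have elE := el_of_sq hE
  obtain ⟨E', hE'⟩ : ∃ E', E' = cj y⁻¹ E := ⟨_, rfl⟩
  have elE' : IsElementaryAbelian 2 E' := hE' ▸ el_cj elE _
  have hyO := le_normalizer_core X hy
  have hE'O : E' ≤ normalizer (core X : Set G) := by
    rw [hE']
    intro z hz
    rw [mem_cj] at hz
    have h1 := mul_mem (mul_mem (inv_mem hyO) (hEO hz)) hyO
    convert h1 using 1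
    group
  -- `e (y⁻¹ e y) ∈ O`
  have key : ∀ e ∈ E, e * (y⁻¹ * e * y) ∈ core X := by
    intro e he
    have h2 := (hf e he).2 y⁻¹ (inv_mem hy)
    have h4 : e⁻¹ = e := inv_eq_of_mul_eq_one_left (hE e he)
    have h3 : e * (y⁻¹ * e * y) = e * ⁅e, y⁻¹⁆⁻¹ * e⁻¹ := by
      rw [commutatorElement_def, h4]
      calc e * (y⁻¹ * e * y) = e * (y⁻¹ * e * y) * (e * e) := by rw [hE e he, mul_one]
        _ = e * (e * y⁻¹ * e * y⁻¹⁻¹)⁻¹ * e := by
          rw [mul_inv_rev, mul_inv_rev, mul_inv_rev, h4, inv_inv]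
          group
    rw [h3]
    exact conj_mem_core (hf e he).1 (inv_mem h2)
  have hcomm : ∀ a ∈ E, ∀ b ∈ E', ⁅a, b⁆ ∈ core X := by
    intro a ha b hb
    rw [hE', mem_cj] at hb
    obtain ⟨e, he⟩ : ∃ e, e = y⁻¹⁻¹ * b * y⁻¹ := ⟨_, rfl⟩
    have hb' : b = y⁻¹ * e * y := by rw [he]; group
    have heE : e ∈ E := by
      rw [he]
      simpa using hb
    -- `b = e o`
    have h1 : e * b ∈ core X := hb' ▸ key e heE
    have h2 : ⁅a, b⁆ = (a * e * (e * b) * e⁻¹ * a⁻¹) * (e * (e * b)⁻¹ * e⁻¹) := by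
      have h3 : a * e = e * a := comm_of_el elE ha heE
      have h4 : e * e = 1 := hE e heE
      have h5 : e⁻¹ = e := inv_eq_of_mul_eq_one_left h4
      rw [commutatorElement_def, h5]
      calc a * b * a⁻¹ * b⁻¹ = a * (e * e) * b * a⁻¹ * b⁻¹ := by rw [h4, mul_one]
        _ = (a * e * (e * b) * e * a⁻¹) * (a * e⁻¹ * a⁻¹) * b⁻¹ := by group
        _ = (a * e * (e * b) * e * a⁻¹) * e * b⁻¹ := by
          have h6 : a * e⁻¹ * a⁻¹ = e := by
            rw [h5, h3]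
            group
          rw [h6]
        _ = (a * e * (e * b) * e * a⁻¹) * (e * (e * b)⁻¹ * e) := by
          have h6 : e * (e * b)⁻¹ * e = e * b⁻¹ := by
            rw [mul_inv_rev, h5, mul_assoc, mul_assoc, h4, mul_one]
          rw [h6]
          group
    rw [h2]
    have haO := hEO ha
    have heO := hEO heE
    refine mul_mem ?_ (conj_mem heO (inv_mem h1))
    have h3 := conj_mem haO (conj_mem heO h1)
    convert h3 using 1
    group
  obtain ⟨o, ho, hc⟩ := exists_commuting (odd_card_core X) (isPGroup_of_el elE)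
    (isPGroup_of_el elE') hEO hE'O hcomm
  -- `o (y⁻¹ e y) o⁻¹ = e`
  have h7 : ∀ e ∈ E, o * (y⁻¹ * e * y) * o⁻¹ = e := by
    intro e he
    obtain ⟨e', he'⟩ : ∃ e', e' = o * (y⁻¹ * e * y) * o⁻¹ := ⟨_, rfl⟩
    have hye : y⁻¹ * e * y ∈ E' := by
      rw [hE', mem_cj]
      have : y⁻¹⁻¹ * (y⁻¹ * e * y) * y⁻¹ = e := by group
      rw [this]
      exact he
    have h1 : e' ∈ cj o E' := by
      rw [he']
      exact conj_mem_cj hye
    have h2 := hc e he e' h1
    have h3 : e' * e' = 1 := sq_of_el (el_cj elE' o) h1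
    have h4 : e * e' ∈ core X := by
      have h5 : e * e' = (e * o * e⁻¹) * (e * (y⁻¹ * e * y)) * o⁻¹ := by
        rw [he']
        group
      rw [h5]
      exact mul_mem (mul_mem (conj_mem_core (hf e he).1 ho) (key e he)) (inv_mem ho)
    have h5 : e * e' = 1 := by
      refine eq_one_of_mem_core_sq h4 ?_
      calc e * e' * (e * e') = e * e' * (e' * e) := by rw [h2]
        _ = e * (e' * e') * e := by group
        _ = 1 := by rw [h3, mul_one, hE e he]
    rw [← he']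
    have h6 := eq_inv_of_mul_eq_one_right h5
    rw [h6]
    exact inv_eq_of_mul_eq_one_left (hE e he)
  refine ⟨y * o⁻¹, ⟨X.mul_mem hy (X.inv_mem (core_le X ho)), mem_centralizer_iff.mpr ?_⟩, ?_⟩
  · intro e he
    have h8 : y * o⁻¹ * e = y * o⁻¹ * (o * (y⁻¹ * e * y) * o⁻¹) := by rw [h7 e he]
    rw [h8]
    group
  · have h8 : (y * o⁻¹)⁻¹ * y = o := by group
    rw [h8]
    exact ho

/-- a four-group containing `s` inside a subgroup covering `H / W` -/
theorem four_in {W H D A : Subgroup G} {s : G} (hW : Odd (Nat.card ↥W)) (nW : H ≤ normalizer (W : Set G))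
    (hAH : A ≤ H) (hA2 : ∀ a ∈ A, a * a = 1) (hA4 : Nat.card ↥A = 4) (hsA : s ∈ A)
    (hDH : D ≤ H) (hD : D ⊔ W = H) (hsD : s ∈ D) :
    ∃ A' ≤ D, (∀ a ∈ A', a * a = 1) ∧ Nat.card ↥A' = 4 ∧ s ∈ A' := by
  have hp : Fact (Nat.Prime 2) := ⟨Nat.prime_two⟩
  have hAn : A ≤ normalizer (W : Set G) := hAH.trans nW
  obtain ⟨X, hX⟩ : ∃ X, X = D ⊓ (A ⊔ W) := ⟨_, rfl⟩
  have hXD : X ≤ D := hX ▸ inf_le_left
  have hXA : X ≤ A ⊔ W := hX ▸ inf_le_right
  -- `X W = A W`
  have hXW : X ⊔ W = A ⊔ W := by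
    apply le_antisymm (sup_le hXA le_sup_right)
    refine sup_le ?_ le_sup_right
    intro a ha
    have haH : a ∈ D ⊔ W := by
      rw [hD]
      exact hAH ha
    obtain ⟨d, hd, w, hw, rfl⟩ := (mem_sup_left_iff (hDH.trans nW)).mp haH
    refine mul_mem (mem_sup_left ?_) (mem_sup_right hw)
    rw [hX]
    refine ⟨hd, ?_⟩
    have h1 := mul_mem (mem_sup_left (T := W) ha) (mem_sup_right (S := A) (inv_mem hw))
    rwa [mul_inv_cancel_right] at h1
  have hXn : X ≤ normalizer (W : Set G) := hXD.trans (hDH.trans nW)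
  have c1 := card_sup_mul hXn
  have c2 := card_sup_mul hAn
  have hAW : A ⊓ W = ⊥ := by
    rw [eq_bot_iff]
    rintro a ⟨ha, haW⟩
    rw [mem_bot]
    exact eq_one_of_mem_odd hW haW (n := 1) (by rw [pow_one, pow_two]; exact hA2 a ha)
  rw [hAW, card_bot, mul_one, hA4] at c2
  rw [hXW, c2] at c1
  have hsX : s ∈ X := by
    rw [hX]
    exact ⟨hsD, mem_sup_left hsA⟩
  obtain ⟨P, hP, hsP⟩ := exists_isSyl (E := X) (isPGroup_of_el (el_zpowers (hA2 s hsA))) (by
    rw [zpowers_le]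
    exact hsX)
  rw [zpowers_le] at hsP
  -- `P` is conjugate to a subgroup of `A`
  have hAS : IsSyl (A ⊔ W) A := by
    refine ⟨isPGroup_of_el (el_of_sq hA2), le_sup_left, fun R hR hRE hAR => ?_⟩
    have h1 : Nat.card ↥R ∣ 4 * Nat.card ↥W := by
      rw [← c2]
      exact card_dvd_of_le hRE
    obtain ⟨k, hk⟩ := hR.exists_card_eq
    have h2 : Nat.Coprime (Nat.card ↥R) (Nat.card ↥W) := by
      rw [hk]
      exact Nat.Coprime.pow_left k (Nat.coprime_two_left.mpr hW)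
    have h3 := h2.dvd_of_dvd_mul_right h1
    exact (Subgroup.eq_of_le_of_card_ge hAR (by rw [hA4]; exact Nat.le_of_dvd (by norm_num) h3)).symm
  obtain ⟨g, -, hPg⟩ := hAS.conj hP.two (hP.le.trans hXA)
  have hP2 : ∀ a ∈ P, a * a = 1 := fun a ha => sq_of_el (el_cj (el_of_sq hA2) g) (hPg ha)
  have hP4 : Nat.card ↥P = 4 := by
    apply le_antisymm
    · have := Nat.le_of_dvd Nat.card_pos (card_dvd_of_le hPg)
      rwa [card_cj, hA4] at this
    · have h1 : 2 ^ 2 ∣ Nat.card ↥X := by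
        have h2 : 2 ^ 2 ∣ Nat.card ↥X * Nat.card ↥W := by
          rw [← c1]
          exact Dvd.dvd.mul_right (Dvd.intro (Nat.card ↥W) (by norm_num)) _
        exact (Nat.Coprime.pow_left 2 (Nat.coprime_two_left.mpr hW)).dvd_of_dvd_mul_right h2
      exact Nat.le_of_dvd Nat.card_pos (hP.dvd_card h1)
  exact ⟨P, hP.le.trans hXD, hP2, hP4, hsP⟩

/-! ### fine involutions -/

/-- `(W, H)` with every involution of `H` in a four-group of `H` -/
structure Pt (W H : Subgroup G) : Prop extends Sys W H where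
  inFour : ∀ s ∈ H, s * s = 1 → s ≠ 1 → ∃ A ≤ H, (∀ a ∈ A, a * a = 1) ∧ Nat.card ↥A = 4 ∧ s ∈ A

/-- `W_{⟨z⟩A} = W` for all four-groups `A ≤ C_H(z)` -/
def FF (W H : Subgroup G) (z : G) : Prop := ∀ A ≤ H ⊓ centralizer ({z} : Set G),
  (∀ a ∈ A, a * a = 1) → Nat.card ↥A = 4 → Wd (zpowers z ⊔ A) = W

section ff

variable {W H : Subgroup G}

theorem oddW (S : Sys W H) : Odd (Nat.card ↥W) :=
  Odd.of_dvd_nat (odd_card_core H) (card_dvd_of_le S.Wc)

theorem W_le (S : Sys W H) : W ≤ H := S.Wc.trans (core_le H)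

/-- an involution of `H` acts nontrivially on `H / O(H)` -/
theorem eq_one_of (S : Sys W H) {a : G} (ha : a ∈ H) (haa : a * a = 1) (haK : a ∈ K0 W H) :
    a = 1 := by
  have h1 : a ∈ core H := by
    rw [← S.inf_K0]
    exact ⟨ha, haK⟩
  exact eq_one_of_mem_core_sq h1 haa

theorem inf_bot (S : Sys W H) {D A : Subgroup G} (hD : D ≤ K0 W H) (hA : A ≤ H)
    (hA2 : ∀ a ∈ A, a * a = 1) : D ⊓ A = ⊥ := by
  rw [eq_bot_iff]
  rintro z ⟨h1, h2⟩
  exact mem_bot.mpr (eq_one_of S (hA h2) (hA2 z h2) (hD h1))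

theorem FF.of_mem {z m : G} (h : FF W H z) (hm : m ∈ M0 W H) : FF W H (m * z * m⁻¹) := by
  intro A hA hA2 hA4
  have hmW := mem_normalizer_iff_cj.mp hm.1
  have hmH := mem_normalizer_iff_cj.mp (inv_mem hm.2)
  have h1 := h (IntrinsicBasic.cj m⁻¹ A) (by
    intro a ha
    rw [mem_cj, inv_inv] at ha
    obtain ⟨h2, h3⟩ := hA ha
    have h4 : a = m⁻¹ * (m * a * m⁻¹) * m := by group
    have h6 : a ∈ H := by
      rw [← hmH, mem_cj, inv_inv]
      exact h2
    refine ⟨h6, mem_c ?_⟩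
    · have h5 := comm_c h3
      rw [h4]
      calc m⁻¹ * (m * a * m⁻¹) * m * z = m⁻¹ * ((m * a * m⁻¹) * (m * z * m⁻¹)) * m := by group
        _ = m⁻¹ * ((m * z * m⁻¹) * (m * a * m⁻¹)) * m := by rw [h5]
        _ = z * (m⁻¹ * (m * a * m⁻¹) * m) := by group)
    (fun a ha => sq_of_el (el_cj (el_of_sq hA2) _) ha) (by rw [card_cj, hA4])
  have h2 := congrArg (IntrinsicBasic.cj m) h1
  rw [cj_Wd, hmW] at h2
  rw [← h2]
  congr 1
  rw [cj_sup, cj_cj_inv]
  congr 1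
  exact (MonoidHom.map_zpowers (MulAut.conj m).toMonoidHom z).symm

/-- two commuting involutions of `K0` -/
theorem ff_step (T : TwoBal G) (S : Pt W H) {z z' : G} (hz : z ∈ K0 W H) (hzz : z * z = 1)
    (hz1 : z ≠ 1) (hz' : z' ∈ K0 W H) (hzz' : z' * z' = 1) (hz1' : z' ≠ 1) (hc : z * z' = z' * z)
    (h : FF W H z) : FF W H z' := by
  have hp : Fact (Nat.Prime 2) := ⟨Nat.prime_two⟩
  rcases eq_or_ne z z' with rfl | hne
  · exact h
  obtain ⟨E, hE⟩ : ∃ E, E = zpowers z ⊔ zpowers z' := ⟨_, rfl⟩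
  have hzE : z ∈ E := hE ▸ mem_sup_left (mem_zpowers z)
  have hz'E : z' ∈ E := hE ▸ mem_sup_right (mem_zpowers z')
  have elE : IsElementaryAbelian 2 E := by
    rw [hE]
    refine el_sup (el_zpowers hzz) (el_zpowers hzz') fun e he f hf => ?_
    rcases (mem_zpowers_of_sq hzz).mp he with rfl | rfl
    · rw [one_mul, mul_one]
    · rcases (mem_zpowers_of_sq hzz').mp hf with rfl | rfl
      · rw [one_mul, mul_one]
      · exact hc
  have hEK : E ≤ K0 W H := by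
    rw [hE]
    exact sup_le (by rw [zpowers_le]; exact hz) (by rw [zpowers_le]; exact hz')
  have hE4 : 4 ≤ Nat.card ↥E := by
    have h1 := two_mul_card_le (A := zpowers z) (E := E) (by rw [zpowers_le]; exact hzE)
      (fun h2 => by
        have h3 : z' ∈ zpowers z := by
          rw [h2]
          exact hz'E
        rcases (mem_zpowers_of_sq hzz).mp h3 with h4 | h4
        · exact hz1' h4
        · exact hne h4.symm)
    have h2 : Nat.card ↥(zpowers z) = 2 := by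
      rw [Nat.card_zpowers]
      exact orderOf_eq_prime (by rw [pow_two]; exact hzz) hz1
    omega
  have hcov := cover_cen_el (X := H) (fun e he => sq_of_el elE he) fun e he => (hEK he).2
  obtain ⟨D, hD⟩ : ∃ D, D = H ⊓ centralizer (E : Set G) := ⟨_, rfl⟩
  rw [← hD] at hcov
  have hDH : D ≤ H := hD ▸ inf_le_left
  have hDW := S.quasi D hDH hcov
  intro A hA hA2 hA4
  obtain ⟨X, hX⟩ : ∃ X, X = H ⊓ centralizer ({z'} : Set G) := ⟨_, rfl⟩
  rw [← hX] at hA
  have hDX : D ≤ X := by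
    rw [hD, hX]
    refine inf_le_inf_left _ ?_
    intro g hg
    exact mem_c (mem_centralizer_iff.mp hg z' hz'E).symm
  have hXH : X ≤ H := hX ▸ inf_le_left
  -- `D` covers `X / O(X)`
  have hDXc : D ⊔ core X = X := by
    apply le_antisymm (sup_le hDX (core_le X))
    have hN : X ⊓ W ≤ core X := by
      refine le_core inf_le_left ?_ (Odd.of_dvd_nat (oddW S.toSys) (card_dvd_of_le inf_le_right))
      intro g hg
      rw [mem_normalizer_iff_cj, cj_inf, cj_eq_self_of_mem hg,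
        mem_normalizer_iff_cj.mp (S.nW (hXH hg))]
    intro g hg
    have h1 : g ∈ D ⊔ W := by
      rw [hDW]
      exact hXH hg
    obtain ⟨d, hd, w, hw, rfl⟩ := (mem_sup_left_iff (hDH.trans S.nW)).mp h1
    refine mul_mem (mem_sup_left hd) (mem_sup_right (hN ⟨?_, hw⟩))
    have := mul_mem (inv_mem (hDX hd)) hg
    rwa [inv_mul_cancel_left] at this
  obtain ⟨P, hP, -⟩ := exists_isSyl (E := D) (R₀ := ⊥) IsPGroup.of_bot bot_le
  have hPX := isSyl_of_sup hDXc hP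
  obtain ⟨g, hg, hAg⟩ := hPX.conj (isPGroup_of_el (el_of_sq hA2)) hA
  obtain ⟨A', hA'⟩ : ∃ A', A' = cj g⁻¹ A := ⟨_, rfl⟩
  have hA'D : A' ≤ D := by
    rw [hA']
    exact (cj_le_iff.mp hAg).trans hP.le
  have hA'H := hA'D.trans hDH
  have hA'2 : ∀ a ∈ A', a * a = 1 := fun a ha => by
    rw [hA'] at ha
    exact sq_of_el (el_cj (el_of_sq hA2) _) ha
  have hA'4 : Nat.card ↥A' = 4 := by rw [hA', card_cj, hA4]
  have hEA : ∀ e ∈ E, ∀ a ∈ A', e * a = a * e := fun e he a ha => by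
    have h1 := hA'D ha
    rw [hD] at h1
    exact mem_centralizer_iff.mp h1.2 e he
  have elEA : IsElementaryAbelian 2 (E ⊔ A' : Subgroup G) := el_sup elE (el_of_sq hA'2) hEA
  have h16 : 16 ≤ Nat.card ↥(E ⊔ A' : Subgroup G) := by
    have h1 := card_mul_le_sup (inf_bot S.toSys hEK hA'H hA'2)
    rw [hA'4] at h1
    omega
  have h8 : ∀ u ∈ E, u ≠ 1 → 8 ≤ Nat.card ↥(zpowers u ⊔ A' : Subgroup G) := by
    intro u hu hu1
    have h1 := card_mul_le_sup (inf_bot S.toSys (D := zpowers u)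
      (by rw [zpowers_le]; exact hEK hu) hA'H hA'2)
    have h2 : Nat.card ↥(zpowers u) = 2 := by
      rw [Nat.card_zpowers]
      exact order_of_el elE hu hu1
    rw [h2, hA'4] at h1
    exact h1
  have hle : ∀ u ∈ E, zpowers u ⊔ A' ≤ E ⊔ A' := fun u hu =>
    sup_le_sup_right (by rw [zpowers_le]; exact hu) _
  have h1 : Wd (zpowers z' ⊔ A') = W := by
    rw [Wd_eq T elEA h16 (hle z' hz'E) (h8 z' hz'E hz1'), ← Wd_eq T elEA h16 (hle z hzE) (h8 z hzE hz1)]
    refine h A' (fun a ha => ⟨hA'H ha, mem_c ?_⟩) hA'2 hA'4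
    exact (hEA z hzE a ha).symm
  have hgz : g * z' = z' * g := by
    rw [hX] at hg
    exact comm_c hg.2
  have h2 := congrArg (cj g) h1
  rw [cj_Wd, cj_zpowers_sup hgz, hA', cj_cj_inv, mem_normalizer_iff_cj.mp (S.nW (hXH hg))] at h2
  exact h2

/-- **all involutions of `K0` are fine if one is** -/
theorem ff_all (T : TwoBal G) (S : Pt W H) {z₀ : G} (hz₀ : z₀ ∈ K0 W H) (hzz₀ : z₀ * z₀ = 1)
    (hz₁ : z₀ ≠ 1) (h : FF W H z₀) {z : G} (hz : z ∈ K0 W H) (hzz : z * z = 1) (hz1 : z ≠ 1) :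
    FF W H z := by
  obtain ⟨Q, hQ, hzQ⟩ := exists_isSyl (E := K0 W H) (isPGroup_of_el (el_zpowers hzz₀)) (by
    rw [zpowers_le]
    exact hz₀)
  rw [zpowers_le] at hzQ
  have hQ1 : Q ≠ ⊥ := by
    rintro rfl
    exact hz₁ (mem_bot.mp hzQ)
  obtain ⟨w, hw, hw2, hwc⟩ := exists_central hQ.two le_rfl le_normalizer hQ1
  have hww := sq_of_order hw2
  have hw1 := ne_one_of_order hw2
  have hwF := ff_step T S hz₀ hzz₀ hz₁ (hQ.le hw) hww hw1 (hwc _ hzQ) h
  obtain ⟨k, hk, hzk⟩ := hQ.conj (isPGroup_of_el (el_zpowers hzz)) (by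
    rw [zpowers_le]
    exact hz)
  rw [zpowers_le, mem_cj] at hzk
  obtain ⟨z', hz'⟩ : ∃ z', z' = k⁻¹ * z * k := ⟨_, rfl⟩
  rw [← hz'] at hzk
  have hz'z : k * z' * k⁻¹ = z := by rw [hz']; group
  have h1 : FF W H z' := by
    refine ff_step T S (hQ.le hw) hww hw1 (hQ.le hzk) ?_ ?_ (hwc _ hzk).symm hwF
    · rw [hz']
      calc k⁻¹ * z * k * (k⁻¹ * z * k) = k⁻¹ * (z * z) * k := by group
        _ = 1 := by rw [hzz]; group
    · rintro h2
      apply hz1
      rw [← hz'z, h2]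
      group
  have h2 := h1.of_mem (K0_le hk)
  rwa [hz'z] at h2

/-- `W_U = W` for `U ≤ M0` elementary abelian of order at least 16 with `|U ∩ K0| ≥ 4` -/
theorem Wd_eq_of_card (T : TwoBal G) (S : Pt W H) {z₀ : G} (hz₀ : z₀ ∈ K0 W H)
    (hzz₀ : z₀ * z₀ = 1) (hz₁ : z₀ ≠ 1) (h : FF W H z₀) {U : Subgroup G} (hU : U ≤ M0 W H)
    (elU : IsElementaryAbelian 2 U) (h16 : 16 ≤ Nat.card ↥U)
    (h4 : 4 ≤ Nat.card ↥(U ⊓ K0 W H : Subgroup G)) : Wd U = W := by
  have hp : Fact (Nat.Prime 2) := ⟨Nat.prime_two⟩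
  -- an involution of `C_H(U)`
  obtain ⟨s, hsH, hss, hs1, hsU⟩ : ∃ s ∈ H, s * s = 1 ∧ s ≠ 1 ∧ ∀ u ∈ U, u * s = s * u := by
    obtain ⟨P, hP, hUP⟩ := exists_isSyl (E := H ⊔ U) (isPGroup_of_el elU) le_sup_right
    have hn : H ⊔ U ≤ normalizer (H : Set G) := sup_le le_normalizer fun u hu => (hU hu).2
    have hPH := hP.inf le_sup_left hn
    have hne : P ⊓ H ≠ ⊥ := by
      intro h1
      obtain ⟨V, hV, hV2, hV4⟩ := S.four
      obtain ⟨g, -, hVg⟩ := hPH.conj (isPGroup_of_el (el_of_sq hV2)) hV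
      have h2 := Nat.le_of_dvd Nat.card_pos (card_dvd_of_le hVg)
      rw [card_cj, h1, card_bot, hV4] at h2
      omega
    have hPn : P ≤ normalizer ((P ⊓ H : Subgroup G) : Set G) := by
      intro g hg
      rw [mem_normalizer_iff_cj, cj_inf, cj_eq_self_of_mem hg,
        mem_normalizer_iff_cj.mp (hn (hP.le hg))]
    obtain ⟨s, hs, hs2, hsc⟩ := exists_central hP.two inf_le_left hPn hne
    exact ⟨s, hs.2, sq_of_order hs2, ne_one_of_order hs2, fun u hu => hsc u (hUP hu)⟩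
  obtain ⟨D, hD⟩ : ∃ D, D = U ⊓ K0 W H := ⟨_, rfl⟩
  rw [← hD] at h4
  have hDU : D ≤ U := hD ▸ inf_le_left
  have hDK : D ≤ K0 W H := hD ▸ inf_le_right
  have elD := el_mono elU hDU
  have hsz : ∀ u ∈ U, ∀ b ∈ zpowers s, u * b = b * u := by
    intro u hu b hb
    rcases (mem_zpowers_of_sq hss).mp hb with rfl | rfl
    · rw [one_mul, mul_one]
    · exact hsU u hu
  have elUs : IsElementaryAbelian 2 (U ⊔ zpowers s : Subgroup G) := el_sup elU (el_zpowers hss) hsz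
  have h16s : 16 ≤ Nat.card ↥(U ⊔ zpowers s : Subgroup G) :=
    h16.trans (Nat.le_of_dvd Nat.card_pos (card_dvd_of_le le_sup_left))
  have hsH' : zpowers s ≤ H := by
    rw [zpowers_le]
    exact hsH
  have hs2 : ∀ b ∈ zpowers s, b * b = 1 := fun b hb => sq_of_el (el_zpowers hss) hb
  have h8s : 8 ≤ Nat.card ↥(D ⊔ zpowers s : Subgroup G) := by
    have h1 := card_mul_le_sup (inf_bot S.toSys hDK hsH' hs2)
    have h2 : Nat.card ↥(zpowers s) = 2 := by
      rw [Nat.card_zpowers]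
      exact orderOf_eq_prime (by rw [pow_two]; exact hss) hs1
    rw [h2] at h1
    omega
  rw [Wd_eq T elUs h16s le_sup_left (by omega),
    ← Wd_eq T elUs h16s (sup_le_sup_right hDU _) h8s]
  -- a four-group of `C_H(D)` containing `s`
  have hcov := cover_cen_el (X := H) (fun e he => sq_of_el elD he) fun e he => (hDK he).2
  have hDW := S.quasi _ inf_le_left hcov
  obtain ⟨A₀, hA₀, hA₀2, hA₀4, hsA₀⟩ := S.inFour s hsH hss hs1
  obtain ⟨A, hA, hA2, hA4, hsA⟩ := four_in (oddW S.toSys) S.nW hA₀ hA₀2 hA₀4 hsA₀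
    inf_le_left hDW (⟨hsH, mem_centralizer_iff.mpr fun u hu => hsU u (hDU hu)⟩ :
      s ∈ H ⊓ centralizer (D : Set G))
  have hAH : A ≤ H := hA.trans inf_le_left
  have hDA : ∀ e ∈ D, ∀ a ∈ A, e * a = a * e := fun e he a ha =>
    mem_centralizer_iff.mp (hA ha).2 e he
  have elDA : IsElementaryAbelian 2 (D ⊔ A : Subgroup G) := el_sup elD (el_of_sq hA2) hDA
  have h16A : 16 ≤ Nat.card ↥(D ⊔ A : Subgroup G) := by
    have h1 := card_mul_le_sup (inf_bot S.toSys hDK hAH hA2)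
    rw [hA4] at h1
    omega
  rw [Wd_eq T elDA h16A (sup_le_sup_left (by rw [zpowers_le]; exact hsA) _) h8s]
  obtain ⟨z, hz, hz1, -⟩ := CoreFree.exists_ne (B := D) h4 1
  have h8z : 8 ≤ Nat.card ↥(zpowers z ⊔ A : Subgroup G) := by
    have h1 := card_mul_le_sup (inf_bot S.toSys (D := zpowers z)
      (by rw [zpowers_le]; exact hDK hz) hAH hA2)
    have h2 : Nat.card ↥(zpowers z) = 2 := by
      rw [Nat.card_zpowers]
      exact order_of_el elD hz hz1
    rw [h2, hA4] at h1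
    exact h1
  rw [← Wd_eq T elDA h16A (sup_le_sup_right (by rw [zpowers_le]; exact hz) _) h8z]
  refine ff_all T S hz₀ hzz₀ hz₁ h (hDK hz) (sq_of_el elD hz) hz1 A (fun a ha => ⟨hAH ha, mem_c ?_⟩)
    hA2 hA4
  exact (hDA z hz a ha).symm

end ff

/-! ### (*) -/

theorem Pt.conj {W H : Subgroup G} (S : Pt W H) (g : G) : Pt (cj g W) (cj g H) where
  toSys := S.toSys.conj g
  inFour := by
    intro s hs hss hs1
    rw [mem_cj] at hs
    obtain ⟨A, h1, h2, h3, h4⟩ := S.inFour _ hs (by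
      calc g⁻¹ * s * g * (g⁻¹ * s * g) = g⁻¹ * (s * s) * g := by group
        _ = 1 := by rw [hss]; group) (fun h => hs1 (by
      have : s = g * (g⁻¹ * s * g) * g⁻¹ := by group
      rw [this, h]
      group))
    exact ⟨IntrinsicBasic.cj g A, cj_mono h1, fun a ha => sq_of_el (el_cj (el_of_sq h2) g) ha,
      by rw [card_cj, h3], by rw [mem_cj]; exact h4⟩

theorem FF.conj {W H : Subgroup G} {z : G} (h : FF W H z) (g : G) :
    FF (cj g W) (cj g H) (g * z * g⁻¹) := by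
  intro A hA hA2 hA4
  have h1 := h (IntrinsicBasic.cj g⁻¹ A) (by
    intro a ha
    rw [mem_cj, inv_inv] at ha
    obtain ⟨h2, h3⟩ := hA ha
    have h6 : a ∈ H := by
      have h7 := mem_cj.mp h2
      have h8 : g⁻¹ * (g * a * g⁻¹) * g = a := by group
      rwa [h8] at h7
    refine ⟨h6, mem_c ?_⟩
    have h5 := comm_c h3
    calc a * z = g⁻¹ * ((g * a * g⁻¹) * (g * z * g⁻¹)) * g := by group
      _ = g⁻¹ * ((g * z * g⁻¹) * (g * a * g⁻¹)) * g := by rw [h5]
      _ = z * a := by group)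
    (fun a ha => sq_of_el (el_cj (el_of_sq hA2) _) ha) (by rw [card_cj, hA4])
  have h2 := congrArg (IntrinsicBasic.cj g) h1
  rw [cj_Wd] at h2
  rw [← h2]
  congr 1
  rw [cj_sup, cj_cj_inv]
  congr 1
  exact (MonoidHom.map_zpowers (MulAut.conj g).toMonoidHom z).symm

/-- **(*)** -/
theorem mem_normalizer_of (T : TwoBal G) {W H : Subgroup G} (S : Pt W H) {z₀ : G}
    (hz₀ : z₀ ∈ K0 W H) (hzz₀ : z₀ * z₀ = 1) (hz₁ : z₀ ≠ 1) (h : FF W H z₀) {U : Subgroup G}
    (elU : IsElementaryAbelian 2 U) (h16 : 16 ≤ Nat.card ↥U) (hU : U ≤ M0 W H)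
    (h4 : 4 ≤ Nat.card ↥(U ⊓ K0 W H : Subgroup G)) {g : G} (hU' : U ≤ M0 (cj g W) (cj g H))
    (h4' : 4 ≤ Nat.card ↥(U ⊓ K0 (cj g W) (cj g H) : Subgroup G)) :
    g ∈ normalizer (W : Set G) := by
  have h1 := Wd_eq_of_card T S hz₀ hzz₀ hz₁ h hU elU h16 h4
  have h2 := Wd_eq_of_card T (S.conj g) (z₀ := g * z₀ * g⁻¹) (by
      rw [← cj_K0]
      exact conj_mem_cj hz₀) (by
      calc g * z₀ * g⁻¹ * (g * z₀ * g⁻¹) = g * (z₀ * z₀) * g⁻¹ := by group
        _ = 1 := by rw [hzz₀]; group) (fun h3 => hz₁ (by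
      have : z₀ = g⁻¹ * (g * z₀ * g⁻¹) * g := by group
      rw [this, h3]
      group)) (h.conj g) hU' elU h16 h4'
  rw [mem_normalizer_iff_cj, ← h2, h1]

/-- **the count inside `N(W)`** -/
theorem false_of_star (T : TwoBal G) (hG : ∀ f : G →* ℤˣ, f = 1) {W H : Subgroup G} (S : Pt W H)
    {z₀ : G} (hz₀ : z₀ ∈ K0 W H) (hzz₀ : z₀ * z₀ = 1) (hz₁ : z₀ ≠ 1) (h : FF W H z₀)
    (lam : ↥(M0 W H) →* ℤˣ) {x : G} (hx : x ∈ M0 W H) (hxx : x * x = 1) (hlx : lam ⟨x, hx⟩ = -1)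
    {U : Subgroup G} (elU : IsElementaryAbelian 2 U) (h16 : 16 ≤ Nat.card ↥U) (hxU : x ∈ U)
    (hU : U ≤ M0 W H)
    (pgl : ∀ (U : Subgroup G), U ≤ M0 W H → IsElementaryAbelian 2 U → ∀ (x : G) (hx : x ∈ M0 W H),
      x ∈ U → lam ⟨x, hx⟩ = -1 → Nat.card ↥U ≤ 4 * Nat.card ↥(U ⊓ K0 W H : Subgroup G))
    (h1 : ∀ g ∈ normalizer (W : Set G), (∀ t ∈ U, g⁻¹ * t * g ∈ M0 W H) →
      ∀ h : g⁻¹ * x * g ∈ M0 W H, lam ⟨g⁻¹ * x * g, h⟩ = -1 → g ∈ M0 W H) : False := by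
  refine WEnd.false_of hG (M0 W H) lam U hx hxx hlx (isPGroup_of_el elU) ?_ hU
    fun g hgU hgx hlg => h1 g ?_ hgU hgx hlg
  · exact fun u hu => mem_c (comm_of_el elU hu hxU)
  · have hU' : U ≤ M0 (cj g W) (cj g H) := by
      intro u hu
      rw [← cj_M0, mem_cj]
      exact hgU u hu
    refine mem_normalizer_of T S hz₀ hzz₀ hz₁ h elU h16 hU ?_ hU' ?_
    · have := pgl U hU elU x hx hxU hlx
      omega
    · have hle : cj g⁻¹ U ≤ M0 W H := by
        intro u hu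
        rw [mem_cj, inv_inv] at hu
        have := hgU _ hu
        convert this using 1
        group
      have h2 := pgl (cj g⁻¹ U) hle (el_cj elU _) _ hgx (by
        rw [mem_cj, inv_inv]
        convert hxU using 1
        group) hlg
      have h3 : U ⊓ K0 (cj g W) (cj g H) = cj g (cj g⁻¹ U ⊓ K0 W H) := by
        rw [cj_inf, cj_cj_inv, cj_K0]
      rw [h3, card_cj]
      rw [card_cj] at h2
      omega

end Cfsg.Agent.UGT.Res.WStar
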